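import Mathlib
import Cfsg.Prelude.Def_Solvable
import Cfsg.Prelude.Def_CaseTheorems
import Cfsg.Agent.Lib.Cores

set_option autoImplicit false

namespace Cfsg.Agent.Helper55

open Cfsg.Agent.Lib
open scoped commutatorElement

variable {G : Type*} [Group G]

/-- If every `p'`-element of a finite group is trivial, the group is a `p`-group. -/
theorem isPGroup_of_forall_coprime_eq_one [Finite G] {p : ℕ} [hp : Fact p.Prime]
    (h : ∀ a : G, (orderOf a).Coprime p → a = 1) : IsPGroup p G := by
  intro g
  have hpos : 0 < orderOf g := orderOf_pos g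
  obtain ⟨k, m, hm, hkm⟩ := Nat.exists_eq_pow_mul_and_not_dvd hpos.ne' p hp.out.ne_one
  refine ⟨k, ?_⟩
  apply h
  rw [orderOf_pow, hkm]
  have hg : (p ^ k * m).gcd (p ^ k) = p ^ k := Nat.gcd_eq_right (Dvd.intro _ rfl)
  rw [hg, Nat.mul_div_cancel_left _ (pow_pos hp.out.pos k)]
  exact ((Nat.Prime.coprime_iff_not_dvd hp.out).mpr hm).symm

/-- Key step: if `A ⊴ G` centralizes `O_p(G)`, has `[A,A] ≤ O_p(G)`, and `O_{p'}(G) = 1`, then `A ≤ O_p(G)`. -/
theorem le_pCore_of_commutator_le [Finite G] {p : ℕ} [hp : Fact p.Prime]
    (hcore : Cfsg.pPrimeCore p G = ⊥) (A : Subgroup G) (hAn : A.Normal)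
    (hAC : A ≤ Subgroup.centralizer (Cfsg.pCore p G : Set G))
    (hAA : ⁅A, A⁆ ≤ Cfsg.pCore p G) : A ≤ Cfsg.pCore p G := by
  have hQp : IsPGroup p (Cfsg.pCore p G) := isPGroup_pCore p
  -- every p'-element of A is central in A
  have hcentral : ∀ a ∈ A, (orderOf a).Coprime p → ∀ x ∈ A, x * a * x⁻¹ = a := by
    intro a ha hco x hx
    set c := a⁻¹ * (x * a * x⁻¹) with hc
    have hcQ : c ∈ Cfsg.pCore p G := by
      apply hAA
      have : c = ⁅a⁻¹, x⁆ := by
        rw [hc, commutatorElement_def]; group
      rw [this]
      exact Subgroup.commutator_mem_commutator (A.inv_mem ha) hx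
    have hac : Commute a c := by
      have := (Subgroup.mem_centralizer_iff.mp (hAC ha)) c hcQ
      exact this.symm
    have hxa : x * a * x⁻¹ = a * c := by rw [hc]; group
    have hpow : c ^ orderOf a = 1 := by
      have h1 : (x * a * x⁻¹) ^ orderOf a = 1 := by
        rw [conj_pow, pow_orderOf_eq_one]; group
      rw [hxa, hac.mul_pow, pow_orderOf_eq_one, one_mul] at h1
      exact h1
    have hc1 : c = 1 := by
      obtain ⟨k, hk⟩ := (IsPGroup.iff_orderOf.mp hQp) ⟨c, hcQ⟩
      have hk' : orderOf c = p ^ k := by
        rw [← hk]; exact (Subgroup.orderOf_mk c hcQ).symm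
      have hdvd : orderOf c ∣ orderOf a := orderOf_dvd_of_pow_eq_one hpow
      have hco' : (orderOf c).Coprime p := Nat.Coprime.coprime_dvd_left hdvd hco
      rw [hk'] at hco'
      have : k = 0 := by
        by_contra hk0
        have := (Nat.coprime_pow_left_iff (Nat.pos_of_ne_zero hk0) p p).mp hco'
        exact hp.out.ne_one ((Nat.coprime_self p).mp this)
      rw [this, pow_zero] at hk'
      exact orderOf_eq_one_iff.mp hk'
    rw [hxa, hc1, mul_one]
  -- the subgroup generated by the p'-elements of A
  set s : Set G := {a | a ∈ A ∧ (orderOf a).Coprime p} with hs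
  have hsA : s ⊆ A := fun a ha => ha.1
  have hclA : Subgroup.closure s ≤ A := (Subgroup.closure_le A).mpr hsA
  have hscomm : ∀ a ∈ s, ∀ b ∈ s, a * b = b * a := by
    intro a ha b hb
    have := hcentral a ha.1 ha.2 b hb.1
    calc a * b = (b * a * b⁻¹) * b := by rw [this]
      _ = b * a := by group
  have hcomm : IsMulCommutative ↥(Subgroup.closure s) := Subgroup.isMulCommutative_closure hscomm
  have hcomm' : ∀ a ∈ Subgroup.closure s, ∀ b ∈ Subgroup.closure s, a * b = b * a := by
    intro a ha b hb
    have := hcomm.is_comm.comm (⟨a, ha⟩ : ↥(Subgroup.closure s)) ⟨b, hb⟩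
    exact congrArg Subtype.val this
  have hord : ∀ a ∈ Subgroup.closure s, (orderOf a).Coprime p := by
    intro a ha
    induction ha using Subgroup.closure_induction with
    | mem a ha => exact ha.2
    | one => simp
    | mul a b ha hb iha ihb =>
      have hab : Commute a b := hcomm' a ha b hb
      exact Nat.Coprime.coprime_dvd_left hab.orderOf_mul_dvd_mul_orderOf (Nat.Coprime.mul_left iha ihb)
    | inv a ha iha => rw [orderOf_inv]; exact iha
  -- it is normal
  have hnormal : (Subgroup.closure s).Normal := by
    have hconj : Group.conjugatesOfSet s = s := by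
      apply Set.Subset.antisymm
      · intro b hb
        rw [Group.mem_conjugatesOfSet_iff] at hb
        obtain ⟨a, ha, hab⟩ := hb
        rw [isConj_iff] at hab
        obtain ⟨g, rfl⟩ := hab
        refine ⟨hAn.conj_mem a ha.1 g, ?_⟩
        have : orderOf (g * a * g⁻¹) = orderOf a := by
          have := orderOf_injective (MulAut.conj g).toMonoidHom (MulAut.conj g).injective a
          simpa using this
        rw [this]; exact ha.2
      · exact Group.subset_conjugatesOfSet
    have : Subgroup.normalClosure s = Subgroup.closure s := by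
      unfold Subgroup.normalClosure; rw [hconj]
    rw [← this]; exact Subgroup.normalClosure_normal
  -- its order is coprime to p
  have hcard : (Nat.card ↥(Subgroup.closure s)).Coprime p := by
    rw [Nat.coprime_comm, Nat.Prime.coprime_iff_not_dvd hp.out]
    intro hdvd
    obtain ⟨x, hx⟩ := exists_prime_orderOf_dvd_card' p hdvd
    have h1 := hord (x : G) x.2
    rw [Subgroup.orderOf_coe, hx] at h1
    exact hp.out.ne_one ((Nat.coprime_self p).mp h1)
  have hbot : Subgroup.closure s = ⊥ := by
    have := le_pPrimeCore hnormal hcard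
    rw [hcore] at this
    exact le_bot_iff.mp this
  -- so A is a p-group
  have hAp : IsPGroup p A := by
    apply isPGroup_of_forall_coprime_eq_one
    intro a ha
    have hmem : (a : G) ∈ Subgroup.closure s :=
      Subgroup.subset_closure ⟨a.2, by rw [Subgroup.orderOf_coe]; exact ha⟩
    rw [hbot, Subgroup.mem_bot] at hmem
    exact Subtype.ext hmem
  exact le_pCore hAn hAp

/-- **Hall–Higman Lemma 1.2.3** (solvable form): in a finite solvable group with trivial `p'`-core, the
`p`-core contains its own centralizer. -/
theorem centralizer_pCore_le [Finite G] [hsol : Group.IsSolvable G] (p : ℕ) [Fact p.Prime]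
    (h : Cfsg.pPrimeCore p G = ⊥) :
    Subgroup.centralizer (Cfsg.pCore p G : Set G) ≤ Cfsg.pCore p G := by
  have hQn : (Cfsg.pCore p G).Normal := Cfsg.pCore_normal p G
  set C := Subgroup.centralizer (Cfsg.pCore p G : Set G) with hC
  have hCn : C.Normal := Subgroup.normal_centralizer
  obtain ⟨N, hN⟩ := hsol.solvable
  -- downward induction
  have key : ∀ n : ℕ, n ≤ N → derivedSeries G (N - n) ⊓ C ≤ Cfsg.pCore p G := by
    intro n
    induction n with
    | zero =>
      intro _
      rw [Nat.sub_zero, hN, bot_inf_eq]; exact bot_le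
    | succ n ih =>
      intro hn
      have hn' : n ≤ N := Nat.le_of_succ_le hn
      have hstep : N - n = (N - (n + 1)) + 1 := by omega
      set E := derivedSeries G (N - (n + 1)) ⊓ C with hE
      have hEn : E.Normal := Subgroup.normal_inf_normal _ _
      apply le_pCore_of_commutator_le h E hEn inf_le_right
      refine le_trans ?_ (ih hn')
      rw [hstep, derivedSeries_succ]
      apply le_inf
      · exact Subgroup.commutator_mono inf_le_left inf_le_left
      · exact le_trans (Subgroup.commutator_le_left E E) inf_le_right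
  have := key N le_rfl
  rw [Nat.sub_self, derivedSeries_zero, top_inf_eq] at this
  exact this

end Cfsg.Agent.Helper55
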