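import Mathlib
import Cfsg.Prelude.Def_OddOrderLocal
import Cfsg.Agent.Helper29.BG10D
import Cfsg.Agent.Helper33.TransferCentral
import Cfsg.Agent.Helper54.BGUnique2
import Cfsg.Agent.Helper23.Basic
import Cfsg.Agent.S1886
import Cfsg.Agent.Helper4.RankTwoSolv2

set_option autoImplicit false
set_option linter.unusedVariables false
set_option linter.unusedSectionVars false
set_option linter.style.haveILetI false

/-!
# Bender–Glauberman, Theorem 10.2, given the Uniqueness Theorem (helper55)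

`M_α` is a Hall subgroup of `M` and of `G`, `M_α ≤ M_σ`, `M / M_α` has rank at most two and `M' M_α / M_α`
is nilpotent.
-/

namespace Cfsg.Agent.Helper55.BG102

open Cfsg
open Cfsg.Agent.Helper29.BG10
open scoped commutatorElement

/-- Focal-subgroup type lemma: if `H` has index prime to `p`, `G` is perfect, and `H` controls
`G`-fusion of the powers of the `p`-element `x ∈ H`, then `x ∈ H'`. -/
theorem mem_commutator_of_fusion {G : Type*} [Group G] [Finite G] {p : ℕ} [hp : Fact p.Prime]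
    (H : Subgroup G) (hind : ¬ p ∣ H.index) (hperf : commutator G = ⊤) (x : G) (hxH : x ∈ H)
    (hxp : ∃ j : ℕ, x ^ p ^ j = 1)
    (hfus : ∀ (k : ℕ) (g : G), g⁻¹ * x ^ k * g ∈ H →
      ∃ h ∈ H, g⁻¹ * x ^ k * g = h⁻¹ * x ^ k * h) :
    (⟨x, hxH⟩ : H) ∈ commutator H := by
  obtain ⟨ϕ, hϕ⟩ : ∃ ϕ : ↥H →* Abelianization ↥H, ϕ = Abelianization.of := ⟨_, rfl⟩
  have key : ∀ (k : ℕ) (g₀ : G) (h : g₀⁻¹ * x ^ k * g₀ ∈ H),
      ϕ ⟨g₀⁻¹ * x ^ k * g₀, h⟩ = ϕ ⟨x, hxH⟩ ^ k := by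
    intro k g₀ h
    obtain ⟨m, hm, e⟩ := hfus k g₀ h
    have e2 : (⟨g₀⁻¹ * x ^ k * g₀, h⟩ : ↥H) =
        (⟨m, hm⟩ : ↥H)⁻¹ * (⟨x, hxH⟩ : ↥H) ^ k * ⟨m, hm⟩ := by
      apply Subtype.ext
      simp only [Subgroup.coe_mul, Subgroup.coe_inv, Subgroup.coe_pow]
      exact e
    rw [e2, map_mul, map_mul, map_inv, map_pow, mul_comm, mul_inv_cancel_left]
  have h1 := Cfsg.Agent.Helper33.transfer_eq_pow_of_key ϕ x hxH key
  have h2 : MonoidHom.transfer ϕ x = 1 := by
    have : commutator G ≤ (MonoidHom.transfer ϕ).ker := Abelianization.commutator_subset_ker _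
    exact this (by rw [hperf]; trivial)
  rw [h2] at h1
  have hord1 : orderOf (ϕ ⟨x, hxH⟩) ∣ H.index := orderOf_dvd_of_pow_eq_one h1.symm
  obtain ⟨j, hj⟩ := hxp
  have hord2 : orderOf (ϕ ⟨x, hxH⟩) ∣ p ^ j := by
    apply orderOf_dvd_of_pow_eq_one
    rw [← map_pow]
    have : (⟨x, hxH⟩ : ↥H) ^ p ^ j = 1 := Subtype.ext (by simpa using hj)
    rw [this, map_one]
  have hcop : (p ^ j).Coprime H.index :=
    Nat.Coprime.pow_left j ((Nat.Prime.coprime_iff_not_dvd hp.out).mpr hind)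
  have hone : orderOf (ϕ ⟨x, hxH⟩) = 1 := Nat.eq_one_of_dvd_coprimes hcop hord2 hord1
  rw [← Abelianization.ker_of, MonoidHom.mem_ker, ← hϕ]
  exact orderOf_eq_one_iff.mp hone

section Main

variable {G : Type*} [Group G] [Finite G]

/-- a minimal simple group is perfect -/
theorem commutator_eq_top (hG : Cfsg.IsMinSimpleOddOrder G) : commutator G = ⊤ := by
  haveI : IsSimpleGroup G := hG.2.1
  rcases (inferInstance : (commutator G).Normal).eq_bot_or_eq_top with h | h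
  · exfalso
    apply hG.2.2.1
    refine ⟨⟨fun x y => ?_⟩⟩
    have h1 : ⁅x, y⁆ ∈ commutator G := by
      rw [commutator_def]
      exact Subgroup.commutator_mem_commutator (Subgroup.mem_top x) (Subgroup.mem_top y)
    rw [h, Subgroup.mem_bot] at h1
    exact commutatorElement_eq_one_iff_mul_comm.mp h1
  · exact h

/-- every proper subgroup containing a uniqueness subgroup of `M` lies in `M` -/
theorem le_of_inUniqueMaximal {M K H : Subgroup G} (hM : IsCoatom M) (hK : Cfsg.InUniqueMaximal K)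
    (hKM : K ≤ M) (hKH : K ≤ H) (hH : H ≠ ⊤) : H ≤ M := by
  obtain ⟨L, hL, hHL⟩ := (eq_top_or_exists_le_coatom H).resolve_left hH
  obtain ⟨M₀, -, huniq⟩ := hK
  have h1 : L = M₀ := huniq L ⟨hL, hKH.trans hHL⟩
  have h2 : M = M₀ := huniq M ⟨hM, hKM⟩
  rw [h2, ← h1]
  exact hHL

/-- **B-G 10.2, first step**: `α(M) ⊆ σ(M)`, and `M` contains a Sylow `p`-subgroup of `G` for
`p ∈ α(M)`. -/
theorem alpha_sub_sigma (hG : Cfsg.IsMinSimpleOddOrder G) (hU : UniquenessThm G)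
    (M : Subgroup G) (hM : IsCoatom M) {p : ℕ} (hp : p ∈ Cfsg.alpha M) :
    p ∈ Cfsg.sigma M ∧ ¬ p ∣ M.index := by
  haveI : IsSimpleGroup G := hG.2.1
  obtain ⟨hpp, hrk⟩ := hp
  haveI : Fact p.Prime := ⟨hpp⟩
  obtain ⟨P⟩ : Nonempty (Sylow p ↥M) := inferInstance
  have hrkP : ¬ Cfsg.PRankLE p 2 ↥(P : Subgroup ↥M) :=
    Cfsg.Agent.Helper54.BGU.not_pRankLE_sylow P hrk
  set PG : Subgroup G := (P : Subgroup ↥M).map M.subtype with hPG
  have hPGp : IsPGroup p PG := P.isPGroup'.map _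
  have hrkPG : ¬ Cfsg.PRankLE p 2 ↥PG := by
    intro h
    apply hrkP
    exact (Cfsg.Agent.Helper23.pRankLE_of_mulEquiv p 2
      ((P : Subgroup ↥M).equivMapOfInjective M.subtype M.subtype_injective)).mpr h
  have hPGM : PG ≤ M := Subgroup.map_subtype_le _
  have huniq : Cfsg.InUniqueMaximal PG := uniq_of_uniquenessThm hG hU PG hPGp hrkPG
  have hPG0 : PG ≠ ⊥ := by
    intro h0
    apply hrkPG
    intro A hA hAe
    have : Nat.card ↥PG = 1 := by rw [h0]; exact Subgroup.card_bot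
    have h1 : Nat.card A ∣ Nat.card ↥PG := Subgroup.card_subgroup_dvd_card A
    rw [this, Nat.dvd_one] at h1
    rw [h1]
    exact Nat.one_le_pow _ _ hpp.pos
  have hPGtop : PG ≠ ⊤ := isPGroup_ne_top hG hPGp
  have hNtop : Subgroup.normalizer (PG : Set G) ≠ ⊤ :=
    Cfsg.Agent.Helper31.bgt_normalizer_ne_top_of_simple hPG0 hPGtop
  have hNM : Subgroup.normalizer (PG : Set G) ≤ M :=
    le_of_inUniqueMaximal hM huniq hPGM Subgroup.le_normalizer hNtop
  have hS := isSylowIn_top_of_normalizer_le (isSylowIn_map_sylow P) hNM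
  refine ⟨⟨hpp, ?_, P, hNM⟩, ?_⟩
  · have h1 : p ∣ Nat.card ↥PG := by
      obtain ⟨k, hk⟩ := IsPGroup.iff_card.mp hPGp
      have hk0 : k ≠ 0 := by
        rintro rfl
        rw [pow_zero] at hk
        exact hPG0 (Subgroup.card_eq_one.mp hk)
      rw [hk]
      exact dvd_pow_self p hk0
    exact h1.trans (Subgroup.card_dvd_of_le hPGM)
  · intro hdvd
    apply hS.2.2
    rw [Subgroup.relIndex_top_right]
    exact hdvd.trans (Subgroup.index_dvd_of_le hPGM)

end Main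

section Quot

variable {X : Type*} [Group X] [Finite X]

theorem card_coprime_of_isPi (π : Set ℕ) {N : Subgroup X}
    (hN : ∀ q : ℕ, q.Prime → q ∣ Nat.card N → q ∈ π) {q : ℕ} (hq : q.Prime) (hqπ : q ∉ π) :
    (Nat.card N).Coprime q := by
  rw [Nat.coprime_comm, Nat.Prime.coprime_iff_not_dvd hq]
  intro h
  exact hqπ (hN q hq h)

/-- If a solvable group `X` of odd order has `q`-rank at most two for all primes `q ∉ π`, then
`X / O_π(X)` has its derived subgroup in its Fitting subgroup, which is a `π'`-group. -/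
theorem quot_structure [Group.IsSolvable X] (hodd : Odd (Nat.card X)) (π : Set ℕ)
    (hr : ∀ q : ℕ, q.Prime → q ∉ π → Cfsg.PRankLE q 2 X) :
    commutator (X ⧸ Cfsg.piCore π X) ≤ Cfsg.fittingSubgroup (X ⧸ Cfsg.piCore π X) ∧
      (∀ q : ℕ, q.Prime → q ∈ π →
        ¬ q ∣ Nat.card ↥(Cfsg.fittingSubgroup (X ⧸ Cfsg.piCore π X))) ∧
      (∀ q : ℕ, q.Prime → q ∉ π → Cfsg.PRankLE q 2 (X ⧸ Cfsg.piCore π X)) := by
  have h1 := (Cfsg.Agent.S1886.result (X := X) π).1
  have h2 := ((Cfsg.Agent.S1886.result (X := X ⧸ Cfsg.piCore π X) π).2 h1).1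
  have h3 : ∀ q : ℕ, q.Prime → q ∉ π → Cfsg.PRankLE q 2 (X ⧸ Cfsg.piCore π X) := by
    intro q hq hqπ
    haveI : Fact q.Prime := ⟨hq⟩
    exact Cfsg.Agent.Helper4.pRankLE_quotient_of_coprime q 2 (Cfsg.piCore π X)
      (card_coprime_of_isPi π (Cfsg.Agent.S1886.piCore_isPi π) hq hqπ) (hr q hq hqπ)
  refine ⟨?_, h2, h3⟩
  have hodd' : Odd (Nat.card (X ⧸ Cfsg.piCore π X)) :=
    Odd.of_dvd_nat hodd (Subgroup.card_quotient_dvd_card _)
  apply Cfsg.Agent.Helper4.commutator_le_fittingSubgroup hodd'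
  intro p hp
  haveI : Fact p.Prime := ⟨hp⟩
  by_cases hpπ : p ∈ π
  · have hle := Cfsg.Agent.Lib.pCore_le_fittingSubgroup (G := X ⧸ Cfsg.piCore π X) p
    have hcard : Nat.card ↥(Cfsg.pCore p (X ⧸ Cfsg.piCore π X)) = 1 := by
      obtain ⟨k, hk⟩ := IsPGroup.iff_card.mp
        (Cfsg.Agent.Lib.isPGroup_pCore (G := X ⧸ Cfsg.piCore π X) p)
      rcases Nat.eq_zero_or_pos k with rfl | hk0
      · rw [hk, pow_zero]
      · exfalso
        apply h2 p hp hpπ
        refine Dvd.dvd.trans ?_ (Subgroup.card_dvd_of_le hle)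
        rw [hk]
        exact dvd_pow_self p hk0.ne'
    intro A hA hAe
    have h4 : Nat.card A ∣ Nat.card ↥(Cfsg.pCore p (X ⧸ Cfsg.piCore π X)) :=
      Subgroup.card_subgroup_dvd_card A
    rw [hcard, Nat.dvd_one] at h4
    rw [h4]
    exact Nat.one_le_pow _ _ hp.pos
  · exact Cfsg.Agent.Lib.pRankLE_subgroup (h3 p hp hpπ) _

end Quot

section Main2

variable {G : Type*} [Group G] [Finite G]

/-- **B-G 10.2, second step**: for `p ∈ α(M)`, every `p`-element of `M` lies in `M'`. -/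
theorem mem_commutator_of_alpha (hG : Cfsg.IsMinSimpleOddOrder G) (hU : UniquenessThm G)
    (M : Subgroup G) (hM : IsCoatom M) {p : ℕ} (hp : p ∈ Cfsg.alpha M) (y : ↥M)
    (hy : ∃ j : ℕ, y ^ p ^ j = 1) : y ∈ commutator ↥M := by
  obtain ⟨hσ, hind⟩ := alpha_sub_sigma hG hU M hM hp
  have hpp : p.Prime := hp.1
  haveI : Fact p.Prime := ⟨hpp⟩
  obtain ⟨j, hj⟩ := hy
  have hj' : (y : G) ^ p ^ j = 1 := by
    have := congrArg Subtype.val hj
    simpa using this
  have key := mem_commutator_of_fusion (p := p) M hind (commutator_eq_top hG) (y : G) y.2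
    ⟨j, hj'⟩ ?_
  · exact key
  intro k g hgM
  by_cases hx1 : (y : G) ^ k = 1
  · refine ⟨1, M.one_mem, ?_⟩
    rw [hx1]
    group
  set X : Subgroup G := Subgroup.zpowers ((y : G) ^ k) with hX
  have hXp : IsPGroup p X := by
    have h1 : orderOf ((y : G) ^ k) ∣ p ^ j := by
      apply orderOf_dvd_of_pow_eq_one
      rw [← pow_mul, mul_comm, pow_mul, hj', one_pow]
    obtain ⟨i, -, hi⟩ := (Nat.dvd_prime_pow hpp).mp h1
    apply IsPGroup.of_card (n := i)
    rw [hX, Nat.card_zpowers, hi]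
  have hX1 : X ≠ ⊥ := Subgroup.zpowers_ne_bot.mpr hx1
  have hXM : X ≤ M := (Subgroup.zpowers_le).mpr (M.pow_mem y.2 k)
  have hconj : X.map (MulAut.conj g⁻¹).toMonoidHom ≤ M := by
    rw [hX, MonoidHom.map_zpowers, Subgroup.zpowers_le]
    simpa [MulAut.conj_apply] using hgM
  obtain ⟨m, hm, c, hc, hg⟩ := (thm_10_1 hG hU M hM hσ X hXp hX1 hXM).1 g⁻¹ hconj
  have hc' : (y : G) ^ k * c = c * (y : G) ^ k :=
    Subgroup.mem_centralizer_iff.mp hc _ (Subgroup.mem_zpowers _)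
  refine ⟨m⁻¹, M.inv_mem hm, ?_⟩
  have e : g = (m * c)⁻¹ := by rw [← hg, inv_inv]
  calc g⁻¹ * (y : G) ^ k * g = m * (c * (y : G) ^ k) * c⁻¹ * m⁻¹ := by rw [e]; group
    _ = m * ((y : G) ^ k * c) * c⁻¹ * m⁻¹ := by rw [hc']
    _ = m⁻¹⁻¹ * (y : G) ^ k * m⁻¹ := by group

theorem solvable_of_coatom (hG : Cfsg.IsMinSimpleOddOrder G) {M : Subgroup G} (hM : IsCoatom M) :
    Group.IsSolvable ↥M := hG.2.2.2 M hM.1

theorem odd_card_subgroup (hG : Cfsg.IsMinSimpleOddOrder G) (M : Subgroup G) :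
    Odd (Nat.card ↥M) := Odd.of_dvd_nat hG.1 (Subgroup.card_subgroup_dvd_card M)

theorem pRankLE_of_not_mem_alpha (M : Subgroup G) {q : ℕ} (hq : q.Prime) (hqα : q ∉ Cfsg.alpha M) :
    Cfsg.PRankLE q 2 ↥M := by
  by_contra h
  exact hqα ⟨hq, h⟩

/-- **B-G 10.2, third step**: for `p ∈ α(M)`, every `p`-element of `M` lies in `M_α`. -/
theorem mem_piCore_of_alpha (hG : Cfsg.IsMinSimpleOddOrder G) (hU : UniquenessThm G)
    (M : Subgroup G) (hM : IsCoatom M) {p : ℕ} (hp : p ∈ Cfsg.alpha M) (y : ↥M)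
    (hy : ∃ j : ℕ, y ^ p ^ j = 1) : y ∈ Cfsg.piCore (Cfsg.alpha M) ↥M := by
  haveI := solvable_of_coatom hG hM
  have hpp : p.Prime := hp.1
  obtain ⟨hQ1, hQ2, -⟩ := quot_structure (X := ↥M) (odd_card_subgroup hG M) (Cfsg.alpha M)
    (fun q hq hqα => pRankLE_of_not_mem_alpha M hq hqα)
  have hyc := mem_commutator_of_alpha hG hU M hM hp y hy
  set N := Cfsg.piCore (Cfsg.alpha M) ↥M with hN
  set f := QuotientGroup.mk' N with hf
  have h1 : f y ∈ commutator (↥M ⧸ N) := by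
    have h2 : (commutator ↥M).map f ≤ commutator (↥M ⧸ N) := by
      rw [commutator_def, Subgroup.map_commutator, commutator_def]
      exact Subgroup.commutator_mono le_top le_top
    exact h2 ⟨y, hyc, rfl⟩
  have h3 : f y ∈ Cfsg.fittingSubgroup (↥M ⧸ N) := hQ1 h1
  have hord1 : orderOf (f y) ∣ Nat.card ↥(Cfsg.fittingSubgroup (↥M ⧸ N)) := by
    have := Subgroup.orderOf_dvd_natCard _ h3
    exact this
  obtain ⟨j, hj⟩ := hy
  have hord2 : orderOf (f y) ∣ p ^ j := by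
    apply orderOf_dvd_of_pow_eq_one
    rw [← map_pow, hj, map_one]
  have hcop : (p ^ j).Coprime (Nat.card ↥(Cfsg.fittingSubgroup (↥M ⧸ N))) :=
    Nat.Coprime.pow_left j ((Nat.Prime.coprime_iff_not_dvd hpp).mpr (hQ2 p hpp hp))
  have hone : orderOf (f y) = 1 := Nat.eq_one_of_dvd_coprimes hcop hord2 hord1
  have h4 : f y = 1 := orderOf_eq_one_iff.mp hone
  rw [hf, QuotientGroup.mk'_apply, QuotientGroup.eq_one_iff] at h4
  exact h4

/-- **Bender–Glauberman, Theorem 10.2**, given the Uniqueness Theorem. -/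
theorem main (hG : Cfsg.IsMinSimpleOddOrder G) (hU : UniquenessThm G)
    (M : Subgroup G) (hM : IsCoatom M) :
    Cfsg.IsPiHallOf (Cfsg.alpha M) (Cfsg.alphaCore M) M ∧
      Cfsg.IsPiHall (Cfsg.alpha M) (Cfsg.alphaCore M) ∧
      Cfsg.alphaCore M ≤ Cfsg.sigmaCore M ∧
      Cfsg.RankLE 2 (↥M ⧸ Cfsg.piCore (Cfsg.alpha M) ↥M) ∧
      Group.IsNilpotent
        ↥((commutator ↥M).map (QuotientGroup.mk' (Cfsg.piCore (Cfsg.alpha M) ↥M))) := by
  haveI := solvable_of_coatom hG hM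
  obtain ⟨hQ1, hQ2, hQ3⟩ := quot_structure (X := ↥M) (odd_card_subgroup hG M) (Cfsg.alpha M)
    (fun q hq hqα => pRankLE_of_not_mem_alpha M hq hqα)
  set N := Cfsg.piCore (Cfsg.alpha M) ↥M with hN
  have hNπ : ∀ q : ℕ, q.Prime → q ∣ Nat.card N → q ∈ Cfsg.alpha M :=
    Cfsg.Agent.S1886.piCore_isPi _
  have hAC : Cfsg.alphaCore M = N.map M.subtype := rfl
  have hcard : Nat.card ↥(Cfsg.alphaCore M) = Nat.card N := by
    rw [hAC]
    exact Subgroup.card_map_of_injective M.subtype_injective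
  have hrel : (Cfsg.alphaCore M).relIndex M = N.index := by
    rw [hAC, Subgroup.relIndex, Subgroup.subgroupOf,
      Subgroup.comap_map_eq_self_of_injective M.subtype_injective]
  have hle : Cfsg.alphaCore M ≤ M := by
    rw [hAC]
    exact Subgroup.map_subtype_le _
  have hNidx : ∀ p : ℕ, p ∈ Cfsg.alpha M → ¬ p ∣ N.index := by
    intro p hp
    haveI : Fact p.Prime := ⟨hp.1⟩
    obtain ⟨P⟩ : Nonempty (Sylow p ↥M) := inferInstance
    have hPN : (P : Subgroup ↥M) ≤ N := by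
      intro y hy
      apply mem_piCore_of_alpha hG hU M hM hp y
      obtain ⟨j, hj⟩ := P.isPGroup' ⟨y, hy⟩
      exact ⟨j, by simpa using congrArg Subtype.val hj⟩
    intro hdvd
    exact P.not_dvd_index (hdvd.trans (Subgroup.index_dvd_of_le hPN))
  refine ⟨⟨hle, ?_, ?_⟩, ⟨?_, ?_⟩, ?_, ?_, ?_⟩
  · intro q hq hd
    rw [hcard] at hd
    exact hNπ q hq hd
  · intro p hp hpα
    rw [hrel]
    exact hNidx p hpα
  · intro q hq hd
    rw [hcard] at hd
    exact hNπ q hq hd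
  · intro p hp hpα
    rw [← Subgroup.relIndex_mul_index hle, hrel]
    intro hdvd
    rcases (Nat.Prime.dvd_mul hp).mp hdvd with h | h
    · exact hNidx p hpα h
    · exact (alpha_sub_sigma hG hU M hM hpα).2 h
  · have h1 : N ≤ Cfsg.piCore (Cfsg.sigma M) ↥M :=
      Cfsg.Agent.S1886.le_piCore (Cfsg.sigma M) inferInstance
        (fun q hq hd => (alpha_sub_sigma hG hU M hM (hNπ q hq hd)).1)
    rw [hAC]
    exact Subgroup.map_mono h1
  · intro q hq
    by_cases hqα : q ∈ Cfsg.alpha M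
    · intro A hA hAe
      haveI : Fact q.Prime := ⟨hq⟩
      have hAq : IsPGroup q A := fun a => ⟨1, by
        rw [pow_one]
        exact Subtype.ext (hAe a a.2)⟩
      obtain ⟨k, hk⟩ := IsPGroup.iff_card.mp hAq
      rcases Nat.eq_zero_or_pos k with rfl | hk0
      · rw [hk, pow_zero]
        exact Nat.one_le_pow _ _ hq.pos
      · exfalso
        apply hNidx q hqα
        rw [Subgroup.index_eq_card]
        refine Dvd.dvd.trans ?_ (Subgroup.card_subgroup_dvd_card A)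
        rw [hk]
        exact dvd_pow_self q hk0.ne'
    · exact hQ3 q hq hqα
  · have h2 : (commutator ↥M).map (QuotientGroup.mk' N) ≤ Cfsg.fittingSubgroup (↥M ⧸ N) := by
      refine le_trans ?_ hQ1
      rw [commutator_def, Subgroup.map_commutator, commutator_def]
      exact Subgroup.commutator_mono le_top le_top
    haveI : Group.IsNilpotent ↥(Cfsg.fittingSubgroup (↥M ⧸ N)) :=
      Cfsg.Agent.Lib.isNilpotent_fittingSubgroup
    exact Group.nilpotent_of_mulEquiv (Subgroup.subgroupOfEquivOfLe h2)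

end Main2

end Cfsg.Agent.Helper55.BG102
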