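import Mathlib
import Cfsg.Prelude.Def_OddOrderLocal
import Cfsg.Agent.Helper55.BG102
import Cfsg.Agent.Helper1.CoprimeSylow
import Cfsg.Agent.Helper24.OddOmega
import Cfsg.Agent.Helper29.BenderA
import Cfsg.Agent.Helper29.BGUniq96
import Cfsg.Agent.Helper31.CoprimeHyp
import Cfsg.Agent.Helper21.PRank
import Cfsg.Agent.Helper84.SylowRel
import Cfsg.Agent.Helper23.RankTwo

set_option autoImplicit false
set_option linter.unusedVariables false
set_option linter.unusedSectionVars false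
set_option linter.style.haveILetI false

/-!
# Bender–Glauberman, Lemma 10.3, given the Uniqueness Theorem (helper55)

If `X` is an `α(M)'`-subgroup of `M` and `C_{M_α}(X)` has rank at least two, then `C_M(X)` is a
uniqueness subgroup.
-/

namespace Cfsg.Agent.Helper55.BG103

open Cfsg
open Cfsg.Agent.Helper29.BG10 Cfsg.Agent.Helper21

section General

variable {G : Type*} [Group G] [Finite G] {p : ℕ} [Fact p.Prime]

/-- a normal relative Sylow `p`-subgroup contains every `p`-subgroup -/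
theorem le_of_isSylowIn_of_normal {Q N Y : Subgroup G} (hQ : IsSylowIn p Q N)
    (hN : N ≤ Subgroup.normalizer (Q : Set G)) (hYN : Y ≤ N) (hYp : IsPGroup p Y) : Y ≤ Q := by
  obtain ⟨a, haN, ha⟩ :=
    Cfsg.Agent.Helper84.exists_conj_le_of_relIndex N Q Y hQ.1 hQ.2.1 hQ.2.2 hYN hYp
  intro y hy
  have h1 := ha y hy
  have h2 := hN (N.inv_mem haN)
  have h3 := (Subgroup.mem_normalizer_iff.mp h2 (a * y * a⁻¹)).mp h1
  have e : a⁻¹ * (a * y * a⁻¹) * a⁻¹⁻¹ = y := by group
  rwa [e] at h3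

/-- a `p`-subgroup of `K` which is Sylow in its `K`-normalizer is Sylow in `K` -/
theorem isSylowIn_of_isSylowIn_normalizer {Q K : Subgroup G} (hQK : Q ≤ K)
    (h : IsSylowIn p Q (K ⊓ Subgroup.normalizer (Q : Set G))) : IsSylowIn p Q K := by
  obtain ⟨T, hQT, hT⟩ := exists_isSylowIn_ge hQK h.2.1
  have hNT : T ⊓ Subgroup.normalizer (Q : Set G) ≤ Q :=
    le_of_isSylowIn_of_normal h inf_le_right (inf_le_inf_right _ hT.1) (hT.2.1.to_le inf_le_left)
  suffices hTQ : T ≤ Q by
    have : Q = T := le_antisymm hQT hTQ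
    rw [this]
    exact hT
  by_contra hcon
  haveI : Group.IsNilpotent ↥T := hT.2.1.isNilpotent
  have hlt : Q.subgroupOf T < ⊤ := by
    rw [lt_top_iff_ne_top]
    intro htop
    apply hcon
    intro t ht
    have : (⟨t, ht⟩ : ↥T) ∈ Q.subgroupOf T := by rw [htop]; trivial
    exact Subgroup.mem_subgroupOf.mp this
  have hnc := Group.normalizerCondition_of_isNilpotent (G := ↥T) (Q.subgroupOf T) hlt
  obtain ⟨x, hxn, hxQ⟩ := SetLike.exists_of_lt hnc
  apply hxQ
  rw [Subgroup.mem_subgroupOf]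
  apply hNT
  refine ⟨x.2, ?_⟩
  rw [← Subgroup.subgroupOf_normalizer_eq hQT] at hxn
  exact Subgroup.mem_subgroupOf.mp hxn

/-- Coprime action: every `A`-invariant `p`-subgroup of `K` lies in an `A`-invariant Sylow
`p`-subgroup of `K`. -/
theorem exists_invariant_isSylowIn_ge (A K : Subgroup G)
    (hAK : A ≤ Subgroup.normalizer (K : Set G))
    (hcop : (Nat.card A).Coprime (Nat.card K)) (hsolv : Group.IsSolvable A ∨ Group.IsSolvable K)
    (B : Subgroup G) (hBK : B ≤ K) (hBp : IsPGroup p B)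
    (hAB : A ≤ Subgroup.normalizer (B : Set G)) :
    ∃ P : Subgroup G, B ≤ P ∧ IsSylowIn p P K ∧ A ≤ Subgroup.normalizer (P : Set G) := by
  classical
  let S : Set (Subgroup G) :=
    {Q | B ≤ Q ∧ Q ≤ K ∧ IsPGroup p Q ∧ A ≤ Subgroup.normalizer (Q : Set G)}
  have hSne : S.Nonempty := ⟨B, le_rfl, hBK, hBp, hAB⟩
  obtain ⟨Q, ⟨hBQ, hQK, hQp, hAQ⟩, hmax⟩ :=
    Set.exists_max_image S (fun Q => Nat.card Q) (Set.toFinite _) hSne
  set N₁ : Subgroup G := K ⊓ Subgroup.normalizer (Q : Set G) with hN₁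
  have hQN₁ : Q ≤ N₁ := le_inf hQK Subgroup.le_normalizer
  have hAN₁ : A ≤ Subgroup.normalizer (N₁ : Set G) := by
    intro a ha
    apply Subgroup.inf_normalizer_le_normalizer_inf
    exact ⟨hAK ha, Subgroup.le_normalizer (hAQ ha)⟩
  have hcop₁ : (Nat.card A).Coprime (Nat.card N₁) :=
    hcop.coprime_dvd_right (Subgroup.card_dvd_of_le inf_le_left)
  have hsolv₁ : Group.IsSolvable A ∨ Group.IsSolvable N₁ := by
    rcases hsolv with h | h
    · exact Or.inl h
    · right
      have hle : N₁ ≤ K := inf_le_left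
      exact Group.isSolvable_of_isSolvable_injective (Subgroup.inclusion_injective hle)
  obtain ⟨R, hAR⟩ := Cfsg.Agent.Helper1.exists_invariant_sylow A N₁ hAN₁ hcop₁ hsolv₁ p
  set R' : Subgroup G := (R : Subgroup N₁).map N₁.subtype with hR'def
  have hR' : IsSylowIn p R' N₁ := isSylowIn_map_sylow R
  have hQR' : Q ≤ R' := hR'.normal_le hQp inf_le_right hQN₁
  have hR'S : R' ∈ S := ⟨hBQ.trans hQR', hR'.1.trans inf_le_left, hR'.2.1, hAR⟩
  have hle : Nat.card R' ≤ Nat.card Q := hmax R' hR'S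
  have hQeq : Q = R' := Subgroup.eq_of_le_of_card_ge hQR' hle
  have hQS : IsSylowIn p Q N₁ := by rw [hQeq]; exact hR'
  exact ⟨Q, hBQ, isSylowIn_of_isSylowIn_normalizer hQK hQS, hAQ⟩

/-- **Key dichotomy** (Thompson `A × B` + the `Ω₁`-lemma for odd `p`): let the `p'`-group `X`
normalize the `p`-group `P` (`p` odd) and centralize the noncyclic elementary abelian subgroup
`B` of `P`.  Then `X` centralizes `P`, or `C_P(B)` has rank at least three. -/
theorem centralizes_or_rank (hp2 : p ≠ 2) (P B X : Subgroup G) (hP : IsPGroup p P) (hBP : B ≤ P)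
    (hBc : ∀ a ∈ B, ∀ b ∈ B, a * b = b * a) (hBe : ∀ b ∈ B, b ^ p = 1) (hBcard : p < Nat.card B)
    (hXP : X ≤ Subgroup.normalizer (P : Set G)) (hXB : X ≤ Subgroup.centralizer (B : Set G))
    (hXp : ¬ p ∣ Nat.card X) :
    P ≤ Subgroup.centralizer (X : Set G) ∨
      ¬ Cfsg.PRankLE p 2 ↥(P ⊓ Subgroup.centralizer (B : Set G)) := by
  have hpp : p.Prime := Fact.out
  by_cases hr : Cfsg.PRankLE p 2 ↥(P ⊓ Subgroup.centralizer (B : Set G))
  swap
  · exact Or.inr hr
  left
  set Q : Subgroup G := P ⊓ Subgroup.centralizer (B : Set G) with hQ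
  have hBQ : B ≤ Q := le_inf hBP
    (fun b hb => Subgroup.mem_centralizer_iff.mpr (fun c hc => hBc c hc b hb))
  have hQp : IsPGroup p Q := hP.to_le inf_le_left
  have hΩ : ∀ y ∈ Q, y ^ p = 1 → y ∈ B := by
    intro y hy hyp
    by_contra hyB
    apply (not_prankLE_iff Q).mpr ?_ hr
    have hcomm : ∀ h ∈ B, y * h = h * y := fun h hh =>
      (Subgroup.mem_centralizer_iff.mp hy.2 h hh).symm
    have hE : Cfsg.IsElementaryAbelian p (B ⊔ Subgroup.zpowers y) := by
      apply Cfsg.Agent.Helper23.isElementaryAbelian_sup_of_commute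
      · exact ⟨(Cfsg.Agent.Helper23.isMulCommutative_subgroup_iff B).mpr hBc, hBe⟩
      · refine ⟨(Cfsg.Agent.Helper23.isMulCommutative_subgroup_iff _).mpr ?_, ?_⟩
        · rintro _ ⟨i, rfl⟩ _ ⟨j, rfl⟩
          exact (Commute.zpow_zpow (Commute.refl y) i j).eq
        · rintro _ ⟨i, rfl⟩
          change (y ^ i) ^ p = 1
          rw [← zpow_natCast, ← zpow_mul, mul_comm, zpow_mul, zpow_natCast, hyp, one_zpow]
      · rintro a ha _ ⟨i, rfl⟩
        change a * y ^ i = y ^ i * a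
        exact ((Commute.zpow_right (show Commute a y from (hcomm a ha).symm) i)).eq
    refine ⟨B ⊔ Subgroup.zpowers y, sup_le hBQ (Subgroup.zpowers_le.mpr hy), ?_, hE.2, ?_⟩
    · exact (Cfsg.Agent.Helper23.isMulCommutative_subgroup_iff _).mp hE.1
    · rw [Cfsg.Agent.Helper31.card_sup_zpowers B y hyp hyB hcomm, pow_two]
      exact Nat.mul_lt_mul_of_pos_right hBcard hpp.pos
  intro x hx
  rw [Subgroup.mem_centralizer_iff]
  intro a ha
  have hcopa : (orderOf a).Coprime p := by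
    rw [Nat.coprime_comm, Nat.Prime.coprime_iff_not_dvd hpp]
    intro hdvd
    exact hXp (hdvd.trans (Subgroup.orderOf_dvd_natCard X ha))
  have haQn : a ∈ Subgroup.normalizer (Q : Set G) := by
    apply Subgroup.inf_normalizer_le_normalizer_inf
    exact ⟨hXP ha, Subgroup.le_normalizer (hXB ha)⟩
  have haQ : ∀ m ∈ Q, a * m = m * a := by
    apply Cfsg.Agent.Helper24.commute_of_commute_omega_odd hp2 hcopa Q hQp haQn
    intro y hy hyp
    exact Subgroup.mem_centralizer_iff.mp (hXB ha) y (hΩ y hy hyp) |>.symm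
  have hC : P ⊓ Subgroup.centralizer (Q : Set G) ≤ Q := by
    apply inf_le_inf_left
    exact Subgroup.centralizer_le hBQ
  obtain ⟨n, hn⟩ := IsPGroup.iff_card.mp hP
  have hcopP : (orderOf a).Coprime (Nat.card ↥P) := by
    rw [hn]
    exact Nat.Coprime.pow_right n hcopa
  have key := Cfsg.Agent.Helper29.Bender.commute_of_nilpotent_axb (N := P) (M := Q)
    hP.isNilpotent inf_le_left hC (hXP ha) haQ hcopP
  exact key x hx

end General

section Main

variable {G : Type*} [Group G] [Finite G]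

/-- `M` normalizes `M_α` -/
theorem le_normalizer_alphaCore (M : Subgroup G) :
    M ≤ Subgroup.normalizer (Cfsg.alphaCore M : Set G) := by
  have hKM : Cfsg.alphaCore M ≤ M := Subgroup.map_subtype_le _
  rw [← Subgroup.normal_subgroupOf_iff_le_normalizer hKM]
  have : (Cfsg.alphaCore M).subgroupOf M = Cfsg.piCore (Cfsg.alpha M) ↥M := by
    unfold Cfsg.alphaCore
    rw [Subgroup.subgroupOf, Subgroup.comap_map_eq_self_of_injective M.subtype_injective]
  rw [this]
  infer_instance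

/-- **Bender–Glauberman, Lemma 10.3**, given the Uniqueness Theorem. -/
theorem main (hG : Cfsg.IsMinSimpleOddOrder G) (hU : UniquenessThm G)
    (M : Subgroup G) (hM : IsCoatom M) (X : Subgroup G) (hXM : X ≤ M)
    (hXα : ∀ p : ℕ, p.Prime → p ∣ Nat.card X → p ∉ Cfsg.alpha M)
    (hr : ¬ Cfsg.RankLE 1 ↥(Cfsg.alphaCore M ⊓ Subgroup.centralizer (X : Set G))) :
    Cfsg.InUniqueMaximal (M ⊓ Subgroup.centralizer (X : Set G)) := by
  haveI : IsSimpleGroup G := hG.2.1
  set K : Subgroup G := Cfsg.alphaCore M with hK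
  have hKM : K ≤ M := Subgroup.map_subtype_le _
  have hKcard : Nat.card ↥K = Nat.card ↥(Cfsg.piCore (Cfsg.alpha M) ↥M) :=
    Subgroup.card_map_of_injective M.subtype_injective
  have hKπ : ∀ q : ℕ, q.Prime → q ∣ Nat.card ↥K → q ∈ Cfsg.alpha M := by
    rw [hKcard]
    exact Cfsg.Agent.S1886.piCore_isPi _
  have hMK : M ≤ Subgroup.normalizer (K : Set G) := le_normalizer_alphaCore M
  obtain ⟨p, hpp, B, hBle, hBc, hBe, hBcard⟩ :=
    Cfsg.Agent.Helper29.BGUniq96.exists_hasEA_of_not_rankLE _ hr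
  haveI : Fact p.Prime := ⟨hpp⟩
  have hBp : IsPGroup p B := Cfsg.Agent.Helper31.isPGroup_of_exponent B hBe
  have hBK : B ≤ K := hBle.trans inf_le_left
  have hBX : B ≤ Subgroup.centralizer (X : Set G) := hBle.trans inf_le_right
  rw [pow_one] at hBcard
  have hpB : p ∣ Nat.card ↥B := by
    obtain ⟨k, hk⟩ := IsPGroup.iff_card.mp hBp
    rcases Nat.eq_zero_or_pos k with rfl | hk0
    · rw [hk, pow_zero] at hBcard
      exact absurd hBcard (by have := hpp.one_lt; omega)
    · rw [hk]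
      exact dvd_pow_self p hk0.ne'
  have hpα : p ∈ Cfsg.alpha M := hKπ p hpp (hpB.trans (Subgroup.card_dvd_of_le hBK))
  have hp2 : p ≠ 2 := by
    rintro rfl
    have h2 : 2 ∣ Nat.card G := hpB.trans (Subgroup.card_subgroup_dvd_card B)
    exact (Nat.not_even_iff_odd.mpr hG.1) (even_iff_two_dvd.mpr h2)
  have hXp : ¬ p ∣ Nat.card ↥X := fun h => hXα p hpp h hpα
  have hcop : (Nat.card ↥X).Coprime (Nat.card ↥K) :=
    Nat.coprime_of_dvd (fun q hq h1 h2 => hXα q hq h1 (hKπ q hq h2))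
  have hXtop : X ≠ ⊤ := by
    rintro rfl
    exact hM.1 (top_le_iff.mp hXM)
  have hsolv : Group.IsSolvable ↥X ∨ Group.IsSolvable ↥K := Or.inl (hG.2.2.2 X hXtop)
  have hXB : X ≤ Subgroup.centralizer (B : Set G) := by
    intro x hx
    rw [Subgroup.mem_centralizer_iff]
    intro b hb
    exact (Subgroup.mem_centralizer_iff.mp (hBX hb) x hx).symm
  have hXBn : X ≤ Subgroup.normalizer (B : Set G) :=
    hXB.trans (Subgroup.centralizer_le_normalizer _)
  obtain ⟨P, hBP, hPS, hXP⟩ :=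
    exists_invariant_isSylowIn_ge X K (hXM.trans hMK) hcop hsolv B hBK hBp hXBn
  have hrkK : ¬ Cfsg.PRankLE p 2 ↥K := by
    rw [not_prankLE_iff]
    obtain ⟨E, hEM, hEc, hEe, hEcard⟩ := (not_prankLE_iff M).mp hpα.2
    refine ⟨E, ?_, hEc, hEe, hEcard⟩
    intro e he
    have h1 := Cfsg.Agent.Helper55.BG102.mem_piCore_of_alpha hG hU M hM hpα ⟨e, hEM he⟩
      ⟨1, by rw [pow_one]; exact Subtype.ext (hEe e he)⟩
    exact ⟨⟨e, hEM he⟩, h1, rfl⟩
  have hrkP : ¬ Cfsg.PRankLE p 2 ↥P := fun h => hrkK (pRankLE_of_isSylowIn hPS h)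
  have hPM : P ≤ M := hPS.1.trans hKM
  have hKXtop : M ⊓ Subgroup.centralizer (X : Set G) ≠ ⊤ := by
    intro h
    apply hM.1
    rw [eq_top_iff, ← h]
    exact inf_le_left
  have hBKX : B ≤ M ⊓ Subgroup.centralizer (X : Set G) := le_inf (hBK.trans hKM) hBX
  have hB1 : ¬ Cfsg.RankLE 1 ↥B := fun h =>
    (not_prankLE_iff B).mpr ⟨B, le_rfl, hBc, hBe, by rw [pow_one]; exact hBcard⟩ (h p hpp)
  rcases centralizes_or_rank hp2 P B X hPS.2.1 hBP hBc hBe hBcard hXP hXB hXp with h | h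
  · have hPKX : P ≤ M ⊓ Subgroup.centralizer (X : Set G) := le_inf hPM h
    apply hU _ hKXtop
    · intro h1
      exact hB1 (fun q hq => Cfsg.Agent.Helper4.pRankLE_of_le hBKX (h1 q hq))
    · left
      intro h2
      exact hrkP (Cfsg.Agent.Helper4.pRankLE_of_le hPKX (h2 p hpp))
  · have hBU : Cfsg.InUniqueMaximal B := by
      apply hU B (isPGroup_ne_top hG hBp) hB1
      right
      intro h2
      exact h (Cfsg.Agent.Helper4.pRankLE_of_le inf_le_right (h2 p hpp))
    exact Cfsg.Agent.Helper29.BGUniq96.inUniqueMaximal_of_le hBU hBKX hKXtop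

end Main

end Cfsg.Agent.Helper55.BG103
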