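import Mathlib
import Cfsg.Prelude.Def_OddOrderLocal
import Cfsg.Agent.Helper55.BG103
import Cfsg.Agent.Helper54.BGUnique3
import Cfsg.Agent.Helper31.BGTrans

set_option autoImplicit false
set_option linter.unusedVariables false
set_option linter.unusedSectionVars false
set_option linter.style.haveILetI false

/-!
# Bender–Glauberman, Lemma 10.4, given the Uniqueness Theorem (helper55)
-/

namespace Cfsg.Agent.Helper55.BG104

open Cfsg
open Cfsg.Agent.Helper29.BG10

variable {G : Type*} [Group G] [Finite G]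

theorem centralizer_zpowers_eq (x : G) :
    Subgroup.centralizer ((Subgroup.zpowers x : Subgroup G) : Set G) =
      Subgroup.centralizer ({x} : Set G) := by
  apply le_antisymm
  · apply Subgroup.centralizer_le
    intro y hy
    rw [Set.mem_singleton_iff] at hy
    rw [hy]
    exact Subgroup.mem_zpowers x
  · exact Cfsg.Agent.Helper31.centralizer_singleton_le_centralizer_zpowers x

/-- **Bender–Glauberman, Lemma 10.4**, given the Uniqueness Theorem. -/
theorem main (hG : Cfsg.IsMinSimpleOddOrder G) (hU : UniquenessThm G)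
    (M : Subgroup G) (hM : IsCoatom M) (p : ℕ) [Fact p.Prime] (hpM : p ∣ Nat.card M)
    (hp : p ∉ Cfsg.sigma M) (P : Sylow p M) :
    ∃ x : G, x ∈ ((Subgroup.center ↥(P : Subgroup M)).map (P : Subgroup M).subtype).map M.subtype ∧
      orderOf x = p ∧
      IsZGroup ↥(Cfsg.alphaCore M ⊓ Subgroup.centralizer ({x} : Set G)) ∧
      ¬ (Subgroup.centralizer ({x} : Set G) ≤ M ∧
        ∀ L : Subgroup G, IsCoatom L → Subgroup.centralizer ({x} : Set G) ≤ L → L = M) := by
  haveI : IsSimpleGroup G := hG.2.1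
  have hpp : p.Prime := Fact.out
  set PG : Subgroup G := (P : Subgroup M).map M.subtype with hPG
  set ZG : Subgroup G :=
    ((Subgroup.center ↥(P : Subgroup M)).map (P : Subgroup M).subtype).map M.subtype with hZG
  have hZGM : ZG ≤ M := Subgroup.map_subtype_le _
  have hM0 : M ≠ ⊥ := by
    rintro rfl
    rw [Subgroup.card_bot, Nat.dvd_one] at hpM
    exact hpp.one_lt.ne' hpM
  have hNM : Subgroup.normalizer (M : Set G) = M :=
    Cfsg.Agent.Helper54.BGU.normalizer_eq_of_coatom hM hM0 le_rfl Subgroup.le_normalizer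
  -- membership in `ZG`
  have hZmem : ∀ x : G, x ∈ ZG ↔ x ∈ PG ∧ ∀ y ∈ PG, y * x = x * y := by
    intro x
    constructor
    · rintro ⟨_, ⟨z, hz, rfl⟩, rfl⟩
      refine ⟨⟨(z : ↥M), z.2, rfl⟩, ?_⟩
      rintro _ ⟨w, hw, rfl⟩
      have h1 := Subgroup.mem_center_iff.mp hz ⟨w, hw⟩
      have h2 := congrArg (fun t : ↥(P : Subgroup M) => ((t : ↥M) : G)) h1
      simpa using h2
    · rintro ⟨⟨w, hw, rfl⟩, hcomm⟩
      refine ⟨w, ⟨⟨w, hw⟩, Subgroup.mem_center_iff.mpr ?_, rfl⟩, rfl⟩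
      intro g
      apply Subtype.ext
      apply Subtype.ext
      have := hcomm ((g : ↥M) : G) ⟨(g : ↥M), g.2, rfl⟩
      simpa using this
  have hex : ∃ x ∈ ZG, orderOf x = p ∧
      ¬ (Subgroup.centralizer ({x} : Set G) ≤ M ∧
        ∀ L : Subgroup G, IsCoatom L → Subgroup.centralizer ({x} : Set G) ≤ L → L = M) := by
    by_contra hcon
    push Not at hcon
    apply hp
    refine ⟨hpp, hpM, P, ?_⟩
    intro g hg
    -- an element of order `p` in the centre of `P`
    have hP0 : (P : Subgroup M) ≠ ⊥ := P.ne_bot_of_dvd_card hpM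
    haveI : Nontrivial ↥(P : Subgroup M) := (Subgroup.nontrivial_iff_ne_bot _).mpr hP0
    haveI : Nontrivial ↥(Subgroup.center ↥(P : Subgroup M)) := P.isPGroup'.center_nontrivial
    have hZp : IsPGroup p ↥(Subgroup.center ↥(P : Subgroup M)) :=
      P.isPGroup'.to_subgroup _
    have hdvd : p ∣ Nat.card ↥(Subgroup.center ↥(P : Subgroup M)) := by
      obtain ⟨k, hk⟩ := IsPGroup.iff_card.mp hZp
      rcases Nat.eq_zero_or_pos k with rfl | hk0
      · rw [pow_zero] at hk
        have : Subsingleton ↥(Subgroup.center ↥(P : Subgroup M)) :=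
          (Nat.card_eq_one_iff_unique.mp hk).1
        exact absurd ‹Nontrivial ↥(Subgroup.center ↥(P : Subgroup M))› (not_nontrivial _)
      · rw [hk]
        exact dvd_pow_self p hk0.ne'
    obtain ⟨z, hz⟩ := exists_prime_orderOf_dvd_card' (G := ↥(Subgroup.center ↥(P : Subgroup M))) p hdvd
    set x : G := (((z : ↥(P : Subgroup M)) : ↥M) : G) with hx
    have hxo : orderOf x = p := by
      rw [hx, Subgroup.orderOf_coe, Subgroup.orderOf_coe, Subgroup.orderOf_coe, hz]
    have hxZ : x ∈ ZG := ⟨((z : ↥(P : Subgroup M)) : ↥M), ⟨(z : ↥(P : Subgroup M)), z.2, rfl⟩, rfl⟩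
    -- the conjugate
    have hginv : g⁻¹ ∈ Subgroup.normalizer (PG : Set G) := Subgroup.inv_mem _ hg
    have hx'Z : g * x * g⁻¹ ∈ ZG := by
      rw [hZmem]
      obtain ⟨hxP, hxc⟩ := (hZmem x).mp hxZ
      refine ⟨(Subgroup.mem_normalizer_iff.mp hg x).mp hxP, ?_⟩
      intro y hy
      have hy' : g⁻¹ * y * g⁻¹⁻¹ ∈ PG := (Subgroup.mem_normalizer_iff.mp hginv y).mp hy
      have h1 := hxc _ hy'
      calc y * (g * x * g⁻¹) = g * ((g⁻¹ * y * g⁻¹⁻¹) * x) * g⁻¹ := by group
        _ = g * (x * (g⁻¹ * y * g⁻¹⁻¹)) * g⁻¹ := by rw [h1]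
        _ = g * x * g⁻¹ * y := by group
    have hx'o : orderOf (g * x * g⁻¹) = p := by
      rw [← hxo]
      exact orderOf_injective (MulAut.conj g).toMonoidHom (MulAut.conj g).injective x
    obtain ⟨hC1, -⟩ := hcon x hxZ hxo
    obtain ⟨-, hC2⟩ := hcon (g * x * g⁻¹) hx'Z hx'o
    set φ : Subgroup G ≃o Subgroup G := (MulAut.conj g).mapSubgroup with hφ
    have hφa : ∀ Y : Subgroup G, φ Y = Y.map (MulAut.conj g).toMonoidHom := fun Y => rfl
    have hcoat : IsCoatom (φ M) := (OrderIso.isCoatom_iff φ M).mpr hM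
    have hle : Subgroup.centralizer ({g * x * g⁻¹} : Set G) ≤ φ M := by
      intro c hc
      rw [hφa]
      refine ⟨g⁻¹ * c * g, hC1 ?_, ?_⟩
      · rw [Subgroup.mem_centralizer_iff]
        intro y hy
        rw [Set.mem_singleton_iff] at hy
        rw [hy]
        have h1 := Subgroup.mem_centralizer_iff.mp hc (g * x * g⁻¹) rfl
        calc x * (g⁻¹ * c * g) = g⁻¹ * ((g * x * g⁻¹) * c) * g := by group
          _ = g⁻¹ * (c * (g * x * g⁻¹)) * g := by rw [h1]
          _ = g⁻¹ * c * g * x := by group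
      · simp [MulAut.conj_apply]
        group
    have h2 : φ M = M := hC2 (φ M) hcoat hle
    have h3 : g ∈ Subgroup.normalizer (M : Set G) := mem_normalizer_of_cj_eq (by
      show M.map (MulAut.conj g).toMonoidHom = M
      rw [← hφa]
      exact h2)
    rw [hNM] at h3
    exact h3
  obtain ⟨x, hxZ, hxo, h4⟩ := hex
  refine ⟨x, hxZ, hxo, ?_, h4⟩
  set H : Subgroup G := Cfsg.alphaCore M ⊓ Subgroup.centralizer ({x} : Set G) with hH
  by_contra hZ
  apply h4
  rw [isZGroup_iff] at hZ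
  push Not at hZ
  obtain ⟨q, hq, Q, hQ⟩ := hZ
  haveI : Fact q.Prime := ⟨hq⟩
  have hq2 : q ≠ 2 := by
    rintro rfl
    apply hQ
    have hodd : Odd (Nat.card ↥(Q : Subgroup ↥H)) :=
      Odd.of_dvd_nat hG.1
        ((Subgroup.card_subgroup_dvd_card _).trans (Subgroup.card_subgroup_dvd_card H))
    obtain ⟨k, hk⟩ := IsPGroup.iff_card.mp Q.isPGroup'
    have hk0 : k = 0 := by
      by_contra hk0
      rw [hk] at hodd
      exact (Nat.not_even_iff_odd.mpr hodd) ((Nat.even_pow' hk0).mpr even_two)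
    rw [hk0, pow_zero] at hk
    haveI : Subsingleton ↥(Q : Subgroup ↥H) := (Nat.card_eq_one_iff_unique.mp hk).1
    exact isCyclic_of_subsingleton
  set QG : Subgroup G := (Q : Subgroup ↥H).map H.subtype with hQG
  have hQGp : IsPGroup q QG := Q.isPGroup'.map _
  have hQGnc : ¬ IsCyclic ↥QG := fun h =>
    hQ (((Q : Subgroup ↥H).equivMapOfInjective H.subtype H.subtype_injective).isCyclic.mpr h)
  have h1 : ¬ Cfsg.RankLE 1 ↥QG :=
    Cfsg.Agent.Helper54.BGU.not_rankLE_one_of_not_isCyclic hq2 hQGp hQGnc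
  have hQGH : QG ≤ H := Subgroup.map_subtype_le _
  have h2 : ¬ Cfsg.RankLE 1 ↥H := fun h =>
    h1 (fun r hr => Cfsg.Agent.Helper4.pRankLE_of_le hQGH (h r hr))
  have hxM : x ∈ M := hZGM hxZ
  have hpα : p ∉ Cfsg.alpha M := fun h =>
    hp (Cfsg.Agent.Helper55.BG102.alpha_sub_sigma hG hU M hM h).1
  have hcz := centralizer_zpowers_eq x
  have h3 : Cfsg.InUniqueMaximal (M ⊓ Subgroup.centralizer ({x} : Set G)) := by
    have h5 := Cfsg.Agent.Helper55.BG103.main hG hU M hM (Subgroup.zpowers x)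
      (Subgroup.zpowers_le.mpr hxM) ?_ (by rw [hcz]; exact h2)
    · rwa [hcz] at h5
    · intro r hr hdvd
      rw [Nat.card_zpowers, hxo] at hdvd
      have : r = p := (Nat.prime_dvd_prime_iff_eq hr hpp).mp hdvd
      rw [this]
      exact hpα
  obtain ⟨M₀, ⟨hM₀, hle₀⟩, huniq⟩ := h3
  have hMM₀ : M = M₀ := huniq M ⟨hM, inf_le_left⟩
  have hx1 : x ≠ 1 := by
    rintro rfl
    rw [orderOf_one] at hxo
    exact hpp.one_lt.ne hxo
  have hCtop : Subgroup.centralizer ({x} : Set G) ≠ ⊤ :=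
    Cfsg.Agent.Helper31.centralizer_singleton_ne_top_of_simple hG.2.2.1 hx1
  have key : ∀ L : Subgroup G, IsCoatom L → Subgroup.centralizer ({x} : Set G) ≤ L → L = M := by
    intro L hL hCL
    rw [hMM₀]
    exact huniq L ⟨hL, inf_le_right.trans hCL⟩
  refine ⟨?_, key⟩
  obtain ⟨L, hL, hCL⟩ := (eq_top_or_exists_le_coatom _).resolve_left hCtop
  rw [← key L hL hCL]
  exact hCL

end Cfsg.Agent.Helper55.BG104
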