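import Mathlib
import Cfsg.Prelude.Def_OddOrderLocal
import Cfsg.Agent.Helper29.BG10F
import Cfsg.Agent.Helper68.BG12A

set_option autoImplicit false
set_option linter.unusedSectionVars false
set_option linter.unusedVariables false

/-!
# The complement `U` of the standard factorisation `M = K U M_σ` (helper55)

Basic facts: `U ≤ M`, the order of `U` divides `|M : M_σ|`, hence no prime of `σ(M)` divides `|U|`.
-/

namespace Cfsg.Agent.Helper55.BGU

open Cfsg Cfsg.Agent.Helper29.BG10 Cfsg.Agent.Helper68.BG12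

variable {G : Type*} [Group G] [Finite G]

theorem U_le {M K U : Subgroup G} (hKU : Cfsg.IsSigmaDecomposition M K U) : U ≤ M := hKU.compl.1

/-- `|U|` divides `|M : M_σ|`. -/
theorem card_U_dvd_relIndex {M K U : Subgroup G} (hKU : Cfsg.IsSigmaDecomposition M K U)
    (hSM : Cfsg.sigmaCore M ≤ M) :
    Nat.card U ∣ (Cfsg.sigmaCore M).relIndex M := by
  have h1 := card_mul_card_of_isComplIn hKU.compl
  have h2 : (Cfsg.sigmaCore M).relIndex M * Nat.card (Cfsg.sigmaCore M) = Nat.card M := by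
    have := Subgroup.relIndex_mul_relIndex ⊥ (Cfsg.sigmaCore M) M bot_le hSM
    rw [Subgroup.relIndex_bot_left, Subgroup.relIndex_bot_left] at this
    rw [mul_comm]; exact this
  obtain ⟨c, hc⟩ : Nat.card (Cfsg.sigmaCore M) ∣ Nat.card ↥(K ⊔ Cfsg.sigmaCore M) :=
    Subgroup.card_dvd_of_le le_sup_right
  have hpos : 0 < Nat.card (Cfsg.sigmaCore M) := Nat.card_pos
  refine ⟨c, ?_⟩
  apply Nat.eq_of_mul_eq_mul_right hpos
  rw [h2, ← h1, hc]
  ring

/-- no prime of `σ(M)` divides `|U|` -/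
theorem not_sigma_of_dvd_card_U (hG : Cfsg.IsMinSimpleOddOrder G) (hU : UniquenessThm G)
    {M K U : Subgroup G} (hM : IsCoatom M) (hKU : Cfsg.IsSigmaDecomposition M K U)
    {p : ℕ} (hp : p.Prime) (hpU : p ∣ Nat.card U) : p ∉ Cfsg.sigma M := by
  obtain ⟨⟨hSM, hSpi, hSidx⟩, -, -⟩ := thm_10_2_sigma hG hU M hM
  intro hpσ
  exact hSidx p hp hpσ (hpU.trans (card_U_dvd_relIndex hKU hSM))

end Cfsg.Agent.Helper55.BGU
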