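import Mathlib
import Cfsg.Prelude.Def_OddOrderLocal
import Cfsg.Agent.Helper54.BG128
import Cfsg.Agent.Helper55.BGU

set_option autoImplicit false
set_option linter.unusedSectionVars false
set_option linter.unusedVariables false

/-!
# B-G Lemma 12.11 for subgroups, and Theorem B (e) (statement S1361) (helper55)

Everything is proved from statement-shaped hypotheses (`UniquenessThm`, `H125b`, `H125e`, `H126a` of
`Helper54.BG128`).
-/

namespace Cfsg.Agent.Helper55.BG1211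

open Cfsg Cfsg.Agent.Helper29.BG10 Cfsg.Agent.Helper68.BG12 Cfsg.Agent.Helper54.BG128
open scoped Pointwise

universe u

variable {G : Type u} [Group G] [Finite G]

/-- a subgroup of `M` of order `|M : M_σ|` gives a complement of `M_σ` in `M` -/
theorem isComplIn_map_of_card {M : Subgroup G} {m n : ℕ} (hcard : Nat.card ↥M = m * n)
    (hcop : m.Coprime n) (hn : n = Nat.card (Cfsg.sigmaCore M)) (H : Subgroup ↥M)
    (hH : Nat.card H = m) : Cfsg.IsComplIn (H.map M.subtype) (Cfsg.sigmaCore M) M := by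
  have hnpi : n = Nat.card (Cfsg.piCore (Cfsg.sigma M) ↥M) := by
    rw [hn]; unfold Cfsg.sigmaCore
    exact Subgroup.card_map_of_injective M.subtype_injective
  refine ⟨Subgroup.map_subtype_le _, sigmaCore_le M, ?_, ?_⟩
  · rw [eq_bot_iff]
    rintro y ⟨hy1, hy2⟩
    rw [Subgroup.mem_bot]
    have h1 : orderOf y ∣ m := by
      have := Subgroup.orderOf_dvd_natCard _ hy1
      rwa [Subgroup.card_map_of_injective M.subtype_injective, hH] at this
    have h2 : orderOf y ∣ n := by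
      rw [hn]; exact Subgroup.orderOf_dvd_natCard _ hy2
    exact orderOf_eq_one_iff.1 (Nat.eq_one_of_dvd_coprimes hcop h1 h2)
  · intro y hy
    have hc : H.IsComplement' (Cfsg.piCore (Cfsg.sigma M) ↥M) := by
      apply Subgroup.isComplement'_of_coprime
      · rw [hH, ← hnpi, ← hcard]
      · rw [hH, ← hnpi]; exact hcop
    obtain ⟨⟨⟨a, ha⟩, ⟨b, hb⟩⟩, hab, -⟩ := hc.existsUnique ⟨y, hy⟩
    refine ⟨(a : G), ⟨a, ha, rfl⟩, (b : G), ⟨b, hb, rfl⟩, ?_⟩
    have := congrArg Subtype.val hab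
    simpa using this.symm

/-- `|M| = |M : M_σ| |M_σ|` with coprime factors -/
theorem card_eq_relIndex_mul (hG : Cfsg.IsMinSimpleOddOrder G) (hU : UniquenessThm G)
    {M : Subgroup G} (hM : IsCoatom M) :
    Nat.card ↥M = (Cfsg.sigmaCore M).relIndex M * Nat.card (Cfsg.sigmaCore M) ∧
      ((Cfsg.sigmaCore M).relIndex M).Coprime (Nat.card (Cfsg.sigmaCore M)) := by
  obtain ⟨⟨hSM, hSpi, hSidx⟩, -, -⟩ := thm_10_2_sigma hG hU M hM
  refine ⟨?_, Nat.coprime_of_dvd fun k hk hkm hkn => hSidx k hk (hSpi k hk hkn) hkm⟩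
  have := Subgroup.relIndex_mul_relIndex ⊥ (Cfsg.sigmaCore M) M bot_le hSM
  rw [Subgroup.relIndex_bot_left, Subgroup.relIndex_bot_left] at this
  rw [mul_comm]; exact this.symm

/-- a complement of `M_σ` in `M` exists -/
theorem exists_isComplIn_sigmaCore (hG : Cfsg.IsMinSimpleOddOrder G) (hU : UniquenessThm G)
    {M : Subgroup G} (hM : IsCoatom M) :
    ∃ E : Subgroup G, Cfsg.IsComplIn E (Cfsg.sigmaCore M) M := by
  obtain ⟨hcard, hcop⟩ := card_eq_relIndex_mul hG hU hM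
  have : Group.IsSolvable ↥M := hG.2.2.2 M hM.1
  obtain ⟨H, hH⟩ := Cfsg.Agent.Lib.hall_exists (G := ↥M) _ _ hcard hcop
  exact ⟨H.map M.subtype, isComplIn_map_of_card hcard hcop rfl H hH⟩

/-- a complement `E'` of `M_σ` in `M` containing a given `σ(M)'`-subgroup `X` of `M` and an
elementary abelian `p`-subgroup of order `p ^ 2` (`p ∈ τ₂(M)`) -/
theorem exists_compl_of_le (hG : Cfsg.IsMinSimpleOddOrder G) (hU : UniquenessThm G)
    {M : Subgroup G} (hM : IsCoatom M) {X : Subgroup G} (hXM : X ≤ M)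
    (hXσ : ∀ q : ℕ, q.Prime → q ∣ Nat.card X → q ∉ Cfsg.sigma M)
    {p : ℕ} [hp : Fact p.Prime] (hpσ : p ∉ Cfsg.sigma M) (hr2 : Cfsg.PRankLE p 2 ↥M)
    (hr1 : ¬ Cfsg.PRankLE p 1 ↥M) :
    ∃ E' A : Subgroup G, Cfsg.IsComplIn E' (Cfsg.sigmaCore M) M ∧ X ≤ E' ∧ A ≤ E' ∧
      Cfsg.IsElementaryAbelian p A ∧ Nat.card A = p ^ 2 := by
  classical
  obtain ⟨⟨hSM, hSpi, hSidx⟩, -, -⟩ := thm_10_2_sigma hG hU M hM
  obtain ⟨hcard, hcop⟩ := card_eq_relIndex_mul hG hU hM
  set m := (Cfsg.sigmaCore M).relIndex M with hm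
  set n := Nat.card (Cfsg.sigmaCore M) with hn
  have : Group.IsSolvable ↥M := hG.2.2.2 M hM.1
  -- a Hall subgroup containing `X`
  have hKc : (Nat.card (X.subgroupOf M)).Coprime n := by
    rw [Cfsg.Agent.Helper1.card_subgroupOf_of_le hXM]
    exact Nat.coprime_of_dvd fun k hk hkx hkn => hXσ k hk hkx (hSpi k hk hkn)
  obtain ⟨H₁, hH₁c, hKH₁⟩ := Cfsg.Agent.Lib.hall_le (G := ↥M) m n hcard hcop _ hKc
  -- a Hall subgroup containing an elementary abelian subgroup of order `p ^ 2`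
  obtain ⟨A₀, hA₀M, hA₀e, hA₀c⟩ := exists_elementaryAbelian_sq hr2 hr1
  have hpn : ¬ p ∣ n := fun hd => hpσ (hSpi p hp.out hd)
  have hK₂c : (Nat.card (A₀.subgroupOf M)).Coprime n := by
    rw [Cfsg.Agent.Helper1.card_subgroupOf_of_le hA₀M, hA₀c]
    exact Nat.Coprime.pow_left _ ((Nat.Prime.coprime_iff_not_dvd hp.out).2 hpn)
  obtain ⟨H₂, hH₂c, hK₂H₂⟩ := Cfsg.Agent.Lib.hall_le (G := ↥M) m n hcard hcop _ hK₂c
  obtain ⟨g, hg⟩ := Cfsg.Agent.Lib.hall_conj (G := ↥M) m n hcard hcop H₂ H₁ hH₂c hH₁c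
  refine ⟨H₁.map M.subtype, cj (g : G) A₀, isComplIn_map_of_card hcard hcop rfl H₁ hH₁c,
    ?_, ?_, ?_, ?_⟩
  · intro x hx
    exact ⟨⟨x, hXM hx⟩, hKH₁ (Subgroup.mem_subgroupOf.2 hx), rfl⟩
  · -- `A ≤ E'`
    intro y hy
    rw [mem_cj] at hy
    have h1 : (⟨(g : G)⁻¹ * y * (g : G), hA₀M hy⟩ : M) ∈ A₀.subgroupOf M :=
      Subgroup.mem_subgroupOf.2 hy
    have h2 : MulAut.conj g • (⟨(g : G)⁻¹ * y * (g : G), hA₀M hy⟩ : M) ∈ MulAut.conj g • H₂ :=
      Subgroup.smul_mem_pointwise_smul _ _ _ (hK₂H₂ h1)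
    rw [hg] at h2
    refine ⟨_, h2, ?_⟩
    simp [MulAut.smul_def, mul_assoc]
  · -- elementary abelian
    refine ⟨⟨⟨?_⟩⟩, ?_⟩
    · rintro ⟨a, ha⟩ ⟨b, hb⟩
      apply Subtype.ext
      rw [mem_cj] at ha hb
      have h1 := hA₀e.1.is_comm.comm ⟨_, ha⟩ ⟨_, hb⟩
      have h2 : (g : G)⁻¹ * a * (g : G) * ((g : G)⁻¹ * b * (g : G)) =
          (g : G)⁻¹ * b * (g : G) * ((g : G)⁻¹ * a * (g : G)) := congrArg Subtype.val h1
      have h3 : (g : G)⁻¹ * (a * b) * (g : G) = (g : G)⁻¹ * (b * a) * (g : G) := by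
        simpa [mul_assoc] using h2
      exact mul_left_cancel (mul_right_cancel h3)
    · intro a ha
      rw [mem_cj] at ha
      have h1 := hA₀e.2 _ ha
      have h2 : ((g : G)⁻¹ * a * (g : G)) ^ p = (g : G)⁻¹ * a ^ p * (g : G) := by
        have := conj_pow (a := (g : G)⁻¹) (b := a) (i := p)
        simpa using this
      rw [h2] at h1
      have h3 : a ^ p = (g : G) * 1 * (g : G)⁻¹ := by
        rw [← h1]; group
      simpa using h3
  · rw [card_cj, hA₀c]

/-- an element of `M` normalizing the elementary abelian subgroup `A ≤ M` of order `p ^ 2`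
(`p ∉ σ(M)`), all of whose prime divisors of the order are at least `p`, centralizes `A` -/
theorem mem_centralizer_of_min_prime (hG : Cfsg.IsMinSimpleOddOrder G) (hU : UniquenessThm G)
    (h125b : H125b G) {M : Subgroup G} (hM : IsCoatom M) {p : ℕ} (hp : p.Prime) (hp2 : p ≠ 2)
    (hpσ : p ∉ Cfsg.sigma M) {A : Subgroup G} (hAM : A ≤ M)
    (hAe : Cfsg.IsElementaryAbelian p A) (hAc : Nat.card A = p ^ 2) {x : G} (hxM : x ∈ M)
    (hxN : x ∈ Subgroup.normalizer (A : Set G))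
    (hpmin : ∀ q : ℕ, q.Prime → q ∣ orderOf x → p ≤ q) :
    x ∈ Subgroup.centralizer (A : Set G) := by
  have : Fact p.Prime := ⟨hp⟩
  obtain ⟨e, m', hpm', hoem⟩ :=
    Nat.exists_eq_pow_mul_and_not_dvd (orderOf_pos x).ne' p hp.ne_one
  have hcop : (p ^ e).Coprime m' :=
    Nat.Coprime.pow_left _ ((Nat.Prime.coprime_iff_not_dvd hp).2 hpm')
  have hm'0 : m' ≠ 0 := by
    rintro rfl
    rw [mul_zero] at hoem
    exact (orderOf_pos x).ne' hoem
  -- the `p'`-part
  have h1 : x ^ (p ^ e) ∈ Subgroup.centralizer (A : Set G) := by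
    have hord : orderOf (x ^ (p ^ e)) = m' := by
      rw [orderOf_pow' x (pow_pos hp.pos e).ne', hoem, Nat.gcd_eq_right (dvd_mul_right _ _),
        Nat.mul_div_cancel_left _ (pow_pos hp.pos e)]
    apply mem_centralizer_of_primes hAc m' _ hord (Subgroup.pow_mem _ hxN _)
    intro q hq hqm'
    have hqx : q ∣ orderOf x := hoem ▸ (hqm'.trans (dvd_mul_left _ _))
    have hpq : p ≤ q := hpmin q hq hqx
    have hne : p ≠ q := by
      rintro rfl
      exact hpm' hqm'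
    exact not_dvd_of_lt hp hp2 hq (lt_of_le_of_ne hpq hne)
  -- the `p`-part
  have h2 : x ^ m' ∈ Subgroup.centralizer (A : Set G) := by
    have hpow : (x ^ m') ^ (p ^ e) = 1 := by
      rw [← pow_mul, mul_comm, ← hoem, pow_orderOf_eq_one]
    have hyN : x ^ m' ∈ Subgroup.normalizer (A : Set G) := Subgroup.pow_mem _ hxN _
    set Z : Subgroup G := Subgroup.zpowers (x ^ m') with hZ
    have hZp : IsPGroup p Z := by
      rintro ⟨z, hz⟩
      obtain ⟨k, rfl⟩ := Subgroup.mem_zpowers_iff.1 hz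
      refine ⟨e, ?_⟩
      apply Subtype.ext
      simp only [Subgroup.coe_pow, Subgroup.coe_one]
      rw [← zpow_natCast, ← zpow_mul, mul_comm, zpow_mul, zpow_natCast, hpow, one_zpow]
    have hZN : Z ≤ Subgroup.normalizer (A : Set G) := by
      rw [hZ, Subgroup.zpowers_le]; exact hyN
    have hAp : IsPGroup p A := isPGroup_of_isElementaryAbelian hAe
    have hYp : IsPGroup p (Z ⊔ A : Subgroup G) := IsPGroup.to_sup_of_normal_right' hZp hAp hZN
    have hZM : Z ≤ M := by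
      rw [hZ, Subgroup.zpowers_le]; exact M.pow_mem hxM _
    have hYM : Z ⊔ A ≤ M := sup_le hZM hAM
    have hcomm := comm_of_pgroup_of_not_sigma hG hU h125b hM hp hpσ hYp hYM
    rw [Subgroup.mem_centralizer_iff]
    intro a ha
    exact hcomm a (Subgroup.mem_sup_right ha) (x ^ m')
      (Subgroup.mem_sup_left (Subgroup.mem_zpowers _))
  exact Cfsg.Agent.Helper50.mem_of_pow_mem_of_coprime hcop h1 h2

/-- **B-G Lemma 12.11 for subgroups**: a nontrivial `τ₂(M)`-subgroup `X` of `M` centralizing a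
non-identity element of `M_σ` has `C_G(X) ≤ M`, and `M` is the only maximal subgroup containing
`C_G(X)`. -/
theorem subgroup_12_11 (hG : Cfsg.IsMinSimpleOddOrder G) (hU : UniquenessThm G)
    (h125b : H125b G) (h125e : H125e G) (h126a : H126a G)
    {M : Subgroup G} (hM : IsCoatom M) (X : Subgroup G) (hXM : X ≤ M) (hX1 : X ≠ ⊥)
    (hXτ : ∀ p : ℕ, p.Prime → p ∣ Nat.card X → p ∈ Cfsg.tau2 M)
    (hXc : Cfsg.sigmaCore M ⊓ Subgroup.centralizer (X : Set G) ≠ ⊥) :
    Subgroup.centralizer (X : Set G) ≤ M ∧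
      ∀ L : Subgroup G, IsCoatom L → Subgroup.centralizer (X : Set G) ≤ L → L = M := by
  -- the smallest prime divisor of the order of `X`
  have hoX : Nat.card X ≠ 1 := fun h1 => hX1 (Subgroup.eq_bot_of_card_eq _ h1)
  set p := Nat.minFac (Nat.card X) with hpdef
  have hp : p.Prime := Nat.minFac_prime hoX
  have hpX : p ∣ Nat.card X := Nat.minFac_dvd _
  have hpmin : ∀ q : ℕ, q.Prime → q ∣ Nat.card X → p ≤ q := fun q hq hqx =>
    Nat.minFac_le_of_dvd hq.two_le hqx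
  have : Fact p.Prime := ⟨hp⟩
  obtain ⟨-, hpσ, hr2, hr1⟩ := hXτ p hp hpX
  have hp2 : p ≠ 2 := by
    intro h2
    have hd : 2 ∣ Nat.card G := by
      rw [← h2]; exact hpX.trans (Subgroup.card_subgroup_dvd_card X)
    exact (Nat.not_even_iff_odd.2 hG.1) (even_iff_two_dvd.2 hd)
  obtain ⟨E', A, hE', hXE', hAE', hAe, hAc⟩ :=
    exists_compl_of_le hG hU hM hXM (fun q hq hqx => (hXτ q hq hqx).2.1) hpσ hr2 hr1
  have hAM : A ≤ M := hAE'.trans hE'.1
  have hnorm : E' ≤ Subgroup.normalizer (A : Set G) :=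
    h126a M hM E' hE' p hp (hXτ p hp hpX) A hAE' hAe hAc
  -- `X` centralizes `A`
  have hXC : X ≤ Subgroup.centralizer (A : Set G) := by
    intro x hx
    apply mem_centralizer_of_min_prime hG hU h125b hM hp hp2 hpσ hAM hAe hAc (hXM hx)
      (hnorm (hXE' hx))
    intro q hq hqx
    exact hpmin q hq (hqx.trans (Subgroup.orderOf_dvd_natCard X hx))
  have hAX : A ≤ Subgroup.centralizer (X : Set G) := by
    intro a ha
    rw [Subgroup.mem_centralizer_iff]
    intro x hx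
    exact (Subgroup.mem_centralizer_iff.1 (hXC hx) a ha).symm
  obtain ⟨y, hy1⟩ := (Subgroup.ne_bot_iff_exists_ne_one).1 hXc
  have huniq : ∀ L : Subgroup G, IsCoatom L → Subgroup.centralizer (X : Set G) ≤ L → L = M := by
    intro L hL hCL
    by_contra hne
    have h1 := h125e M hM p hp (hXτ p hp hpX) A hAM hAe hAc L hL hne (hAX.trans hCL)
    have h2 : (y : G) ∈ Cfsg.sigmaCore M ⊓ L := ⟨y.2.1, hCL y.2.2⟩
    rw [h1, Subgroup.mem_bot] at h2
    apply hy1
    exact Subtype.ext h2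
  refine ⟨?_, huniq⟩
  have hne : Subgroup.centralizer (X : Set G) ≠ ⊤ := by
    intro htop
    apply hX1
    rw [eq_bot_iff]
    intro x hx
    have hc : x ∈ Subgroup.center G := by
      rw [Subgroup.mem_center_iff]
      intro g
      have hg : g ∈ Subgroup.centralizer (X : Set G) := by rw [htop]; trivial
      exact (Subgroup.mem_centralizer_iff.1 hg x hx).symm
    rw [center_eq_bot_of_minSimple hG] at hc
    exact hc
  obtain ⟨L, hL, hCL⟩ := (eq_top_or_exists_le_coatom _).resolve_left hne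
  rw [← huniq L hL hCL]
  exact hCL

/-- `|U|` divides `|M : K|` -/
theorem card_U_dvd_relIndex_K {M K U : Subgroup G} (hKU : Cfsg.IsSigmaDecomposition M K U) :
    Nat.card U ∣ K.relIndex M := by
  have h1 := card_mul_card_of_isComplIn hKU.compl
  have h2 : K.relIndex M * Nat.card K = Nat.card M := by
    have := Subgroup.relIndex_mul_relIndex ⊥ K M bot_le hKU.hall.1
    rw [Subgroup.relIndex_bot_left, Subgroup.relIndex_bot_left] at this
    rw [mul_comm]; exact this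
  obtain ⟨c, hc⟩ : Nat.card K ∣ Nat.card ↥(K ⊔ Cfsg.sigmaCore M) :=
    Subgroup.card_dvd_of_le le_sup_left
  have hpos : 0 < Nat.card K := Nat.card_pos
  refine ⟨c, ?_⟩
  apply Nat.eq_of_mul_eq_mul_right hpos
  rw [h2, ← h1, hc]
  ring

/-- the prime divisors of the order of a subgroup `X ≤ U` centralizing a non-identity element of
`M_σ` lie in `τ₂(M)` -/
theorem tau2_of_dvd_card (hG : Cfsg.IsMinSimpleOddOrder G) (hU : UniquenessThm G)
    {M K U : Subgroup G} (hM : IsCoatom M) (hKU : Cfsg.IsSigmaDecomposition M K U)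
    {X : Subgroup G} (hXU : X ≤ U)
    (hXc : Cfsg.sigmaCore M ⊓ Subgroup.centralizer (X : Set G) ≠ ⊥)
    {q : ℕ} (hq : q.Prime) (hqX : q ∣ Nat.card X) : q ∈ Cfsg.tau2 M := by
  have : Fact q.Prime := ⟨hq⟩
  have hUM : U ≤ M := Cfsg.Agent.Helper55.BGU.U_le hKU
  have hqU : q ∣ Nat.card U := hqX.trans (Subgroup.card_dvd_of_le hXU)
  have hqM : q ∣ Nat.card M := hqU.trans (Subgroup.card_dvd_of_le hUM)
  have hqσ : q ∉ Cfsg.sigma M :=
    Cfsg.Agent.Helper55.BGU.not_sigma_of_dvd_card_U hG hU hM hKU hq hqU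
  have hα : q ∉ Cfsg.alpha M := fun h => hqσ (alpha_subset_sigma hG hU hM h)
  have hr2 : Cfsg.PRankLE q 2 ↥M := by
    by_contra h
    exact hα ⟨hq, h⟩
  have hq2 : q ≠ 2 := by
    intro h2
    have hd : 2 ∣ Nat.card G := by
      rw [← h2]; exact hqM.trans (Subgroup.card_subgroup_dvd_card M)
    exact (Nat.not_even_iff_odd.2 hG.1) (even_iff_two_dvd.2 hd)
  refine ⟨hq, hqσ, hr2, ?_⟩
  intro hr1
  -- then `q ∈ κ(M)`, but `q` divides `|U|`
  have hκ : q ∈ Cfsg.kappa M := by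
    refine ⟨hq, hqM, hqσ, ?_⟩
    intro P
    refine ⟨Cfsg.Agent.Helper50.sylow_isCyclic_of_pRankLE_one hq2 hr1 P, ?_⟩
    obtain ⟨x₀, hx₀⟩ := exists_prime_orderOf_dvd_card' (G := ↥X) q hqX
    obtain ⟨y, hy1⟩ := (Subgroup.ne_bot_iff_exists_ne_one).1 hXc
    have hx₀M : (x₀ : G) ∈ M := hUM (hXU x₀.2)
    -- the subgroup generated by `x₀` in `M` is a `q`-group
    have hZp : IsPGroup q (Subgroup.zpowers (⟨(x₀ : G), hx₀M⟩ : M)) := by
      apply IsPGroup.of_card (n := 1)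
      rw [Nat.card_zpowers, Subgroup.orderOf_mk, pow_one, ← hx₀, Subgroup.orderOf_coe]
    obtain ⟨Q, hQ⟩ := hZp.exists_le_sylow
    obtain ⟨g, hg⟩ := MulAction.exists_smul_eq (↥M) Q P
    have hxQ : (⟨(x₀ : G), hx₀M⟩ : M) ∈ (Q : Subgroup M) := hQ (Subgroup.mem_zpowers _)
    have hxP : g * (⟨(x₀ : G), hx₀M⟩ : M) * g⁻¹ ∈ (P : Subgroup M) := by
      rw [← hg]
      have : g * (⟨(x₀ : G), hx₀M⟩ : M) * g⁻¹ ∈ (g • Q : Sylow q M) := by
        rw [Sylow.smul_def]
        show g * (⟨(x₀ : G), hx₀M⟩ : M) * g⁻¹ ∈ MulAut.conj g • (Q : Subgroup M)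
        exact ⟨_, hxQ, rfl⟩
      exact this
    have hx₀1 : (x₀ : G) ≠ 1 := by
      intro h1
      have : orderOf (x₀ : G) = 1 := by rw [h1, orderOf_one]
      rw [Subgroup.orderOf_coe, hx₀] at this
      exact hq.one_lt.ne' this
    refine ⟨g * (⟨(x₀ : G), hx₀M⟩ : M) * g⁻¹, hxP, ?_, (g : G) * (y : G) * (g : G)⁻¹,
      conj_mem_sigmaCore g.2 y.2.1, ?_, ?_⟩
    · intro h1
      apply hx₀1
      have h2 : (⟨(x₀ : G), hx₀M⟩ : M) = 1 := by
        have := congrArg (fun z => g⁻¹ * z * g) h1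
        simpa [mul_assoc] using this
      exact congrArg Subtype.val h2
    · intro h1
      apply hy1
      apply Subtype.ext
      have := congrArg (fun z => (g : G)⁻¹ * z * (g : G)) h1
      simpa [mul_assoc] using this
    · have hc : (y : G) * (x₀ : G) = (x₀ : G) * (y : G) :=
        (Subgroup.mem_centralizer_iff.1 y.2.2 (x₀ : G) x₀.2).symm
      show (g : G) * (x₀ : G) * (g : G)⁻¹ * ((g : G) * (y : G) * (g : G)⁻¹) =
        (g : G) * (y : G) * (g : G)⁻¹ * ((g : G) * (x₀ : G) * (g : G)⁻¹)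
      have e1 : (g : G) * (x₀ : G) * (g : G)⁻¹ * ((g : G) * (y : G) * (g : G)⁻¹) =
          (g : G) * ((x₀ : G) * (y : G)) * (g : G)⁻¹ := by group
      have e2 : (g : G) * (y : G) * (g : G)⁻¹ * ((g : G) * (x₀ : G) * (g : G)⁻¹) =
          (g : G) * ((y : G) * (x₀ : G)) * (g : G)⁻¹ := by group
      rw [e1, e2, hc]
  exact hKU.hall.2.2 q hq hκ (hqU.trans (card_U_dvd_relIndex_K hKU))

/-- **Theorem B (e)** (statement S1361), from the statement-shaped hypotheses -/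
theorem thmB_e (hG : Cfsg.IsMinSimpleOddOrder G) (hU : UniquenessThm G)
    (h125b : H125b G) (h125e : H125e G) (h126a : H126a G)
    {M K U : Subgroup G} (hM : IsCoatom M) (hKU : Cfsg.IsSigmaDecomposition M K U)
    (X : Subgroup G) (hXU : X ≤ U) (hX : X ≠ ⊥)
    (hXc : Cfsg.sigmaCore M ⊓ Subgroup.centralizer (X : Set G) ≠ ⊥) :
    Subgroup.centralizer (X : Set G) ≤ M ∧
      ∀ L : Subgroup G, IsCoatom L → Subgroup.centralizer (X : Set G) ≤ L → L = M :=
  subgroup_12_11 hG hU h125b h125e h126a hM X (hXU.trans (Cfsg.Agent.Helper55.BGU.U_le hKU)) hX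
    (fun p hp hpX => tau2_of_dvd_card hG hU hM hKU hXU hXc hp hpX) hXc

end Cfsg.Agent.Helper55.BG1211
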