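import Mathlib
import Cfsg.Prelude.Def_OddOrderLocal
import Cfsg.Agent.Helper54.BG128
import Cfsg.Agent.Helper55.BGU
import Cfsg.Agent.Helper55.BG1211
import Cfsg.Agent.Helper10.Card
import Cfsg.Agent.Helper23.Basic

set_option autoImplicit false
set_option linter.unusedSectionVars false
set_option linter.unusedVariables false

/-!
# B-G Theorem B (c), (d) (statements S1359, S1360), assembly layer (helper55)

From statement-shaped hypotheses: `UniquenessThm` (S1403), `H1212` (S1421 = B-G 12.12),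
`H144b` (S1430 (b): an abelian Hall `(κ(M) ∪ σ(M))'`-subgroup when `K ≠ 1`), and `H125b`, `H125e`,
`H126a` of `Helper54.BG128` (S1417, S1418).
-/

namespace Cfsg.Agent.Helper55.BGThmB

open Cfsg Cfsg.Agent.Helper29.BG10 Cfsg.Agent.Helper68.BG12 Cfsg.Agent.Helper54.BG128
open Cfsg.Agent.Helper55.BG1211
open scoped Pointwise

universe u

/-- S1421 (B-G Theorem 12.12), in statement shape -/
def H1212 (G : Type u) [Group G] : Prop :=
  ∀ (M : Subgroup G), IsCoatom M → ∀ E : Subgroup G, Cfsg.IsComplIn E (Cfsg.sigmaCore M) M →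
    (∀ e ∈ E, e ≠ 1 → (∀ p : ℕ, p.Prime → p ∣ orderOf e → p ∈ Cfsg.tau1 M ∪ Cfsg.tau3 M) →
      Cfsg.sigmaCore M ⊓ Subgroup.centralizer ({e} : Set G) = ⊥) →
    (∃ A₀ : Subgroup G, A₀ ≤ E ∧ E ≤ Subgroup.normalizer (A₀ : Set G) ∧ IsMulCommutative A₀ ∧
        ∀ x ∈ Cfsg.sigmaCore M, x ≠ 1 → E ⊓ Subgroup.centralizer ({x} : Set G) ≤ A₀) ∧
      ∃ E₀ : Subgroup G, E₀ ≤ E ∧ Monoid.exponent E₀ = Monoid.exponent E ∧
        ∀ e ∈ E₀, e ≠ 1 → Cfsg.sigmaCore M ⊓ Subgroup.centralizer ({e} : Set G) = ⊥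

/-- S1430 (b) (from B-G Theorem 14.4), in statement shape: only the abelian Hall subgroup -/
def H144b (G : Type u) [Group G] : Prop :=
  ∀ (M : Subgroup G), IsCoatom M → ∀ K : Subgroup G, Cfsg.IsPiHallOf (Cfsg.kappa M) K M → K ≠ ⊥ →
    ∃ U : Subgroup G, IsMulCommutative U ∧
      Cfsg.IsPiHallOf {q | q.Prime ∧ q ∉ Cfsg.kappa M ∧ q ∉ Cfsg.sigma M} U M

variable {G : Type u} [Group G] [Finite G]

/-! ### `U` is a Hall subgroup of `M` -/

theorem le_normalizer_sigmaCore (M : Subgroup G) :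
    M ≤ Subgroup.normalizer ((Cfsg.sigmaCore M : Subgroup G) : Set G) := by
  intro m hm
  rw [Subgroup.mem_normalizer_iff]
  intro s
  constructor
  · intro hs; exact conj_mem_sigmaCore hm hs
  · intro hs
    have := conj_mem_sigmaCore (M.inv_mem hm) hs
    simpa [mul_assoc] using this

/-- prime divisors of `|K M_σ|` lie in `κ(M) ∪ σ(M)` -/
theorem mem_of_dvd_card_sup (hG : Cfsg.IsMinSimpleOddOrder G) (hU : UniquenessThm G)
    {M K U : Subgroup G} (hM : IsCoatom M) (hKU : Cfsg.IsSigmaDecomposition M K U)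
    {q : ℕ} (hq : q.Prime) (hqN : q ∣ Nat.card ↥(K ⊔ Cfsg.sigmaCore M)) :
    q ∈ Cfsg.kappa M ∨ q ∈ Cfsg.sigma M := by
  obtain ⟨⟨hSM, hSpi, hSidx⟩, -, -⟩ := thm_10_2_sigma hG hU M hM
  have h1 := Cfsg.Agent.Helper10.card_sup_mul_card_inf K (Cfsg.sigmaCore M)
    (hKU.hall.1.trans (le_normalizer_sigmaCore M))
  have h2 : q ∣ Nat.card K * Nat.card (Cfsg.sigmaCore M) := by
    rw [← h1]; exact Dvd.dvd.mul_right hqN _
  rcases (Nat.Prime.dvd_mul hq).1 h2 with h | h
  · exact Or.inl (hKU.hall.2.1 q hq h)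
  · exact Or.inr (hSpi q hq h)

theorem not_kappa_of_dvd_card_U {M K U : Subgroup G} (hKU : Cfsg.IsSigmaDecomposition M K U)
    {q : ℕ} (hq : q.Prime) (hqU : q ∣ Nat.card U) : q ∉ Cfsg.kappa M :=
  fun h => hKU.hall.2.2 q hq h (hqU.trans (card_U_dvd_relIndex_K hKU))

theorem coprime_card_U (hG : Cfsg.IsMinSimpleOddOrder G) (hU : UniquenessThm G)
    {M K U : Subgroup G} (hM : IsCoatom M) (hKU : Cfsg.IsSigmaDecomposition M K U) :
    (Nat.card U).Coprime (Nat.card ↥(K ⊔ Cfsg.sigmaCore M)) :=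
  Nat.coprime_of_dvd fun q hq hqU hqN => by
    rcases mem_of_dvd_card_sup hG hU hM hKU hq hqN with h | h
    · exact not_kappa_of_dvd_card_U hKU hq hqU h
    · exact Cfsg.Agent.Helper55.BGU.not_sigma_of_dvd_card_U hG hU hM hKU hq hqU h

/-- two subgroups of order `m` of the solvable group `M` of order `m n`, `(m, n) = 1`, are
conjugate under `M` -/
theorem exists_cj_eq_of_card {M : Subgroup G} (hsolv : Group.IsSolvable ↥M) {m n : ℕ}
    (hcard : Nat.card ↥M = m * n) (hcop : m.Coprime n) {U U₁ : Subgroup G} (hUM : U ≤ M)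
    (hU₁M : U₁ ≤ M) (hcU : Nat.card U = m) (hcU₁ : Nat.card U₁ = m) :
    ∃ g ∈ M, cj g U₁ = U := by
  obtain ⟨g, hg⟩ := Cfsg.Agent.Lib.hall_conj (G := ↥M) m n hcard hcop (U₁.subgroupOf M)
    (U.subgroupOf M) (by rw [Cfsg.Agent.Helper1.card_subgroupOf_of_le hU₁M, hcU₁])
    (by rw [Cfsg.Agent.Helper1.card_subgroupOf_of_le hUM, hcU])
  refine ⟨(g : G), g.2, ?_⟩
  have hle : cj (g : G) U₁ ≤ U := by
    intro y hy
    rw [mem_cj] at hy
    have h1 : (⟨(g : G)⁻¹ * y * (g : G), hU₁M hy⟩ : M) ∈ U₁.subgroupOf M :=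
      Subgroup.mem_subgroupOf.2 hy
    have h2 : MulAut.conj g • (⟨(g : G)⁻¹ * y * (g : G), hU₁M hy⟩ : M) ∈
        MulAut.conj g • U₁.subgroupOf M :=
      Subgroup.smul_mem_pointwise_smul _ _ _ h1
    rw [hg, Subgroup.mem_subgroupOf] at h2
    have h3 : ((MulAut.conj g • (⟨(g : G)⁻¹ * y * (g : G), hU₁M hy⟩ : M) : M) : G) = y := by
      simp [MulAut.smul_def, mul_assoc]
    rwa [h3] at h2
  exact Subgroup.eq_of_le_of_card_ge hle (by rw [card_cj, hcU, hcU₁])

/-- if `K ≠ 1` then `U` is abelian (from S1430 (b)) -/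
theorem comm_U_of_K_ne_bot (hG : Cfsg.IsMinSimpleOddOrder G) (hU : UniquenessThm G)
    (h144 : H144b G) {M K U : Subgroup G} (hM : IsCoatom M)
    (hKU : Cfsg.IsSigmaDecomposition M K U) (hK : K ≠ ⊥) :
    ∀ a ∈ U, ∀ b ∈ U, a * b = b * a := by
  obtain ⟨U₁, hU₁c, hU₁M, hU₁π, hU₁idx⟩ := h144 M hM K hKU.hall hK
  have hUM : U ≤ M := Cfsg.Agent.Helper55.BGU.U_le hKU
  set m := Nat.card U with hm
  set n := Nat.card ↥(K ⊔ Cfsg.sigmaCore M) with hn
  have hcard : Nat.card ↥M = m * n := (card_mul_card_of_isComplIn hKU.compl).symm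
  have hcop : m.Coprime n := coprime_card_U hG hU hM hKU
  -- `|U₁| = m`
  have h1 : Nat.card U₁ ∣ m := by
    have hd : Nat.card U₁ ∣ m * n := by rw [← hcard]; exact Subgroup.card_dvd_of_le hU₁M
    refine Nat.Coprime.dvd_of_dvd_mul_right ?_ hd
    refine Nat.coprime_of_dvd fun q hq hq1 hqn => ?_
    obtain ⟨-, hqκ, hqσ⟩ := hU₁π q hq hq1
    rcases mem_of_dvd_card_sup hG hU hM hKU hq hqn with h | h
    · exact hqκ h
    · exact hqσ h
  have h2 : m ∣ Nat.card U₁ := by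
    have hrel : U₁.relIndex M * Nat.card U₁ = m * n := by
      have := Subgroup.relIndex_mul_relIndex ⊥ U₁ M bot_le hU₁M
      rw [Subgroup.relIndex_bot_left, Subgroup.relIndex_bot_left] at this
      rw [mul_comm, this, hcard]
    have hd : m ∣ U₁.relIndex M * Nat.card U₁ := by rw [hrel]; exact dvd_mul_right _ _
    refine Nat.Coprime.dvd_of_dvd_mul_left ?_ hd
    refine Nat.coprime_of_dvd fun q hq hqm hqr => ?_
    exact hU₁idx q hq ⟨hq, not_kappa_of_dvd_card_U hKU hq hqm,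
      Cfsg.Agent.Helper55.BGU.not_sigma_of_dvd_card_U hG hU hM hKU hq hqm⟩ hqr
  have hcU₁ : Nat.card U₁ = m := Nat.dvd_antisymm h1 h2
  obtain ⟨g, hgM, hg⟩ := exists_cj_eq_of_card (hG.2.2.2 M hM.1) hcard hcop hUM hU₁M rfl hcU₁
  have hc := (Cfsg.Agent.Helper23.isMulCommutative_subgroup_iff U₁).1 hU₁c
  intro a ha b hb
  rw [← hg, mem_cj] at ha hb
  have h3 := hc _ ha _ hb
  have h4 : g⁻¹ * (a * b) * g = g⁻¹ * (b * a) * g := by
    simpa [mul_assoc] using h3
  exact mul_left_cancel (mul_right_cancel h4)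

/-! ### the hypothesis of 12.12 for `E = U` -/

theorem centralizer_zpowers (e : G) :
    Subgroup.centralizer ((Subgroup.zpowers e : Subgroup G) : Set G) =
      Subgroup.centralizer ({e} : Set G) := by
  apply le_antisymm
  · apply Subgroup.centralizer_le
    intro x hx
    rw [Set.mem_singleton_iff] at hx
    subst hx
    exact Subgroup.mem_zpowers _
  · intro y hy
    rw [Subgroup.mem_centralizer_iff] at hy ⊢
    intro z hz
    obtain ⟨k, rfl⟩ := Subgroup.mem_zpowers_iff.1 hz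
    have h1 : Commute e y := hy e rfl
    exact (h1.zpow_left k).eq

/-- an element of `U` centralizing a non-identity element of `M_σ` is a `τ₂(M)`-element -/
theorem tau2_of_dvd_orderOf (hG : Cfsg.IsMinSimpleOddOrder G) (hU : UniquenessThm G)
    {M K U : Subgroup G} (hM : IsCoatom M) (hKU : Cfsg.IsSigmaDecomposition M K U)
    {e : G} (he : e ∈ U)
    (hec : Cfsg.sigmaCore M ⊓ Subgroup.centralizer ({e} : Set G) ≠ ⊥)
    {q : ℕ} (hq : q.Prime) (hqe : q ∣ orderOf e) : q ∈ Cfsg.tau2 M := by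
  have hXU : Subgroup.zpowers e ≤ U := by
    rw [Subgroup.zpowers_le]; exact he
  apply tau2_of_dvd_card hG hU hM hKU hXU _ hq
  · rw [Nat.card_zpowers]; exact hqe
  · rw [centralizer_zpowers]; exact hec

theorem hyp_12_12 (hG : Cfsg.IsMinSimpleOddOrder G) (hU : UniquenessThm G)
    {M K U : Subgroup G} (hM : IsCoatom M) (hKU : Cfsg.IsSigmaDecomposition M K U) :
    ∀ e ∈ U, e ≠ 1 → (∀ p : ℕ, p.Prime → p ∣ orderOf e → p ∈ Cfsg.tau1 M ∪ Cfsg.tau3 M) →
      Cfsg.sigmaCore M ⊓ Subgroup.centralizer ({e} : Set G) = ⊥ := by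
  intro e he he1 hprimes
  by_contra hne
  have hoe : orderOf e ≠ 1 := fun h => he1 (orderOf_eq_one_iff.1 h)
  obtain ⟨q, hq, hqe⟩ := Nat.exists_prime_and_dvd hoe
  obtain ⟨-, -, -, hr1⟩ := tau2_of_dvd_orderOf hG hU hM hKU he hne hq hqe
  rcases hprimes q hq hqe with h | h
  · exact hr1 h.2.2.2.2
  · exact hr1 h.2.2.2

/-- if `K = 1` then `U` is a complement of `M_σ` in `M` -/
theorem isComplIn_of_K_eq_bot {M K U : Subgroup G} (hKU : Cfsg.IsSigmaDecomposition M K U)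
    (hK : K = ⊥) : Cfsg.IsComplIn U (Cfsg.sigmaCore M) M := by
  have := hKU.compl
  rwa [hK, bot_sup_eq] at this

/-- **Theorem B (c)** (statement S1359), from the statement-shaped hypotheses -/
theorem thmB_c (hG : Cfsg.IsMinSimpleOddOrder G) (hU : UniquenessThm G)
    (h1212 : H1212 G) (h144 : H144b G) {M K U : Subgroup G} (hM : IsCoatom M)
    (hKU : Cfsg.IsSigmaDecomposition M K U) :
    IsMulCommutative (Subgroup.closure ((U : Set G) ∩ Cfsg.sigmaHat M)) := by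
  rw [Cfsg.Agent.Helper23.isMulCommutative_subgroup_iff]
  by_cases hK : K = ⊥
  · obtain ⟨⟨A₀, hA₀E, -, hA₀c, hA₀⟩, -⟩ :=
      h1212 M hM U (isComplIn_of_K_eq_bot hKU hK) (hyp_12_12 hG hU hM hKU)
    have hle : Subgroup.closure ((U : Set G) ∩ Cfsg.sigmaHat M) ≤ A₀ := by
      rw [Subgroup.closure_le]
      rintro u ⟨hu, -, y, hy, hy1, huy⟩
      apply hA₀ y hy hy1
      have hc : u ∈ Subgroup.centralizer ({y} : Set G) := by
        rw [Subgroup.mem_centralizer_iff]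
        intro z hz
        rw [Set.mem_singleton_iff] at hz
        subst hz
        exact huy.symm
      exact ⟨hu, hc⟩
    have hc := (Cfsg.Agent.Helper23.isMulCommutative_subgroup_iff A₀).1 hA₀c
    intro a ha b hb
    exact hc a (hle ha) b (hle hb)
  · have hc := comm_U_of_K_ne_bot hG hU h144 hM hKU hK
    have hle : Subgroup.closure ((U : Set G) ∩ Cfsg.sigmaHat M) ≤ U := by
      rw [Subgroup.closure_le]
      exact Set.inter_subset_left
    intro a ha b hb
    exact hc a (hle ha) b (hle hb)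

end Cfsg.Agent.Helper55.BGThmB
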