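import Mathlib

set_option autoImplicit false
set_option linter.unusedSectionVars false
set_option linter.unusedVariables false

/-!
# A cyclic subgroup of full exponent avoiding a "bad" set (helper55)

Let `U` be a commutative subgroup of a finite group, `e` a positive multiple of all element orders of
`U`, and `Good` a predicate on elements that passes from (integer) powers to the element. If for
every prime `p ∣ e` some `u ∈ U` has `u ^ (e / p) ≠ 1` good, then some `g ∈ U` has order `e` and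
all non-identity powers of `g` are good.
-/

namespace Cfsg.Agent.Helper55.CyclicGood

variable {G : Type*} [Group G]

/-- if `w ^ q = 1` and `c` is prime to `q` then `w` is an integer power of `w ^ c` -/
theorem exists_zpow_eq_of_coprime {w : G} {q c : ℕ} (hw : w ^ q = 1) (hcq : Nat.Coprime c q) :
    ∃ a : ℤ, (w ^ c) ^ a = w := by
  refine ⟨Nat.gcdA c q, ?_⟩
  have h1 : ((Nat.gcd c q : ℕ) : ℤ) = c * Nat.gcdA c q + q * Nat.gcdB c q := Nat.gcd_eq_gcd_ab c q
  rw [hcq.gcd_eq_one] at h1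
  have h2 : w = w ^ ((c : ℤ) * Nat.gcdA c q + (q : ℤ) * Nat.gcdB c q) := by
    rw [← h1]; simp
  have h3 : w ^ ((q : ℤ) * Nat.gcdB c q) = 1 := by
    rw [zpow_mul, zpow_natCast, hw, one_zpow]
  rw [zpow_add, h3, mul_one, zpow_mul, zpow_natCast] at h2
  exact h2.symm

theorem exists_good_of_step {U : Subgroup G} (hUc : ∀ a ∈ U, ∀ b ∈ U, a * b = b * a)
    (Good : G → Prop) (hGood : ∀ (x : G) (k : ℤ), Good (x ^ k) → Good x)
    {e : ℕ} (he0 : e ≠ 0) (hpow : ∀ u ∈ U, u ^ e = 1)
    (hex : ∀ p : ℕ, p.Prime → p ∣ e → ∃ u ∈ U, u ^ (e / p) ≠ 1 ∧ Good (u ^ (e / p)))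
    (S : Finset ℕ) (hS : S ⊆ e.primeFactors) :
    ∃ g ∈ U, (∀ p ∈ S, g ^ (e / p) ≠ 1 ∧ Good (g ^ (e / p))) ∧
      ∀ q : ℕ, q.Prime → q ∣ e → q ∉ S → g ^ (e / q) = 1 := by
  classical
  induction S using Finset.induction_on with
  | empty =>
    exact ⟨1, U.one_mem, fun p hp => absurd hp (Finset.notMem_empty p), fun q _ _ _ => one_pow _⟩
  | insert q S hqS ih =>
    obtain ⟨g, hgU, hgS, hgout⟩ := ih ((Finset.subset_insert q S).trans hS)
    have hqmem : q ∈ e.primeFactors := hS (Finset.mem_insert_self q S)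
    have hq : q.Prime := Nat.prime_of_mem_primeFactors hqmem
    have hqe : q ∣ e := Nat.dvd_of_mem_primeFactors hqmem
    obtain ⟨u, huU, hu1, huG⟩ := hex q hq hqe
    obtain ⟨n, c, hce, hcq⟩ : ∃ n c : ℕ, q ^ n * c = e ∧ Nat.Coprime c q :=
      ⟨_, _, Nat.ordProj_mul_ordCompl_eq_self e q, (Nat.coprime_ordCompl hq he0).symm⟩
    set x := u ^ c with hx
    have hxU : x ∈ U := U.pow_mem huU c
    -- (i)
    have hi : ∀ r : ℕ, r.Prime → r ∣ e → r ≠ q → x ^ (e / r) = 1 := by
      intro r hr hre hrq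
      have hrc : r ∣ c := by
        have h1 : r ∣ q ^ n * c := by rw [hce]; exact hre
        rcases (Nat.Prime.dvd_mul hr).1 h1 with h | h
        · exact absurd ((Nat.prime_dvd_prime_iff_eq hr hq).1 (hr.dvd_of_dvd_pow h)) hrq
        · exact h
      obtain ⟨c', hc'⟩ := hrc
      have h2 : e / r = q ^ n * c' := by
        apply Nat.div_eq_of_eq_mul_right hr.pos
        rw [← hce, hc']; ring
      have h3 : c * (e / r) = e * c' := by
        rw [h2, ← hce]; ring
      rw [hx, ← pow_mul, h3, pow_mul, hpow u huU, one_pow]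
    -- (ii), (iii)
    set w := u ^ (e / q) with hw
    have hwq : w ^ q = 1 := by
      rw [hw, ← pow_mul, Nat.div_mul_cancel hqe, hpow u huU]
    have hii : x ^ (e / q) = w ^ c := by
      rw [hx, hw, ← pow_mul, ← pow_mul, mul_comm]
    obtain ⟨a, ha⟩ := exists_zpow_eq_of_coprime hwq hcq
    have hwc1 : w ^ c ≠ 1 := by
      intro h
      apply hu1
      rw [← ha, h, one_zpow]
    have hwcG : Good (w ^ c) := by
      apply hGood (w ^ c) a
      rw [ha]; exact huG
    have hcomm : Commute g x := hUc g hgU x hxU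
    refine ⟨g * x, U.mul_mem hgU hxU, ?_, ?_⟩
    · intro p hp
      rcases Finset.mem_insert.1 hp with rfl | hpS
      · have h1 : (g * x) ^ (e / p) = w ^ c := by
          rw [hcomm.mul_pow, hgout p hq hqe hqS, one_mul, hii]
        rw [h1]; exact ⟨hwc1, hwcG⟩
      · have hpmem : p ∈ e.primeFactors := hS (Finset.mem_insert_of_mem hpS)
        have hpp : p.Prime := Nat.prime_of_mem_primeFactors hpmem
        have hpe : p ∣ e := Nat.dvd_of_mem_primeFactors hpmem
        have hpq : p ≠ q := by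
          rintro rfl
          exact hqS hpS
        have h1 : (g * x) ^ (e / p) = g ^ (e / p) := by
          rw [hcomm.mul_pow, hi p hpp hpe hpq, mul_one]
        rw [h1]; exact hgS p hpS
    · intro r hr hre hrS
      have hrq : r ≠ q := by
        rintro rfl
        exact hrS (Finset.mem_insert_self _ _)
      have hrS' : r ∉ S := fun h => hrS (Finset.mem_insert_of_mem h)
      rw [hcomm.mul_pow, hgout r hr hre hrS', hi r hr hre hrq, one_mul]

/-- the main lemma -/
theorem exists_cyclic_good [Finite G] {U : Subgroup G} (hUc : ∀ a ∈ U, ∀ b ∈ U, a * b = b * a)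
    (Good : G → Prop) (hGood : ∀ (x : G) (k : ℤ), Good (x ^ k) → Good x)
    {e : ℕ} (he0 : e ≠ 0) (hpow : ∀ u ∈ U, u ^ e = 1)
    (hex : ∀ p : ℕ, p.Prime → p ∣ e → ∃ u ∈ U, u ^ (e / p) ≠ 1 ∧ Good (u ^ (e / p))) :
    ∃ g ∈ U, orderOf g = e ∧ ∀ k : ℕ, g ^ k ≠ 1 → Good (g ^ k) := by
  obtain ⟨g, hgU, hg, -⟩ := exists_good_of_step hUc Good hGood he0 hpow hex e.primeFactors le_rfl
  have hgp : ∀ p : ℕ, p.Prime → p ∣ e → g ^ (e / p) ≠ 1 ∧ Good (g ^ (e / p)) := fun p hp hpe =>
    hg p (Nat.mem_primeFactors.2 ⟨hp, hpe, he0⟩)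
  have hord : orderOf g = e :=
    orderOf_eq_of_pow_and_pow_div_prime (Nat.pos_of_ne_zero he0) (hpow g hgU)
      (fun p hp hpe => (hgp p hp hpe).1)
  refine ⟨g, hgU, hord, ?_⟩
  intro k hk
  set h := g ^ k with hh
  have hd1 : orderOf h ≠ 1 := fun h1 => hk (orderOf_eq_one_iff.1 h1)
  obtain ⟨p, hp, hpd⟩ := Nat.exists_prime_and_dvd hd1
  have hde : orderOf h ∣ e := orderOf_dvd_of_pow_eq_one (hpow h (U.pow_mem hgU k))
  have hpe : p ∣ e := hpd.trans hde
  set m := orderOf h / p with hm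
  have hzord : orderOf (h ^ m) = p := orderOf_pow_orderOf_div (orderOf_pos h).ne' hpd
  -- `h ^ m = g ^ (k * m)`
  have hz : h ^ m = g ^ (k * m) := by rw [hh, ← pow_mul]
  -- `gcd e (k m) = e / p`
  have hgcd : Nat.gcd e (k * m) = e / p := by
    have h1 : orderOf (g ^ (k * m)) = e / Nat.gcd e (k * m) := by
      rw [orderOf_pow, hord]
    rw [← hz, hzord] at h1
    have h2 : Nat.gcd e (k * m) ∣ e := Nat.gcd_dvd_left _ _
    have hgpos : 0 < Nat.gcd e (k * m) := Nat.gcd_pos_of_pos_left _ (Nat.pos_of_ne_zero he0)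
    generalize Nat.gcd e (k * m) = d at h1 h2 hgpos ⊢
    obtain ⟨t, ht⟩ := h2
    have h3 : e / d = t := by
      rw [ht]; exact Nat.mul_div_cancel_left _ hgpos
    rw [h3] at h1
    rw [ht, ← h1]
    exact (Nat.mul_div_cancel _ hp.pos).symm
  -- Bezout
  have hb : ((Nat.gcd e (k * m) : ℕ) : ℤ) = e * Nat.gcdA e (k * m) + (k * m : ℕ) * Nat.gcdB e (k * m) :=
    Nat.gcd_eq_gcd_ab e (k * m)
  have h4 : g ^ (e / p) = (h ^ m) ^ (Nat.gcdB e (k * m)) := by
    rw [← hgcd, ← zpow_natCast g (Nat.gcd e (k * m)), hb, zpow_add, zpow_mul, zpow_natCast,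
      hpow g hgU, one_zpow, one_mul, zpow_mul, zpow_natCast, hz]
  have h5 : Good (h ^ m) := by
    apply hGood (h ^ m) (Nat.gcdB e (k * m))
    rw [← h4]; exact (hgp p hp hpe).2
  apply hGood h (m : ℤ)
  rw [zpow_natCast]; exact h5

end Cfsg.Agent.Helper55.CyclicGood
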