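import Mathlib
import Cfsg.Prelude.Def_OddOrderLocal
import Cfsg.Agent.Helper55.BGThmB
import Cfsg.Agent.Helper55.CyclicGood

set_option autoImplicit false
set_option linter.unusedSectionVars false
set_option linter.unusedVariables false

/-!
# B-G Theorem B (d) (statement S1360), assembly layer (helper55)

`U` has a subgroup `U₀` of the same exponent acting regularly on `M_σ`.
* `K = 1`: this is 12.12 (S1421) for `E = U`.
* `K ≠ 1`: `U` is abelian (S1430 (b)), and `U₀` is an explicit cyclic subgroup: for a prime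
  `p ∈ τ₂(M)` dividing `|U|` and the Sylow `p`-subgroup `P` of `U` (a Sylow `p`-subgroup of `M`),
  either `P` is homocyclic and we use 12.5 (f), or `℧^{n-1}(P)` has order `p` and is normalized by
  `N_G(P) ⊄ M`, so it acts regularly by Theorem B (e).
-/

namespace Cfsg.Agent.Helper55.BGThmB

open Cfsg Cfsg.Agent.Helper29.BG10 Cfsg.Agent.Helper68.BG12 Cfsg.Agent.Helper54.BG128
open Cfsg.Agent.Helper55.BG1211
open scoped Pointwise

universe u

/-- S1417 (B-G Theorem 12.5) in statement shape: parts (b), (e), (f) -/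
def H125 (G : Type u) [Group G] : Prop :=
  ∀ (M : Subgroup G), IsCoatom M → ∀ (p : ℕ) [Fact p.Prime], p ∈ Cfsg.tau2 M → ∀ A : Subgroup G,
    A ≤ M → Cfsg.IsElementaryAbelian p A → Nat.card A = p ^ 2 →
      (∀ P : Sylow p M, IsMulCommutative (P : Subgroup M) ∧
        (A ≤ (P : Subgroup M).map M.subtype →
          (∀ x ∈ (P : Subgroup M).map M.subtype, x ^ p = 1 ↔ x ∈ A) ∧
          ¬ Subgroup.normalizer ((((P : Subgroup M).map M.subtype : Subgroup G)) : Set G) ≤ M)) ∧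
      (∀ Mstar : Subgroup G, IsCoatom Mstar → Mstar ≠ M → A ≤ Mstar →
        Cfsg.sigmaCore M ⊓ Mstar = ⊥) ∧
      ∃ A₁ : Subgroup G, A₁ ≤ A ∧ Nat.card A₁ = p ∧
        Cfsg.sigmaCore M ⊓ Subgroup.centralizer (A₁ : Set G) = ⊥

theorem h125b_of {G : Type u} [Group G] (h : H125 G) : H125b G :=
  fun M hM p _ hpτ A hAM hAe hAc P => ((h M hM p hpτ A hAM hAe hAc).1 P).1

theorem h125e_of {G : Type u} [Group G] (h : H125 G) : H125e G := by
  intro M hM p hp hpτ A hAM hAe hAc L hL hne hAL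
  haveI : Fact p.Prime := ⟨hp⟩
  exact (h M hM p hpτ A hAM hAe hAc).2.1 L hL hne hAL

variable {G : Type u} [Group G] [Finite G]

/-- `x` acts regularly on `M_σ` -/
def Good (M : Subgroup G) (x : G) : Prop :=
  Cfsg.sigmaCore M ⊓ Subgroup.centralizer ({x} : Set G) = ⊥

theorem good_of_zpow (M : Subgroup G) (x : G) (k : ℤ) (h : Good M (x ^ k)) : Good M x := by
  unfold Good at h ⊢
  rw [eq_bot_iff, ← h]
  refine inf_le_inf le_rfl ?_
  intro y hy
  rw [Subgroup.mem_centralizer_iff] at hy ⊢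
  intro z hz
  rw [Set.mem_singleton_iff] at hz
  subst hz
  have h1 : Commute x y := hy x rfl
  exact (h1.zpow_left k).eq

/-! ### Sylow subgroups of `M` inside `U` -/

/-- a subgroup of `M` of order prime to `|K M_σ|` is conjugate under `M` to a subgroup of `U` -/
theorem exists_cj_le_U (hG : Cfsg.IsMinSimpleOddOrder G) (hU : UniquenessThm G)
    {M K U : Subgroup G} (hM : IsCoatom M) (hKU : Cfsg.IsSigmaDecomposition M K U)
    {Y : Subgroup G} (hYM : Y ≤ M)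
    (hYc : (Nat.card Y).Coprime (Nat.card ↥(K ⊔ Cfsg.sigmaCore M))) :
    ∃ g ∈ M, cj g Y ≤ U := by
  have hUM : U ≤ M := Cfsg.Agent.Helper55.BGU.U_le hKU
  set m := Nat.card U with hm
  set n := Nat.card ↥(K ⊔ Cfsg.sigmaCore M) with hn
  have hcard : Nat.card ↥M = m * n := (card_mul_card_of_isComplIn hKU.compl).symm
  have hcop : m.Coprime n := coprime_card_U hG hU hM hKU
  have hsolv : Group.IsSolvable ↥M := hG.2.2.2 M hM.1
  have hYc' : (Nat.card (Y.subgroupOf M)).Coprime n := by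
    rw [Cfsg.Agent.Helper1.card_subgroupOf_of_le hYM]; exact hYc
  obtain ⟨H, hHc, hYH⟩ := Cfsg.Agent.Lib.hall_le (G := ↥M) m n hcard hcop _ hYc'
  have hHc' : Nat.card (H.map M.subtype) = m := by
    rw [Subgroup.card_map_of_injective M.subtype_injective]; exact hHc
  obtain ⟨g, hgM, hg⟩ := exists_cj_eq_of_card hsolv hcard hcop hUM (Subgroup.map_subtype_le H)
    rfl hHc'
  refine ⟨g, hgM, ?_⟩
  rw [← hg]
  apply cj_mono
  intro y hy
  exact ⟨⟨y, hYM hy⟩, hYH (Subgroup.mem_subgroupOf.2 hy), rfl⟩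

/-- a Sylow `p`-subgroup of `M` inside `U`, containing a conjugate of a given `p`-subgroup -/
theorem exists_sylow_le_U (hG : Cfsg.IsMinSimpleOddOrder G) (hU : UniquenessThm G)
    {M K U : Subgroup G} (hM : IsCoatom M) (hKU : Cfsg.IsSigmaDecomposition M K U)
    {p : ℕ} [hp : Fact p.Prime] (hpU : p ∣ Nat.card U) {A₀ : Subgroup G} (hA₀M : A₀ ≤ M)
    (hA₀ : IsPGroup p A₀) :
    ∃ (P : Sylow p M) (g : G), g ∈ M ∧ (P : Subgroup M).map M.subtype ≤ U ∧
      cj g A₀ ≤ (P : Subgroup M).map M.subtype := by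
  have hA₀' : IsPGroup p (A₀.subgroupOf M) := hA₀.comap_subtype
  obtain ⟨P₀, hP₀⟩ := hA₀'.exists_le_sylow
  have hpn : ¬ p ∣ Nat.card ↥(K ⊔ Cfsg.sigmaCore M) := by
    intro h
    have h1 : p ∣ Nat.gcd (Nat.card U) (Nat.card ↥(K ⊔ Cfsg.sigmaCore M)) := Nat.dvd_gcd hpU h
    rw [(coprime_card_U hG hU hM hKU).gcd_eq_one] at h1
    exact hp.out.one_lt.ne' (Nat.dvd_one.1 h1)
  have hYc : (Nat.card ((P₀ : Subgroup M).map M.subtype)).Coprime
      (Nat.card ↥(K ⊔ Cfsg.sigmaCore M)) := by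
    rw [Subgroup.card_map_of_injective M.subtype_injective]
    obtain ⟨k, hk⟩ := IsPGroup.iff_card.1 P₀.isPGroup'
    rw [hk]
    exact Nat.Coprime.pow_left _ ((Nat.Prime.coprime_iff_not_dvd hp.out).2 hpn)
  obtain ⟨g, hgM, hg⟩ := exists_cj_le_U hG hU hM hKU (Subgroup.map_subtype_le _) hYc
  refine ⟨(⟨g, hgM⟩ : M) • P₀, g, hgM, ?_, ?_⟩
  · rintro _ ⟨z, hz, rfl⟩
    apply hg
    rw [mem_cj]
    have hz' : z ∈ MulAut.conj (⟨g, hgM⟩ : M) • (P₀ : Subgroup M) := hz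
    obtain ⟨z₀, hz₀, rfl⟩ := (Subgroup.mem_smul_pointwise_iff_exists _ _ _).1 hz'
    refine ⟨z₀, hz₀, ?_⟩
    simp [MulAut.smul_def, mul_assoc]
  · intro y hy
    rw [mem_cj] at hy
    have h1 : (⟨g⁻¹ * y * g, hA₀M hy⟩ : M) ∈ (P₀ : Subgroup M) :=
      hP₀ (Subgroup.mem_subgroupOf.2 hy)
    have h2 : MulAut.conj (⟨g, hgM⟩ : M) • (⟨g⁻¹ * y * g, hA₀M hy⟩ : M) ∈
        MulAut.conj (⟨g, hgM⟩ : M) • (P₀ : Subgroup M) :=
      Subgroup.smul_mem_pointwise_smul _ _ _ h1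
    refine ⟨_, h2, ?_⟩
    simp [MulAut.smul_def, mul_assoc]

/-- `p`-elements of the abelian group `U` lie in the Sylow `p`-subgroup `P ≤ U` of `M` -/
theorem mem_sylow_of_pow_eq_one {M U : Subgroup G} (hUc : ∀ a ∈ U, ∀ b ∈ U, a * b = b * a)
    (hUM : U ≤ M) {p : ℕ} [hp : Fact p.Prime] (P : Sylow p M)
    (hPU : (P : Subgroup M).map M.subtype ≤ U) {x : G} (hxU : x ∈ U) {k : ℕ}
    (hx : x ^ (p ^ k) = 1) : x ∈ (P : Subgroup M).map M.subtype := by
  set Z : Subgroup G := Subgroup.zpowers x with hZ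
  have hZp : IsPGroup p Z := by
    rintro ⟨z, hz⟩
    obtain ⟨j, rfl⟩ := Subgroup.mem_zpowers_iff.1 hz
    refine ⟨k, ?_⟩
    apply Subtype.ext
    simp only [Subgroup.coe_pow, Subgroup.coe_one]
    rw [← zpow_natCast, ← zpow_mul, mul_comm, zpow_mul, zpow_natCast, hx, one_zpow]
  have hxC : x ∈ Subgroup.centralizer (((P : Subgroup M).map M.subtype : Subgroup G) : Set G) := by
    rw [Subgroup.mem_centralizer_iff]
    intro y hy
    exact hUc y (hPU hy) x hxU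
  have hZN : Z ≤ Subgroup.normalizer (((P : Subgroup M).map M.subtype : Subgroup G) : Set G) := by
    rw [hZ, Subgroup.zpowers_le]
    exact Subgroup.centralizer_le_normalizer _ hxC
  have hPp : IsPGroup p ((P : Subgroup M).map M.subtype) := P.isPGroup'.map _
  have hYp : IsPGroup p (Z ⊔ (P : Subgroup M).map M.subtype : Subgroup G) :=
    IsPGroup.to_sup_of_normal_right' hZp hPp hZN
  have hZM : Z ≤ M := by
    rw [hZ, Subgroup.zpowers_le]; exact hUM hxU
  have hYM : Z ⊔ (P : Subgroup M).map M.subtype ≤ M := sup_le hZM (Subgroup.map_subtype_le _)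
  have hY' : IsPGroup p ((Z ⊔ (P : Subgroup M).map M.subtype).subgroupOf M) := hYp.comap_subtype
  have hle : (P : Subgroup M) ≤ (Z ⊔ (P : Subgroup M).map M.subtype).subgroupOf M := by
    intro z hz
    rw [Subgroup.mem_subgroupOf]
    exact Subgroup.mem_sup_right ⟨z, hz, rfl⟩
  have heq := P.is_maximal' hY' hle
  have h1 : (⟨x, hUM hxU⟩ : M) ∈ (Z ⊔ (P : Subgroup M).map M.subtype).subgroupOf M := by
    rw [Subgroup.mem_subgroupOf]
    exact Subgroup.mem_sup_left (Subgroup.mem_zpowers x)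
  rw [heq] at h1
  exact ⟨_, h1, rfl⟩

theorem isElementaryAbelian_cj {p : ℕ} {A₀ : Subgroup G} (g : G)
    (hA₀e : Cfsg.IsElementaryAbelian p A₀) : Cfsg.IsElementaryAbelian p (cj g A₀) := by
  refine ⟨⟨⟨?_⟩⟩, ?_⟩
  · rintro ⟨a, ha⟩ ⟨b, hb⟩
    apply Subtype.ext
    rw [mem_cj] at ha hb
    have h1 := hA₀e.1.is_comm.comm ⟨_, ha⟩ ⟨_, hb⟩
    have h2 : g⁻¹ * a * g * (g⁻¹ * b * g) = g⁻¹ * b * g * (g⁻¹ * a * g) :=
      congrArg Subtype.val h1
    have h3 : g⁻¹ * (a * b) * g = g⁻¹ * (b * a) * g := by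
      simpa [mul_assoc] using h2
    exact mul_left_cancel (mul_right_cancel h3)
  · intro a ha
    rw [mem_cj] at ha
    have h1 := hA₀e.2 _ ha
    have h2 : (g⁻¹ * a * g) ^ p = g⁻¹ * a ^ p * g := by
      have := conj_pow (a := g⁻¹) (b := a) (i := p)
      simpa using this
    rw [h2] at h1
    have h3 : a ^ p = g * 1 * g⁻¹ := by
      rw [← h1]; group
    simpa using h3

/-- for `p ∈ τ₂(M)` dividing the exponent `e` of the abelian group `U`, some `u ∈ U` has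
`u ^ (e / p) ≠ 1` acting regularly on `M_σ` -/
theorem exists_good_of_tau2 (hG : Cfsg.IsMinSimpleOddOrder G) (hU : UniquenessThm G)
    (h125 : H125 G) (h126a : H126a G)
    {M K U : Subgroup G} (hM : IsCoatom M) (hKU : Cfsg.IsSigmaDecomposition M K U)
    (hUc : ∀ a ∈ U, ∀ b ∈ U, a * b = b * a) {p : ℕ} (hp : p.Prime) (hpτ : p ∈ Cfsg.tau2 M)
    {e : ℕ} (he0 : e ≠ 0) (hpow : ∀ u ∈ U, u ^ e = 1) (hpe : p ∣ e)
    (hex : ∃ u ∈ U, u ^ (e / p) ≠ 1) :
    ∃ u ∈ U, u ^ (e / p) ≠ 1 ∧ Good M (u ^ (e / p)) := by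
  haveI : Fact p.Prime := ⟨hp⟩
  have hUM : U ≤ M := Cfsg.Agent.Helper55.BGU.U_le hKU
  obtain ⟨u₀, hu₀U, hu₀⟩ := hex
  have hw : (u₀ ^ (e / p)) ^ p = 1 := by
    rw [← pow_mul, Nat.div_mul_cancel hpe, hpow u₀ hu₀U]
  have hpU : p ∣ Nat.card U := by
    have h1 : orderOf (u₀ ^ (e / p)) = p := orderOf_eq_prime hw hu₀
    rw [← h1]; exact Subgroup.orderOf_dvd_natCard U (U.pow_mem hu₀U _)
  obtain ⟨-, hpσ, hr2, hr1⟩ := hpτ
  obtain ⟨A₀, hA₀M, hA₀e, hA₀c⟩ := exists_elementaryAbelian_sq hr2 hr1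
  obtain ⟨P, g, hgM, hPU, hAP⟩ := exists_sylow_le_U hG hU hM hKU hpU hA₀M
    (isPGroup_of_isElementaryAbelian hA₀e)
  have hAe : Cfsg.IsElementaryAbelian p (cj g A₀) := isElementaryAbelian_cj g hA₀e
  have hAc : Nat.card (cj g A₀) = p ^ 2 := by rw [card_cj, hA₀c]
  have hAM : cj g A₀ ≤ M := hAP.trans (Subgroup.map_subtype_le _)
  obtain ⟨hb, -, A₁, hA₁A, hA₁c, hA₁⟩ := h125 M hM p ⟨hp, hpσ, hr2, hr1⟩ (cj g A₀) hAM hAe hAc
  obtain ⟨-, hPA⟩ := hb P
  obtain ⟨hΩ, hNP⟩ := hPA hAP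
  -- `x ^ (e / p) ∈ A` for `x ∈ P`
  have hφA : ∀ x ∈ (P : Subgroup M).map M.subtype, x ^ (e / p) ∈ cj g A₀ := by
    intro x hx
    apply (hΩ _ (Subgroup.pow_mem _ hx _)).1
    rw [← pow_mul, Nat.div_mul_cancel hpe, hpow x (hPU hx)]
  -- an element `x₀ ∈ P` with `x₀ ^ (e / p) ≠ 1`
  obtain ⟨n, c, hce, hcp⟩ : ∃ n c : ℕ, p ^ n * c = e ∧ Nat.Coprime c p :=
    ⟨_, _, Nat.ordProj_mul_ordCompl_eq_self e p, (Nat.coprime_ordCompl hp he0).symm⟩
  have hx₀U : u₀ ^ c ∈ U := U.pow_mem hu₀U c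
  have hx₀P : u₀ ^ c ∈ (P : Subgroup M).map M.subtype := by
    apply mem_sylow_of_pow_eq_one hUc hUM P hPU hx₀U (k := n)
    rw [← pow_mul, mul_comm, hce, hpow u₀ hu₀U]
  have hx₀e : (u₀ ^ c) ^ (e / p) = (u₀ ^ (e / p)) ^ c := by
    rw [← pow_mul, ← pow_mul, mul_comm]
  have hx₀φ : (u₀ ^ c) ^ (e / p) ≠ 1 := by
    obtain ⟨a, ha⟩ := Cfsg.Agent.Helper55.CyclicGood.exists_zpow_eq_of_coprime hw hcp
    intro h
    apply hu₀
    rw [← ha, ← hx₀e, h, one_zpow]
  by_contra hcon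
  push Not at hcon
  -- the subgroup `X = {x ^ (e / p) | x ∈ P}`
  let X : Subgroup G :=
    { carrier := {y | ∃ x ∈ (P : Subgroup M).map M.subtype, x ^ (e / p) = y}
      mul_mem' := by
        rintro _ _ ⟨x, hx, rfl⟩ ⟨y, hy, rfl⟩
        refine ⟨x * y, Subgroup.mul_mem _ hx hy, ?_⟩
        have hc : Commute x y := hUc x (hPU hx) y (hPU hy)
        exact hc.mul_pow _
      one_mem' := ⟨1, Subgroup.one_mem _, one_pow _⟩
      inv_mem' := by
        rintro _ ⟨x, hx, rfl⟩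
        exact ⟨x⁻¹, Subgroup.inv_mem _ hx, inv_pow _ _⟩ }
  have hXmem : ∀ y : G, y ∈ X ↔ ∃ x ∈ (P : Subgroup M).map M.subtype, x ^ (e / p) = y :=
    fun y => Iff.rfl
  have hXA : X ≤ cj g A₀ := by
    intro y hy
    obtain ⟨x, hx, rfl⟩ := (hXmem y).1 hy
    exact hφA x hx
  have hXU : X ≤ U := hXA.trans (hAP.trans hPU)
  have hy₀X : (u₀ ^ c) ^ (e / p) ∈ X := (hXmem _).2 ⟨_, hx₀P, rfl⟩
  have hX1 : X ≠ ⊥ := by
    intro h
    rw [h, Subgroup.mem_bot] at hy₀X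
    exact hx₀φ hy₀X
  -- a generator of `A₁` is not in `X`
  have hA₁ne : ∃ a₁ ∈ A₁, a₁ ≠ 1 := by
    by_contra hno
    push Not at hno
    have : A₁ = ⊥ := by
      rw [eq_bot_iff]
      intro a ha
      rw [Subgroup.mem_bot]; exact hno a ha
    rw [this, Subgroup.card_bot] at hA₁c
    exact hp.one_lt.ne' hA₁c.symm
  obtain ⟨a₁, ha₁, ha₁1⟩ := hA₁ne
  have hGa₁ : Good M a₁ := by
    unfold Good
    rw [eq_bot_iff, ← hA₁]
    refine inf_le_inf le_rfl ?_
    intro y hy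
    rw [Subgroup.mem_centralizer_iff] at hy ⊢
    intro b hb
    have htop := zpowers_eq_top_of_prime_card (G := ↥A₁) hA₁c (g := ⟨a₁, ha₁⟩)
      (fun h => ha₁1 (congrArg Subtype.val h))
    have hbz : (⟨b, hb⟩ : A₁) ∈ Subgroup.zpowers (⟨a₁, ha₁⟩ : A₁) := by rw [htop]; trivial
    obtain ⟨k, hk⟩ := Subgroup.mem_zpowers_iff.1 hbz
    have hk' : a₁ ^ k = b := by
      have := congrArg (fun z : A₁ => (z : G)) hk
      simpa using this
    have h1 : Commute a₁ y := hy a₁ rfl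
    rw [← hk']
    exact (h1.zpow_left k).eq
  have ha₁X : a₁ ∉ X := by
    intro h
    obtain ⟨x, hx, rfl⟩ := (hXmem _).1 h
    exact hcon x (hPU hx) ha₁1 hGa₁
  have hXneA : X ≠ cj g A₀ := by
    intro h
    apply ha₁X
    rw [h]; exact hA₁A ha₁
  -- `|X| = p`
  have hXcard : Nat.card X = p := by
    have hd : Nat.card X ∣ p ^ 2 := by rw [← hAc]; exact Subgroup.card_dvd_of_le hXA
    obtain ⟨i, hi, hXi⟩ := (Nat.dvd_prime_pow hp).1 hd
    interval_cases i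
    · exfalso
      apply hX1
      exact Subgroup.eq_bot_of_card_eq _ (by rw [hXi, pow_zero])
    · rw [hXi, pow_one]
    · exfalso
      apply hXneA
      exact Subgroup.eq_of_le_of_card_ge hXA (by rw [hAc, hXi])
  -- `X` is generated by `y₀`
  have hy₀p : ((u₀ ^ c) ^ (e / p)) ^ p = 1 := by
    rw [← pow_mul, Nat.div_mul_cancel hpe, hpow _ hx₀U]
  have hXz : Subgroup.zpowers ((u₀ ^ c) ^ (e / p)) = X := by
    apply Subgroup.eq_of_le_of_card_ge
    · rw [Subgroup.zpowers_le]; exact hy₀X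
    · rw [hXcard, Nat.card_zpowers, orderOf_eq_prime hy₀p hx₀φ]
  have hXc : Cfsg.sigmaCore M ⊓ Subgroup.centralizer (X : Set G) ≠ ⊥ := by
    rw [← hXz, centralizer_zpowers]
    exact hcon _ hx₀U hx₀φ
  -- Theorem B (e)
  obtain ⟨hCM, huniq⟩ :=
    thmB_e hG hU (h125b_of h125) (h125e_of h125) h126a hM hKU X hXU hX1 hXc
  have hXtop : X ≠ ⊤ := by
    intro h
    apply hM.1
    rw [eq_top_iff, ← h]
    exact hXU.trans hUM
  haveI : IsSimpleGroup G := hG.2.1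
  have hNtop := Cfsg.Agent.Helper31.bgt_normalizer_ne_top_of_simple hX1 hXtop
  obtain ⟨L, hL, hNL⟩ := (eq_top_or_exists_le_coatom _).resolve_left hNtop
  have hLM : L = M := huniq L hL ((Subgroup.centralizer_le_normalizer _).trans hNL)
  have key : ∀ n ∈ Subgroup.normalizer (((P : Subgroup M).map M.subtype : Subgroup G) : Set G),
      ∀ y ∈ X, n * y * n⁻¹ ∈ X := by
    intro n hn y hy
    obtain ⟨x, hx, rfl⟩ := (hXmem y).1 hy
    refine (hXmem _).2 ⟨n * x * n⁻¹, (Subgroup.mem_normalizer_iff.1 hn x).1 hx, ?_⟩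
    rw [conj_pow]
  apply hNP
  intro n hn
  rw [← hLM]
  apply hNL
  rw [Subgroup.mem_normalizer_iff]
  intro y
  constructor
  · exact key n hn y
  · intro hy
    have := key n⁻¹ (Subgroup.inv_mem _ hn) _ hy
    simpa [mul_assoc] using this

theorem eq_one_of_good_of_mem_sigmaHat {M : Subgroup G} {u : G} (hgood : u ≠ 1 → Good M u)
    (hσ : u ∈ Cfsg.sigmaHat M) : u = 1 := by
  by_contra hu1
  obtain ⟨-, y, hy, hy1, huy⟩ := hσ
  have h1 := hgood hu1
  have hc : y ∈ Subgroup.centralizer ({u} : Set G) := by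
    rw [Subgroup.mem_centralizer_iff]
    intro z hz
    rw [Set.mem_singleton_iff] at hz
    subst hz
    exact huy
  have h2 : y ∈ Cfsg.sigmaCore M ⊓ Subgroup.centralizer ({u} : Set G) := ⟨hy, hc⟩
  unfold Good at h1
  rw [h1, Subgroup.mem_bot] at h2
  exact hy1 h2

/-- **Theorem B (d)** (statement S1360), from the statement-shaped hypotheses -/
theorem thmB_d (hG : Cfsg.IsMinSimpleOddOrder G) (hU : UniquenessThm G)
    (h1212 : H1212 G) (h144 : H144b G) (h125 : H125 G) (h126a : H126a G)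
    {M K U : Subgroup G} (hM : IsCoatom M) (hKU : Cfsg.IsSigmaDecomposition M K U) :
    ∃ U₀ : Subgroup G, U₀ ≤ U ∧ Monoid.exponent U₀ = Monoid.exponent U ∧
      ∀ u ∈ U₀, u ∈ Cfsg.sigmaHat M → u = 1 := by
  by_cases hK : K = ⊥
  · obtain ⟨-, E₀, hE₀U, hexp, hreg⟩ :=
      h1212 M hM U (isComplIn_of_K_eq_bot hKU hK) (hyp_12_12 hG hU hM hKU)
    refine ⟨E₀, hE₀U, hexp, ?_⟩
    intro u hu hσ
    exact eq_one_of_good_of_mem_sigmaHat (fun hu1 => hreg u hu hu1) hσ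
  · have hUc := comm_U_of_K_ne_bot hG hU h144 hM hKU hK
    set e := Monoid.exponent U with he
    have he0 : e ≠ 0 := Monoid.exponent_ne_zero_of_finite
    have hpow : ∀ u ∈ U, u ^ e = 1 := by
      intro u hu
      have := Monoid.pow_exponent_eq_one (⟨u, hu⟩ : U)
      have h2 := congrArg Subtype.val this
      simpa using h2
    have hex0 : ∀ p : ℕ, p.Prime → p ∣ e → ∃ u ∈ U, u ^ (e / p) ≠ 1 := by
      intro p hp hpe
      by_contra hno
      push Not at hno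
      have hd : Monoid.exponent U ∣ e / p := by
        apply Monoid.exponent_dvd_of_forall_pow_eq_one
        intro u
        apply Subtype.ext
        simpa using hno u u.2
      have hlt : e / p < e := Nat.div_lt_self (Nat.pos_of_ne_zero he0) hp.one_lt
      have hpos : 0 < e / p :=
        Nat.div_pos (Nat.le_of_dvd (Nat.pos_of_ne_zero he0) hpe) hp.pos
      exact absurd (Nat.le_of_dvd hpos hd) (not_le.2 hlt)
    have hex : ∀ p : ℕ, p.Prime → p ∣ e → ∃ u ∈ U, u ^ (e / p) ≠ 1 ∧ Good M (u ^ (e / p)) := by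
      intro p hp hpe
      by_cases hpτ : p ∈ Cfsg.tau2 M
      · exact exists_good_of_tau2 hG hU h125 h126a hM hKU hUc hp hpτ he0 hpow hpe (hex0 p hp hpe)
      · haveI : Fact p.Prime := ⟨hp⟩
        obtain ⟨u, huU, hu1⟩ := hex0 p hp hpe
        refine ⟨u, huU, hu1, ?_⟩
        by_contra hbad
        apply hpτ
        have hord : orderOf (u ^ (e / p)) = p :=
          orderOf_eq_prime (by rw [← pow_mul, Nat.div_mul_cancel hpe, hpow u huU]) hu1
        exact tau2_of_dvd_orderOf hG hU hM hKU (U.pow_mem huU _) hbad hp (by rw [hord])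
    obtain ⟨g, hgU, hord, hgood⟩ := Cfsg.Agent.Helper55.CyclicGood.exists_cyclic_good hUc (Good M)
      (good_of_zpow M) he0 hpow hex
    refine ⟨Subgroup.zpowers g, by rw [Subgroup.zpowers_le]; exact hgU, ?_, ?_⟩
    · rw [IsCyclic.exponent_eq_card, Nat.card_zpowers, hord]
    · intro u hu hσ
      obtain ⟨k, rfl⟩ := (Submonoid.mem_powers_iff _ _).1 (mem_powers_iff_mem_zpowers.2 hu)
      exact eq_one_of_good_of_mem_sigmaHat (fun hu1 => hgood k hu1) hσ

end Cfsg.Agent.Helper55.BGThmB
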