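import Mathlib
import Cfsg.Prelude.Def_OddOrderLocal
import Cfsg.Agent.Helper55.BGThmBd
import Cfsg.Agent.Helper29.BG11A

set_option autoImplicit false
set_option linter.unusedSectionVars false
set_option linter.unusedVariables false

/-!
# B-G Theorem B (f) (statement S1362): `A(M) - M_σ` is a TI-subset (helper55)

For `x ∈ A(M) - M_σ` the `σ(M)'`-part `z = x ^ |M_σ|` of `x` is a non-identity element of `M` with
`z ^ |U| = 1`, so `⟨z⟩` is `M`-conjugate into `U`, and by Theorem B (e) `M` is the only maximal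
subgroup containing `C_G(z)`.  If also `g x g⁻¹ ∈ A(M) - M_σ` then `M` and `g M g⁻¹` both contain
`C_G(g z g⁻¹)`, so `g ∈ N_G(M) = M`, which normalizes `A(M) - M_σ`.
-/

namespace Cfsg.Agent.Helper55.BGThmB

open Cfsg Cfsg.Agent.Helper29.BG10 Cfsg.Agent.Helper68.BG12 Cfsg.Agent.Helper54.BG128
open Cfsg.Agent.Helper55.BG1211
open scoped Pointwise

universe u

variable {G : Type u} [Group G] [Finite G]

/-- an element of `M` of order dividing `|M_σ|` lies in `M_σ` -/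
theorem mem_sigmaCore_of_pow_card (hG : Cfsg.IsMinSimpleOddOrder G) (hU : UniquenessThm G)
    {M : Subgroup G} (hM : IsCoatom M) {a : G} (haM : a ∈ M)
    (ha : a ^ Nat.card (Cfsg.sigmaCore M) = 1) : a ∈ Cfsg.sigmaCore M := by
  obtain ⟨-, hcop⟩ := card_eq_relIndex_mul hG hU hM
  have h1 : (⟨a, haM⟩ : M) ^ (Cfsg.piCore (Cfsg.sigma M) ↥M).index ∈
      Cfsg.piCore (Cfsg.sigma M) ↥M := Subgroup.pow_index_mem _ _
  have hidx : (Cfsg.piCore (Cfsg.sigma M) ↥M).index = (Cfsg.sigmaCore M).relIndex M := by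
    unfold Cfsg.sigmaCore Subgroup.relIndex
    congr 1
    ext x
    rw [Subgroup.mem_subgroupOf]
    constructor
    · intro hx; exact ⟨x, hx, rfl⟩
    · rintro ⟨y, hy, hyx⟩
      have : y = x := Subtype.ext hyx
      rwa [← this]
  have h2 : a ^ (Cfsg.sigmaCore M).relIndex M ∈ Cfsg.sigmaCore M := by
    rw [← hidx]
    exact ⟨_, h1, by simp⟩
  have h3 : a ^ Nat.card (Cfsg.sigmaCore M) ∈ Cfsg.sigmaCore M := by
    rw [ha]; exact Subgroup.one_mem _
  exact Cfsg.Agent.Helper50.mem_of_pow_mem_of_coprime hcop h2 h3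

/-- `|U M_σ| = |U| |M_σ|` -/
theorem card_U_sup_sigmaCore {M K U : Subgroup G} (hKU : Cfsg.IsSigmaDecomposition M K U) :
    Nat.card ↥(U ⊔ Cfsg.sigmaCore M) = Nat.card U * Nat.card (Cfsg.sigmaCore M) := by
  have hUM : U ≤ M := Cfsg.Agent.Helper55.BGU.U_le hKU
  have h1 := Cfsg.Agent.Helper10.card_sup_mul_card_inf U (Cfsg.sigmaCore M)
    (hUM.trans (le_normalizer_sigmaCore M))
  have h2 : U ⊓ Cfsg.sigmaCore M = ⊥ := by
    rw [eq_bot_iff, ← hKU.compl.2.2.1]
    exact inf_le_inf le_rfl le_sup_right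
  rw [h2, Subgroup.card_bot, mul_one] at h1
  exact h1

/-- a non-identity element `z` of `M` with `z ^ |U| = 1` centralizing a non-identity element of
`M_σ`: `M` is the only maximal subgroup containing `C_G(z)` -/
theorem unique_of_pow_card_U (hG : Cfsg.IsMinSimpleOddOrder G) (hU : UniquenessThm G)
    (h125 : H125 G) (h126a : H126a G)
    {M K U : Subgroup G} (hM : IsCoatom M) (hKU : Cfsg.IsSigmaDecomposition M K U)
    {z : G} (hzM : z ∈ M) (hz1 : z ≠ 1) (hzU : z ^ Nat.card U = 1)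
    (hzc : Cfsg.sigmaCore M ⊓ Subgroup.centralizer ({z} : Set G) ≠ ⊥) :
    Subgroup.centralizer ({z} : Set G) ≤ M ∧
      ∀ L : Subgroup G, IsCoatom L → Subgroup.centralizer ({z} : Set G) ≤ L → L = M := by
  have hYM : Subgroup.zpowers z ≤ M := by rw [Subgroup.zpowers_le]; exact hzM
  have hYc : (Nat.card (Subgroup.zpowers z)).Coprime (Nat.card ↥(K ⊔ Cfsg.sigmaCore M)) := by
    rw [Nat.card_zpowers]
    exact Nat.Coprime.coprime_dvd_left (orderOf_dvd_of_pow_eq_one hzU)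
      (coprime_card_U hG hU hM hKU)
  obtain ⟨m, hmM, hmY⟩ := exists_cj_le_U hG hU hM hKU hYM hYc
  have hY1 : Subgroup.zpowers z ≠ ⊥ := by
    intro h
    apply hz1
    have : z ∈ Subgroup.zpowers z := Subgroup.mem_zpowers z
    rwa [h, Subgroup.mem_bot] at this
  have hX1 : cj m (Subgroup.zpowers z) ≠ ⊥ := cj_ne_bot hY1
  obtain ⟨y, hy1⟩ := (Subgroup.ne_bot_iff_exists_ne_one).1 hzc
  have hXc : Cfsg.sigmaCore M ⊓
      Subgroup.centralizer ((cj m (Subgroup.zpowers z) : Subgroup G) : Set G) ≠ ⊥ := by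
    intro h
    apply hy1
    have hc : m * (y : G) * m⁻¹ ∈
        Subgroup.centralizer ((cj m (Subgroup.zpowers z) : Subgroup G) : Set G) := by
      rw [Cfsg.Agent.Helper29.BG11.centralizer_cj, mem_cj, centralizer_zpowers]
      have e : m⁻¹ * (m * (y : G) * m⁻¹) * m = (y : G) := by group
      rw [e]; exact y.2.2
    have h1 : m * (y : G) * m⁻¹ ∈ Cfsg.sigmaCore M ⊓
        Subgroup.centralizer ((cj m (Subgroup.zpowers z) : Subgroup G) : Set G) :=
      ⟨conj_mem_sigmaCore hmM y.2.1, hc⟩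
    rw [h, Subgroup.mem_bot] at h1
    apply Subtype.ext
    have h2 : (y : G) = m⁻¹ * (m * (y : G) * m⁻¹) * m := by group
    rw [h2, h1]; simp
  obtain ⟨hCM, huniq⟩ := thmB_e hG hU (h125b_of h125) (h125e_of h125) h126a hM hKU
    (cj m (Subgroup.zpowers z)) hmY hX1 hXc
  rw [Cfsg.Agent.Helper29.BG11.centralizer_cj, centralizer_zpowers] at hCM huniq
  have hm' : m⁻¹ ∈ M := M.inv_mem hmM
  refine ⟨?_, ?_⟩
  · have h1 := cj_mono (g := m⁻¹) hCM
    rwa [cj_inv_cj, cj_eq_self_of_mem hm'] at h1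
  · intro L hL hCL
    have h1 : cj m L = M :=
      huniq (cj m L) (Cfsg.Agent.Helper29.BG11.isCoatom_cj hL m) (cj_mono hCL)
    have h2 := congrArg (cj m⁻¹) h1
    rwa [cj_inv_cj, cj_eq_self_of_mem hm'] at h2

/-- `M` normalizes `U M_σ` -/
theorem conj_mem_U_sup {M K U : Subgroup G} (hKU : Cfsg.IsSigmaDecomposition M K U) {m a : G}
    (hm : m ∈ M) (ha : a ∈ U ⊔ Cfsg.sigmaCore M) : m * a * m⁻¹ ∈ U ⊔ Cfsg.sigmaCore M := by
  have hUM : U ≤ M := Cfsg.Agent.Helper55.BGU.U_le hKU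
  -- elements of `U`, `K`, `M_σ` normalize `U M_σ`
  have hN : ∀ c : G, c ∈ Subgroup.normalizer (U : Set G) → c ∈ M →
      c ∈ Subgroup.normalizer ((U ⊔ Cfsg.sigmaCore M : Subgroup G) : Set G) := by
    intro c hcU hcM
    apply mem_normalizer_of_cj_eq
    have h1 : cj c (U ⊔ Cfsg.sigmaCore M) = cj c U ⊔ cj c (Cfsg.sigmaCore M) := by
      unfold cj; exact Subgroup.map_sup _ _ _
    rw [h1, cj_eq_of_mem_normalizer hcU,
      cj_eq_of_mem_normalizer (le_normalizer_sigmaCore M hcM)]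
  obtain ⟨u, hu, b, hb, rfl⟩ := hKU.compl.2.2.2 m hm
  have hbN : b ∈ Subgroup.normalizer ((U ⊔ Cfsg.sigmaCore M : Subgroup G) : Set G) := by
    have hle : K ⊔ Cfsg.sigmaCore M ≤
        Subgroup.normalizer ((U ⊔ Cfsg.sigmaCore M : Subgroup G) : Set G) := by
      apply sup_le
      · intro k hk
        exact hN k (hKU.normal hk) (hKU.hall.1 hk)
      · exact le_sup_right.trans Subgroup.le_normalizer
    exact hle hb
  have huN : u ∈ Subgroup.normalizer ((U ⊔ Cfsg.sigmaCore M : Subgroup G) : Set G) :=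
    Subgroup.le_normalizer (le_sup_left (a := U) hu)
  have := (Subgroup.mem_normalizer_iff.1 (Subgroup.mul_mem _ huN hbN) a).1 ha
  exact this

/-- `M` normalizes `A(M) - M_σ` -/
theorem conj_mem_sigmaA_diff {M K U : Subgroup G} (hKU : Cfsg.IsSigmaDecomposition M K U)
    {m a : G} (hm : m ∈ M) (ha : a ∈ Cfsg.sigmaA M U \ (Cfsg.sigmaCore M : Set G)) :
    m * a * m⁻¹ ∈ Cfsg.sigmaA M U \ (Cfsg.sigmaCore M : Set G) := by
  obtain ⟨⟨⟨haM, y, hy, hy1, hay⟩, haUS⟩, haS⟩ := ha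
  refine ⟨⟨⟨M.mul_mem (M.mul_mem hm haM) (M.inv_mem hm), m * y * m⁻¹, conj_mem_sigmaCore hm hy,
    ?_, ?_⟩, conj_mem_U_sup hKU hm haUS⟩, ?_⟩
  · intro h
    apply hy1
    have : y = m⁻¹ * (m * y * m⁻¹) * m := by group
    rw [this, h]; simp
  · have e1 : m * a * m⁻¹ * (m * y * m⁻¹) = m * (a * y) * m⁻¹ := by group
    have e2 : m * y * m⁻¹ * (m * a * m⁻¹) = m * (y * a) * m⁻¹ := by group
    rw [e1, e2, hay]
  · intro h
    apply haS
    have h1 := conj_mem_sigmaCore (M.inv_mem hm) h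
    have e : m⁻¹ * (m * a * m⁻¹) * m⁻¹⁻¹ = a := by group
    rw [e] at h1
    exact h1

/-- **Theorem B (f)** (statement S1362), from the statement-shaped hypotheses -/
theorem thmB_f (hG : Cfsg.IsMinSimpleOddOrder G) (hU : UniquenessThm G)
    (h125 : H125 G) (h126a : H126a G)
    {M K U : Subgroup G} (hM : IsCoatom M) (hKU : Cfsg.IsSigmaDecomposition M K U) :
    Cfsg.IsTISubset (Cfsg.sigmaA M U \ (Cfsg.sigmaCore M : Set G)) := by
  intro g hg x hx hgx
  exfalso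
  apply hg
  have hUM : U ≤ M := Cfsg.Agent.Helper55.BGU.U_le hKU
  set n := Nat.card (Cfsg.sigmaCore M) with hn
  -- the `σ(M)'`-part of an element of `A(M) - M_σ`
  have key : ∀ a : G, a ∈ Cfsg.sigmaA M U \ (Cfsg.sigmaCore M : Set G) →
      a ^ n ∈ M ∧ a ^ n ≠ 1 ∧ (a ^ n) ^ Nat.card U = 1 ∧
        Cfsg.sigmaCore M ⊓ Subgroup.centralizer ({a ^ n} : Set G) ≠ ⊥ := by
    rintro a ⟨⟨⟨haM, y, hy, hy1, hay⟩, haUS⟩, haS⟩
    refine ⟨M.pow_mem haM n, ?_, ?_, ?_⟩
    · intro h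
      exact haS (mem_sigmaCore_of_pow_card hG hU hM haM h)
    · have h1 : (⟨a, haUS⟩ : ↥(U ⊔ Cfsg.sigmaCore M)) ^ Nat.card ↥(U ⊔ Cfsg.sigmaCore M) = 1 :=
        pow_card_eq_one'
      have h2 : a ^ Nat.card ↥(U ⊔ Cfsg.sigmaCore M) = 1 := by
        have := congrArg Subtype.val h1
        rw [Subgroup.coe_pow] at this
        exact this
      rw [← pow_mul, mul_comm, ← card_U_sup_sigmaCore hKU]
      exact h2
    · intro h
      apply hy1
      have hc : y ∈ Subgroup.centralizer ({a ^ n} : Set G) := by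
        rw [Subgroup.mem_centralizer_iff]
        intro z hz
        rw [Set.mem_singleton_iff] at hz
        subst hz
        have h1 : Commute a y := hay
        exact (h1.pow_left n).eq
      have h2 : y ∈ Cfsg.sigmaCore M ⊓ Subgroup.centralizer ({a ^ n} : Set G) := ⟨hy, hc⟩
      rwa [h, Subgroup.mem_bot] at h2
  obtain ⟨hzM, hz1, hzU, hzc⟩ := key x hx
  obtain ⟨hz'M, hz'1, hz'U, hz'c⟩ := key _ hgx
  obtain ⟨hCz, -⟩ := unique_of_pow_card_U hG hU h125 h126a hM hKU hzM hz1 hzU hzc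
  obtain ⟨-, huniq'⟩ := unique_of_pow_card_U hG hU h125 h126a hM hKU hz'M hz'1 hz'U hz'c
  -- `C_G(g z g⁻¹) ≤ g M g⁻¹`
  have hle : Subgroup.centralizer ({(g * x * g⁻¹) ^ n} : Set G) ≤ cj g M := by
    intro c hc
    rw [mem_cj]
    apply hCz
    rw [Subgroup.mem_centralizer_iff] at hc ⊢
    intro z hz
    rw [Set.mem_singleton_iff] at hz
    subst hz
    have h1 := hc ((g * x * g⁻¹) ^ n) rfl
    rw [conj_pow] at h1
    have e1 : x ^ n * (g⁻¹ * c * g) = g⁻¹ * (g * x ^ n * g⁻¹ * c) * g := by group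
    have e2 : g⁻¹ * c * g * x ^ n = g⁻¹ * (c * (g * x ^ n * g⁻¹)) * g := by group
    rw [e1, e2, h1]
  have hgM : cj g M = M := huniq' (cj g M) (Cfsg.Agent.Helper29.BG11.isCoatom_cj hM g) hle
  have hgN : g ∈ Subgroup.normalizer (M : Set G) := mem_normalizer_of_cj_eq hgM
  -- `N_G(M) = M`
  have hNM : Subgroup.normalizer (M : Set G) = M := by
    rcases hM.le_iff.mp (Subgroup.le_normalizer (H := M)) with h1 | h1
    · exfalso
      haveI : IsSimpleGroup G := hG.2.1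
      have hn' : M.Normal := Subgroup.normalizer_eq_top_iff.mp h1
      rcases hn'.eq_bot_or_eq_top with h2 | h2
      · apply hz1
        have := hzM
        rwa [h2, Subgroup.mem_bot] at this
      · exact hM.1 h2
    · exact h1
  rw [hNM] at hgN
  rw [Subgroup.mem_set_normalizer_iff]
  intro a
  constructor
  · exact conj_mem_sigmaA_diff hKU hgN
  · intro ha
    have h1 := conj_mem_sigmaA_diff hKU (M.inv_mem hgN) ha
    have e : g⁻¹ * (g * a * g⁻¹) * g⁻¹⁻¹ = a := by group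
    rwa [e] at h1

end Cfsg.Agent.Helper55.BGThmB
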