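import Mathlib
import Cfsg.Prelude.Def_OddOrderLocal
import Cfsg.Agent.Helper52.NormalRankTwo
import Cfsg.Agent.Helper54.BGUnique3
import Cfsg.Agent.Helper23.RankTwo

set_option autoImplicit false
set_option linter.unusedSectionVars false
set_option linter.unusedVariables false
set_option linter.style.haveILetI false

/-!
# B-G Lemma 5.3 (narrow `p`-groups), helper55

For `p` odd, a finite `p`-group `R` of rank at least `3` having a maximal elementary abelian subgroup
of order `p ^ 2` is narrow in the sense of `Cfsg.IsNarrow`: it has a subgroup `R₀` of order `p` with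
`C_R(R₀) = R₀ × R₁`, `R₁` cyclic.
-/

namespace Cfsg.Agent.Helper55.Narrow

open Cfsg

variable {R : Type*} [Group R] [Finite R] {p : ℕ}

theorem isElementaryAbelian_zpowers {x : R} (hx : x ^ p = 1) :
    Cfsg.IsElementaryAbelian p (Subgroup.zpowers x) := by
  refine ⟨?_, ?_⟩
  · rw [Cfsg.Agent.Helper23.isMulCommutative_subgroup_iff]
    intro a ha b hb
    obtain ⟨i, rfl⟩ := Subgroup.mem_zpowers_iff.mp ha
    obtain ⟨j, rfl⟩ := Subgroup.mem_zpowers_iff.mp hb
    rw [← zpow_add, ← zpow_add, add_comm]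
  · intro a ha
    obtain ⟨i, rfl⟩ := Subgroup.mem_zpowers_iff.mp ha
    rw [← zpow_natCast, ← zpow_mul, mul_comm, zpow_mul, zpow_natCast, hx, one_zpow]

theorem isNarrow_of_maximal_sq [hp : Fact p.Prime] (hp2 : p ≠ 2) (hR : IsPGroup p R)
    (hr : ¬ Cfsg.PRankLE p 2 R) (A : Subgroup R) (hA : Cfsg.IsElementaryAbelian p A)
    (hAc : Nat.card A = p ^ 2)
    (hmax : ∀ B : Subgroup R, Cfsg.IsElementaryAbelian p B → A ≤ B → B = A) :
    Cfsg.IsNarrow p R := by
  classical
  have hpp : p.Prime := hp.out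
  have hAcomm := (Cfsg.Agent.Helper23.isMulCommutative_subgroup_iff A).mp hA.1
  -- an elementary abelian subgroup commuting with `A` lies in `A`
  have hkey2 : ∀ B : Subgroup R, Cfsg.IsElementaryAbelian p B →
      (∀ a ∈ A, ∀ b ∈ B, a * b = b * a) → B ≤ A := by
    intro B hB hc
    have h1 := Cfsg.Agent.Helper23.isElementaryAbelian_sup_of_commute hA hB hc
    have h2 := hmax _ h1 le_sup_left
    rw [← h2]
    exact le_sup_right
  have hkey : ∀ x : R, x ^ p = 1 → (∀ a ∈ A, a * x = x * a) → x ∈ A := by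
    intro x hx hc
    apply hkey2 _ (isElementaryAbelian_zpowers hx) _ (Subgroup.mem_zpowers x)
    intro a ha b hb
    obtain ⟨i, rfl⟩ := Subgroup.mem_zpowers_iff.mp hb
    exact ((Commute.zpow_right (hc a ha) i : Commute a (x ^ i))).eq
  -- a big elementary abelian subgroup
  obtain ⟨B3, hB3c, hB3e, hB3card⟩ : ∃ B3 : Subgroup R, IsMulCommutative B3 ∧
      (∀ a ∈ B3, a ^ p = 1) ∧ p ^ 2 < Nat.card B3 := by
    unfold Cfsg.PRankLE at hr
    push Not at hr
    exact hr
  have hRnc : ¬ IsCyclic (⊤ : Subgroup R) :=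
    Cfsg.Agent.Helper54.BGU.not_isCyclic_of_exp_le (le_top : B3 ≤ ⊤) hB3e
      (lt_of_le_of_lt (by nlinarith [hpp.one_lt]) hB3card)
  obtain ⟨W, -, hWn, hWe, hWc⟩ :=
    Cfsg.Agent.Helper52.exists_normal_elementaryAbelian_sq hp2 hR (⊤ : Subgroup R) hRnc
  haveI := hWn
  set T : Subgroup R := Subgroup.centralizer (W : Set R) with hT
  have hTn : T.Normal := Subgroup.normal_centralizer
  have hidx : ∀ X : Subgroup R, Nat.card X ≤ p * Nat.card (X ⊓ T : Subgroup R) :=
    fun X => Cfsg.Agent.Helper54.BGU.card_le_mul_card_inf_centralizer_sq hR W hWc X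
  -- `A` is not contained in `T`
  have hAT : ¬ A ≤ T := by
    intro h
    have hWA : W ≤ A := by
      apply hkey2 W hWe
      intro a ha w hw
      exact ((Subgroup.mem_centralizer_iff.mp (h ha)) w hw).symm
    have hWA' : W = A := Subgroup.eq_of_le_of_card_ge hWA (by rw [hAc, hWc])
    have h1 : B3 ⊓ T ≤ A := by
      apply hkey2 (B3 ⊓ T)
      · refine ⟨?_, fun b hb => hB3e b hb.1⟩
        rw [Cfsg.Agent.Helper23.isMulCommutative_subgroup_iff]
        intro x hx y hy
        exact (Cfsg.Agent.Helper23.isMulCommutative_subgroup_iff B3).mp hB3c x hx.1 y hy.1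
      · intro a ha b hb
        exact (Subgroup.mem_centralizer_iff.mp hb.2) a (hWA' ▸ ha)
    have h2 := hidx B3
    have h4 : p ^ 3 ≤ Nat.card B3 :=
      Cfsg.Agent.Helper54.BGU.pow_succ_le_card_of_lt hB3e hB3card
    have h5 : p ^ 2 ≤ Nat.card (B3 ⊓ T : Subgroup R) := by
      have : p * p ^ 2 ≤ p * Nat.card (B3 ⊓ T : Subgroup R) := by
        calc p * p ^ 2 = p ^ 3 := by ring
          _ ≤ Nat.card B3 := h4
          _ ≤ _ := h2
      exact Nat.le_of_mul_le_mul_left this hpp.pos
    have h6 : B3 ⊓ T = A := Subgroup.eq_of_le_of_card_ge h1 (by rw [hAc]; exact h5)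
    have h7 : A ≤ B3 := h6 ▸ inf_le_left
    have h8 := hmax B3 ⟨hB3c, hB3e⟩ h7
    rw [h8, hAc] at hB3card
    exact lt_irrefl _ hB3card
  obtain ⟨a, haA, haT⟩ := SetLike.not_le_iff_exists.mp hAT
  have ha_p : a ^ p = 1 := hA.2 a haA
  have ha1 : a ≠ 1 := fun h => haT (h ▸ T.one_mem)
  have hord : orderOf a = p := orderOf_eq_prime ha_p ha1
  -- `T` has index `p`
  have hTtop : T ≠ ⊤ := fun h => haT (h ▸ Subgroup.mem_top a)
  have hTidx : T.index = p := by
    obtain ⟨n, hn⟩ := hR.index T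
    have h1 := hidx ⊤
    rw [top_inf_eq, Subgroup.card_top, ← Subgroup.card_mul_index T] at h1
    have hTpos : 0 < Nat.card T := Nat.card_pos
    have h2 : T.index ≤ p := by
      rw [mul_comm p] at h1
      exact Nat.le_of_mul_le_mul_left h1 hTpos
    have hn0 : n ≠ 0 := by
      intro h0
      rw [h0, pow_zero] at hn
      exact hTtop (Subgroup.index_eq_one.mp hn)
    rw [hn] at h2 ⊢
    have hn1 : n ≤ 1 := by
      by_contra hcon
      push Not at hcon
      have : p ^ 2 ≤ p ^ n := Nat.pow_le_pow_right hpp.pos hcon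
      nlinarith [hpp.one_lt]
    have : n = 1 := by omega
    rw [this, pow_one]
  set R₀ : Subgroup R := Subgroup.zpowers a with hR₀
  have hR₀card : Nat.card R₀ = p := by rw [hR₀, Nat.card_zpowers, hord]
  have hTR₀ : T ⊔ R₀ = ⊤ := by
    have h1 := Subgroup.relIndex_mul_index (le_sup_left : T ≤ T ⊔ R₀)
    rw [hTidx] at h1
    rcases (Nat.dvd_prime hpp).mp (Dvd.intro_left _ h1) with h | h
    · exact Subgroup.index_eq_one.mp h
    · exfalso
      rw [h] at h1
      have h2 : T.relIndex (T ⊔ R₀) = 1 := by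
        have := Nat.eq_of_mul_eq_mul_right hpp.pos (by rw [h1, one_mul] : T.relIndex (T ⊔ R₀) * p = 1 * p)
        exact this
      have h3 : T ⊔ R₀ ≤ T := Subgroup.relIndex_eq_one.mp h2
      exact haT (h3 ((le_sup_right : R₀ ≤ T ⊔ R₀) (Subgroup.mem_zpowers a)))
  -- a central element of order `p`
  haveI : Nontrivial R := by
    by_contra hnt
    rw [not_nontrivial_iff_subsingleton] at hnt
    exact ha1 (Subsingleton.elim a 1)
  obtain ⟨z, hzc, hzo⟩ : ∃ z ∈ Subgroup.center R, orderOf z = p := by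
    haveI := hR.center_nontrivial
    have hcp : IsPGroup p (Subgroup.center R) := hR.to_subgroup _
    have hdvd : p ∣ Nat.card (Subgroup.center R) := by
      obtain ⟨n, hn⟩ := hcp.exists_card_eq
      have : n ≠ 0 := by
        intro h0
        rw [h0, pow_zero] at hn
        have := (Subgroup.card_eq_one (H := Subgroup.center R)).mp hn
        exact (Subgroup.nontrivial_iff_ne_bot _).mp inferInstance this
      rw [hn]
      exact dvd_pow_self p this
    obtain ⟨z, hz⟩ := exists_prime_orderOf_dvd_card' p hdvd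
    exact ⟨z.1, z.2, by rw [← hz, Subgroup.orderOf_coe]⟩
  have hz_p : z ^ p = 1 := by rw [← hzo]; exact pow_orderOf_eq_one z
  have hz1 : z ≠ 1 := by
    intro h
    rw [h, orderOf_one] at hzo
    exact hpp.one_lt.ne hzo
  have hzcomm : ∀ x : R, x * z = z * x := fun x => ((Subgroup.mem_center_iff.mp hzc) x)
  have hzA : z ∈ A := hkey z hz_p (fun a' _ => hzcomm a')
  have hzT : z ∈ T := by
    rw [hT, Subgroup.mem_centralizer_iff]
    intro w _
    exact hzcomm w
  -- `A ⊓ T = ⟨z⟩`
  have hATz : A ⊓ T = Subgroup.zpowers z := by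
    have hle : Subgroup.zpowers z ≤ A ⊓ T := by
      rw [Subgroup.zpowers_le]
      exact ⟨hzA, hzT⟩
    have hzcard : Nat.card (Subgroup.zpowers z) = p := by rw [Nat.card_zpowers, hzo]
    have hdvd : Nat.card (A ⊓ T : Subgroup R) ∣ p ^ 2 := by
      rw [← hAc]
      exact Subgroup.card_dvd_of_le inf_le_left
    obtain ⟨m, hm2, hm⟩ := (Nat.dvd_prime_pow hpp).mp hdvd
    have hm_ne2 : m ≠ 2 := by
      intro h2
      rw [h2] at hm
      have : A ⊓ T = A := Subgroup.eq_of_le_of_card_ge inf_le_left (by rw [hm, hAc])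
      exact hAT (this ▸ inf_le_right)
    have hm_ne0 : m ≠ 0 := by
      intro h0
      rw [h0, pow_zero] at hm
      have := (Subgroup.card_eq_one (H := A ⊓ T)).mp hm
      have hz' : z ∈ (A ⊓ T : Subgroup R) := ⟨hzA, hzT⟩
      rw [this, Subgroup.mem_bot] at hz'
      exact hz1 hz'
    have hm1 : m = 1 := by omega
    rw [hm1, pow_one] at hm
    exact (Subgroup.eq_of_le_of_card_ge hle (by rw [hm, hzcard])).symm
  set R₁ : Subgroup R := T ⊓ Subgroup.centralizer (R₀ : Set R) with hR₁
  have hR₀comm : R₀ ≤ Subgroup.centralizer (R₀ : Set R) := by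
    intro x hx
    rw [Subgroup.mem_centralizer_iff]
    intro y hy
    obtain ⟨i, rfl⟩ := Subgroup.mem_zpowers_iff.mp hx
    obtain ⟨j, rfl⟩ := Subgroup.mem_zpowers_iff.mp hy
    rw [← zpow_add, ← zpow_add, add_comm]
  -- `R₀ ⊓ T = ⊥`
  have hR₀T : R₀ ⊓ T = ⊥ := by
    have hdvd : Nat.card (R₀ ⊓ T : Subgroup R) ∣ p := by
      rw [← hR₀card]
      exact Subgroup.card_dvd_of_le inf_le_left
    rcases (Nat.dvd_prime hpp).mp hdvd with h | h
    · exact (Subgroup.card_eq_one).mp h
    · exfalso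
      have : R₀ ⊓ T = R₀ := Subgroup.eq_of_le_of_card_ge inf_le_left (by rw [h, hR₀card])
      exact haT ((this ▸ inf_le_right : R₀ ≤ T) (Subgroup.mem_zpowers a))
  -- every element of order dividing `p` in `R₁` lies in `⟨z⟩`
  have hR₁el : ∀ x ∈ R₁, x ^ p = 1 → x ∈ Subgroup.zpowers z := by
    intro x hx hxp
    have hxa : a * x = x * a :=
      (Subgroup.mem_centralizer_iff.mp hx.2) a (Subgroup.mem_zpowers a)
    have hxA : x ∈ A := by
      apply hkey x hxp
      intro a' ha'
      -- a' = t * r with t ∈ T, r ∈ R₀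
      have h1 : a' ∈ T ⊔ R₀ := hTR₀ ▸ Subgroup.mem_top a'
      rw [← SetLike.mem_coe, Subgroup.normal_mul] at h1
      obtain ⟨t, ht, r, hr0, rfl⟩ := Set.mem_mul.mp h1
      have hrA : r ∈ A := by
        obtain ⟨i, rfl⟩ := Subgroup.mem_zpowers_iff.mp hr0
        exact A.zpow_mem haA i
      have htA : t ∈ A := by
        have : t = t * r * r⁻¹ := by group
        rw [this]
        exact A.mul_mem ha' (A.inv_mem hrA)
      have htz : t ∈ Subgroup.zpowers z := hATz ▸ (⟨htA, ht⟩ : t ∈ A ⊓ T)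
      obtain ⟨i, rfl⟩ := Subgroup.mem_zpowers_iff.mp htz
      obtain ⟨j, rfl⟩ := Subgroup.mem_zpowers_iff.mp hr0
      have c1 : Commute (z ^ i) x := Commute.zpow_left (show Commute z x from (hzcomm x).symm) i
      have c2 : Commute (a ^ j) x := Commute.zpow_left (show Commute a x from hxa) j
      exact (c1.mul_left c2).eq
    exact hATz ▸ (⟨hxA, hx.1⟩ : x ∈ A ⊓ T)
  refine Or.inr ⟨R₀, R₁, hR₀card, ?_, ?_, ?_, ?_⟩
  · -- `R₁` is cyclic
    by_contra hnc
    have hR₁p : IsPGroup p R₁ := hR.to_subgroup _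
    have h1 := Cfsg.Agent.Helper54.BGU.not_rankLE_one_of_not_isCyclic hp2 hR₁p hnc
    apply h1
    intro q hq E hEc hEe
    by_cases hqp : q = p
    · subst hqp
      have hle : E.map R₁.subtype ≤ Subgroup.zpowers z := by
        rintro _ ⟨e, he, rfl⟩
        apply hR₁el _ e.2
        have := hEe e he
        have h2 := congrArg Subtype.val this
        simpa using h2
      have h3 := Subgroup.card_le_of_le hle
      rw [Subgroup.card_map_of_injective R₁.subtype_injective, Nat.card_zpowers, hzo] at h3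
      simpa using h3
    · -- a `q`-elementary subgroup of a `p`-group is trivial
      have hE1 : E = ⊥ := by
        rw [Subgroup.eq_bot_iff_forall]
        intro e he
        have h2 : e ^ q = 1 := hEe e he
        obtain ⟨k, hk⟩ := (hR₁p e)
        have hcop : Nat.Coprime q (p ^ k) :=
          Nat.Coprime.pow_right k ((Nat.coprime_primes hq hpp).mpr hqp)
        have h3 : orderOf e ∣ Nat.gcd q (p ^ k) :=
          Nat.dvd_gcd (orderOf_dvd_of_pow_eq_one h2) (orderOf_dvd_of_pow_eq_one hk)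
        rw [hcop, Nat.dvd_one, orderOf_eq_one_iff] at h3
        exact h3
      rw [hE1, Subgroup.card_bot]
      exact Nat.one_le_pow _ _ hq.pos
  · -- `R₀ ⊓ R₁ = ⊥`
    rw [eq_bot_iff, ← hR₀T]
    exact fun x hx => ⟨hx.1, hx.2.1⟩
  · intro x hx y hy
    exact (Subgroup.mem_centralizer_iff.mp hy.2) x hx
  · apply le_antisymm
    · exact sup_le hR₀comm inf_le_right
    · intro x hx
      have h1 : x ∈ T ⊔ R₀ := hTR₀ ▸ Subgroup.mem_top x
      rw [← SetLike.mem_coe, Subgroup.normal_mul] at h1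
      obtain ⟨t, ht, r, hr0, rfl⟩ := Set.mem_mul.mp h1
      have htc : t ∈ Subgroup.centralizer (R₀ : Set R) := by
        have : t = t * r * r⁻¹ := by group
        rw [this]
        exact Subgroup.mul_mem _ hx (Subgroup.inv_mem _ (hR₀comm hr0))
      exact Subgroup.mul_mem _ (Subgroup.mem_sup_right ⟨ht, htc⟩) (Subgroup.mem_sup_left hr0)

end Cfsg.Agent.Helper55.Narrow
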