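import Mathlib
import Cfsg.Prelude.Def_OddOrderLocal
import Cfsg.Agent.Lib.Cores
import Cfsg.Agent.Helper64.PNilp
import Cfsg.Agent.Helper54.BGUnique2
import Cfsg.Agent.Helper55.Narrow
import Cfsg.Agent.Helper29.BG10F
import Cfsg.Agent.S1455
import Cfsg.Agent.S1886

set_option autoImplicit false
set_option linter.unusedSectionVars false
set_option linter.unusedVariables false
set_option linter.style.haveILetI false

/-!
# B-G Lemma 10.8 (`M_β` is a Hall subgroup; nilpotent Hall `β(M)'`-subgroups of `M'` and `M_σ`;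
normal `p`-complements for `p ∉ β(M)`), given the Uniqueness Theorem and `p`-length one (helper55)
-/

namespace Cfsg.Agent.Helper55.BG108

open Cfsg

section Abstract

variable {Γ : Type*} [Group Γ] [Finite Γ]

/-- A finite group with normal `p`-complements for all primes `p ∉ β` has a nilpotent Hall
`β'`-subgroup. -/
theorem exists_nilpotent_hall (β : Set ℕ)
    (h : ∀ p : ℕ, p.Prime → p ∉ β → p ∣ Nat.card Γ → Cfsg.HasNormalPComplement p Γ) :
    ∃ H : Subgroup Γ, Group.IsNilpotent H ∧ (∀ q : ℕ, q.Prime → q ∣ Nat.card H → q ∉ β) ∧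
      ∀ q : ℕ, q.Prime → q ∉ β → ¬ q ∣ H.index := by
  classical
  have h' : ∀ p : ℕ, ∃ N : Subgroup Γ, N.Normal ∧ ((p.Prime ∧ p ∉ β ∧ p ∣ Nat.card Γ) →
      (Nat.card N).Coprime p ∧ ∃ k : ℕ, N.index = p ^ k) := by
    intro p
    by_cases hp : p.Prime ∧ p ∉ β ∧ p ∣ Nat.card Γ
    · haveI : Fact p.Prime := ⟨hp.1⟩
      obtain ⟨N, hNn, hNc, k, hk⟩ :=
        Cfsg.Agent.Helper64.hasNormalPComplement_iff_exists.mp (h p hp.1 hp.2.1 hp.2.2)
      exact ⟨N, hNn, fun _ => ⟨hNc, k, hk⟩⟩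
    · exact ⟨⊤, inferInstance, fun h => absurd h hp⟩
  choose np hnpn hnp using h'
  haveI : ∀ p, (np p).Normal := hnpn
  set F : Set ℕ := {p | p.Prime ∧ p ∉ β ∧ p ∣ Nat.card Γ} with hF
  have hFfin : F.Finite := by
    apply Set.Finite.subset (Finset.finite_toSet (Nat.card Γ).primeFactors)
    intro p hp
    simp only [Finset.mem_coe, Nat.mem_primeFactors]
    exact ⟨hp.1, hp.2.2, Nat.card_pos.ne'⟩
  haveI : Finite F := hFfin.to_subtype
  set N : Subgroup Γ := ⨅ p : F, np p.1 with hN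
  haveI hNn : N.Normal := Subgroup.normal_iInf_normal (fun p => hnpn p.1)
  have hNβ : ∀ q : ℕ, q.Prime → q ∣ Nat.card N → q ∈ β := by
    intro q hq hd
    by_contra hqβ
    have hqΓ : q ∣ Nat.card Γ := hd.trans (Subgroup.card_subgroup_dvd_card N)
    have hqF : q ∈ F := ⟨hq, hqβ, hqΓ⟩
    have hle : N ≤ np q := iInf_le (fun p : F => np p.1) ⟨q, hqF⟩
    have h1 := (hnp q hqF).1
    have hd' : q ∣ Nat.card (np q) := hd.trans (Subgroup.card_dvd_of_le hle)
    exact (Nat.Prime.coprime_iff_not_dvd hq).mp h1.symm hd'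
  have hNidx : ∀ q : ℕ, q.Prime → q ∈ β → ¬ q ∣ N.index := by
    intro q hq hqβ
    haveI : Fact q.Prime := ⟨hq⟩
    obtain ⟨Q⟩ : Nonempty (Sylow q Γ) := inferInstance
    have hQN : (Q : Subgroup Γ) ≤ N := by
      refine le_iInf fun p => ?_
      obtain ⟨hp, hpβ, hpΓ⟩ := p.2
      obtain ⟨_, k, hk⟩ := hnp p.1 p.2
      apply Cfsg.Agent.Helper54.BGU.le_of_normal_of_coprime_index (np p.1) _ _ Q.2
      rw [hk]
      apply Nat.Coprime.pow_left
      rw [Nat.coprime_primes hp hq]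
      rintro rfl
      exact hpβ hqβ
    intro hd
    exact Q.not_dvd_index (hd.trans (Subgroup.index_dvd_of_le hQN))
  have hcop : Nat.Coprime (Nat.card N) N.index :=
    Nat.coprime_of_dvd (fun k hk hd => hNidx k hk (hNβ k hk hd))
  obtain ⟨H, hH⟩ := Subgroup.exists_right_complement'_of_coprime hcop
  refine ⟨H, ?_, ?_, ?_⟩
  · -- nilpotency
    haveI : ∀ p : F, Group.IsNilpotent (Γ ⧸ np p.1) := by
      intro p
      obtain ⟨hp, hpβ, hpΓ⟩ := p.2
      haveI : Fact p.1.Prime := ⟨hp⟩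
      obtain ⟨_, k, hk⟩ := hnp p.1 p.2
      apply IsPGroup.isNilpotent (p := p.1)
      apply IsPGroup.of_card (n := k)
      rw [← hk, Subgroup.index_eq_card]
    let ψ : Γ →* (∀ p : F, Γ ⧸ np p.1) := MonoidHom.pi (fun p => QuotientGroup.mk' (np p.1))
    have hinj : Function.Injective (ψ.comp H.subtype) := by
      rw [injective_iff_map_eq_one]
      intro x hx
      have hxN : (x : Γ) ∈ N := by
        rw [hN, Subgroup.mem_iInf]
        intro p
        have := congrFun hx p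
        simpa [ψ, QuotientGroup.eq_one_iff] using this
      have := (Subgroup.disjoint_def.mp hH.disjoint) hxN x.2
      exact Subtype.ext this
    have e := MonoidHom.ofInjective hinj
    haveI : Group.IsNilpotent (∀ p : F, Γ ⧸ np p.1) := Group.isNilpotent_pi
    haveI : Group.IsNilpotent (ψ.comp H.subtype).range := Subgroup.isNilpotent _
    exact Group.nilpotent_of_mulEquiv e.symm
  · intro q hq hd hqβ
    rw [← hH.symm.index_eq_card] at hd
    exact hNidx q hq hqβ hd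
  · intro q hq hqβ hd
    rw [hH.index_eq_card] at hd
    exact hqβ (hNβ q hq hd)


/-- a `p`-subgroup inside `O_{q',q}` (`p ≠ q`) lies in `O_{q'}` -/
theorem le_pPrimeCore_of_le_pPrimePCore {p q : ℕ} (hp : p.Prime) (hq : q.Prime) (hpq : p ≠ q)
    (P : Subgroup Γ) (hP : IsPGroup p P) (hle : P ≤ Cfsg.pPrimePCore q Γ) :
    P ≤ Cfsg.pPrimeCore q Γ := by
  intro x hx
  have h1 : QuotientGroup.mk' (Cfsg.pPrimeCore q Γ) x ∈
      Cfsg.pCore q (Γ ⧸ Cfsg.pPrimeCore q Γ) := hle hx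
  obtain ⟨a, ha⟩ := (Cfsg.Agent.Lib.isPGroup_pCore q) ⟨_, h1⟩
  obtain ⟨b, hb⟩ := hP ⟨x, hx⟩
  have hb' : x ^ p ^ b = 1 := by simpa using congrArg Subtype.val hb
  have ha' : (QuotientGroup.mk' (Cfsg.pPrimeCore q Γ) x) ^ q ^ a = 1 := by
    simpa using congrArg Subtype.val ha
  have h2 : orderOf (QuotientGroup.mk' (Cfsg.pPrimeCore q Γ) x) ∣ p ^ b :=
    orderOf_dvd_of_pow_eq_one (by rw [← map_pow, hb', map_one])
  have h3 : orderOf (QuotientGroup.mk' (Cfsg.pPrimeCore q Γ) x) ∣ q ^ a :=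
    orderOf_dvd_of_pow_eq_one ha'
  have hcop : Nat.Coprime (p ^ b) (q ^ a) :=
    Nat.Coprime.pow _ _ ((Nat.coprime_primes hp hq).mpr hpq)
  have h4 := Nat.eq_one_of_dvd_coprimes hcop h2 h3
  rw [orderOf_eq_one_iff, QuotientGroup.mk'_apply, QuotientGroup.eq_one_iff] at h4
  exact h4

/-- transport of a Hall-type subgroup of a subgroup `K` (as a type) to a subgroup of `Γ` -/
theorem exists_nilpotent_hall_in (β : Set ℕ) (K : Subgroup Γ)
    (h : ∀ p : ℕ, p.Prime → p ∉ β → p ∣ Nat.card K → Cfsg.HasNormalPComplement p ↥K) :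
    ∃ H : Subgroup Γ, H ≤ K ∧ Group.IsNilpotent H ∧
      (∀ q : ℕ, q.Prime → q ∣ Nat.card H → q ∉ β) ∧
      ∀ q : ℕ, q.Prime → q ∉ β → ¬ q ∣ H.relIndex K := by
  obtain ⟨H', hnil, h1, h2⟩ := exists_nilpotent_hall (Γ := ↥K) β h
  refine ⟨H'.map K.subtype, Subgroup.map_subtype_le _, ?_, ?_, ?_⟩
  · haveI := hnil
    exact Group.nilpotent_of_mulEquiv (H'.equivMapOfInjective K.subtype K.subtype_injective)
  · intro q hq hd
    rw [Subgroup.card_map_of_injective K.subtype_injective] at hd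
    exact h1 q hq hd
  · intro q hq hqβ
    rw [Cfsg.Agent.Helper29.BG10.relIndex_map_subtype]
    exact h2 q hq hqβ

/-- the abstract core of B-G Lemma 10.8 -/
theorem core (σ β : Set ℕ) (hβσ : β ⊆ σ)
    (h2 : ∀ p : ℕ, p.Prime → p ∈ σ → ¬ p ∣ (Cfsg.piCore σ Γ).index)
    (h3 : ∀ p : ℕ, p ∈ σ → ∀ [Fact p.Prime] (P : Sylow p Γ), (P : Subgroup Γ) ≤ commutator Γ)
    (h4 : ∀ q : ℕ, q.Prime → q ∣ Nat.card Γ → q ∉ β →
      Cfsg.HasNormalPComplement q ↥(commutator Γ) ∧ commutator Γ ≤ Cfsg.pPrimePCore q Γ) :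
    (∀ p : ℕ, p.Prime → p ∈ β → ¬ p ∣ (Cfsg.piCore β Γ).index) ∧
    (∃ H : Subgroup Γ, H ≤ commutator Γ ∧ Group.IsNilpotent H ∧
        (∀ q : ℕ, q.Prime → q ∣ Nat.card H → q ∉ β) ∧
        ∀ q : ℕ, q.Prime → q ∉ β → ¬ q ∣ H.relIndex (commutator Γ)) ∧
    (∃ H : Subgroup Γ, H ≤ Cfsg.piCore σ Γ ∧ Group.IsNilpotent H ∧
        (∀ q : ℕ, q.Prime → q ∣ Nat.card H → q ∉ β) ∧
        ∀ q : ℕ, q.Prime → q ∉ β → ¬ q ∣ H.relIndex (Cfsg.piCore σ Γ)) ∧
    (∀ q : ℕ, q.Prime → q ∣ Nat.card Γ → q ∉ β →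
      Cfsg.HasNormalPComplement q ↥(Cfsg.piCore σ Γ)) := by
  classical
  -- (★)
  have hstar : ∀ q : ℕ, q.Prime → q ∣ Nat.card Γ → q ∉ β → ∀ p : ℕ, p ∈ σ → p ≠ q →
      ∀ [Fact p.Prime] (P : Sylow p Γ), (P : Subgroup Γ) ≤ Cfsg.pPrimeCore q Γ := by
    intro q hq hqΓ hqβ p hpσ hpq _ P
    exact le_pPrimeCore_of_le_pPrimePCore (Fact.out) hq hpq (P : Subgroup Γ) P.2
      ((h3 p hpσ P).trans (h4 q hq hqΓ hqβ).2)
  -- normal `q`-complements of `O_σ`
  have hC5 : ∀ q : ℕ, q.Prime → q ∣ Nat.card Γ → q ∉ β →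
      Cfsg.HasNormalPComplement q ↥(Cfsg.piCore σ Γ) := by
    intro q hq hqΓ hqβ
    haveI : Fact q.Prime := ⟨hq⟩
    set S : Subgroup Γ := Cfsg.piCore σ Γ with hS
    set K : Subgroup Γ := Cfsg.pPrimeCore q Γ with hK
    rw [Cfsg.Agent.Helper64.hasNormalPComplement_iff_exists]
    refine ⟨K.subgroupOf S, Subgroup.normal_subgroupOf, ?_, ?_⟩
    · have hdvd : Nat.card (K.subgroupOf S) ∣ Nat.card K := by
        rw [← Subgroup.card_map_of_injective (K := K.subgroupOf S) S.subtype_injective]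
        apply Subgroup.card_dvd_of_le
        rw [Subgroup.subgroupOf_map_subtype]
        exact inf_le_left
      exact Nat.Coprime.coprime_dvd_left hdvd (Cfsg.Agent.Lib.card_pPrimeCore_coprime q)
    · have hne : K.relIndex S ≠ 0 := by
        intro h0
        have := Subgroup.relIndex_dvd_card K S
        rw [h0] at this
        exact Nat.card_pos.ne' (Nat.eq_zero_of_zero_dvd this)
      refine ⟨_, Nat.eq_prime_pow_of_unique_prime_dvd (n := K.relIndex S) hne ?_⟩
      intro r hr hrd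
      by_contra hrq
      haveI : Fact r.Prime := ⟨hr⟩
      have hrS : r ∣ Nat.card S := hrd.trans (Subgroup.relIndex_dvd_card K S)
      have hrσ : r ∈ σ := Cfsg.Agent.S1886.piCore_isPi _ r hr hrS
      obtain ⟨R⟩ : Nonempty (Sylow r Γ) := inferInstance
      have hRK : (R : Subgroup Γ) ≤ K := hstar q hq hqΓ hqβ r hrσ hrq R
      have hRS : (R : Subgroup Γ) ≤ S := by
        apply Cfsg.Agent.Helper54.BGU.le_of_normal_of_coprime_index S _ _ R.2
        exact (Nat.Prime.coprime_iff_not_dvd hr).mpr (h2 r hr hrσ) |>.symm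
      have h5 : r ∣ (K ⊓ S).index := by
        have hrd' : r ∣ K.relIndex S := hrd
        rw [← Subgroup.inf_relIndex_right] at hrd'
        exact hrd'.trans (Subgroup.relIndex_dvd_index_of_le inf_le_right)
      exact R.not_dvd_index (h5.trans (Subgroup.index_dvd_of_le (le_inf hRK hRS)))
  refine ⟨?_, ?_, ?_, hC5⟩
  · -- `O_β` is a Hall subgroup
    intro p hp hpβ
    haveI : Fact p.Prime := ⟨hp⟩
    set F : Set ℕ := {q | q.Prime ∧ q ∣ Nat.card Γ ∧ q ∉ β} with hF
    set N₀ : Subgroup Γ := ⨅ q : F, Cfsg.pPrimeCore q.1 Γ with hN₀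
    haveI : N₀.Normal := Subgroup.normal_iInf_normal (fun q => inferInstance)
    have hN₀β : ∀ r : ℕ, r.Prime → r ∣ Nat.card N₀ → r ∈ β := by
      intro r hr hd
      by_contra hrβ
      have hrΓ : r ∣ Nat.card Γ := hd.trans (Subgroup.card_subgroup_dvd_card N₀)
      have hle : N₀ ≤ Cfsg.pPrimeCore r Γ :=
        iInf_le (fun q : F => Cfsg.pPrimeCore q.1 Γ) ⟨r, hr, hrΓ, hrβ⟩
      have hd' : r ∣ Nat.card (Cfsg.pPrimeCore r Γ) := hd.trans (Subgroup.card_dvd_of_le hle)
      exact (Nat.Prime.coprime_iff_not_dvd hr).mp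
        (Cfsg.Agent.Lib.card_pPrimeCore_coprime (G := Γ) r).symm hd'
    obtain ⟨P⟩ : Nonempty (Sylow p Γ) := inferInstance
    have hPN : (P : Subgroup Γ) ≤ N₀ := by
      refine le_iInf fun q => ?_
      obtain ⟨hq, hqΓ, hqβ⟩ := q.2
      exact hstar q.1 hq hqΓ hqβ p (hβσ hpβ) (by rintro rfl; exact hqβ hpβ) P
    have hle : N₀ ≤ Cfsg.piCore β Γ := Cfsg.Agent.S1886.le_piCore _ inferInstance hN₀β
    intro hd
    exact P.not_dvd_index (hd.trans (Subgroup.index_dvd_of_le (hPN.trans hle)))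
  · apply exists_nilpotent_hall_in
    intro p hp hpβ hpd
    exact (h4 p hp (hpd.trans (Subgroup.card_subgroup_dvd_card _)) hpβ).1
  · apply exists_nilpotent_hall_in
    intro p hp hpβ hpd
    exact hC5 p hp (hpd.trans (Subgroup.card_subgroup_dvd_card _)) hpβ

end Abstract

section Transport

/-- `IsNarrow` transports along isomorphisms -/
theorem isNarrow_of_mulEquiv {R S : Type*} [Group R] [Group S] {p : ℕ} (e : R ≃* S)
    (h : Cfsg.IsNarrow p R) : Cfsg.IsNarrow p S := by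
  rcases h with h | ⟨R₀, R₁, hc, hcyc, hinf, hcomm, hsup⟩
  · exact Or.inl ((Cfsg.Agent.Helper23.pRankLE_of_mulEquiv p 2 e).mp h)
  · have hinj : Function.Injective e.toMonoidHom := e.injective
    refine Or.inr ⟨R₀.map e.toMonoidHom, R₁.map e.toMonoidHom, ?_, ?_, ?_, ?_, ?_⟩
    · rw [Subgroup.card_map_of_injective hinj]
      exact hc
    · haveI := hcyc
      exact isCyclic_of_surjective (e.toMonoidHom.subgroupMap R₁)
        (e.toMonoidHom.subgroupMap_surjective R₁)
    · rw [← Subgroup.map_inf _ _ _ hinj, hinf, Subgroup.map_bot]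
    · rintro _ ⟨a, ha, rfl⟩ _ ⟨b, hb, rfl⟩
      rw [← map_mul, ← map_mul, hcomm a ha b hb]
    · rw [← Subgroup.map_sup, hsup]
      ext y
      constructor
      · rintro ⟨x, hx, rfl⟩
        rw [Subgroup.mem_centralizer_iff]
        rintro _ ⟨r, hr, rfl⟩
        have := (Subgroup.mem_centralizer_iff.mp hx) r hr
        rw [← map_mul, ← map_mul, this]
      · intro hy
        refine ⟨e.symm y, ?_, by simp⟩
        show e.symm y ∈ Subgroup.centralizer (R₀ : Set R)
        rw [Subgroup.mem_centralizer_iff]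
        intro r hr
        have h1 := (Subgroup.mem_centralizer_iff.mp hy) (e r) (Subgroup.mem_map_of_mem _ hr)
        apply e.injective
        rw [map_mul, map_mul, e.apply_symm_apply]
        exact h1

end Transport

section Concrete

variable {G : Type*} [Group G] [Finite G]

open Cfsg.Agent.Helper29.BG10

/-- a Sylow `q`-subgroup of a maximal subgroup `M` is narrow when `q ∉ β(M)` -/
theorem isNarrow_sylow (hG : Cfsg.IsMinSimpleOddOrder G) (hU : UniquenessThm G)
    {M : Subgroup G} (hM : IsCoatom M) {q : ℕ} [hq : Fact q.Prime] (hqβ : q ∉ Cfsg.beta M)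
    (S : Sylow q ↥M) : Cfsg.IsNarrow q ↥(S : Subgroup ↥M) := by
  classical
  by_cases hr : Cfsg.PRankLE q 2 ↥M
  · exact Or.inl (Cfsg.Agent.Lib.pRankLE_subgroup hr _)
  · have hqα : q ∈ Cfsg.alpha M := ⟨hq.out, hr⟩
    have hqσ : q ∈ Cfsg.sigma M := alpha_subset_sigma hG hU hM hqα
    have hnotideal : ¬ Cfsg.IsIdealPrime q G := fun h => hqβ ⟨hqα, h⟩
    have hrG : ¬ Cfsg.PRankLE q 2 G := fun h => hr (Cfsg.Agent.Lib.pRankLE_subgroup h M)
    unfold Cfsg.IsIdealPrime at hnotideal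
    push Not at hnotideal
    obtain ⟨P, A, hAP, hAe, hAc, hAmax⟩ := hnotideal hq.out hrG
    have hq2 : q ≠ 2 := by
      rintro rfl
      have h2 : 2 ∣ Nat.card G := (P : Subgroup G).card_subgroup_dvd_card |> fun h => by
        have hA2 : 2 ∣ Nat.card A := by rw [hAc]; exact dvd_pow_self 2 (by norm_num)
        exact (hA2.trans (Subgroup.card_dvd_of_le hAP)).trans h
      exact (Nat.not_even_iff_odd.mpr hG.1) (even_iff_two_dvd.mpr h2)
    have hP3 : ¬ Cfsg.PRankLE q 2 ↥(P : Subgroup G) :=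
      Cfsg.Agent.Helper54.BGU.not_pRankLE_sylow P hrG
    have hAcomm := (Cfsg.Agent.Helper23.isMulCommutative_subgroup_iff A).mp hAe.1
    have hnarP : Cfsg.IsNarrow q ↥(P : Subgroup G) := by
      apply Cfsg.Agent.Helper55.Narrow.isNarrow_of_maximal_sq hq2 P.isPGroup' hP3
        (A.subgroupOf (P : Subgroup G))
      · refine ⟨?_, ?_⟩
        · rw [Cfsg.Agent.Helper23.isMulCommutative_subgroup_iff]
          intro a ha b hb
          apply Subtype.ext
          exact hAcomm a ha b hb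
        · intro a ha
          apply Subtype.ext
          simpa using hAe.2 a ha
      · rw [Nat.card_congr (Subgroup.subgroupOfEquivOfLe hAP).toEquiv]
        exact hAc
      · intro B hB hAB
        by_contra hne
        have hBe : Cfsg.IsElementaryAbelian q (B.map (P : Subgroup G).subtype) := by
          have hBc := (Cfsg.Agent.Helper23.isMulCommutative_subgroup_iff B).mp hB.1
          refine ⟨?_, ?_⟩
          · rw [Cfsg.Agent.Helper23.isMulCommutative_subgroup_iff]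
            rintro _ ⟨a, ha, rfl⟩ _ ⟨b, hb, rfl⟩
            rw [← map_mul, ← map_mul, hBc a ha b hb]
          · rintro _ ⟨a, ha, rfl⟩
            rw [← map_pow, hB.2 a ha, map_one]
        have hle : A ≤ B.map (P : Subgroup G).subtype := by
          intro a ha
          exact ⟨⟨a, hAP ha⟩, hAB (Subgroup.mem_subgroupOf.mpr ha), rfl⟩
        have hlt : A < B.map (P : Subgroup G).subtype := by
          refine lt_of_le_of_ne hle ?_
          intro heq
          apply hne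
          apply le_antisymm _ hAB
          intro b hb
          rw [Subgroup.mem_subgroupOf, heq]
          exact ⟨b, hb, rfl⟩
        exact hAmax (B.map (P : Subgroup G).subtype) (Subgroup.map_subtype_le _) hBe hlt
    -- `S` is isomorphic to `P`
    set S' : Subgroup G := (S : Subgroup ↥M).map M.subtype with hS'
    have hS'M := isSylowIn_map_sylow S
    have hN := (sigmaCtx_of hG hU hM hqσ).sylNorm S' hS'M
    have hS'top := isSylowIn_top_of_normalizer_le hS'M hN
    obtain ⟨Q, hQ⟩ := hS'top.2.1.exists_le_sylow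
    have hS'Q : S' = (Q : Subgroup G) := by
      apply le_antisymm hQ
      have h1 : ¬ q ∣ S'.index := by
        have := hS'top.2.2
        rwa [Subgroup.relIndex_top_right] at this
      have h2 := Subgroup.relIndex_mul_index hQ
      have h3 : S'.relIndex Q ∣ Nat.card (Q : Subgroup G) := Subgroup.relIndex_dvd_card _ _
      obtain ⟨n, hn⟩ := IsPGroup.iff_card.mp Q.2
      rw [hn] at h3
      obtain ⟨m, -, hm⟩ := (Nat.dvd_prime_pow hq.out).mp h3
      have hm0 : m = 0 := by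
        by_contra hm0
        apply h1
        rw [← h2, hm]
        exact Dvd.dvd.mul_right (dvd_pow_self q hm0) _
      rw [hm0, pow_zero] at hm
      exact Subgroup.relIndex_eq_one.mp hm
    let e1 : ↥(S : Subgroup ↥M) ≃* ↥S' :=
      (S : Subgroup ↥M).equivMapOfInjective M.subtype M.subtype_injective
    let e2 : ↥S' ≃* ↥(Q : Subgroup G) := MulEquiv.subgroupCongr hS'Q
    let e3 : ↥(Q : Subgroup G) ≃* ↥(P : Subgroup G) := Sylow.equiv Q P
    exact isNarrow_of_mulEquiv ((e1.trans (e2.trans e3)).symm) hnarP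

/-- **B-G Lemma 10.8** (statement S1414), given the Uniqueness Theorem and `p`-length one. -/
theorem main (hG : Cfsg.IsMinSimpleOddOrder G) (hU : UniquenessThm G)
    (hPL : ∀ (p : ℕ) [Fact p.Prime] (H : Subgroup G), H ≠ ⊤ → Cfsg.PLengthLE p 1 H)
    (M : Subgroup G) (hM : IsCoatom M) :
    Cfsg.IsPiHallOf (Cfsg.beta M) (Cfsg.piCoreOf (Cfsg.beta M) M) M ∧
      Cfsg.IsPiHall (Cfsg.beta M) (Cfsg.piCoreOf (Cfsg.beta M) M) ∧
      (∃ H : Subgroup G, Cfsg.IsPiHallOf {q | q.Prime ∧ q ∉ Cfsg.beta M} H ⁅M, M⁆ ∧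
        Group.IsNilpotent H) ∧
      (∃ H : Subgroup G, Cfsg.IsPiHallOf {q | q.Prime ∧ q ∉ Cfsg.beta M} H (Cfsg.sigmaCore M) ∧
        Group.IsNilpotent H) ∧
      ∀ p : ℕ, p.Prime → p ∣ Nat.card M → p ∉ Cfsg.beta M →
        Cfsg.HasNormalPComplement p ↥⁅M, M⁆ ∧ Cfsg.HasNormalPComplement p ↥(Cfsg.sigmaCore M) ∧
        ∀ q : ℕ, q.Prime → q ∣ (Cfsg.pPrimeCore p ↥M).index → q ≤ p := by
  haveI : Group.IsSolvable ↥M := hG.2.2.2 M hM.1
  have hodd : Odd (Nat.card ↥M) := Odd.of_dvd_nat hG.1 (Subgroup.card_subgroup_dvd_card M)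
  obtain ⟨-, -, -, h2⟩ := thm_10_2_core hG hU hM
  have hβσ : Cfsg.beta M ⊆ Cfsg.sigma M := fun p hp => alpha_subset_sigma hG hU hM hp.1
  have hS : ∀ q : ℕ, q.Prime → q ∣ Nat.card ↥M → q ∉ Cfsg.beta M →
      (∀ r : ℕ, r.Prime → r ∣ (Cfsg.pPrimeCore q ↥M).index → r ≤ q) ∧
      Cfsg.HasNormalPComplement q ↥(commutator ↥M) ∧
      commutator ↥M ≤ Cfsg.pPrimePCore q ↥M := by
    intro q hq hqM hqβ
    haveI : Fact q.Prime := ⟨hq⟩
    obtain ⟨S⟩ : Nonempty (Sylow q ↥M) := inferInstance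
    have := Cfsg.Agent.S1455.result hodd q hqM S (isNarrow_sylow hG hU hM hqβ S)
      (fun _ => hPL q M hM.1)
    exact ⟨this.1, this.2.2.1, this.2.2.2.2.1⟩
  obtain ⟨c1, ⟨H1, hH1le, hH1nil, hH1a, hH1b⟩, ⟨H2, hH2le, hH2nil, hH2a, hH2b⟩, c5⟩ :=
    core (Γ := ↥M) (Cfsg.sigma M) (Cfsg.beta M) hβσ h2
      (fun p hp _ P => sylow_le_commutator hG hU hM hp P)
      (fun q hq hqM hqβ => ⟨(hS q hq hqM hqβ).2.1, (hS q hq hqM hqβ).2.2⟩)
  have hprimes : ∀ p : ℕ, p.Prime → p ∣ Nat.card (Cfsg.piCoreOf (Cfsg.beta M) M) →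
      p ∈ Cfsg.beta M := by
    intro p hp hd
    unfold Cfsg.piCoreOf at hd
    rw [Subgroup.card_map_of_injective M.subtype_injective] at hd
    exact Cfsg.Agent.S1886.piCore_isPi _ p hp hd
  refine ⟨⟨Subgroup.map_subtype_le _, hprimes, ?_⟩, ⟨hprimes, ?_⟩, ?_, ?_, ?_⟩
  · intro p hp hpβ
    unfold Cfsg.piCoreOf
    rw [relIndex_map_subtype]
    exact c1 p hp hpβ
  · intro p hp hpβ
    haveI : Fact p.Prime := ⟨hp⟩
    unfold Cfsg.piCoreOf
    rw [Subgroup.index_map_subtype]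
    intro hd
    rcases (Nat.Prime.dvd_mul hp).1 hd with h | h
    · exact c1 p hp hpβ h
    · exact not_dvd_index_of_mem_sigma hG hU hM (hβσ hpβ) h
  · refine ⟨H1.map M.subtype, ⟨?_, ?_, ?_⟩, ?_⟩
    · rw [← Subgroup.map_subtype_commutator M]
      exact Subgroup.map_mono hH1le
    · intro q hq hd
      rw [Subgroup.card_map_of_injective M.subtype_injective] at hd
      exact ⟨hq, hH1a q hq hd⟩
    · intro q hq hqm
      rw [← Subgroup.map_subtype_commutator M,
        Subgroup.relIndex_map_map_of_injective _ _ M.subtype_injective]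
      exact hH1b q hq hqm.2
    · haveI := hH1nil
      exact Group.nilpotent_of_mulEquiv (H1.equivMapOfInjective M.subtype M.subtype_injective)
  · refine ⟨H2.map M.subtype, ⟨?_, ?_, ?_⟩, ?_⟩
    · unfold Cfsg.sigmaCore
      exact Subgroup.map_mono hH2le
    · intro q hq hd
      rw [Subgroup.card_map_of_injective M.subtype_injective] at hd
      exact ⟨hq, hH2a q hq hd⟩
    · intro q hq hqm
      unfold Cfsg.sigmaCore
      rw [Subgroup.relIndex_map_map_of_injective _ _ M.subtype_injective]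
      exact hH2b q hq hqm.2
    · haveI := hH2nil
      exact Group.nilpotent_of_mulEquiv (H2.equivMapOfInjective M.subtype M.subtype_injective)
  · intro p hp hpM hpβ
    haveI : Fact p.Prime := ⟨hp⟩
    obtain ⟨ha, hb, hc⟩ := hS p hp hpM hpβ
    refine ⟨?_, ?_, ha⟩
    · have := Cfsg.Agent.Helper64.hasNormalPComplement_map M.subtype (commutator ↥M) hb
      rwa [Subgroup.map_subtype_commutator] at this
    · exact Cfsg.Agent.Helper64.hasNormalPComplement_map M.subtype
        (Cfsg.piCore (Cfsg.sigma M) ↥M) (c5 p hp hpM hpβ)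

end Concrete

end Cfsg.Agent.Helper55.BG108
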