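import Mathlib
import Cfsg.Agent.Helper96.StC.Basic
import Cfsg.Agent.Helper96.StC.Generic

/-!
# Piece (A5S) of S2092 (helper96, board #7224): the short-root `w` is monomial.

This file proves the statement from explicit hypotheses `(A2)`, `(A3)` and `short_pair_rel`
(the sibling pieces); `StCA5S.lean` plugs in the landed pieces.
-/

set_option autoImplicit false

namespace Cfsg.Agent.Helper55.StCA5S

open Cfsg.Agent.Helper96 Cfsg.Agent.Helper96.StN Cfsg.Agent.Helper96.StC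

universe u v w

variable {K : Type u} [Field K] {D : Type v} [Group D] {ι : Type w} [DecidableEq ι]
  {X : ι ⊕ ι → ι ⊕ ι → K → D}

/-- statement of piece (A2) -/
def A2Stmt (X : ι ⊕ ι → ι ⊕ ι → K → D) : Prop :=
  ∀ {p q : ι ⊕ ι}, p ≠ q → q ≠ bar p → ∀ {t : K}, t ≠ 0 → ∀ u : K,
    W X p q t * X p (bar p) u * (W X p q t)⁻¹ = X q (bar q) (eps K p q * t⁻¹ ^ 2 * u)

/-- statement of piece (A3) -/
def A3Stmt (X : ι ⊕ ι → ι ⊕ ι → K → D) : Prop :=
  ∀ {p q : ι ⊕ ι}, p ≠ q → q ≠ bar p → ∀ {t : K}, t ≠ 0 → ∀ u : K,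
    W X p q t * X p (bar q) u * (W X p q t)⁻¹ = X q (bar p) (-(eps K p q * u))

/-- statement of the short half of piece (A4) -/
def A4Stmt (X : ι ⊕ ι → ι ⊕ ι → K → D) : Prop :=
  ∀ {p q : ι ⊕ ι}, p ≠ q → q ≠ bar p → StPres.Rel (pair X p q)

theorem ne_bar_symm {p q : ι ⊕ ι} (h : q ≠ bar p) : p ≠ bar q := fun e => h (by rw [e, bar_bar])

theorem bar_ne_bar {p q : ι ⊕ ι} (h : p ≠ q) : bar p ≠ bar q := fun e => h (bar_injective e)

theorem bar_ne_of_ne_bar {p q : ι ⊕ ι} (h : p ≠ bar q) : bar p ≠ q := fun e => h (by rw [← e, bar_bar])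

/-- from the formula at `-t` to the inverse formula at `t` -/
theorem conj_inv_of {a b g g' : D} (hg : g⁻¹ = g') (h : g' * a * g'⁻¹ = b) : g * b * g⁻¹ = a := by
  subst hg
  rw [← h]
  group

section

variable (hX : SpRel X) (hA2 : A2Stmt X) (hA3 : A3Stmt X) (hA4 : A4Stmt X)
  {p q : ι ⊕ ι} (hpq : p ≠ q) (hpq' : q ≠ bar p) {t : K} (ht : t ≠ 0)

include hX hpq hpq' ht

/-! ### the roots inside the rank two system of `p`, `q` -/

include hA4 in
theorem c_pq (u : K) : W X p q t * X p q u * (W X p q t)⁻¹ = X q p (-(t⁻¹ ^ 2 * u)) := by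
  have h := (hA4 hpq hpq').conj true t u ht
  rw [Wd_pair_true] at h
  exact h

include hA4 in
theorem c_qp (u : K) : W X p q t * X q p u * (W X p q t)⁻¹ = X p q (-(t ^ 2 * u)) := by
  have h := StPres.conj' (hA4 hpq hpq') true t u ht
  rw [Wd_pair_true] at h
  exact h

include hA4 in
theorem c_qbpb (u : K) :
    W X p q t * X (bar q) (bar p) u * (W X p q t)⁻¹ = X (bar p) (bar q) (-(t⁻¹ ^ 2 * u)) := by
  rw [sym' hX hpq hpq' u, c_pq hX hA4 hpq hpq' ht, sym' hX hpq.symm (ne_bar_symm hpq')]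
  congr 1
  rw [eps_comm q p]
  ring

include hA4 in
theorem c_pbqb (u : K) :
    W X p q t * X (bar p) (bar q) u * (W X p q t)⁻¹ = X (bar q) (bar p) (-(t ^ 2 * u)) := by
  rw [sym' hX hpq.symm (ne_bar_symm hpq') u, c_qp hX hA4 hpq hpq' ht, sym' hX hpq hpq']
  congr 1
  rw [eps_comm q p]
  ring

include hA2 in
theorem c_ppb (u : K) :
    W X p q t * X p (bar p) u * (W X p q t)⁻¹ = X q (bar q) (eps K p q * t⁻¹ ^ 2 * u) :=
  hA2 hpq hpq' ht u

include hA3 in
theorem c_pqb (u : K) :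
    W X p q t * X p (bar q) u * (W X p q t)⁻¹ = X q (bar p) (-(eps K p q * u)) :=
  hA3 hpq hpq' ht u

/-- `W X p q t` written with the other pair of indices -/
theorem W_eq_bar : W X (bar q) (bar p) (-(eps K p q * t)) = W X p q t := by
  have ht' : -(eps K p q * t) ≠ 0 := neg_ne_zero.mpr (mul_ne_zero (eps_ne_zero p q) ht)
  rw [W_bar hX hpq hpq' ht']
  congr 1
  have := eps_mul_self (K := K) p q
  linear_combination t * this

include hA2 in
theorem c_qbq (u : K) :
    W X p q t * X (bar q) q u * (W X p q t)⁻¹ = X (bar p) p (eps K p q * t⁻¹ ^ 2 * u) := by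
  have ht' : -(eps K p q * t) ≠ 0 := neg_ne_zero.mpr (mul_ne_zero (eps_ne_zero p q) ht)
  have h := hA2 (p := bar q) (q := bar p) (bar_ne_bar hpq.symm)
    (by rw [bar_bar]; exact bar_ne_of_ne_bar (ne_bar_symm hpq')) ht' u
  rw [W_eq_bar hX hpq hpq' ht, bar_bar, bar_bar, eps_bar_bar, eps_comm q p] at h
  rw [h]
  congr 1
  have := eps_mul_self (K := K) p q
  have h1 : (-(eps K p q * t))⁻¹ ^ 2 = t⁻¹ ^ 2 := by
    rw [inv_neg, neg_sq, mul_inv, mul_pow, eps_inv, sq (eps K p q), this, one_mul]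
  rw [h1]

include hA3 in
theorem c_qbp (u : K) :
    W X p q t * X (bar q) p u * (W X p q t)⁻¹ = X (bar p) q (-(eps K p q * u)) := by
  have ht' : -(eps K p q * t) ≠ 0 := neg_ne_zero.mpr (mul_ne_zero (eps_ne_zero p q) ht)
  have h := hA3 (p := bar q) (q := bar p) (bar_ne_bar hpq.symm)
    (by rw [bar_bar]; exact bar_ne_of_ne_bar (ne_bar_symm hpq')) ht' u
  rw [W_eq_bar hX hpq hpq' ht, bar_bar, bar_bar, eps_bar_bar, eps_comm q p] at h
  exact h

include hA2 in
theorem c_qqb (u : K) :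
    W X p q t * X q (bar q) u * (W X p q t)⁻¹ = X p (bar p) (eps K p q * t ^ 2 * u) := by
  have h := hA2 hpq hpq' (neg_ne_zero.mpr ht) (eps K p q * t ^ 2 * u)
  have e : eps K p q * (-t)⁻¹ ^ 2 * (eps K p q * t ^ 2 * u) = u := by
    have := eps_mul_self (K := K) p q
    rw [inv_neg, neg_sq]
    field_simp
    linear_combination u * this
  rw [e] at h
  exact conj_inv_of (W_inv hX hpq t) h

include hA2 in
theorem c_pbp (u : K) :
    W X p q t * X (bar p) p u * (W X p q t)⁻¹ = X (bar q) q (eps K p q * t ^ 2 * u) := by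
  have h := c_qbq hX hA2 hpq hpq' (neg_ne_zero.mpr ht) (eps K p q * t ^ 2 * u)
  have e : eps K p q * (-t)⁻¹ ^ 2 * (eps K p q * t ^ 2 * u) = u := by
    have := eps_mul_self (K := K) p q
    rw [inv_neg, neg_sq]
    field_simp
    linear_combination u * this
  rw [e] at h
  exact conj_inv_of (W_inv hX hpq t) h

include hA3 in
theorem c_qpb (u : K) :
    W X p q t * X q (bar p) u * (W X p q t)⁻¹ = X p (bar q) (-(eps K p q * u)) := by
  -- `X q p̄ u = X p q̄ (e u)`
  have hs : X q (bar p) u = X p (bar q) (eps K p q * u) := by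
    rw [hX.sym q (bar p) hpq' (bar_ne_bar hpq) u, bar_bar]
    congr 1
    rw [eps_bar_right, eps_comm q p]
    ring
  rw [hs, hA3 hpq hpq' ht]
  -- `X q p̄ (-(e e u)) = X p q̄ (-(e u))`
  rw [hX.sym q (bar p) hpq' (bar_ne_bar hpq), bar_bar]
  congr 1
  rw [eps_bar_right, eps_comm q p]
  have := eps_mul_self (K := K) p q
  linear_combination (-(eps K p q * u)) * this

include hA3 in
theorem c_pbq (u : K) :
    W X p q t * X (bar p) q u * (W X p q t)⁻¹ = X (bar q) p (-(eps K p q * u)) := by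
  have hs : X (bar p) q u = X (bar q) p (eps K p q * u) := by
    rw [hX.sym (bar p) q (bar_ne_of_ne_bar (ne_bar_symm hpq')) (by rw [bar_bar]; exact hpq.symm) u,
      bar_bar]
    congr 1
    rw [eps_bar_left]
    ring
  rw [hs, c_qbp hX hA3 hpq hpq' ht]
  rw [hX.sym (bar p) q (bar_ne_of_ne_bar (ne_bar_symm hpq')) (by rw [bar_bar]; exact hpq.symm),
    bar_bar]
  congr 1
  rw [eps_bar_left]
  have := eps_mul_self (K := K) p q
  linear_combination (-(eps K p q * u)) * this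

/-! ### one index outside `{p, q, p̄, q̄}` -/

section generic

variable {m : ι ⊕ ι} (hmp : m ≠ p) (hmq : m ≠ q) (hmpb : m ≠ bar p) (hmqb : m ≠ bar q)

include hmp hmq hmpb hmqb

theorem stRel3 :
    StRel (fun (i j : Fin 3) (s : K) => X (![p, q, m] i) (![p, q, m] j) s) := by
  apply section_stRel hX
  intro i j hij
  fin_cases i <;> fin_cases j
  · exact absurd rfl hij
  · exact ⟨hpq, ne_bar_symm hpq'⟩
  · exact ⟨hmp.symm, ne_bar_symm hmpb⟩
  · exact ⟨hpq.symm, hpq'⟩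
  · exact absurd rfl hij
  · exact ⟨hmq.symm, ne_bar_symm hmqb⟩
  · exact ⟨hmp, hmpb⟩
  · exact ⟨hmq, hmqb⟩
  · exact absurd rfl hij

theorem g_pm (u : K) : W X p q t * X p m u * (W X p q t)⁻¹ = X q m (-t⁻¹ * u) :=
  W_conj_ik (stRel3 hX hpq hpq' ht hmp hmq hmpb hmqb) (i := (0 : Fin 3)) (j := 1) (k := 2)
    (by decide) (by decide) (by decide) ht u

theorem g_qm (u : K) : W X p q t * X q m u * (W X p q t)⁻¹ = X p m (t * u) :=
  W_conj_jk (stRel3 hX hpq hpq' ht hmp hmq hmpb hmqb) (i := (0 : Fin 3)) (j := 1) (k := 2)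
    (by decide) (by decide) (by decide) ht u

theorem g_mq (u : K) : W X p q t * X m q u * (W X p q t)⁻¹ = X m p (t⁻¹ * u) :=
  W_conj_kj (stRel3 hX hpq hpq' ht hmp hmq hmpb hmqb) (i := (0 : Fin 3)) (j := 1) (k := 2)
    (by decide) (by decide) (by decide) ht u

theorem g_mp (u : K) : W X p q t * X m p u * (W X p q t)⁻¹ = X m q (-(t * u)) :=
  W_conj_ki (stRel3 hX hpq hpq' ht hmp hmq hmpb hmqb) (i := (0 : Fin 3)) (j := 1) (k := 2)
    (by decide) (by decide) (by decide) ht u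

theorem g_pbm (u : K) :
    W X p q t * X (bar p) m u * (W X p q t)⁻¹ = X (bar q) m (-(eps K p q * t * u)) := by
  rw [hX.sym (bar p) m hmpb.symm (by rw [bar_bar]; exact hmp) u, bar_bar,
    g_mp hX hpq hpq' ht (bar_ne_of_ne_bar hmpb) (bar_ne_of_ne_bar hmqb) (bar_ne_bar hmp)
      (bar_ne_bar hmq),
    hX.sym (bar q) m hmqb.symm (by rw [bar_bar]; exact hmq), bar_bar]
  congr 1
  rw [eps_bar_left, eps_bar_left, ← eps_mul_eps p q m]
  ring

theorem g_qbm (u : K) :
    W X p q t * X (bar q) m u * (W X p q t)⁻¹ = X (bar p) m (eps K p q * t⁻¹ * u) := by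
  rw [hX.sym (bar q) m hmqb.symm (by rw [bar_bar]; exact hmq) u, bar_bar,
    g_mq hX hpq hpq' ht (bar_ne_of_ne_bar hmpb) (bar_ne_of_ne_bar hmqb) (bar_ne_bar hmp)
      (bar_ne_bar hmq),
    hX.sym (bar p) m hmpb.symm (by rw [bar_bar]; exact hmp), bar_bar]
  congr 1
  rw [eps_bar_left, eps_bar_left, ← eps_mul_eps p q m]
  have := eps_mul_self (K := K) p q
  linear_combination (-(eps K q m * t⁻¹ * u)) * this

theorem g_mpb (u : K) :
    W X p q t * X m (bar p) u * (W X p q t)⁻¹ = X m (bar q) (-(eps K p q * t⁻¹ * u)) := by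
  rw [hX.sym m (bar p) hmpb (bar_ne_bar hmp.symm) u, bar_bar,
    g_pm hX hpq hpq' ht (bar_ne_of_ne_bar hmpb) (bar_ne_of_ne_bar hmqb) (bar_ne_bar hmp)
      (bar_ne_bar hmq),
    hX.sym m (bar q) hmqb (bar_ne_bar hmq.symm), bar_bar]
  congr 1
  rw [eps_bar_right, eps_bar_right, eps_comm m p, eps_comm m q, ← eps_mul_eps p q m]
  ring

theorem g_mqb (u : K) :
    W X p q t * X m (bar q) u * (W X p q t)⁻¹ = X m (bar p) (eps K p q * t * u) := by
  rw [hX.sym m (bar q) hmqb (bar_ne_bar hmq.symm) u, bar_bar,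
    g_qm hX hpq hpq' ht (bar_ne_of_ne_bar hmpb) (bar_ne_of_ne_bar hmqb) (bar_ne_bar hmp)
      (bar_ne_bar hmq),
    hX.sym m (bar p) hmpb (bar_ne_bar hmp.symm), bar_bar]
  congr 1
  rw [eps_bar_right, eps_bar_right, eps_comm m p, eps_comm m q, ← eps_mul_eps p q m]
  have := eps_mul_self (K := K) p q
  linear_combination (-(eps K q m * t * u)) * this

end generic

theorem g_disj {k l : ι ⊕ ι} (hkl : k ≠ l) (hkp : k ≠ p) (hkq : k ≠ q) (hkpb : k ≠ bar p)
    (hkqb : k ≠ bar q) (hlp : l ≠ p) (hlq : l ≠ q) (hlpb : l ≠ bar p) (hlqb : l ≠ bar q) (u : K) :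
    W X p q t * X k l u * (W X p q t)⁻¹ = X k l u := by
  have e : W X p q t * X k l u * (W X p q t)⁻¹ =
      X p q t * (X q p (-t⁻¹) * (X p q t * X k l u * (X p q t)⁻¹) * (X q p (-t⁻¹))⁻¹) *
        (X p q t)⁻¹ := by
    unfold W; group
  have c1 : ∀ s : K, X p q s * X k l u * (X p q s)⁻¹ = X k l u := fun s =>
    Cfsg.Agent.Helper96.StC.comm_conj hX hpq hkl hkq.symm (ne_bar_symm hlqb)
      (ne_bar_symm hkpb) hlp.symm s u
  have c2 : ∀ s : K, X q p s * X k l u * (X q p s)⁻¹ = X k l u := fun s =>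
    Cfsg.Agent.Helper96.StC.comm_conj hX hpq.symm hkl hkp.symm (ne_bar_symm hlpb)
      (ne_bar_symm hkqb) hlq.symm s u
  rw [e, c1, c2, c1]

end

/-! ### the values of `reflPerm` and `cw` -/

section eval

variable {p q : ι ⊕ ι} (hpq : p ≠ q) (hpq' : q ≠ bar p) (t : K)

include hpq hpq'

theorem refl_p : reflPerm p q p = q := by
  unfold reflPerm
  rw [if_neg hpq', Equiv.Perm.mul_apply,
    Equiv.swap_apply_of_ne_of_ne (bar_ne p).symm (ne_bar_symm hpq'), Equiv.swap_apply_left]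

theorem refl_q : reflPerm p q q = p := by
  unfold reflPerm
  rw [if_neg hpq', Equiv.Perm.mul_apply,
    Equiv.swap_apply_of_ne_of_ne hpq' (bar_ne q).symm, Equiv.swap_apply_right]

theorem refl_pb : reflPerm p q (bar p) = bar q := by
  unfold reflPerm
  rw [if_neg hpq', Equiv.Perm.mul_apply, Equiv.swap_apply_left,
    Equiv.swap_apply_of_ne_of_ne (ne_bar_symm hpq').symm (bar_ne q)]

theorem refl_qb : reflPerm p q (bar q) = bar p := by
  unfold reflPerm
  rw [if_neg hpq', Equiv.Perm.mul_apply, Equiv.swap_apply_right,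
    Equiv.swap_apply_of_ne_of_ne (bar_ne p) hpq'.symm]

theorem refl_m {m : ι ⊕ ι} (hmp : m ≠ p) (hmq : m ≠ q) (hmpb : m ≠ bar p) (hmqb : m ≠ bar q) :
    reflPerm p q m = m := by
  unfold reflPerm
  rw [if_neg hpq', Equiv.Perm.mul_apply, Equiv.swap_apply_of_ne_of_ne hmpb hmqb,
    Equiv.swap_apply_of_ne_of_ne hmp hmq]

theorem cw_p : cw p q t p = -t⁻¹ := by
  unfold cw
  rw [if_neg hpq', if_pos rfl]

theorem cw_q : cw p q t q = t := by
  unfold cw
  rw [if_neg hpq', if_neg hpq.symm, if_pos rfl]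

theorem cw_pb : cw p q t (bar p) = -(eps K p q * t) := by
  unfold cw
  rw [if_neg hpq', if_neg (bar_ne p), if_neg hpq'.symm, if_pos rfl]

theorem cw_qb : cw p q t (bar q) = eps K p q * t⁻¹ := by
  unfold cw
  rw [if_neg hpq', if_neg (ne_bar_symm hpq').symm, if_neg (bar_ne q),
    if_neg (bar_ne_bar hpq.symm), if_pos rfl]

theorem cw_m {m : ι ⊕ ι} (hmp : m ≠ p) (hmq : m ≠ q) (hmpb : m ≠ bar p) (hmqb : m ≠ bar q) :
    cw p q t m = 1 := by
  unfold cw
  rw [if_neg hpq', if_neg hmp, if_neg hmq, if_neg hmpb, if_neg hmqb]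

end eval

theorem cases5 (p q k : ι ⊕ ι) :
    k = p ∨ k = q ∨ k = bar p ∨ k = bar q ∨ (k ≠ p ∧ k ≠ q ∧ k ≠ bar p ∧ k ≠ bar q) := by
  by_cases h1 : k = p
  · exact Or.inl h1
  by_cases h2 : k = q
  · exact Or.inr (Or.inl h2)
  by_cases h3 : k = bar p
  · exact Or.inr (Or.inr (Or.inl h3))
  by_cases h4 : k = bar q
  · exact Or.inr (Or.inr (Or.inr (Or.inl h4)))
  exact Or.inr (Or.inr (Or.inr (Or.inr ⟨h1, h2, h3, h4⟩)))

/-- (A5S) from the sibling pieces -/
theorem W_short_isMono_aux (hX : SpRel X) (hA2 : A2Stmt X) (hA3 : A3Stmt X) (hA4 : A4Stmt X)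
    {p q : ι ⊕ ι} (hpq : p ≠ q) (hpq' : q ≠ bar p) {t : K} (ht : t ≠ 0) :
    IsMono X (W X p q t) (reflPerm p q) (cw p q t) := by
  have e0 := eps_ne_zero (K := K) p q
  have e2 := eps_mul_self (K := K) p q
  have einv := eps_inv (K := K) p q
  refine ⟨fun k => ?_, fun k l hkl u => ?_⟩
  · rcases cases5 p q k with h | h | h | h | ⟨h1, h2, h3, h4⟩
    · rw [h, cw_p hpq hpq']; exact neg_ne_zero.mpr (inv_ne_zero ht)
    · rw [h, cw_q hpq hpq']; exact ht
    · rw [h, cw_pb hpq hpq']; exact neg_ne_zero.mpr (mul_ne_zero e0 ht)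
    · rw [h, cw_qb hpq hpq']; exact mul_ne_zero e0 (inv_ne_zero ht)
    · rw [cw_m hpq hpq' t h1 h2 h3 h4]; exact one_ne_zero
  · rcases cases5 p q k with hk | hk | hk | hk | ⟨hk1, hk2, hk3, hk4⟩
    · -- k = p
      rw [hk] at hkl ⊢
      rw [refl_p hpq hpq', cw_p hpq hpq']
      rcases cases5 p q l with hl | hl | hl | hl | ⟨hl1, hl2, hl3, hl4⟩
      · exact absurd hl.symm hkl
      · rw [hl, refl_q hpq hpq', cw_q hpq hpq', c_pq hX hA4 hpq hpq' ht]
        congr 1
        field_simp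
      · rw [hl, refl_pb hpq hpq', cw_pb hpq hpq', c_ppb hX hA2 hpq hpq' ht]
        congr 1
        field_simp
        linear_combination u * e2
      · rw [hl, refl_qb hpq hpq', cw_qb hpq hpq', c_pqb hX hA3 hpq hpq' ht]
        congr 1
        field_simp
        linear_combination (-u) * e2
      · rw [refl_m hpq hpq' hl1 hl2 hl3 hl4, cw_m hpq hpq' t hl1 hl2 hl3 hl4,
          g_pm hX hpq hpq' ht hl1 hl2 hl3 hl4]
        congr 1
        simp
    · -- k = q
      rw [hk] at hkl ⊢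
      rw [refl_q hpq hpq', cw_q hpq hpq']
      rcases cases5 p q l with hl | hl | hl | hl | ⟨hl1, hl2, hl3, hl4⟩
      · rw [hl, refl_p hpq hpq', cw_p hpq hpq', c_qp hX hA4 hpq hpq' ht]
        congr 1
        field_simp
      · exact absurd hl.symm hkl
      · rw [hl, refl_pb hpq hpq', cw_pb hpq hpq', c_qpb hX hA3 hpq hpq' ht]
        congr 1
        field_simp
        linear_combination (-u) * e2
      · rw [hl, refl_qb hpq hpq', cw_qb hpq hpq', c_qqb hX hA2 hpq hpq' ht]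
        congr 1
        field_simp
        linear_combination u * e2
      · rw [refl_m hpq hpq' hl1 hl2 hl3 hl4, cw_m hpq hpq' t hl1 hl2 hl3 hl4,
          g_qm hX hpq hpq' ht hl1 hl2 hl3 hl4]
        congr 1
        simp
    · -- k = bar p
      rw [hk] at hkl ⊢
      rw [refl_pb hpq hpq', cw_pb hpq hpq']
      rcases cases5 p q l with hl | hl | hl | hl | ⟨hl1, hl2, hl3, hl4⟩
      · rw [hl, refl_p hpq hpq', cw_p hpq hpq', c_pbp hX hA2 hpq hpq' ht]
        congr 1
        field_simp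
      · rw [hl, refl_q hpq hpq', cw_q hpq hpq', c_pbq hX hA3 hpq hpq' ht]
        congr 1
        field_simp
      · exact absurd hl.symm hkl
      · rw [hl, refl_qb hpq hpq', cw_qb hpq hpq', c_pbqb hX hA4 hpq hpq' ht]
        congr 1
        field_simp
      · rw [refl_m hpq hpq' hl1 hl2 hl3 hl4, cw_m hpq hpq' t hl1 hl2 hl3 hl4,
          g_pbm hX hpq hpq' ht hl1 hl2 hl3 hl4]
        congr 1
        simp
    · -- k = bar q
      rw [hk] at hkl ⊢
      rw [refl_qb hpq hpq', cw_qb hpq hpq']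
      rcases cases5 p q l with hl | hl | hl | hl | ⟨hl1, hl2, hl3, hl4⟩
      · rw [hl, refl_p hpq hpq', cw_p hpq hpq', c_qbp hX hA3 hpq hpq' ht]
        congr 1
        field_simp
      · rw [hl, refl_q hpq hpq', cw_q hpq hpq', c_qbq hX hA2 hpq hpq' ht]
        congr 1
        field_simp
      · rw [hl, refl_pb hpq hpq', cw_pb hpq hpq', c_qbpb hX hA4 hpq hpq' ht]
        congr 1
        field_simp
      · exact absurd hl.symm hkl
      · rw [refl_m hpq hpq' hl1 hl2 hl3 hl4, cw_m hpq hpq' t hl1 hl2 hl3 hl4,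
          g_qbm hX hpq hpq' ht hl1 hl2 hl3 hl4]
        congr 1
        simp
    · -- k outside
      rw [refl_m hpq hpq' hk1 hk2 hk3 hk4, cw_m hpq hpq' t hk1 hk2 hk3 hk4]
      rcases cases5 p q l with hl | hl | hl | hl | ⟨hl1, hl2, hl3, hl4⟩
      · rw [hl, refl_p hpq hpq', cw_p hpq hpq', g_mp hX hpq hpq' ht hk1 hk2 hk3 hk4]
        congr 1
        field_simp
      · rw [hl, refl_q hpq hpq', cw_q hpq hpq', g_mq hX hpq hpq' ht hk1 hk2 hk3 hk4]
        congr 1
        field_simp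
      · rw [hl, refl_pb hpq hpq', cw_pb hpq hpq', g_mpb hX hpq hpq' ht hk1 hk2 hk3 hk4]
        congr 1
        field_simp
        linear_combination (-u) * e2
      · rw [hl, refl_qb hpq hpq', cw_qb hpq hpq', g_mqb hX hpq hpq' ht hk1 hk2 hk3 hk4]
        congr 1
        field_simp
        linear_combination u * e2
      · rw [refl_m hpq hpq' hl1 hl2 hl3 hl4, cw_m hpq hpq' t hl1 hl2 hl3 hl4,
          g_disj hX hpq hpq' ht hkl hk1 hk2 hk3 hk4 hl1 hl2 hl3 hl4]
        congr 1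
        simp

end Cfsg.Agent.Helper55.StCA5S
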