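import Mathlib
import Cfsg.Agent.Helper96.StC.Generic
import Cfsg.Agent.Helper55.StCA5Saux
import Cfsg.Agent.Helper86.StCA2
import Cfsg.Agent.Helper86.StCA3
import Cfsg.Agent.Helper14.StCA4

/-!
# Piece (A5S) of S2092 (helper96, board #7224): the short-root `w` is monomial.
-/

set_option autoImplicit false

namespace Cfsg.Agent.Helper55.StCA5S

open Cfsg.Agent.Helper96 Cfsg.Agent.Helper96.StN Cfsg.Agent.Helper96.StC

universe u v w

variable {K : Type u} [Field K] {D : Type v} [Group D] {ι : Type w} [DecidableEq ι]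
  {X : ι ⊕ ι → ι ⊕ ι → K → D}

theorem W_short_isMono (hX : SpRel X) {p q : ι ⊕ ι} (hpq : p ≠ q) (hpq' : q ≠ bar p)
    {t : K} (ht : t ≠ 0) :
    IsMono X (W X p q t) (reflPerm p q) (cw p q t) :=
  W_short_isMono_aux hX
    (fun h1 h2 _ ht' u => Cfsg.Agent.Helper86.StCA2.W_short_conj_long hX h1 h2 ht' u)
    (fun h1 h2 _ ht' u => Cfsg.Agent.Helper86.StCA3.W_short_conj_orth hX h1 h2 ht' u)
    (fun h1 h2 => Cfsg.Agent.Helper14.StCA4.short_pair_rel hX h1 h2) hpq hpq' ht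

end Cfsg.Agent.Helper55.StCA5S
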