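import Mathlib

/-!
# Brauer–Fowler counting (helper55)

For a finite group `G` let `I` be its set of involutions and, for `g : G`,
`bfFiber g = {(s,t) ∈ I × I | s * t = g}`.  Then `∑ g, #(bfFiber g) = #I ^ 2`,
`#(bfFiber 1) ≤ #I`, `#(bfFiber g) + 2 ≤ |C(g)|` for an involution `g`,
`#(bfFiber g) ≤ |C(g)|` always, and for `g` with `g ≠ g⁻¹` and non-empty fibre the extended
centralizer `C*(g)` has order at least `2 |C(g)|`.
-/

set_option autoImplicit false

namespace Cfsg.Agent.Helper55

open Finset
open scoped Classical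

section BF

variable {G : Type*} [Group G]

theorem mul_self_of_orderOf_two {s : G} (hs : orderOf s = 2) : s * s = 1 := by
  have := pow_orderOf_eq_one s
  rwa [hs, sq] at this

theorem inv_eq_self_of_orderOf_two {s : G} (hs : orderOf s = 2) : s⁻¹ = s :=
  inv_eq_of_mul_eq_one_left (mul_self_of_orderOf_two hs)

/-- If `s`, `t` are involutions then `s` inverts `s * t`. -/
theorem conj_mul_of_invol {s t : G} (hs : orderOf s = 2) (ht : orderOf t = 2) :
    s * (s * t) * s⁻¹ = (s * t)⁻¹ := by
  have hss := mul_self_of_orderOf_two hs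
  have h2 := inv_eq_self_of_orderOf_two ht
  calc s * (s * t) * s⁻¹ = (s * s) * t * s⁻¹ := by group
    _ = t * s⁻¹ := by rw [hss, one_mul]
    _ = t⁻¹ * s⁻¹ := by rw [h2]
    _ = (s * t)⁻¹ := by rw [mul_inv_rev]

/-- The extended centralizer `C*(g) = {x | x g x⁻¹ = g ∨ x g x⁻¹ = g⁻¹}`. -/
def extCentralizer (g : G) : Subgroup G where
  carrier := {x | x * g * x⁻¹ = g ∨ x * g * x⁻¹ = g⁻¹}
  one_mem' := by simp
  mul_mem' := by
    intro a b ha hb
    have key : (a * b) * g * (a * b)⁻¹ = a * (b * g * b⁻¹) * a⁻¹ := by group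
    simp only [Set.mem_ofPred_eq] at ha hb ⊢
    rw [key]
    rcases hb with hb | hb
    · rw [hb]; exact ha
    · rw [hb]
      have h3 : a * g⁻¹ * a⁻¹ = (a * g * a⁻¹)⁻¹ := by group
      rw [h3]
      rcases ha with ha | ha
      · right; rw [ha]
      · left; rw [ha, inv_inv]
  inv_mem' := by
    intro a ha
    simp only [Set.mem_ofPred_eq] at ha ⊢
    rcases ha with ha | ha
    · left
      calc a⁻¹ * g * a⁻¹⁻¹ = a⁻¹ * (a * g * a⁻¹) * a := by rw [ha, inv_inv]
        _ = g := by group
    · right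
      have h3 : g = a⁻¹ * g⁻¹ * a := by rw [← ha]; group
      calc a⁻¹ * g * a⁻¹⁻¹ = (a⁻¹ * g⁻¹ * a)⁻¹ := by group
        _ = g⁻¹ := by rw [← h3]

theorem mem_extCentralizer {g x : G} :
    x ∈ extCentralizer g ↔ x * g * x⁻¹ = g ∨ x * g * x⁻¹ = g⁻¹ := Iff.rfl

theorem mem_centralizer_iff_conj {g x : G} :
    x ∈ Subgroup.centralizer {g} ↔ x * g * x⁻¹ = g := by
  rw [Subgroup.mem_centralizer_singleton_iff, mul_inv_eq_iff_eq_mul]

theorem centralizer_le_extCentralizer (g : G) :
    Subgroup.centralizer {g} ≤ extCentralizer g := fun _ hx =>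
  Or.inl (mem_centralizer_iff_conj.1 hx)

/-- If some `s` inverts `g` and `g ≠ g⁻¹`, then `2 |C(g)| ≤ |C*(g)|`. -/
theorem two_mul_card_centralizer_le [Finite G] {g s : G} (hg : g ≠ g⁻¹)
    (hs : s * g * s⁻¹ = g⁻¹) :
    2 * Nat.card (Subgroup.centralizer {g}) ≤ Nat.card (extCentralizer g) := by
  have hle := centralizer_le_extCentralizer g
  obtain ⟨d, hd⟩ := Subgroup.card_dvd_of_le hle
  have hpos : 0 < Nat.card (extCentralizer g) := Nat.card_pos
  have hcpos : 0 < Nat.card (Subgroup.centralizer {g}) := Nat.card_pos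
  have hne : Subgroup.centralizer {g} ≠ extCentralizer g := by
    intro h
    have h1 : s ∈ extCentralizer g := Or.inr hs
    rw [← h] at h1
    rw [mem_centralizer_iff_conj, hs] at h1
    exact hg h1.symm
  have hd2 : 2 ≤ d := by
    rcases d with _ | _ | d
    · simp at hd; omega
    · exfalso
      apply hne
      apply Subgroup.eq_of_le_of_card_ge hle
      rw [hd]; simp
    · omega
  rw [hd]
  nlinarith

/-- If `C*(g) = ⊤`, `g ≠ g⁻¹` and something inverts `g`, then `C(g)` has index two. -/
theorem index_centralizer_eq_two_of_extCentralizer_eq_top {g s : G} (hg : g ≠ g⁻¹)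
    (hs : s * g * s⁻¹ = g⁻¹) (htop : extCentralizer g = ⊤) :
    (Subgroup.centralizer {g}).index = 2 := by
  rw [Subgroup.index_eq_two_iff]
  refine ⟨s, fun b => ?_⟩
  have hb : b ∈ extCentralizer g := by rw [htop]; trivial
  have key : (b * s) * g * (b * s)⁻¹ = b * (s * g * s⁻¹) * b⁻¹ := by group
  have h3 : b * g⁻¹ * b⁻¹ = (b * g * b⁻¹)⁻¹ := by group
  rcases hb with hb | hb
  · -- b centralizes, b * s inverts
    refine Or.inr ⟨mem_centralizer_iff_conj.2 hb, ?_⟩
    rw [mem_centralizer_iff_conj, key, hs, h3, hb]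
    exact fun h => hg h.symm
  · refine Or.inl ⟨?_, ?_⟩
    · rw [mem_centralizer_iff_conj, key, hs, h3, hb, inv_inv]
    · rw [mem_centralizer_iff_conj, hb]
      exact fun h => hg h.symm

end BF

section Count

variable {G : Type*} [Group G] [Fintype G]

/-- The set of involutions. -/
noncomputable def invs (G : Type*) [Group G] [Fintype G] : Finset G :=
  univ.filter (fun t => orderOf t = 2)

theorem mem_invs {t : G} : t ∈ invs G ↔ orderOf t = 2 := by simp [invs]

theorem card_invs : (invs G).card = Nat.card {t : G // orderOf t = 2} :=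
  (Nat.subtype_card (invs G) (fun _ => mem_invs)).symm

/-- Pairs of involutions with product `g`. -/
noncomputable def bfFiber (g : G) : Finset (G × G) :=
  ((invs G) ×ˢ (invs G)).filter (fun p => p.1 * p.2 = g)

theorem mem_bfFiber {g : G} {p : G × G} :
    p ∈ bfFiber g ↔ orderOf p.1 = 2 ∧ orderOf p.2 = 2 ∧ p.1 * p.2 = g := by
  simp [bfFiber, mem_invs, and_assoc]

theorem sum_card_bfFiber : ∑ g : G, (bfFiber g).card = (invs G).card ^ 2 := by
  have h := Finset.card_eq_sum_card_fiberwise (f := fun p : G × G => p.1 * p.2)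
    (s := (invs G) ×ˢ (invs G)) (t := univ) (fun _ _ => mem_univ _)
  rw [card_product] at h
  rw [sq, h]
  rfl

theorem fst_injOn_bfFiber (g : G) : Set.InjOn (fun p : G × G => p.1) (bfFiber g : Set (G × G)) := by
  intro p hp q hq hpq
  rw [mem_coe, mem_bfFiber] at hp hq
  have h1 : p.1 = q.1 := hpq
  have h2 : p.2 = q.2 := by
    have : p.1 * p.2 = p.1 * q.2 := by rw [hp.2.2, h1, hq.2.2]
    exact mul_left_cancel this
  exact Prod.ext h1 h2

theorem card_bfFiber_one_le : (bfFiber (1 : G)).card ≤ (invs G).card := by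
  apply Finset.card_le_card_of_injOn (fun p : G × G => p.1) _ (fst_injOn_bfFiber 1)
  intro p hp
  rw [mem_coe, mem_bfFiber] at hp
  exact mem_coe.2 (mem_invs.2 hp.1)

theorem card_centralizer_eq (g : G) :
    Nat.card (Subgroup.centralizer {g}) = (univ.filter (· ∈ Subgroup.centralizer {g})).card :=
  Nat.subtype_card _ (by simp)

theorem fst_inverts {g : G} {p : G × G} (hp : p ∈ bfFiber g) : p.1 * g * p.1⁻¹ = g⁻¹ := by
  rw [mem_bfFiber] at hp
  rw [← hp.2.2]
  exact conj_mul_of_invol hp.1 hp.2.1

/-- For an involution `g`: `#(fibre) + 2 ≤ |C(g)|`. -/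
theorem card_bfFiber_add_two_le {g : G} (hg : orderOf g = 2) :
    (bfFiber g).card + 2 ≤ Nat.card (Subgroup.centralizer {g}) := by
  rw [card_centralizer_eq]
  set T := (bfFiber g).image (fun p : G × G => p.1) with hT
  have hcardT : T.card = (bfFiber g).card := Finset.card_image_of_injOn (fst_injOn_bfFiber g)
  have hginv : g⁻¹ = g := inv_eq_self_of_orderOf_two hg
  have hg1 : g ≠ 1 := by
    intro h; rw [h, orderOf_one] at hg; omega
  have hTsub : ∀ x ∈ T, x ∈ Subgroup.centralizer {g} ∧ x ≠ 1 ∧ x ≠ g := by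
    intro x hx
    rw [hT, mem_image] at hx
    obtain ⟨p, hp, rfl⟩ := hx
    have hinv := fst_inverts hp
    rw [mem_bfFiber] at hp
    refine ⟨?_, ?_, ?_⟩
    · rw [mem_centralizer_iff_conj, hinv, hginv]
    · intro h; rw [h, orderOf_one] at hp; omega
    · intro h
      have : p.2 = 1 := by
        have h3 := hp.2.2
        rw [h] at h3
        exact mul_left_cancel (a := g) (by rw [h3, mul_one])
      rw [this, orderOf_one] at hp; omega
  have h1T : (1 : G) ∉ T := fun h => (hTsub 1 h).2.1 rfl
  have hgT : g ∉ T := fun h => (hTsub g h).2.2 rfl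
  have hcard : (insert 1 (insert g T)).card = T.card + 2 := by
    rw [card_insert_of_notMem, card_insert_of_notMem hgT]
    simp only [mem_insert, not_or]
    exact ⟨fun h => hg1 h.symm, h1T⟩
  rw [← hcardT, ← hcard]
  apply card_le_card
  intro x hx
  simp only [mem_insert] at hx
  simp only [mem_filter, mem_univ, true_and]
  rcases hx with rfl | rfl | hx
  · exact Subgroup.one_mem _
  · exact Subgroup.mem_centralizer_singleton_iff.2 rfl
  · exact (hTsub x hx).1

/-- In general `#(fibre) ≤ |C(g)|`. -/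
theorem card_bfFiber_le (g : G) :
    (bfFiber g).card ≤ Nat.card (Subgroup.centralizer {g}) := by
  rcases (bfFiber g).eq_empty_or_nonempty with h | ⟨p₀, hp₀⟩
  · rw [h]; simp
  rw [card_centralizer_eq]
  apply Finset.card_le_card_of_injOn (fun p : G × G => p₀.1⁻¹ * p.1)
  · intro p hp
    have h1 := fst_inverts (mem_coe.1 hp)
    have h0 := fst_inverts hp₀
    simp only [coe_filter, mem_univ, true_and, Set.mem_ofPred_eq]
    rw [mem_centralizer_iff_conj]
    have key : (p₀.1⁻¹ * p.1) * g * (p₀.1⁻¹ * p.1)⁻¹ = p₀.1⁻¹ * (p.1 * g * p.1⁻¹) * p₀.1 := by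
      group
    rw [key, h1]
    have : g⁻¹ = p₀.1 * g * p₀.1⁻¹ := h0.symm
    rw [this]; group
  · intro p hp q hq hpq
    apply fst_injOn_bfFiber g hp hq
    exact mul_left_cancel hpq

end Count

end Cfsg.Agent.Helper55

namespace Cfsg.Agent.Helper55

open Finset
open scoped Classical

theorem sum_indicator_eval {G : Type*} [Group G] [Fintype G] (a b d : ℤ) :
    ∑ g : G, (a + (if g = 1 then b else 0) + (if orderOf g = 2 then d else 0))
      = (Fintype.card G : ℤ) * a + b + ((invs G).card : ℤ) * d := by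
  rw [Finset.sum_add_distrib, Finset.sum_add_distrib, Finset.sum_const, Finset.sum_ite_eq' univ (1 : G)]
  simp only [mem_univ, if_true]
  rw [← Finset.sum_filter, Finset.sum_const]
  simp [invs]

/-- Master inequality: if `β g ≤ B g` pointwise (as integers) with `B` of indicator shape,
then `m² ≤ N a + b + m d`. -/
theorem sq_card_invs_le {G : Type*} [Group G] [Fintype G] (c a b d : ℤ)
    (h : ∀ g : G, c * ((bfFiber g).card : ℤ) ≤
      a + (if g = 1 then b else 0) + (if orderOf g = 2 then d else 0)) :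
    c * ((invs G).card : ℤ) ^ 2 ≤ (Fintype.card G : ℤ) * a + b + ((invs G).card : ℤ) * d := by
  rw [← sum_indicator_eval]
  have h1 : ((invs G).card : ℤ) ^ 2 = ∑ g : G, ((bfFiber g).card : ℤ) := by
    rw [← Nat.cast_sum, sum_card_bfFiber]; push_cast; ring
  rw [h1, Finset.mul_sum]
  exact Finset.sum_le_sum (fun g _ => h g)

end Cfsg.Agent.Helper55

namespace Cfsg.Agent.Helper55

open Finset
open scoped Classical

/-- The class of an involution `t` consists of involutions: `|G| ≤ |C(t)| · #I`. -/
theorem card_le_card_centralizer_mul_card_invs {G : Type*} [Group G] [Fintype G] {t : G}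
    (ht : orderOf t = 2) :
    Fintype.card G ≤ Nat.card (Subgroup.centralizer {t}) * (invs G).card := by
  have h := Finset.card_le_mul_card_image (s := (univ : Finset G)) (f := fun x => x * t * x⁻¹)
    (Nat.card (Subgroup.centralizer {t})) ?_
  · calc Fintype.card G = (univ : Finset G).card := rfl
      _ ≤ Nat.card (Subgroup.centralizer {t}) * (image (fun x => x * t * x⁻¹) univ).card := h
      _ ≤ Nat.card (Subgroup.centralizer {t}) * (invs G).card := by
        apply Nat.mul_le_mul_left _ (card_le_card ?_)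
        intro a ha
        obtain ⟨x, -, rfl⟩ := mem_image.1 ha
        rw [mem_invs]
        have hsc : SemiconjBy x t (x * t * x⁻¹) := by simp [SemiconjBy]
        rw [← hsc.orderOf_eq]; exact ht
  · intro a ha
    obtain ⟨x₀, -, rfl⟩ := mem_image.1 ha
    rw [card_centralizer_eq]
    apply card_le_card_of_injOn (fun x => x₀⁻¹ * x)
    · intro x hx
      simp only [coe_filter, mem_univ, true_and, Set.mem_ofPred_eq] at hx ⊢
      rw [mem_centralizer_iff_conj]
      have key : (x₀⁻¹ * x) * t * (x₀⁻¹ * x)⁻¹ = x₀⁻¹ * (x * t * x⁻¹) * x₀ := by group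
      rw [key, hx]; group
    · intro x _ y _ h
      exact mul_left_cancel h

end Cfsg.Agent.Helper55
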