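import Mathlib
import Cfsg.Agent.Helper55.BrauerFowler

/-!
# Counting with involutions II (helper55): class sizes, the unique involution of a cyclic group,
products of non-conjugate involutions have even order.
-/

set_option autoImplicit false

namespace Cfsg.Agent.Helper55

open Finset
open scoped Classical

section

variable {G : Type*} [Group G]

/-- Orbit–stabilizer for a conjugacy class, in `Finset` form. -/
theorem card_eq_card_centralizer_mul_card_conj [Fintype G] (t : G) :
    Fintype.card G =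
      Nat.card (Subgroup.centralizer {t}) * (univ.filter (fun a => IsConj t a)).card := by
  have h := Finset.card_eq_sum_card_fiberwise (f := fun x : G => x * t * x⁻¹) (s := univ)
    (t := univ.filter (fun a => IsConj t a))
    (by intro x _; simp only [coe_filter, mem_univ, true_and, Set.mem_ofPred_eq]
        exact isConj_iff.2 ⟨x, rfl⟩)
  rw [Finset.card_univ] at h
  rw [h, Finset.sum_const_nat (m := Nat.card (Subgroup.centralizer {t})), mul_comm]
  intro a ha
  obtain ⟨x₀, hx₀⟩ := isConj_iff.1 (mem_filter.1 ha).2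
  rw [card_centralizer_eq]
  apply Finset.card_bij (fun x _ => x₀⁻¹ * x)
  · intro x hx
    simp only [mem_filter, mem_univ, true_and] at hx ⊢
    rw [mem_centralizer_iff_conj]
    have key : (x₀⁻¹ * x) * t * (x₀⁻¹ * x)⁻¹ = x₀⁻¹ * (x * t * x⁻¹) * x₀ := by group
    rw [key, hx, ← hx₀]; group
  · intro x _ y _ h
    exact mul_left_cancel h
  · intro c hc
    simp only [mem_filter, mem_univ, true_and] at hc
    rw [mem_centralizer_iff_conj] at hc
    refine ⟨x₀ * c, ?_, by group⟩
    simp only [mem_filter, mem_univ, true_and]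
    have key : (x₀ * c) * t * (x₀ * c)⁻¹ = x₀ * (c * t * c⁻¹) * x₀⁻¹ := by group
    rw [key, hc, hx₀]

/-- A cyclic group has at most one involution. -/
theorem invol_unique_of_mem_zpowers [Finite G] {g a b : G} (ha : orderOf a = 2)
    (hb : orderOf b = 2) (ha' : a ∈ Subgroup.zpowers g) (hb' : b ∈ Subgroup.zpowers g) :
    a = b := by
  by_contra hab
  have : Fintype (Subgroup.zpowers g) := Fintype.ofFinite _
  have hle := IsCyclic.card_pow_eq_one_le (α := Subgroup.zpowers g) (n := 2) (by norm_num)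
  set A : Subgroup.zpowers g := ⟨a, ha'⟩ with hA
  set B : Subgroup.zpowers g := ⟨b, hb'⟩ with hB
  have hA2 : A ^ 2 = 1 := by
    apply Subtype.ext
    simp only [hA, Subgroup.coe_pow, Subgroup.coe_one]
    rw [← ha]; exact pow_orderOf_eq_one a
  have hB2 : B ^ 2 = 1 := by
    apply Subtype.ext
    simp only [hB, Subgroup.coe_pow, Subgroup.coe_one]
    rw [← hb]; exact pow_orderOf_eq_one b
  have hA1 : A ≠ 1 := by
    intro h
    have : a = 1 := congrArg Subtype.val h
    rw [this, orderOf_one] at ha; omega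
  have hB1 : B ≠ 1 := by
    intro h
    have : b = 1 := congrArg Subtype.val h
    rw [this, orderOf_one] at hb; omega
  have hAB : A ≠ B := fun h => hab (congrArg Subtype.val h)
  have hsub : ({1, A, B} : Finset (Subgroup.zpowers g)) ⊆
      univ.filter (fun x : Subgroup.zpowers g => x ^ 2 = 1) := by
    intro x hx
    simp only [mem_insert, mem_singleton] at hx
    simp only [mem_filter, mem_univ, true_and]
    rcases hx with rfl | rfl | rfl
    · exact one_pow 2
    · exact hA2
    · exact hB2
  have hcard : ({1, A, B} : Finset (Subgroup.zpowers g)).card = 3 := by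
    rw [card_insert_of_notMem, card_insert_of_notMem, card_singleton]
    · simpa using hAB
    · simp only [mem_insert, mem_singleton, not_or]
      exact ⟨fun h => hA1 h.symm, fun h => hB1 h.symm⟩
  have := card_le_card hsub
  omega

/-- If `u`, `v` are involutions and `u * v` has odd order then `u` and `v` are conjugate. -/
theorem isConj_of_odd_orderOf_mul {u v : G} (hu : orderOf u = 2) (hv : orderOf v = 2)
    (hodd : Odd (orderOf (u * v))) : IsConj u v := by
  obtain ⟨k, hk⟩ := hodd
  set g := u * v with hg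
  have hinv : u * g * u⁻¹ = g⁻¹ := conj_mul_of_invol hu hv
  have huu := inv_eq_self_of_orderOf_two hu
  have hvv := inv_eq_self_of_orderOf_two hv
  -- u g^j u⁻¹ = g^(-j)
  have hpow : ∀ j : ℕ, u * g ^ j * u⁻¹ = (g ^ j)⁻¹ := by
    intro j
    rw [← conj_pow, hinv, inv_pow]
  have hgk : g ^ (2 * k + 1) = 1 := by rw [← hk]; exact pow_orderOf_eq_one g
  -- h = g^(k+1):  h⁻¹ u h = v
  rw [isConj_iff]
  refine ⟨(g ^ (k + 1))⁻¹, ?_⟩
  rw [inv_inv]
  have h1 : u * g ^ (k + 1) = (g ^ (k + 1))⁻¹ * u := by
    have := hpow (k + 1)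
    calc u * g ^ (k + 1) = (u * g ^ (k + 1) * u⁻¹) * u := by group
      _ = (g ^ (k + 1))⁻¹ * u := by rw [this]
  have h2 : (g ^ (k + 1))⁻¹ * (g ^ (k + 1))⁻¹ = g⁻¹ := by
    have : g ^ (k + 1) * g ^ (k + 1) = g := by
      rw [← pow_add]
      have : k + 1 + (k + 1) = (2 * k + 1) + 1 := by ring
      rw [this, pow_succ, hgk, one_mul]
    rw [← mul_inv_rev, this]
  calc (g ^ (k + 1))⁻¹ * u * g ^ (k + 1) = (g ^ (k + 1))⁻¹ * (u * g ^ (k + 1)) := by group
    _ = (g ^ (k + 1))⁻¹ * ((g ^ (k + 1))⁻¹ * u) := by rw [h1]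
    _ = ((g ^ (k + 1))⁻¹ * (g ^ (k + 1))⁻¹) * u := by group
    _ = g⁻¹ * u := by rw [h2]
    _ = v := by rw [hg, mul_inv_rev, huu, hvv, mul_assoc, mul_self_of_orderOf_two hu, mul_one]

theorem conj_mem_zpowers {g a : G} (h : G) (ha : a ∈ Subgroup.zpowers g) :
    h * a * h⁻¹ ∈ Subgroup.zpowers (h * g * h⁻¹) := by
  obtain ⟨k, rfl⟩ := Subgroup.mem_zpowers_iff.1 ha
  exact Subgroup.mem_zpowers_iff.2 ⟨k, conj_zpow⟩

theorem orderOf_conj_eq (h t : G) : orderOf (h * t * h⁻¹) = orderOf t := by
  have hsc : SemiconjBy h t (h * t * h⁻¹) := by simp [SemiconjBy]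
  exact hsc.orderOf_eq.symm

end

end Cfsg.Agent.Helper55
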