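import Mathlib
import Cfsg.Agent.Helper55.InvolCount

/-!
# Groups whose 2-subgroups are of "dihedral type" (helper55)

`DihType T`: the subgroup `T` has a cyclic subgroup `A` such that every element of `T` outside `A`
is an involution inverting `A`, and the product of two elements outside `A` lies in `A`
(cyclic groups, four-groups and dihedral groups are of this type; the class is closed under
subgroups and isomorphic images).
-/

set_option autoImplicit false

namespace Cfsg.Agent.Helper55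

section Basic

variable {H : Type*} [Group H]

/-- "Dihedral type" subgroups. -/
def DihType (T : Subgroup H) : Prop :=
  ∃ A : Subgroup H, A ≤ T ∧ IsCyclic A ∧
    (∀ x ∈ T, x ∉ A → x * x = 1 ∧ ∀ a ∈ A, x * a * x⁻¹ = a⁻¹) ∧
    (∀ x ∈ T, ∀ y ∈ T, x ∉ A → y ∉ A → x * y ∈ A)

theorem DihType.mono {T U : Subgroup H} (hT : DihType T) (hUT : U ≤ T) : DihType U := by
  obtain ⟨A, hAT, hAc, hinv, hmul⟩ := hT
  refine ⟨A ⊓ U, inf_le_right, Subgroup.isCyclic_of_le (inf_le_left : A ⊓ U ≤ A), ?_, ?_⟩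
  · intro x hxU hxA
    have hxA' : x ∉ A := fun h => hxA ⟨h, hxU⟩
    obtain ⟨h1, h2⟩ := hinv x (hUT hxU) hxA'
    exact ⟨h1, fun a ha => h2 a ha.1⟩
  · intro x hxU y hyU hxA hyA
    have hxA' : x ∉ A := fun h => hxA ⟨h, hxU⟩
    have hyA' : y ∉ A := fun h => hyA ⟨h, hyU⟩
    exact ⟨hmul x (hUT hxU) y (hUT hyU) hxA' hyA', U.mul_mem hxU hyU⟩

theorem DihType.map {H' : Type*} [Group H'] (φ : H →* H') (hφ : Function.Injective φ)
    {T : Subgroup H} (hT : DihType T) : DihType (T.map φ) := by
  obtain ⟨A, hAT, hAc, hinv, hmul⟩ := hT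
  have hmem : ∀ x : H, φ x ∈ A.map φ → x ∈ A := by
    intro x hx
    obtain ⟨y, hy, hyx⟩ := Subgroup.mem_map.1 hx
    rwa [← hφ hyx]
  refine ⟨A.map φ, Subgroup.map_mono hAT, ?_, ?_, ?_⟩
  · have hsurj : Function.Surjective (φ.subgroupMap A) := φ.subgroupMap_surjective A
    exact isCyclic_of_surjective (φ.subgroupMap A) hsurj
  · intro x' hx' hx'A
    obtain ⟨x, hx, rfl⟩ := Subgroup.mem_map.1 hx'
    have hxA : x ∉ A := fun h => hx'A (Subgroup.mem_map_of_mem φ h)
    obtain ⟨h1, h2⟩ := hinv x hx hxA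
    refine ⟨by rw [← map_mul, h1, map_one], ?_⟩
    intro a' ha'
    obtain ⟨a, ha, rfl⟩ := Subgroup.mem_map.1 ha'
    rw [← map_inv, ← map_mul, ← map_mul, h2 a ha, map_inv]
  · intro x' hx' y' hy' hx'A hy'A
    obtain ⟨x, hx, rfl⟩ := Subgroup.mem_map.1 hx'
    obtain ⟨y, hy, rfl⟩ := Subgroup.mem_map.1 hy'
    have hxA : x ∉ A := fun h => hx'A (Subgroup.mem_map_of_mem φ h)
    have hyA : y ∉ A := fun h => hy'A (Subgroup.mem_map_of_mem φ h)
    rw [← map_mul]
    exact Subgroup.mem_map_of_mem φ (hmul x hx y hy hxA hyA)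

theorem DihType.of_map {H' : Type*} [Group H'] (φ : H →* H') (hφ : Function.Injective φ)
    {T : Subgroup H} (hT : DihType (T.map φ)) : DihType T := by
  obtain ⟨A', hAT, hAc, hinv, hmul⟩ := hT
  have hAT' : A'.comap φ ≤ T := by
    intro x hx
    have : φ x ∈ T.map φ := hAT hx
    obtain ⟨y, hy, hyx⟩ := Subgroup.mem_map.1 this
    rwa [← hφ hyx]
  refine ⟨A'.comap φ, hAT', ?_, ?_, ?_⟩
  · -- A'.comap φ embeds in A'
    let ψ : A'.comap φ →* A' :=
      { toFun := fun x => ⟨φ x.1, x.2⟩
        map_one' := by ext; simp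
        map_mul' := by intro x y; ext; simp }
    have hψ : Function.Injective ψ := by
      intro x y hxy
      have : φ x.1 = φ y.1 := congrArg Subtype.val hxy
      exact Subtype.ext (hφ this)
    exact isCyclic_of_injective ψ hψ
  · intro x hx hxA
    have hx' : φ x ∈ T.map φ := Subgroup.mem_map_of_mem φ hx
    obtain ⟨h1, h2⟩ := hinv (φ x) hx' hxA
    refine ⟨hφ (by rw [map_mul, h1, map_one]), ?_⟩
    intro a ha
    apply hφ
    rw [map_mul, map_mul, map_inv, map_inv]
    exact h2 (φ a) ha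
  · intro x hx y hy hxA hyA
    have hx' : φ x ∈ T.map φ := Subgroup.mem_map_of_mem φ hx
    have hy' : φ y ∈ T.map φ := Subgroup.mem_map_of_mem φ hy
    show φ (x * y) ∈ A'
    rw [map_mul]
    exact hmul (φ x) hx' (φ y) hy' hxA hyA

end Basic

end Cfsg.Agent.Helper55

namespace Cfsg.Agent.Helper55

section Dihedral

open DihedralGroup

theorem r_mem_zpowers_r_one {n : ℕ} (i : ZMod n) :
    (r i : DihedralGroup n) ∈ Subgroup.zpowers (r 1 : DihedralGroup n) := by
  obtain ⟨k, hk⟩ : ∃ k : ℤ, (k : ZMod n) = i := ZMod.intCast_surjective i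
  refine Subgroup.mem_zpowers_iff.2 ⟨k, ?_⟩
  rw [r_zpow, one_mul, hk]

theorem sr_notMem_zpowers_r_one {n : ℕ} (i : ZMod n) :
    (sr i : DihedralGroup n) ∉ Subgroup.zpowers (r 1 : DihedralGroup n) := by
  intro h
  obtain ⟨k, hk⟩ := Subgroup.mem_zpowers_iff.1 h
  rw [r_zpow] at hk
  exact absurd hk (by simp)

theorem dihType_top_dihedralGroup (n : ℕ) : DihType (⊤ : Subgroup (DihedralGroup n)) := by
  refine ⟨Subgroup.zpowers (r 1), le_top, inferInstance, ?_, ?_⟩
  · intro x _ hx
    rcases x with i | i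
    · exact absurd (r_mem_zpowers_r_one i) hx
    · refine ⟨sr_mul_self i, ?_⟩
      intro a ha
      obtain ⟨k, rfl⟩ := Subgroup.mem_zpowers_iff.1 ha
      rw [r_zpow]
      simp [sub_eq_add_neg]
  · intro x _ y _ hx hy
    rcases x with i | i
    · exact absurd (r_mem_zpowers_r_one i) hx
    · rcases y with j | j
      · exact absurd (r_mem_zpowers_r_one j) hy
      · rw [sr_mul_sr]
        exact r_mem_zpowers_r_one _

end Dihedral

section Sylow

variable {X : Type*} [Group X] [Finite X]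

/-- If a Sylow 2-subgroup of `X` is isomorphic to a dihedral group, every 2-subgroup of `X` is of
dihedral type. -/
theorem dihType_of_sylow_dihedral (S : Sylow 2 X) (n : ℕ)
    (hS : Nonempty ((S : Subgroup X) ≃* DihedralGroup n)) (U : Subgroup X) (hU : IsPGroup 2 U) :
    DihType U := by
  have hp2 : Fact (Nat.Prime 2) := ⟨Nat.prime_two⟩
  obtain ⟨e⟩ := hS
  -- S itself is of dihedral type
  have hSD : DihType (S : Subgroup X) := by
    let φ : DihedralGroup n →* X := (S : Subgroup X).subtype.comp e.symm.toMonoidHom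
    have hφ : Function.Injective φ := by
      intro a b hab
      have : (e.symm a : X) = (e.symm b : X) := hab
      exact e.symm.injective (Subtype.ext this)
    have himg : (⊤ : Subgroup (DihedralGroup n)).map φ = (S : Subgroup X) := by
      ext x
      constructor
      · rintro ⟨a, -, rfl⟩
        exact (e.symm a).2
      · intro hx
        refine ⟨e ⟨x, hx⟩, trivial, ?_⟩
        show ((e.symm (e ⟨x, hx⟩) : S) : X) = x
        rw [MulEquiv.symm_apply_apply]
    rw [← himg]
    exact (dihType_top_dihedralGroup n).map φ hφ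
  -- U lies in a conjugate of S
  obtain ⟨Q, hQ⟩ := hU.exists_le_sylow
  obtain ⟨g, hg⟩ := MulAction.exists_smul_eq X S Q
  have hQD : DihType (Q : Subgroup X) := by
    have h1 : (Q : Subgroup X) = (S : Subgroup X).map (MulAut.conj g).toMonoidHom := by
      rw [← hg]; rfl
    rw [h1]
    exact hSD.map _ (MulAut.conj g).injective
  exact hQD.mono hQ

end Sylow

end Cfsg.Agent.Helper55
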