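import Mathlib
import Cfsg.Agent.Helper55.DihType
import Cfsg.Agent.S0111

/-!
# Normal 2-complements for groups with a central involution and dihedral-type Sylow 2-subgroups
(helper55)
-/

set_option autoImplicit false

namespace Cfsg.Agent.Helper55

section Lemmas

variable {H : Type*} [Group H]

/-- A normal subgroup of odd order and 2-power index is the set of elements of odd order. -/
theorem mem_iff_odd_orderOf [Finite H] {K : Subgroup H} (hK : K.Normal) (hodd : Odd (Nat.card K))
    {k : ℕ} (hidx : K.index = 2 ^ k) (x : H) : x ∈ K ↔ Odd (orderOf x) := by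
  constructor
  · intro hx
    exact Odd.of_dvd_nat hodd (Subgroup.orderOf_dvd_natCard K hx)
  · intro hx
    have h1 : orderOf (QuotientGroup.mk' K x) ∣ orderOf x := orderOf_map_dvd _ x
    have h2 : orderOf (QuotientGroup.mk' K x) ∣ 2 ^ k := by
      rw [← hidx, Subgroup.index_eq_card]
      exact orderOf_dvd_natCard _
    obtain ⟨j, -, hj⟩ := (Nat.dvd_prime_pow Nat.prime_two).1 h2
    have h3 : Odd (orderOf (QuotientGroup.mk' K x)) := Odd.of_dvd_nat hx h1
    rw [hj] at h3
    have hj0 : j = 0 := by
      by_contra hne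
      have : Even (2 ^ j) := (Nat.even_pow.2 ⟨even_two, hne⟩)
      exact (Nat.not_even_iff_odd.2 h3) this
    rw [hj0, pow_zero, orderOf_eq_one_iff] at hj
    exact (QuotientGroup.eq_one_iff x).1 hj

/-- Packaging of Burnside's normal `p`-complement theorem for `p = 2`. -/
theorem exists_normal_two_complement_of_burnside [Finite H] (P : Sylow 2 H)
    (hP : Subgroup.normalizer ((P : Subgroup H) : Set H) ≤ Subgroup.centralizer (P : Set H)) :
    ∃ K : Subgroup H, K.Normal ∧ Odd (Nat.card K) ∧ ∃ k : ℕ, K.index = 2 ^ k := by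
  have hp2 : Fact (Nat.Prime 2) := ⟨Nat.prime_two⟩
  refine ⟨(MonoidHom.transferSylow P hP).ker, MonoidHom.normal_ker _, ?_, ?_⟩
  · have := MonoidHom.not_dvd_card_ker_transferSylow P hP
    rw [← Nat.not_even_iff_odd, even_iff_two_dvd]
    exact this
  · have hc := MonoidHom.ker_transferSylow_isComplement' P hP
    obtain ⟨k, hk⟩ := P.2.exists_card_eq
    exact ⟨k, by rw [hc.symm.index_eq_card, hk]⟩

theorem zpowers_normal_of_mem_center {z : H} (hz : z ∈ Subgroup.center H) :
    (Subgroup.zpowers z).Normal := by
  constructor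
  intro x hx g
  have hxc : x ∈ Subgroup.center H := (Subgroup.zpowers_le.2 hz) hx
  have : g * x * g⁻¹ = x := by
    rw [Subgroup.mem_center_iff] at hxc
    rw [hxc g]; group
  rw [this]; exact hx

/-- A central involution lies in every Sylow 2-subgroup. -/
theorem central_invol_mem_sylow [Finite H] {z : H} (hz : z ∈ Subgroup.center H)
    (hzo : orderOf z = 2) (T : Sylow 2 H) : z ∈ (T : Subgroup H) := by
  have hp2 : Fact (Nat.Prime 2) := ⟨Nat.prime_two⟩
  have hn : (Subgroup.zpowers z).Normal := zpowers_normal_of_mem_center hz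
  have hp : IsPGroup 2 (Subgroup.zpowers z) :=
    IsPGroup.of_card (n := 1) (by rw [Nat.card_zpowers, hzo, pow_one])
  exact hp.le_sylow_of_normal T (Subgroup.mem_zpowers z)

/-- A cyclic subgroup (as a subgroup of `H`) is contained in the `zpowers` of a generator. -/
theorem exists_le_zpowers_of_isCyclic {A : Subgroup H} (hA : IsCyclic A) :
    ∃ g₀ : H, g₀ ∈ A ∧ ∀ y ∈ A, y ∈ Subgroup.zpowers g₀ := by
  obtain ⟨g, hg⟩ := hA.exists_generator
  refine ⟨g, g.2, ?_⟩
  intro y hy
  obtain ⟨k, hk⟩ := Subgroup.mem_zpowers_iff.1 (hg ⟨y, hy⟩)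
  refine Subgroup.mem_zpowers_iff.2 ⟨k, ?_⟩
  have := congrArg Subtype.val hk
  simpa using this

end Lemmas

end Cfsg.Agent.Helper55

namespace Cfsg.Agent.Helper55

section Small

variable {H : Type*} [Group H]

/-- A 2-element normalizing a Sylow 2-subgroup lies in it. -/
theorem mem_sylow_of_mem_normalizer_of_orderOf [Finite H] (T : Sylow 2 H) {g : H}
    (hg : g ∈ Subgroup.normalizer ((T : Subgroup H) : Set H)) {i : ℕ} (hgo : orderOf g = 2 ^ i) :
    g ∈ (T : Subgroup H) := by
  have hp2 : Fact (Nat.Prime 2) := ⟨Nat.prime_two⟩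
  have hp : IsPGroup 2 (Subgroup.zpowers g) :=
    IsPGroup.of_card (n := i) (by rw [Nat.card_zpowers, hgo])
  have h1 := hp.inf_normalizer_sylow T
  have h2 : g ∈ Subgroup.zpowers g ⊓ Subgroup.normalizer (T : Set H) :=
    ⟨Subgroup.mem_zpowers g, hg⟩
  rw [h1] at h2
  exact h2.2

/-- Small case: a Sylow 2-subgroup of exponent 2 with at most four elements containing a central
involution satisfies `N(T) ≤ C(T)`. -/
theorem normalizer_le_centralizer_of_small [Finite H] (T : Sylow 2 H) {z g₀ s : H}
    (hz : z ∈ Subgroup.center H) (hz1 : z ≠ 1) (hzT : z ∈ (T : Subgroup H))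
    (hT4 : ∀ x ∈ (T : Subgroup H), x = 1 ∨ x = g₀ ∨ x = s ∨ x = s * g₀)
    (hsq : ∀ x ∈ (T : Subgroup H), x * x = 1) :
    Subgroup.normalizer ((T : Subgroup H) : Set H) ≤ Subgroup.centralizer ((T : Subgroup H) : Set H) := by
  classical
  -- T is abelian
  have hcomm : ∀ x ∈ (T : Subgroup H), ∀ y ∈ (T : Subgroup H), x * y = y * x := by
    intro x hx y hy
    have h1 := hsq x hx
    have h2 := hsq y hy
    have h3 := hsq (x * y) (Subgroup.mul_mem _ hx hy)
    have hxi : x⁻¹ = x := inv_eq_of_mul_eq_one_left h1
    have hyi : y⁻¹ = y := inv_eq_of_mul_eq_one_left h2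
    have h4 : (x * y)⁻¹ = x * y := inv_eq_of_mul_eq_one_left h3
    rw [mul_inv_rev, hxi, hyi] at h4
    exact h4.symm
  -- squares of normalizing elements centralize
  have hclaim1 : ∀ g ∈ Subgroup.normalizer ((T : Subgroup H) : Set H), ∀ x ∈ (T : Subgroup H),
      g * g * x * (g * g)⁻¹ = x := by
    intro g hg x hx
    have hc : ∀ y, y ∈ (T : Subgroup H) ↔ g * y * g⁻¹ ∈ (T : Subgroup H) :=
      Subgroup.mem_normalizer_iff.1 hg
    have hinj : ∀ y y' : H, g * y * g⁻¹ = g * y' * g⁻¹ → y = y' := by
      intro y y' h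
      exact mul_left_cancel (mul_right_cancel h)
    have hzc : g * z * g⁻¹ = z := by
      rw [Subgroup.mem_center_iff] at hz
      rw [hz g]; group
    have h1c : g * 1 * g⁻¹ = 1 := by group
    set x₁ := g * x * g⁻¹ with hx₁
    set x₂ := g * x₁ * g⁻¹ with hx₂
    have hx₁T : x₁ ∈ (T : Subgroup H) := (hc x).1 hx
    have hx₂T : x₂ ∈ (T : Subgroup H) := (hc x₁).1 hx₁T
    have hgoal : g * g * x * (g * g)⁻¹ = x₂ := by rw [hx₂, hx₁]; group
    rw [hgoal]
    by_contra hne
    have d1 : x₁ ≠ x := by
      intro h
      apply hne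
      rw [hx₂, h, ← hx₁, h]
    have d2 : x₂ ≠ x₁ := by
      intro h
      exact d1 (hinj _ _ h)
    have d3 : x ≠ 1 := by
      intro h
      apply hne
      rw [hx₂, hx₁, h, h1c, h1c]
    have d4 : x ≠ z := by
      intro h
      apply hne
      rw [hx₂, hx₁, h, hzc, hzc]
    have d5 : x₁ ≠ 1 := by
      intro h
      apply d3
      apply hinj
      rw [h1c]; exact h
    have d6 : x₁ ≠ z := by
      intro h
      apply d4
      apply hinj
      rw [hzc]; exact h
    have d7 : x₂ ≠ 1 := by
      intro h
      apply d5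
      apply hinj
      rw [h1c]; exact h
    have d8 : x₂ ≠ z := by
      intro h
      apply d6
      apply hinj
      rw [hzc]; exact h
    have hsub : ({1, z, x, x₁, x₂} : Finset H) ⊆ ({1, g₀, s, s * g₀} : Finset H) := by
      intro y hy
      simp only [Finset.mem_insert, Finset.mem_singleton] at hy ⊢
      rcases hy with rfl | rfl | rfl | rfl | rfl
      · exact Or.inl rfl
      · exact hT4 _ hzT
      · exact hT4 _ hx
      · exact hT4 _ hx₁T
      · exact hT4 _ hx₂T
    have hcard5 : ({1, z, x, x₁, x₂} : Finset H).card = 5 := by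
      rw [Finset.card_insert_of_notMem, Finset.card_insert_of_notMem,
        Finset.card_insert_of_notMem, Finset.card_insert_of_notMem, Finset.card_singleton]
      · simpa using d2.symm
      · simp only [Finset.mem_insert, Finset.mem_singleton, not_or]
        exact ⟨d1.symm, fun h => hne h.symm⟩
      · simp only [Finset.mem_insert, Finset.mem_singleton, not_or]
        exact ⟨d4.symm, d6.symm, d8.symm⟩
      · simp only [Finset.mem_insert, Finset.mem_singleton, not_or]
        exact ⟨hz1.symm, d3.symm, d5.symm, d7.symm⟩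
    have h4 : ({1, g₀, s, s * g₀} : Finset H).card ≤ 4 := Finset.card_le_four
    have := Finset.card_le_card hsub
    omega
  intro g hg
  -- decompose the order of g
  have ho : orderOf g ≠ 0 := (orderOf_pos g).ne'
  obtain ⟨i, o', ho'odd, hoeq⟩ := Nat.exists_eq_two_pow_mul_odd ho
  obtain ⟨k, hk⟩ := ho'odd
  have ho'pos : o' ≠ 0 := by omega
  have hg2 : g ^ o' ∈ Subgroup.normalizer ((T : Subgroup H) : Set H) := Subgroup.pow_mem _ hg _
  have hg2o : orderOf (g ^ o') = 2 ^ i := by
    rw [orderOf_pow_of_dvd ho'pos ⟨2 ^ i, by rw [hoeq]; ring⟩, hoeq]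
    exact Nat.mul_div_cancel _ (Nat.pos_of_ne_zero ho'pos)
  have hg2T : g ^ o' ∈ (T : Subgroup H) := mem_sylow_of_mem_normalizer_of_orderOf T hg2 hg2o
  have hg2C : g ^ o' ∈ Subgroup.centralizer ((T : Subgroup H) : Set H) := by
    rw [Subgroup.mem_centralizer_iff]
    intro x hx
    exact hcomm x hx _ hg2T
  have hggC : g * g ∈ Subgroup.centralizer ((T : Subgroup H) : Set H) := by
    rw [Subgroup.mem_centralizer_iff]
    intro x hx
    have := hclaim1 g hg x hx
    calc x * (g * g) = (g * g * x * (g * g)⁻¹) * (g * g) := by rw [this]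
      _ = g * g * x := by group
  have hgeq : g = g ^ o' * ((g * g) ^ k)⁻¹ := by
    have h1 : (g * g) ^ k = g ^ (2 * k) := by rw [← pow_two, ← pow_mul]
    rw [hk, h1, pow_succ', mul_inv_cancel_right]
  rw [hgeq]
  exact Subgroup.mul_mem _ hg2C (Subgroup.inv_mem _ (Subgroup.pow_mem _ hggC _))

end Small

end Cfsg.Agent.Helper55

namespace Cfsg.Agent.Helper55

universe u

/-- **Main theorem**: a finite group with a central involution all of whose 2-subgroups are of
dihedral type has a normal 2-complement. -/
theorem exists_normal_two_complement_of_dihType : ∀ (n : ℕ) (H : Type u) [Group H] [Finite H],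
    Nat.card H = n → (∀ U : Subgroup H, IsPGroup 2 U → DihType U) →
    ∀ z : H, z ∈ Subgroup.center H → orderOf z = 2 →
    ∃ K : Subgroup H, K.Normal ∧ Odd (Nat.card K) ∧ ∃ k : ℕ, K.index = 2 ^ k := by
  intro n
  induction n using Nat.strong_induction_on with
  | _ n ih =>
  intro H _ _ hcard hD z hz hzo
  have hp2 : Fact (Nat.Prime 2) := ⟨Nat.prime_two⟩
  obtain ⟨T⟩ : Nonempty (Sylow 2 H) := Sylow.nonempty
  have hzT : z ∈ (T : Subgroup H) := central_invol_mem_sylow hz hzo T
  have hz1 : z ≠ 1 := by
    intro h; rw [h, orderOf_one] at hzo; omega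
  by_cases hcyc : IsCyclic (T : Subgroup H)
  · -- cyclic Sylow 2-subgroup: Burnside
    have hmin : (Nat.card H).minFac = 2 := by
      rw [Nat.minFac_eq_two_iff, ← hzo]; exact orderOf_dvd_natCard z
    exact exists_normal_two_complement_of_burnside T (hcyc.normalizer_le_centralizer hmin)
  · obtain ⟨A, hAT, hAc, hinv, hmul⟩ := hD T T.2
    have hex : ∃ s ∈ (T : Subgroup H), s ∉ A := by
      by_contra hno
      push Not at hno
      have hTA : (T : Subgroup H) ≤ A := hno
      exact hcyc (Subgroup.isCyclic_of_le hTA)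
    obtain ⟨s, hsT, hsA⟩ := hex
    obtain ⟨g₀, hg₀A, hg₀⟩ := exists_le_zpowers_of_isCyclic hAc
    have hss : s * s = 1 := (hinv s hsT hsA).1
    have hs1 : s ≠ 1 := fun h => hsA (h ▸ A.one_mem)
    have hsinv : s⁻¹ = s := inv_eq_of_mul_eq_one_left hss
    by_cases hsq : ∀ a ∈ A, a * a = 1
    · -- elementary abelian of order at most four
      have hA2 : ∀ a ∈ A, a = 1 ∨ a = g₀ := by
        intro a ha
        obtain ⟨k, rfl⟩ := Subgroup.mem_zpowers_iff.1 (hg₀ a ha)
        have hgg : g₀ ^ (2 : ℤ) = 1 := by
          rw [zpow_two]; exact hsq g₀ hg₀A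
        rcases Int.even_or_odd' k with ⟨j, rfl | rfl⟩
        · left; rw [zpow_mul, hgg, one_zpow]
        · right; rw [zpow_add, zpow_mul, hgg, one_zpow, one_mul, zpow_one]
      have hT4 : ∀ x ∈ (T : Subgroup H), x = 1 ∨ x = g₀ ∨ x = s ∨ x = s * g₀ := by
        intro x hx
        by_cases hxA : x ∈ A
        · rcases hA2 x hxA with h | h
          · exact Or.inl h
          · exact Or.inr (Or.inl h)
        · have h1 := hmul s hsT x hx hsA hxA
          rcases hA2 _ h1 with h | h
          · right; right; left
            have : x = s⁻¹ := eq_inv_of_mul_eq_one_right h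
            rw [this, hsinv]
          · right; right; right
            have : x = s⁻¹ * g₀ := by rw [← h]; group
            rw [this, hsinv]
      have hsqT : ∀ x ∈ (T : Subgroup H), x * x = 1 := by
        intro x hx
        by_cases hxA : x ∈ A
        · exact hsq x hxA
        · exact (hinv x hx hxA).1
      exact exists_normal_two_complement_of_burnside T
        (normalizer_le_centralizer_of_small T hz hz1 hzT hT4 hsqT)
    · -- A has an element of order at least 4: Thompson transfer
      push Not at hsq
      obtain ⟨a, haA, ha2⟩ := hsq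
      have hzA : z ∈ A := by
        by_contra hzA
        have h1 := (hinv z hzT hzA).2 a haA
        have h2 : z * a * z⁻¹ = a := by
          rw [Subgroup.mem_center_iff] at hz
          rw [← hz a]; group
        rw [h2] at h1
        apply ha2
        nth_rewrite 1 [h1]
        exact inv_mul_cancel a
      have hso : orderOf s = 2 := orderOf_eq_prime (by rw [pow_two]; exact hss) hs1
      have hrel : A.relIndex (T : Subgroup H) = 2 := by
        rw [Subgroup.relIndex, Subgroup.index_eq_two_iff]
        refine ⟨⟨s, hsT⟩, fun b => ?_⟩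
        by_cases hb : (b : H) ∈ A
        · refine Or.inr ⟨Subgroup.mem_subgroupOf.2 hb, ?_⟩
          intro h
          have h' : (b : H) * s ∈ A := Subgroup.mem_subgroupOf.1 h
          apply hsA
          have : s = (b : H)⁻¹ * ((b : H) * s) := by group
          rw [this]
          exact A.mul_mem (A.inv_mem hb) h'
        · refine Or.inl ⟨Subgroup.mem_subgroupOf.2 ?_, fun h => hb (Subgroup.mem_subgroupOf.1 h)⟩
          exact hmul b b.2 s hsT hb hsA
      -- involutions of A are equal to z
      have huniq : ∀ w ∈ A, orderOf w = 2 → w = z := by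
        intro w hw hwo
        exact invol_unique_of_mem_zpowers hwo hzo (hg₀ w hw) (hg₀ z hzA)
      rcases Cfsg.Agent.S0111.result T A hAT hrel s hso hsT hsA with ⟨M, hMn, hMi, hsM⟩ | ⟨g, hg⟩
      · -- induction on M
        have hzM : z ∈ M := by
          -- z is a square
          have haT : a ∈ (T : Subgroup H) := hAT haA
          obtain ⟨j, hj⟩ := (IsPGroup.iff_orderOf.1 T.2) ⟨a, haT⟩
          rw [Subgroup.orderOf_mk] at hj
          have ha1 : a ≠ 1 := by
            intro h; apply ha2; rw [h, mul_one]
          have hj2 : 2 ≤ j := by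
            rcases j with _ | _ | j
            · rw [pow_zero, orderOf_eq_one_iff] at hj; exact absurd hj ha1
            · exfalso; apply ha2
              rw [← pow_two]
              have := pow_orderOf_eq_one a
              rwa [hj, pow_one] at this
            · omega
          obtain ⟨j', rfl⟩ : ∃ j', j = j' + 2 := ⟨j - 2, by omega⟩
          have hw : orderOf (a ^ (orderOf a / 2)) = 2 :=
            orderOf_pow_orderOf_div (orderOf_pos a).ne' (by rw [hj]; exact ⟨2 ^ (j' + 1), by ring⟩)
          have hdiv : orderOf a / 2 = 2 ^ j' + 2 ^ j' := by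
            rw [hj]
            have : 2 ^ (j' + 2) = 2 * (2 ^ j' + 2 ^ j') := by ring
            rw [this, Nat.mul_div_cancel_left _ (by norm_num : 0 < 2)]
          have hwA : a ^ (orderOf a / 2) ∈ A := A.pow_mem haA _
          have hwz := huniq _ hwA hw
          rw [← hwz, hdiv, pow_add]
          exact Subgroup.mul_self_mem_of_index_two hMi _
        have hMcard : Nat.card M < n := by
          have h1 := Subgroup.card_mul_index M
          rw [hMi, hcard] at h1
          have : 0 < Nat.card M := Nat.card_pos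
          omega
        have hD' : ∀ U : Subgroup M, IsPGroup 2 U → DihType U := by
          intro U hU
          have hU' : IsPGroup 2 (U.map M.subtype) := hU.map M.subtype
          exact (hD _ hU').of_map M.subtype M.subtype_injective
        have hz'c : (⟨z, hzM⟩ : M) ∈ Subgroup.center M := by
          rw [Subgroup.mem_center_iff]
          intro g
          apply Subtype.ext
          rw [Subgroup.mem_center_iff] at hz
          exact hz g
        have hz'o : orderOf (⟨z, hzM⟩ : M) = 2 := by rw [Subgroup.orderOf_mk, hzo]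
        obtain ⟨K₁, hK₁n, hK₁odd, k, hK₁idx⟩ :=
          ih (Nat.card M) hMcard M rfl hD' ⟨z, hzM⟩ hz'c hz'o
        have hchar := mem_iff_odd_orderOf hK₁n hK₁odd hK₁idx
        refine ⟨K₁.map M.subtype, ?_, ?_, k + 1, ?_⟩
        · constructor
          intro x hx g
          obtain ⟨y, hy, rfl⟩ := Subgroup.mem_map.1 hx
          have hmem : g * (y : H) * g⁻¹ ∈ M := hMn.conj_mem _ y.2 g
          refine Subgroup.mem_map.2 ⟨⟨g * (y : H) * g⁻¹, hmem⟩, ?_, rfl⟩
          rw [hchar, Subgroup.orderOf_mk, orderOf_conj_eq, Subgroup.orderOf_coe]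
          exact (hchar y).1 hy
        · rw [Subgroup.card_map_of_injective M.subtype_injective]
          exact hK₁odd
        · rw [Subgroup.index_map_subtype, hK₁idx, hMi, pow_succ]
      · -- s would be conjugate to z, hence equal to it
        exfalso
        have h1 : orderOf (g * s * g⁻¹) = 2 := by rw [orderOf_conj_eq]; exact hso
        have h2 := huniq _ hg h1
        have h3 : s = z := by
          have : s = g⁻¹ * (g * s * g⁻¹) * g := by group
          rw [this, h2]
          rw [Subgroup.mem_center_iff] at hz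
          rw [mul_assoc, ← hz g, inv_mul_cancel_left]
        exact hsA (h3 ▸ hzA)

end Cfsg.Agent.Helper55
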