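import Cfsg.Agent.Helper33.PsuM_AI

/-!
# S2089 block I-even API (helper43), piece (ANORM): normalisation
-/

set_option autoImplicit false

namespace Cfsg.Agent.Helper55.PsuM

open Matrix Cfsg.Agent.Helper43.PsuM.Ev

variable {F : Type*} [Field F] {m : ℕ} {σ : F →+* F}

/-- block-diagonal elements -/
def BDiag (g : SUe m σ) : Prop := (mat g).toBlocks₁₂ = 0 ∧ (mat g).toBlocks₂₁ = 0

theorem an_mat_of_bdiag {g : SUe m σ} (h : BDiag g) :
    mat g = fromBlocks (mat g).toBlocks₁₁ 0 0 (mat g).toBlocks₂₂ := by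
  have e := Matrix.fromBlocks_toBlocks (mat g)
  rw [h.1, h.2] at e
  exact e.symm

theorem an_bdiag_of_mat {g : SUe m σ} {A D : Matrix (Fin m) (Fin m) F}
    (h : mat g = fromBlocks A 0 0 D) : BDiag g := by
  unfold BDiag
  rw [h, Matrix.toBlocks_fromBlocks₁₂, Matrix.toBlocks_fromBlocks₂₁]
  exact ⟨rfl, rfl⟩

theorem an_bdiag_mul {g h : SUe m σ} (hg : BDiag g) (hh : BDiag h) :
    BDiag (g * h) ∧ (mat (g * h)).toBlocks₁₁ = (mat g).toBlocks₁₁ * (mat h).toBlocks₁₁ ∧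
      (mat (g * h)).toBlocks₂₂ = (mat g).toBlocks₂₂ * (mat h).toBlocks₂₂ := by
  have e : mat (g * h) = fromBlocks ((mat g).toBlocks₁₁ * (mat h).toBlocks₁₁) 0 0
      ((mat g).toBlocks₂₂ * (mat h).toBlocks₂₂) := by
    rw [mat_mul, an_mat_of_bdiag hg, an_mat_of_bdiag hh, Matrix.fromBlocks_multiply]
    simp
  refine ⟨an_bdiag_of_mat e, ?_, ?_⟩
  · rw [e, Matrix.toBlocks_fromBlocks₁₁]
  · rw [e, Matrix.toBlocks_fromBlocks₂₂]

theorem an_bdiag_inv {g : SUe m σ} (hg : BDiag g) :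
    BDiag g⁻¹ ∧ (mat g).toBlocks₁₁ * (mat g⁻¹).toBlocks₁₁ = 1 ∧
      (mat g).toBlocks₂₂ * (mat g⁻¹).toBlocks₂₂ = 1 := by
  have h1 : mat g * mat g⁻¹ = 1 := by rw [← mat_mul, mul_inv_cancel, mat_one]
  have e' := Matrix.fromBlocks_toBlocks (mat g⁻¹)
  rw [an_mat_of_bdiag hg, ← e', Matrix.fromBlocks_multiply, ← Matrix.fromBlocks_one,
    Matrix.fromBlocks_inj] at h1
  simp only [Matrix.zero_mul, add_zero, zero_add] at h1
  obtain ⟨hA, hB, hC, hD⟩ := h1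
  have hA' := mul_eq_one_comm.1 hA
  have hD' := mul_eq_one_comm.1 hD
  have hB0 : (mat g⁻¹).toBlocks₁₂ = 0 := by
    calc (mat g⁻¹).toBlocks₁₂ = ((mat g⁻¹).toBlocks₁₁ * (mat g).toBlocks₁₁) * (mat g⁻¹).toBlocks₁₂ := by
          rw [hA', Matrix.one_mul]
      _ = 0 := by rw [Matrix.mul_assoc, hB, Matrix.mul_zero]
  have hC0 : (mat g⁻¹).toBlocks₂₁ = 0 := by
    calc (mat g⁻¹).toBlocks₂₁ = ((mat g⁻¹).toBlocks₂₂ * (mat g).toBlocks₂₂) * (mat g⁻¹).toBlocks₂₁ := by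
          rw [hD', Matrix.one_mul]
      _ = 0 := by rw [Matrix.mul_assoc, hC, Matrix.mul_zero]
  exact ⟨⟨hB0, hC0⟩, hA, hD⟩

/-- a block-diagonal element normalises `Qsub` -/
theorem an_bdiag_normalizes_Qsub {t x : SUe m σ} (ht : BDiag t) (hx : x ∈ Qsub m σ) :
    t * x * t⁻¹ ∈ Qsub m σ := by
  obtain ⟨hti, hA, hD⟩ := an_bdiag_inv ht
  obtain ⟨x1, x2, x3⟩ := hx
  have ex := Matrix.fromBlocks_toBlocks (mat x)
  rw [x1, x2, x3] at ex
  have e : mat (t * x * t⁻¹) = fromBlocks 1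
      ((mat t).toBlocks₁₁ * (mat x).toBlocks₁₂ * (mat t⁻¹).toBlocks₂₂) 0 1 := by
    rw [mat_mul, mat_mul, an_mat_of_bdiag ht, an_mat_of_bdiag hti, ← ex,
      Matrix.fromBlocks_multiply, Matrix.fromBlocks_multiply]
    simp only [Matrix.toBlocks_fromBlocks₁₁, Matrix.toBlocks_fromBlocks₁₂,
      Matrix.toBlocks_fromBlocks₂₂, Matrix.mul_zero, Matrix.zero_mul,
      Matrix.mul_one, add_zero, zero_add, hA, hD]
  refine ⟨?_, ?_, ?_⟩
  · rw [e, Matrix.toBlocks_fromBlocks₁₁]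
  · rw [e, Matrix.toBlocks_fromBlocks₂₁]
  · rw [e, Matrix.toBlocks_fromBlocks₂₂]

theorem an_bdiag_of_mem_Tsub {t : SUe m σ} (ht : t ∈ Tsub m σ) : BDiag t := by
  constructor
  · ext i j
    exact ht (Sum.inl i) (Sum.inr j) (by simp)
  · ext i j
    exact ht (Sum.inr i) (Sum.inl j) (by simp)

theorem an_bdiag_iE (hσ : ∀ x, σ (σ x) = x) (A : SpecialLinearGroup (Fin m) F) :
    BDiag (iE σ A) := by
  have := Cfsg.Agent.Helper33.PsuM.AI_mat_iE hσ A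
  unfold iM at this
  exact an_bdiag_of_mat this

theorem an_bdiag_of_mem_Ssub (hσ : ∀ x, σ (σ x) = x) {s : SUe m σ} (hs : s ∈ Ssub m σ) :
    BDiag s := by
  obtain ⟨A, rfl⟩ := (Cfsg.Agent.Helper33.PsuM.mem_Ssub_iff hσ s).1 hs
  exact an_bdiag_iE hσ A

/-- a block-diagonal unitary matrix `[[A, 0], [0, D]]` has `D = σ(A⁻¹)ᵀ` -/
theorem an_block22 {g : SUe m σ} (hg : BDiag g) (Asl : SpecialLinearGroup (Fin m) F)
    (hA : (mat g).toBlocks₁₁ = Asl.1) : (mat g).toBlocks₂₂ = ((Asl⁻¹).1.map σ)ᵀ := by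
  have hU : IsU σ (mat g) := isU_mat g
  have e := an_mat_of_bdiag hg
  unfold IsU Hm at hU
  rw [e, Matrix.fromBlocks_transpose, Matrix.fromBlocks_map, Matrix.fromBlocks_multiply,
    Matrix.fromBlocks_multiply, Matrix.fromBlocks_inj] at hU
  simp only [Matrix.transpose_zero, Matrix.map_zero σ (map_zero σ), Matrix.mul_zero,
    Matrix.zero_mul, Matrix.mul_one, add_zero, zero_add] at hU
  obtain ⟨-, -, h21, -⟩ := hU
  rw [hA] at h21
  have hinv : (Asl⁻¹).1 * Asl.1 = 1 := by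
    have h : (Asl⁻¹ * Asl).1 = 1 := by rw [inv_mul_cancel]; rfl
    exact h
  have hinv' : Asl.1 * (Asl⁻¹).1 = 1 := mul_eq_one_comm.1 hinv
  have hmap : Asl.1.map σ * (Asl⁻¹).1.map σ = 1 := by
    rw [← Matrix.map_mul, hinv', Matrix.map_one σ (map_zero σ) (map_one σ)]
  have hDt : ((mat g).toBlocks₂₂)ᵀ = (Asl⁻¹).1.map σ := by
    calc ((mat g).toBlocks₂₂)ᵀ = ((mat g).toBlocks₂₂)ᵀ * (Asl.1.map σ * (Asl⁻¹).1.map σ) := by
          rw [hmap, Matrix.mul_one]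
      _ = (Asl⁻¹).1.map σ := by rw [← Matrix.mul_assoc, h21, Matrix.one_mul]
  rw [← hDt, Matrix.transpose_transpose]

/-- a block-diagonal element whose first block has determinant one is in the Levi subgroup -/
theorem an_mem_Ssub_of_bdiag (hσ : ∀ x, σ (σ x) = x) {g : SUe m σ} (hg : BDiag g)
    (Asl : SpecialLinearGroup (Fin m) F) (hA : (mat g).toBlocks₁₁ = Asl.1) :
    g = iE σ Asl := by
  apply mat_injective
  rw [Cfsg.Agent.Helper33.PsuM.AI_mat_iE hσ, an_mat_of_bdiag hg, an_block22 hg Asl hA, hA]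
  rfl

/-! ### (ANORM) -/

/-- (ANORM1) -/
theorem Tsub_normalizes_Qsub (hσ : ∀ x, σ (σ x) = x) (t x : SUe m σ) (ht : t ∈ Tsub m σ)
    (hx : x ∈ Qsub m σ) : t * x * t⁻¹ ∈ Qsub m σ :=
  an_bdiag_normalizes_Qsub (an_bdiag_of_mem_Tsub ht) hx

/-- (ANORM2) -/
theorem Ssub_normalizes_Qsub (hσ : ∀ x, σ (σ x) = x) (s x : SUe m σ) (hs : s ∈ Ssub m σ)
    (hx : x ∈ Qsub m σ) : s * x * s⁻¹ ∈ Qsub m σ :=
  an_bdiag_normalizes_Qsub (an_bdiag_of_mem_Ssub hσ hs) hx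

/-- conjugating a Levi element by a block-diagonal element: the matrix data -/
theorem an_conj_iE (hσ : ∀ x, σ (σ x) = x) {t : SUe m σ} (ht : BDiag t)
    (A : SpecialLinearGroup (Fin m) F) :
    ∃ h : ((mat t).toBlocks₁₁ * A.1 * (mat t⁻¹).toBlocks₁₁).det = 1,
      t * iE σ A * t⁻¹ = iE σ ⟨(mat t).toBlocks₁₁ * A.1 * (mat t⁻¹).toBlocks₁₁, h⟩ := by
  obtain ⟨hti, hA, hD⟩ := an_bdiag_inv ht
  have hx := an_bdiag_iE hσ A
  obtain ⟨b1, e1, -⟩ := an_bdiag_mul ht hx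
  obtain ⟨b2, e2, -⟩ := an_bdiag_mul b1 hti
  have hA11 : (mat (iE σ A)).toBlocks₁₁ = A.1 := by
    rw [Cfsg.Agent.Helper33.PsuM.AI_mat_iE hσ A]; unfold iM
    rw [Matrix.toBlocks_fromBlocks₁₁]
  have e3 : (mat (t * iE σ A * t⁻¹)).toBlocks₁₁
      = (mat t).toBlocks₁₁ * A.1 * (mat t⁻¹).toBlocks₁₁ := by rw [e2, e1, hA11]
  have hdet : ((mat t).toBlocks₁₁ * A.1 * (mat t⁻¹).toBlocks₁₁).det = 1 := by
    rw [Matrix.det_mul, Matrix.det_mul, A.2, mul_one, ← Matrix.det_mul, hA, Matrix.det_one]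
  exact ⟨hdet, an_mem_Ssub_of_bdiag hσ b2 ⟨_, hdet⟩ e3⟩

/-- (ANORM3) -/
theorem Tsub_normalizes_Ssub (hσ : ∀ x, σ (σ x) = x) (t x : SUe m σ) (ht : t ∈ Tsub m σ)
    (hx : x ∈ Ssub m σ) : t * x * t⁻¹ ∈ Ssub m σ := by
  obtain ⟨A, rfl⟩ := (Cfsg.Agent.Helper33.PsuM.mem_Ssub_iff hσ x).1 hx
  obtain ⟨h, e⟩ := an_conj_iE hσ (an_bdiag_of_mem_Tsub ht) A
  rw [e]
  exact (Cfsg.Agent.Helper33.PsuM.mem_Ssub_iff hσ _).2 ⟨_, rfl⟩

/-- the first block of a torus element is diagonal -/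
theorem an_block_diagonal {t : SUe m σ} (ht : t ∈ Tsub m σ) :
    (mat t).toBlocks₁₁ = Matrix.diagonal fun k => mat t (Sum.inl k) (Sum.inl k) := by
  ext i j
  by_cases hij : i = j
  · subst hij; simp [Matrix.toBlocks₁₁]
  · rw [Matrix.diagonal_apply_ne _ hij]
    exact ht (Sum.inl i) (Sum.inl j) (by simpa using hij)

/-- conjugating a root element by a torus element -/
theorem an_conj_xE (hσ : ∀ x, σ (σ x) = x) {t : SUe m σ} (ht : t ∈ Tsub m σ) {i j : Fin m}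
    (hij : i ≠ j) (a : F) :
    t * xE σ i j a * t⁻¹ = xE σ i j
      (mat t (Sum.inl i) (Sum.inl i) * a * mat t⁻¹ (Sum.inl j) (Sum.inl j)) := by
  have hti : t⁻¹ ∈ Tsub m σ := (Tsub m σ).inv_mem ht
  obtain ⟨-, hA, -⟩ := an_bdiag_inv (an_bdiag_of_mem_Tsub ht)
  unfold xE
  rw [dif_pos hij, dif_pos hij]
  obtain ⟨h, e⟩ := an_conj_iE hσ (an_bdiag_of_mem_Tsub ht) (SpecialLinearGroup.transvection hij a)
  rw [e]
  congr 1
  apply Subtype.ext
  change (mat t).toBlocks₁₁ * (SpecialLinearGroup.transvection hij a).1 * (mat t⁻¹).toBlocks₁₁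
    = (SpecialLinearGroup.transvection hij _).1
  have c1 : (SpecialLinearGroup.transvection hij a).1 = 1 + Matrix.single i j a := rfl
  have c2 : (SpecialLinearGroup.transvection hij
      (mat t (Sum.inl i) (Sum.inl i) * a * mat t⁻¹ (Sum.inl j) (Sum.inl j))).1
      = 1 + Matrix.single i j
        (mat t (Sum.inl i) (Sum.inl i) * a * mat t⁻¹ (Sum.inl j) (Sum.inl j)) := rfl
  rw [c1, c2, Matrix.mul_add, Matrix.add_mul, Matrix.mul_one, hA]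
  congr 1
  rw [an_block_diagonal ht, an_block_diagonal hti]
  ext k l
  rw [Matrix.mul_diagonal, Matrix.diagonal_mul, Matrix.single_apply, Matrix.single_apply]
  by_cases hkl : i = k ∧ j = l
  · obtain ⟨rfl, rfl⟩ := hkl
    simp
  · rw [if_neg hkl, if_neg hkl]; simp

/-- (ANORM4) -/
theorem Tsub_normalizes_USsub (hσ : ∀ x, σ (σ x) = x) (t x : SUe m σ) (ht : t ∈ Tsub m σ)
    (hx : x ∈ USsub m σ) : t * x * t⁻¹ ∈ USsub m σ := by
  unfold USsub at hx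
  induction hx using Subgroup.closure_induction with
  | mem y hy =>
    obtain ⟨i, j, hij, a, rfl⟩ := hy
    rw [an_conj_xE hσ ht hij.ne a]
    exact Subgroup.subset_closure ⟨i, j, hij, _, rfl⟩
  | one => simp
  | mul a b _ _ iha ihb =>
    have : t * (a * b) * t⁻¹ = (t * a * t⁻¹) * (t * b * t⁻¹) := by group
    rw [this]; exact (USsub m σ).mul_mem iha ihb
  | inv a _ iha =>
    have : t * a⁻¹ * t⁻¹ = (t * a * t⁻¹)⁻¹ := by group
    rw [this]; exact (USsub m σ).inv_mem iha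

/-- (ANORM5) -/
theorem Qsub_inf_Ssub (hσ : ∀ x, σ (σ x) = x) : Qsub m σ ⊓ Ssub m σ = ⊥ := by
  rw [eq_bot_iff]
  rintro g ⟨hq, hs⟩
  rw [Subgroup.mem_bot]
  obtain ⟨q1, q2, q3⟩ := hq
  have hb := an_bdiag_of_mem_Ssub hσ hs
  apply mat_injective
  rw [an_mat_of_bdiag hb, q1, q3, mat_one, Matrix.fromBlocks_one]

end Cfsg.Agent.Helper55.PsuM
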