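import Cfsg.Agent.Helper43.PsuM.EvDefs

/-!
# S2089 block I-even API (helper43), piece (AROOTa): root elements of `Qsub`
-/

set_option autoImplicit false

namespace Cfsg.Agent.Helper55.PsuM

open Matrix Cfsg.Agent.Helper43.PsuM.Ev

variable {F : Type*} [Field F] {m : ℕ} {σ : F →+* F}

/-! ### local copies of the needed (AMAT)/(AQ) facts -/

theorem ar_det_qM (B : Matrix (Fin m) (Fin m) F) : (qM B).det = 1 := by
  unfold qM
  rw [Matrix.det_fromBlocks_zero₂₁, Matrix.det_one, mul_one]

theorem ar_isU_qM_iff (B : Matrix (Fin m) (Fin m) F) : IsU σ (qM B) ↔ B.map σ + Bᵀ = 0 := by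
  unfold IsU qM Hm
  rw [Matrix.fromBlocks_transpose, Matrix.fromBlocks_map, Matrix.fromBlocks_multiply,
    Matrix.fromBlocks_multiply]
  simp only [Matrix.transpose_one, Matrix.transpose_zero, Matrix.mul_zero, Matrix.zero_mul,
    Matrix.mul_one, Matrix.one_mul, add_zero, zero_add,
    Matrix.map_one σ (map_zero σ) (map_one σ), Matrix.map_zero σ (map_zero σ)]
  constructor
  · intro h
    have := congrArg Matrix.toBlocks₂₂ h
    simpa using this
  · intro h
    rw [h]

theorem ar_mat_qE {B : Matrix (Fin m) (Fin m) F} (hB : B ∈ SkewH m σ) : mat (qE σ B) = qM B := by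
  unfold qE
  exact mat_ofMat σ (ar_det_qM B) ((ar_isU_qM_iff B).2 hB)

theorem ar_qM_mul (B B' : Matrix (Fin m) (Fin m) F) : qM B * qM B' = qM (B + B') := by
  unfold qM
  rw [Matrix.fromBlocks_multiply]
  simp [add_comm]

theorem ar_qE_add {B B' : Matrix (Fin m) (Fin m) F} (hB : B ∈ SkewH m σ) (hB' : B' ∈ SkewH m σ) :
    qE σ (B + B') = qE σ B * qE σ B' := by
  apply mat_injective
  rw [mat_mul, ar_mat_qE hB, ar_mat_qE hB', ar_mat_qE ((SkewH m σ).add_mem hB hB'), ar_qM_mul]

theorem ar_qE_zero : qE σ (0 : Matrix (Fin m) (Fin m) F) = 1 := by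
  apply mat_injective
  rw [ar_mat_qE (SkewH m σ).zero_mem, mat_one]
  unfold qM
  exact Matrix.fromBlocks_one

theorem ar_qE_neg {B : Matrix (Fin m) (Fin m) F} (hB : B ∈ SkewH m σ) :
    qE σ (-B) = (qE σ B)⁻¹ := by
  have h : qE σ B * qE σ (-B) = 1 := by
    rw [← ar_qE_add hB ((SkewH m σ).neg_mem hB), add_neg_cancel, ar_qE_zero]
  exact eq_inv_of_mul_eq_one_right h

/-- every element of `Qsub` is a `qE σ B` with `B` skew-hermitian -/
theorem ar_exists_of_mem_Qsub {g : SUe m σ} (hg : g ∈ Qsub m σ) :
    ∃ B ∈ SkewH m σ, g = qE σ B := by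
  obtain ⟨h1, h2, h3⟩ := hg
  have e := Matrix.fromBlocks_toBlocks (mat g)
  rw [h1, h2, h3] at e
  have hU : IsU σ (qM (mat g).toBlocks₁₂) := by
    have := isU_mat g
    unfold qM; rw [e]; exact this
  have hB : (mat g).toBlocks₁₂ ∈ SkewH m σ := (ar_isU_qM_iff _).1 hU
  refine ⟨(mat g).toBlocks₁₂, hB, ?_⟩
  apply mat_injective
  rw [ar_mat_qE hB]
  unfold qM
  exact e.symm

/-! ### (AROOTa) -/

/-- (AROOT1) -/
theorem single_mem_SkewH (i : Fin m) {c : F} (hc : σ c + c = 0) :
    Matrix.single i i c ∈ SkewH m σ := by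
  change (Matrix.single i i c).map σ + (Matrix.single i i c)ᵀ = 0
  rw [Matrix.map_single, Matrix.transpose_single, ← Matrix.single_add, hc, Matrix.single_zero]

/-- (AROOT2) -/
theorem single_sub_mem_SkewH (hσ : ∀ x, σ (σ x) = x) {i j : Fin m} (hij : i ≠ j) (t : F) :
    Matrix.single i j t - Matrix.single j i (σ t) ∈ SkewH m σ := by
  change (Matrix.single i j t - Matrix.single j i (σ t)).map σ
    + (Matrix.single i j t - Matrix.single j i (σ t))ᵀ = 0
  have h1 : (Matrix.single i j t - Matrix.single j i (σ t)).map σ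
      = Matrix.single i j (σ t) - Matrix.single j i t := by
    ext a b
    simp only [Matrix.map_apply, Matrix.sub_apply, Matrix.single_apply]
    split_ifs <;> simp [hσ]
  rw [h1, Matrix.transpose_sub, Matrix.transpose_single, Matrix.transpose_single]
  abel

/-- (AROOT10) -/
theorem zE_add (i : Fin m) {c c' : F} (hc : σ c + c = 0) (hc' : σ c' + c' = 0) :
    zE σ i (c + c') = zE σ i c * zE σ i c' := by
  unfold zE
  rw [Matrix.single_add]
  exact ar_qE_add (single_mem_SkewH i hc) (single_mem_SkewH i hc')

/-- (AROOT11) -/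
theorem cE_add (hσ : ∀ x, σ (σ x) = x) {i j : Fin m} (hij : i ≠ j) (t t' : F) :
    cE σ i j (t + t') = cE σ i j t * cE σ i j t' := by
  unfold cE
  have h : Matrix.single i j (t + t') - Matrix.single j i (σ (t + t'))
      = (Matrix.single i j t - Matrix.single j i (σ t))
        + (Matrix.single i j t' - Matrix.single j i (σ t')) := by
    rw [map_add, Matrix.single_add, Matrix.single_add]; abel
  rw [h]
  exact ar_qE_add (single_sub_mem_SkewH hσ hij t) (single_sub_mem_SkewH hσ hij t')

/-- (AROOT12) -/
theorem cE_symm (hσ : ∀ x, σ (σ x) = x) {i j : Fin m} (hij : i ≠ j) (t : F) :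
    cE σ j i t = cE σ i j (-σ t) := by
  unfold cE
  congr 1
  rw [map_neg, hσ, ← Matrix.single_neg, ← Matrix.single_neg]
  abel

/-- the decomposition of a skew-hermitian matrix into root pieces -/
theorem ar_decomp {B : Matrix (Fin m) (Fin m) F} (hB : B ∈ SkewH m σ) :
    B = ∑ i, Matrix.single i i (B i i) + ∑ i, ∑ j,
      (if i < j then (Matrix.single i j (B i j) - Matrix.single j i (σ (B i j))) else 0) := by
  have hB' : B.map σ + Bᵀ = 0 := hB
  ext a b
  rw [Matrix.add_apply, Matrix.sum_apply, Matrix.sum_apply]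
  have h1 : ∑ i, (Matrix.single i i (B i i)) a b = if a = b then B a b else 0 := by
    rw [Finset.sum_eq_single a]
    · by_cases hab : a = b
      · subst hab; simp
      · rw [if_neg hab]; exact Matrix.single_apply_of_col_ne _ _ hab _
    · intro i _ hia
      exact Matrix.single_apply_of_row_ne hia _ _ _
    · intro h; exact absurd (Finset.mem_univ a) h
  have h2 : ∀ i, (∑ j, (if i < j then (Matrix.single i j (B i j) - Matrix.single j i (σ (B i j)))
      else 0)) a b = (if i = a ∧ a < b then B a b else 0) - (if i = b ∧ b < a then σ (B b a) else 0) := by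
    intro i
    rw [Matrix.sum_apply]
    have : ∀ j, (if i < j then (Matrix.single i j (B i j) - Matrix.single j i (σ (B i j))) else 0) a b
        = (if i < j ∧ i = a ∧ j = b then B i j else 0)
          - (if i < j ∧ j = a ∧ i = b then σ (B i j) else 0) := by
      intro j
      by_cases hij : i < j
      · simp only [hij, if_true, true_and, Matrix.sub_apply, Matrix.single_apply]
      · simp [hij]
    simp only [this]
    rw [Finset.sum_sub_distrib]
    congr 1
    · by_cases hia : i = a
      · subst hia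
        rw [Finset.sum_eq_single b]
        · by_cases hib : i < b <;> simp [hib]
        · intro j _ hjb; rw [if_neg]; intro h; exact hjb h.2.2
        · intro h; exact absurd (Finset.mem_univ b) h
      · rw [Finset.sum_eq_zero]
        · rw [if_neg]; intro h; exact hia h.1
        · intro j _; rw [if_neg]; intro h; exact hia h.2.1
    · by_cases hib : i = b
      · subst hib
        rw [Finset.sum_eq_single a]
        · by_cases hia : i < a <;> simp [hia]
        · intro j _ hja; rw [if_neg]; intro h; exact hja h.2.1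
        · intro h; exact absurd (Finset.mem_univ a) h
      · rw [Finset.sum_eq_zero]
        · rw [if_neg]; intro h; exact hib h.1
        · intro j _; rw [if_neg]; intro h; exact hib h.2.2
  simp only [h2]
  rw [h1, Finset.sum_sub_distrib]
  have h3 : ∑ i, (if i = a ∧ a < b then B a b else 0) = if a < b then B a b else 0 := by
    by_cases hab : a < b
    · simp [hab]
    · simp [hab]
  have h4 : ∑ i, (if i = b ∧ b < a then σ (B b a) else 0) = if b < a then σ (B b a) else 0 := by
    by_cases hab : b < a
    · simp [hab]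
    · simp [hab]
  rw [h3, h4]
  have hskew : σ (B b a) + B a b = 0 := by
    have := congrFun (congrFun hB' b) a
    simpa [Matrix.add_apply, Matrix.map_apply, Matrix.transpose_apply] using this
  rcases lt_trichotomy a b with hab | hab | hab
  · have : ¬ b < a := not_lt.2 hab.le
    simp [hab, hab.ne, this]
  · subst hab; simp
  · have h' : ¬ a < b := not_lt.2 hab.le
    have hne : a ≠ b := hab.ne'
    simp only [hab, h', hne, if_true, if_false, zero_add, zero_sub]
    exact eq_neg_of_add_eq_zero_right hskew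

/-- (AROOT3) `Qsub` is generated by its root elements: decompose
`B = ∑ i, single i i (B i i) + ∑ i < j, (single i j (B i j) - single j i (σ (B i j)))` -/
theorem Qsub_le_closure (hσ : ∀ x, σ (σ x) = x) :
    Qsub m σ ≤ Subgroup.closure ({g | ∃ i : Fin m, ∃ c : F, σ c + c = 0 ∧ g = zE σ i c} ∪
      {g | ∃ i j : Fin m, i ≠ j ∧ ∃ t : F, g = cE σ i j t}) := by
  set C := Subgroup.closure ({g : SUe m σ | ∃ i : Fin m, ∃ c : F, σ c + c = 0 ∧ g = zE σ i c} ∪
      {g | ∃ i j : Fin m, i ≠ j ∧ ∃ t : F, g = cE σ i j t}) with hC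
  -- the additive subgroup of good matrices
  let S' : AddSubgroup (Matrix (Fin m) (Fin m) F) :=
    { carrier := {B | B ∈ SkewH m σ ∧ qE σ B ∈ C}
      zero_mem' := ⟨(SkewH m σ).zero_mem, by rw [ar_qE_zero]; exact C.one_mem⟩
      add_mem' := fun {a b} ha hb => ⟨(SkewH m σ).add_mem ha.1 hb.1, by
        rw [ar_qE_add ha.1 hb.1]; exact C.mul_mem ha.2 hb.2⟩
      neg_mem' := fun {a} ha => ⟨(SkewH m σ).neg_mem ha.1, by
        rw [ar_qE_neg ha.1]; exact C.inv_mem ha.2⟩ }
  intro g hg
  obtain ⟨B, hB, rfl⟩ := ar_exists_of_mem_Qsub hg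
  have hB' : B.map σ + Bᵀ = 0 := hB
  have hmem : B ∈ S' := by
    rw [ar_decomp hB]
    apply S'.add_mem
    · apply S'.sum_mem
      intro i _
      have hc : σ (B i i) + B i i = 0 := by
        have := congrFun (congrFun hB' i) i
        simpa [Matrix.add_apply, Matrix.map_apply, Matrix.transpose_apply] using this
      refine ⟨single_mem_SkewH i hc, ?_⟩
      apply Subgroup.subset_closure
      left
      exact ⟨i, B i i, hc, rfl⟩
    · apply S'.sum_mem
      intro i _
      apply S'.sum_mem
      intro j _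
      by_cases hij : i < j
      · rw [if_pos hij]
        refine ⟨single_sub_mem_SkewH hσ hij.ne (B i j), ?_⟩
        apply Subgroup.subset_closure
        right
        exact ⟨i, j, hij.ne, B i j, rfl⟩
      · rw [if_neg hij]; exact S'.zero_mem
  exact hmem.2

end Cfsg.Agent.Helper55.PsuM
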