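import Cfsg.Agent.Helper16.DT.Defs

/-!
# DT farm of helper16 (#13881), leaf (IBI), core: the irreducible Brauer characters are linearly independent

`IBr_linearIndependent_of` is (IBI) with the leaves (IND) and (EQI, `charpoly_of_matEquiv`) as explicit hypotheses; the
verbatim leaf `IBr_linearIndependent` is in `DT_IBI.lean`.
-/

set_option autoImplicit false
set_option linter.unusedSectionVars false
set_option linter.unusedVariables false

namespace Cfsg.Agent.Helper55.DT

open Cfsg Cfsg.Agent.Helper16 Cfsg.Agent.Helper16.DT Polynomial Matrix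

universe u v w

variable {p : ℕ} [Fact p.Prime] {M : Ideal AlgInt} [M.IsMaximal] {G : Type u} [Group G]

/-- (IBI) from (IND) and (EQI) -/
theorem IBr_linearIndependent_of
    (hIND : ∀ {r : ℕ} (d : Fin r → ℕ) (ρ : ∀ i, G →* Matrix (Fin (d i)) (Fin (d i)) (AlgInt ⧸ M)),
      (∀ i, IsIrredMat (ρ i)) → (∀ i j, i ≠ j → ¬ MatEquiv (ρ i) (ρ j)) →
      LinearIndependent ℂ (fun i => brauerChar p M (ρ i)))
    (hEQI : ∀ {m n : ℕ} (ρ : G →* Matrix (Fin m) (Fin m) (AlgInt ⧸ M))
      (σ : G →* Matrix (Fin n) (Fin n) (AlgInt ⧸ M)), MatEquiv ρ σ → ∀ g, (ρ g).charpoly = (σ g).charpoly) :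
    LinearIndependent ℂ (fun φ : IBr p M G => (φ : G → ℂ)) := by
  classical
  rw [linearIndependent_iff_finset_linearIndependent]
  intro s
  have hch : ∀ φ : IBr p M G, ∃ (n : ℕ) (ρ : G →* Matrix (Fin n) (Fin n) (AlgInt ⧸ M)),
      IsIrredMat ρ ∧ (φ : G → ℂ) = brauerChar p M ρ := fun φ => φ.2
  choose n ρ hirr hφ using hch
  let e : s ≃ Fin s.card := s.equivFin
  have key : LinearIndependent ℂ (fun i : Fin s.card => brauerChar p M (ρ (e.symm i).1)) := by
    apply hIND (fun i => n (e.symm i).1) (fun i => ρ (e.symm i).1) (fun i => hirr _)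
    intro i j hij heq
    apply hij
    have h1 : ((e.symm i).1 : G → ℂ) = ((e.symm j).1 : G → ℂ) := by
      rw [hφ, hφ]
      unfold brauerChar brauerFull
      congr 1
      funext g
      unfold bfull
      rw [hEQI _ _ heq g]
    have h2 : (e.symm i).1 = (e.symm j).1 := Subtype.ext h1
    have h3 : e.symm i = e.symm j := Subtype.ext h2
    exact e.symm.injective h3
  have h4 : (fun i : Fin s.card => brauerChar p M (ρ (e.symm i).1)) =
      ((fun φ : IBr p M G => (φ : G → ℂ)) ∘ (Subtype.val : s → IBr p M G)) ∘ e.symm := by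
    funext i
    simp only [Function.comp]
    exact (hφ _).symm
  rw [h4] at key
  exact (linearIndependent_equiv e.symm).mp key

end Cfsg.Agent.Helper55.DT
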