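import Cfsg.Agent.Helper55.DT_INbCore
import Cfsg.Agent.Helper24.DT_AC

/-!
# DT farm of helper16 (#13881), leaf (INb): the Brauer lift of a matrix is a local integer with residue the trace
-/

set_option autoImplicit false
set_option linter.unusedSectionVars false
set_option linter.unusedVariables false

namespace Cfsg.Agent.Helper55.DT

open Cfsg Cfsg.Agent.Helper16 Cfsg.Agent.Helper16.DT Polynomial Matrix

universe u v w

variable {p : ℕ} [Fact p.Prime] {M : Ideal AlgInt} [M.IsMaximal] {G : Type u} [Group G]

/-- (INb) the Brauer lift of a matrix is a local integer with residue the trace. -/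
theorem resC_bfull (hpM : (p : AlgInt) ∈ M) {ι : Type w} [Fintype ι] [DecidableEq ι]
    (A : Matrix ι ι (AlgInt ⧸ M)) :
    MemLocalRing M (bfull p M A) ∧ resC M (bfull p M A) = A.trace :=
  resC_bfull_of (Cfsg.Agent.Helper24.DT.isAlgClosed_res M) hpM A

end Cfsg.Agent.Helper55.DT
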