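import Cfsg.Agent.Helper55.DT_IBICore
import Cfsg.Agent.Helper87.DT_E4

/-!
# DT farm of helper16 (#13881), leaf (IBI): the irreducible Brauer characters are linearly independent
-/

set_option autoImplicit false
set_option linter.unusedSectionVars false
set_option linter.unusedVariables false

namespace Cfsg.Agent.Helper55.DT

open Cfsg Cfsg.Agent.Helper16 Cfsg.Agent.Helper16.DT Polynomial Matrix

universe u v w

variable {p : ℕ} [Fact p.Prime] {M : Ideal AlgInt} [M.IsMaximal] {G : Type u} [Group G]

/-- (IBI) the irreducible Brauer characters are linearly independent. -/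
theorem IBr_linearIndependent (hpM : (p : AlgInt) ∈ M) [Fintype G] :
    LinearIndependent ℂ (fun φ : IBr p M G => (φ : G → ℂ)) :=
  IBr_linearIndependent_of
    (fun d ρ hirr hne => Cfsg.Agent.Helper87.DT.E4_IND hpM d ρ hirr hne)
    (fun ρ σ h g => Cfsg.Agent.Helper53.DT.charpoly_of_matEquiv h g)

end Cfsg.Agent.Helper55.DT
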