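import Mathlib
import Cfsg.Agent.Helper13.Sp4O.Defs

/-!
# S2281 (helper13, `n = 2`, `q` odd), piece (LAM).
-/

set_option autoImplicit false

namespace Cfsg.Agent.Helper55.Sp4O

open Matrix Cfsg.Agent.Helper13.Sp4O

variable {F : Type*} [Field F]

/-- (LAM) -/
theorem exists_mem_of_laws {G : Type*} [Group G] (H : Subgroup G) (M : F → F → F → G) (U T : G)
    (c : F)
    (hmul : ∀ a b z a' b' z', M a b z * M a' b' z' = M (a + a') (b + b') (z + z' + (a' * b - b' * a)))
    (hU : ∀ a b z, U * M a b z * U⁻¹ = M (a - c * b) b z)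
    (hT : ∀ a b z, T * M a b z * T⁻¹ = M a (b - 2 * a) z)
    (hUH : U ∈ H) (hTH : T ∈ H) (h0 : M 0 (-1) 0 ∈ H) (hc : c ≠ 0)
    (hθ : Subring.closure {2 * c} = (⊤ : Subring F)) :
    ∀ a b, ∃ z, M a b z ∈ H := by
  have h000 : M 0 0 0 = 1 := by
    have h := hmul 0 0 0 0 0 0
    simp only [add_zero, mul_zero, sub_zero] at h
    exact mul_left_cancel (a := M 0 0 0) (h.trans (mul_one _).symm)
  have hinv : ∀ a b z, (M a b z)⁻¹ = M (-a) (-b) (-z) := by
    intro a b z
    apply inv_eq_of_mul_eq_one_right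
    rw [hmul, ← h000]
    congr 1 <;> ring
  obtain ⟨P, hP⟩ : ∃ P : F → F → Prop, ∀ a b, P a b ↔ ∃ z, M a b z ∈ H := ⟨_, fun _ _ => Iff.rfl⟩
  have Pcongr : ∀ a b a' b', a = a' → b = b' → P a b → P a' b' := by
    rintro a b a' b' rfl rfl h
    exact h
  have Padd : ∀ a b a' b', P a b → P a' b' → P (a + a') (b + b') := by
    intro a b a' b' h h'
    obtain ⟨z, hz⟩ := (hP _ _).1 h
    obtain ⟨z', hz'⟩ := (hP _ _).1 h'
    refine (hP _ _).2 ⟨z + z' + (a' * b - b' * a), ?_⟩
    rw [← hmul a b z a' b' z']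
    exact H.mul_mem hz hz'
  have Pneg : ∀ a b, P a b → P (-a) (-b) := by
    intro a b h
    obtain ⟨z, hz⟩ := (hP _ _).1 h
    refine (hP _ _).2 ⟨-z, ?_⟩
    rw [← hinv]
    exact H.inv_mem hz
  have PU : ∀ a b, P a b → P (a - c * b) b := by
    intro a b h
    obtain ⟨z, hz⟩ := (hP _ _).1 h
    refine (hP _ _).2 ⟨z, ?_⟩
    rw [← hU]
    exact H.mul_mem (H.mul_mem hUH hz) (H.inv_mem hUH)
  have PT : ∀ a b, P a b → P a (b - 2 * a) := by
    intro a b h
    obtain ⟨z, hz⟩ := (hP _ _).1 h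
    refine (hP _ _).2 ⟨z, ?_⟩
    rw [← hT]
    exact H.mul_mem (H.mul_mem hTH hz) (H.inv_mem hTH)
  have P00 : P 0 0 := (hP _ _).2 ⟨0, h000 ▸ H.one_mem⟩
  -- from `P 0 t` to `P (c t) 0`
  have hStoA : ∀ t, P 0 t → P (c * t) 0 := by
    intro t ht
    have h1 := PU 0 t ht
    have h2 := Padd _ _ _ _ h1 (Pneg 0 t ht)
    have h3 := Pneg _ _ h2
    exact Pcongr _ _ _ _ (by ring) (by ring) h3
  -- from `P 0 t` to `P 0 (2 c t)`
  have hS2c : ∀ t, P 0 t → P 0 (2 * c * t) := by
    intro t ht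
    have h3 := hStoA t ht
    have h4 := PT _ _ h3
    have h5 := Padd _ _ _ _ h4 (Pneg _ _ h3)
    have h6 := Pneg _ _ h5
    exact Pcongr _ _ _ _ (by ring) (by ring) h6
  -- the ring of multipliers
  let R : Subring F :=
    { carrier := {r | ∀ t, P 0 t → P 0 (r * t)}
      mul_mem' := fun {r s} hr hs t ht => by
        rw [mul_assoc]
        exact hr _ (hs _ ht)
      one_mem' := fun t ht => by rwa [one_mul]
      add_mem' := fun {r s} hr hs t ht => by
        have := Padd _ _ _ _ (hr t ht) (hs t ht)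
        exact Pcongr _ _ _ _ (by ring) (by ring) this
      zero_mem' := fun t _ => by
        rw [zero_mul]
        exact P00
      neg_mem' := fun {r} hr t ht => by
        have := Pneg _ _ (hr t ht)
        exact Pcongr _ _ _ _ (by ring) (by ring) this }
  have hRtop : ∀ r : F, r ∈ R := by
    have hle : Subring.closure {2 * c} ≤ R := by
      rw [Subring.closure_le]
      intro x hx
      rw [Set.mem_singleton_iff] at hx
      subst hx
      exact fun t ht => hS2c t ht
    rw [hθ] at hle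
    exact fun r => hle (Subring.mem_top r)
  have P01 : P 0 1 := by
    have := Pneg _ _ ((hP _ _).2 ⟨0, h0⟩)
    exact Pcongr _ _ _ _ (by ring) (by ring) this
  have hS : ∀ t, P 0 t := by
    intro t
    have := hRtop t 1 P01
    rwa [mul_one] at this
  intro a b
  have h1 : P a 0 := by
    have := hStoA (a / c) (hS _)
    exact Pcongr _ _ _ _ (by field_simp) rfl this
  have := Padd _ _ _ _ h1 (hS b)
  exact (hP _ _).1 (Pcongr _ _ _ _ (by ring) (by ring) this)

end Cfsg.Agent.Helper55.Sp4O
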