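import Mathlib
import Cfsg.Agent.Helper13.Sp4O.Defs

/-!
# S2281 (helper13, `n = 2`, `q` odd), piece (TVF).
-/

set_option autoImplicit false

namespace Cfsg.Agent.Helper55.Sp4O

open Matrix Cfsg.Agent.Helper13.Sp4O

variable {F : Type*} [Field F]

/-- conjugating a transvection by an element of the symplectic group, in the group -/
theorem tvS_conj (A : Sp4 F) (v : V4 F) (c : F) :
    tvS ((A : M4 F) *ᵥ v) c = A * tvS v c * A⁻¹ := by
  have hA := A.2
  have hdet : IsUnit (A : M4 F).det := SymplecticGroup.symplectic_det hA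
  have h1 : Cfsg.sympTransvection 2 ((A : M4 F) *ᵥ v) c * (A : M4 F) =
      (A : M4 F) * Cfsg.sympTransvection 2 v c := by
    rw [← Cfsg.Agent.Helper13.SpE.sympTransvection_conj_gen _ hA, Matrix.mul_assoc,
      Matrix.nonsing_inv_mul _ hdet, Matrix.mul_one]
  have h2 : tvS ((A : M4 F) *ᵥ v) c * A = A * tvS v c := Subtype.ext h1
  exact eq_mul_inv_of_mul_eq h2

/-- (TVF) -/
theorem tv_mem_of_f1_coord (H : Subgroup (Sp4 F)) (hQe : ∀ a b z : F, MeS a b z ∈ H)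
    (hf1 : ∀ c : F, tvS f1 c ∈ H) (w : V4 F) (hw : w (Sum.inl 0) ≠ 0) (c : F) : tvS w c ∈ H := by
  obtain ⟨lam, hlam⟩ : ∃ lam, lam = w (Sum.inl 0) := ⟨_, rfl⟩
  have hl0 : lam ≠ 0 := hlam ▸ hw
  obtain ⟨a, ha⟩ : ∃ a, a = -(w (Sum.inr 1)) / lam := ⟨_, rfl⟩
  obtain ⟨b, hb⟩ : ∃ b, b = -(w (Sum.inl 1)) / lam := ⟨_, rfl⟩
  obtain ⟨z, hz⟩ : ∃ z, z = -(w (Sum.inr 0)) / lam := ⟨_, rfl⟩
  have hv : w = lam • (Me a b z *ᵥ f1) := by
    rw [Me_mulVec]
    apply vec_ext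
    · simp
      rw [hz]; field_simp
    · simp
      rw [ha]; field_simp
    · simp
      exact hlam.symm
    · simp
      rw [hb]; field_simp
  have key : tvS w c = MeS a b z * tvS f1 (c * lam ^ 2) * (MeS a b z)⁻¹ := by
    rw [← tvS_conj]
    apply Subtype.ext
    show Cfsg.sympTransvection 2 w c = Cfsg.sympTransvection 2 (Me a b z *ᵥ f1) (c * lam ^ 2)
    rw [← Cfsg.Agent.Helper13.SpE.sympTransvection_smul, ← hv]
  rw [key]
  exact H.mul_mem (H.mul_mem (hQe _ _ _) (hf1 _)) (H.inv_mem (hQe _ _ _))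

end Cfsg.Agent.Helper55.Sp4O
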