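import Mathlib
import Cfsg.Agent.Helper5.OmBN.Defs

/-!
# (CCS) of helper5's S2549 farm (batch 2): the conjugation `cc` of the middle plane commutes with the
representatives of the simple reflections.
-/

set_option autoImplicit false

namespace Cfsg.Agent.Helper55.OmBN

open Matrix Cfsg.Agent.Helper5.OmBN

variable {F : Type*} [Field F] {m : ℕ} {α β : F}

/-- left multiplication by `c0Mat α` -/
theorem c0Mat_mul_apply (M : Matrix (Fin (2 * m + 2)) (Fin (2 * m + 2)) F) (i j : Fin (2 * m + 2)) :
    ((c0Mat α : Matrix (Fin (2 * m + 2)) (Fin (2 * m + 2)) F) * M) i j =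
      M i j + (if i = c1 then α else if i = c2 then -2 else 0) * M c2 j := by
  classical
  rw [Matrix.mul_apply]
  have e : ∀ l : Fin (2 * m + 2), c0Mat α i l * M l j =
      (if l = i then M l j else 0) +
        (if l = c2 then ((if i = c1 then α else if i = c2 then -2 else 0) * M l j) else 0) := by
    intro l
    rw [c0Mat_apply]
    by_cases hl : l = c2
    · subst hl
      by_cases h1 : i = c1
      · have : (c2 : Fin (2 * m + 2)) ≠ i := fun h => c1_ne_c2 (h1.symm.trans h.symm)
        simp [h1, c1_ne_c2.symm]
      · by_cases h2 : i = c2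
        · simp [h2, c1_ne_c2.symm]; ring
        · have : (c2 : Fin (2 * m + 2)) ≠ i := fun h => h2 h.symm
          simp [h1, h2, this]
    · by_cases hli : l = i
      · subst hli
        simp [hl]
      · have : i ≠ l := fun h => hli h.symm
        simp [hl, hli, this]
  rw [Finset.sum_congr rfl (fun l _ => e l), Finset.sum_add_distrib, Finset.sum_ite_eq',
    Finset.sum_ite_eq', if_pos (Finset.mem_univ _), if_pos (Finset.mem_univ _)]

/-- right multiplication by `c0Mat α` -/
theorem mul_c0Mat_apply (M : Matrix (Fin (2 * m + 2)) (Fin (2 * m + 2)) F) (i j : Fin (2 * m + 2)) :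
    (M * (c0Mat α : Matrix (Fin (2 * m + 2)) (Fin (2 * m + 2)) F)) i j =
      M i j + (if j = c2 then α * M i c1 - 2 * M i c2 else 0) := by
  classical
  rw [Matrix.mul_apply]
  have e : ∀ l : Fin (2 * m + 2), M i l * c0Mat α l j =
      (if l = j then M i l else 0) +
        ((if l = c1 then (if j = c2 then α * M i l else 0) else 0) +
         (if l = c2 then (if j = c2 then -2 * M i l else 0) else 0)) := by
    intro l
    rw [c0Mat_apply]
    by_cases hj : j = c2
    · subst hj
      by_cases h1 : l = c1
      · subst h1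
        simp [c1_ne_c2]; ring
      · by_cases h2 : l = c2
        · subst h2
          simp [c1_ne_c2.symm]; ring
        · simp [h1, h2]
    · by_cases hlj : l = j
      · subst hlj
        simp [hj]
      · simp [hj, hlj]
  rw [Finset.sum_congr rfl (fun l _ => e l), Finset.sum_add_distrib, Finset.sum_add_distrib,
    Finset.sum_ite_eq', Finset.sum_ite_eq', Finset.sum_ite_eq', if_pos (Finset.mem_univ _),
    if_pos (Finset.mem_univ _), if_pos (Finset.mem_univ _)]
  by_cases hj : j = c2
  · simp [hj]; ring
  · simp [hj]

/-- (CCS) the conjugation `cc` commutes with the representatives of the simple reflections -/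
theorem cc_mul_comm (cc : OG m α β) (hcc : mat cc = c0Mat α) (s : OG m α β)
    (hs : s ∈ Sset m α β) : cc * s = s * cc := by
  classical
  obtain ⟨k, hk⟩ := hs
  apply mat_injective
  rw [mat_mul, mat_mul, hcc, hk]
  ext i j
  rw [c0Mat_mul_apply, mul_c0Mat_apply]
  congr 1
  by_cases hkm : k.val + 1 < m
  · -- kind I: a permutation matrix fixing the middle positions
    rw [sMat_of_lt α k hkm]
    have hπ1 : sPerm k c1 = c1 := by
      apply Fin.ext
      rw [val_sPerm k hkm, val_c1]
      split_ifs <;> omega
    have hπ2 : sPerm k c2 = c2 := by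
      apply Fin.ext
      rw [val_sPerm k hkm, val_c2]
      split_ifs <;> omega
    have hj2 : ∀ j : Fin (2 * m + 2), (c2 = sPerm k j) ↔ j = c2 := by
      intro j
      constructor
      · intro h
        have := congrArg (sPerm k) h
        rw [sPerm_sPerm k hkm, hπ2] at this
        exact this.symm
      · rintro rfl
        exact hπ2.symm
    simp only [pMat_apply, hπ1, hπ2, hj2]
    by_cases hj : j = c2
    · by_cases h1 : i = c1
      · simp [hj, h1, c1_ne_c2]
      · by_cases h2 : i = c2
        · simp [hj, h2, c1_ne_c2.symm]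
        · simp [hj, h1, h2]
    · simp [hj]
  · -- kind V
    have hkm' : k.val + 1 = m := by have := k.2; omega
    rw [sMat_of_eq α k hkm']
    have hσ1 : Equiv.swap (lo k) (hi k) c1 = c1 :=
      Equiv.swap_apply_of_ne_of_ne (lo_ne_c1 k).symm (hi_ne_c1 k).symm
    have hσ2 : ∀ j : Fin (2 * m + 2), j ≠ c2 → c2 ≠ Equiv.swap (lo k) (hi k) j := by
      intro j hj h
      have := congrArg (Equiv.swap (lo k) (hi k)) h
      rw [Equiv.swap_apply_self,
        Equiv.swap_apply_of_ne_of_ne (lo_ne_c2 k).symm (hi_ne_c2 k).symm] at this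
      exact hj this.symm
    have h12 : (c1 : Fin (2 * m + 2)) ≠ c2 := c1_ne_c2
    have h21 : (c2 : Fin (2 * m + 2)) ≠ c1 := c1_ne_c2.symm
    simp only [sVMat_apply, hσ1]
    by_cases hj : j = c2
    · by_cases h1 : i = c1
      · simp [hj, h1, h12, h21]; ring
      · by_cases h2 : i = c2
        · simp [hj, h2, h12, h21]
        · simp [hj, h1, h2, h12, h21]
    · simp [hj, hσ2 j hj]

end Cfsg.Agent.Helper55.OmBN
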