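import Mathlib
import Cfsg.Agent.Helper5.OmBN.Defs

/-!
# (L2) of helper5's S2549 farm (batch 2): making one more column upper triangular
(adapted from helper63's `OpBNL2` / helper23's `SuBNL2`).
-/

set_option autoImplicit false

namespace Cfsg.Agent.Helper55.OmBN

open Matrix Cfsg.Agent.Helper5.OmBN

variable {F : Type*} [Field F] {m : ℕ} {α β : F}

/-- (L2) one more column -/
theorem exists_mul_mem_Pj_succ
    (hred : ∀ (j : ℕ), j < m → ∀ v : Fin (2 * m + 2) → F, Qm α β v = 0 →
      (∀ r : Fin (2 * m + 2), 2 * m + 1 - j < r.val → v r = 0) →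
      (∃ r : Fin (2 * m + 2), j ≤ r.val ∧ v r ≠ 0) →
      ∃ h ∈ G1 m α β, Fixj j h ∧ ∀ r : Fin (2 * m + 2), j < r.val → (mat h *ᵥ v) r = 0)
    (j : ℕ) (hj : j < m) (g : OG m α β) (hg : g ∈ Pj j) :
    ∃ h ∈ G1 m α β, h * g ∈ Pj (j + 1) := by
  classical
  set ji : Fin m := ⟨j, hj⟩ with hji
  set jj : Fin (2 * m + 2) := lo ji with hjj
  have hjjv : jj.val = j := rfl
  set v : Fin (2 * m + 2) → F := fun a => mat g a jj with hv
  by_cases hex : ∃ a : Fin (2 * m + 2), j ≤ a.val ∧ v a ≠ 0
  · -- the column is not yet reduced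
    have h1 : Qm α β v = 0 := by
      have := q_col g jj
      have hq : qd β jj = 0 := by
        unfold qd
        rw [if_neg (lo_ne_c1 ji), if_neg (lo_ne_c2 ji)]
      rw [hq] at this
      exact this
    have h2 : ∀ a : Fin (2 * m + 2), 2 * m + 1 - j < a.val → v a = 0 := by
      intro a ha
      have hgi : g⁻¹ ∈ Pj j := inv_mem_Pj j g hg
      have hai : 2 * m + 1 - a.val < m := by have := a.2; omega
      set i : Fin m := ⟨2 * m + 1 - a.val, hai⟩ with hidef
      have ha' : a = hi i := by
        rw [eq_iff_val_eq, val_hi]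
        simp only [hidef]
        have := a.2
        omega
      have hij : i.val < j := by
        simp only [hidef]
        have := a.2
        omega
      have e1 : v = mat g *ᵥ Pi.single jj 1 := (Cfsg.Agent.Helper5.OmBN.mulVec_single_one (mat g) jj).symm
      have e2 : v a = Bm α β v (Pi.single (lo i) 1) := by rw [Bm_single_lo, ← ha']
      rw [e2, e1, Bm_mulVec_inv, Cfsg.Agent.Helper5.OmBN.mulVec_single_one, Bm_comm, hjj, Bm_single_lo]
      apply hgi
      · rw [val_lo]; exact hij
      · rw [Fin.lt_def, val_lo, val_hi]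
        have := ji.2
        simp only [hji]
        omega
    obtain ⟨h, hh, hfix, hcol⟩ := hred j hj v h1 h2 hex
    refine ⟨h, hh, ?_⟩
    intro a b hb hba
    rw [mat_mul, Matrix.mul_apply]
    by_cases hbj : b.val < j
    · apply Finset.sum_eq_zero
      intro i _
      by_cases hib : b < i
      · rw [hg i b hbj hib, mul_zero]
      · have hib' : i.val ≤ b.val := by rw [Fin.lt_def] at hib; omega
        rw [hfix a i (by omega), if_neg, zero_mul]
        rintro rfl
        rw [Fin.lt_def] at hba
        omega
    · have hbj' : b = jj := by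
        apply Fin.ext
        rw [hjjv]
        omega
      subst hbj'
      have := hcol a (by rw [Fin.lt_def, hjjv] at hba; exact hba)
      rw [Matrix.mulVec, dotProduct] at this
      exact this
  · -- nothing to do
    refine ⟨1, one_mem _, ?_⟩
    rw [one_mul]
    intro a b hb hba
    by_cases hbj : b.val < j
    · exact hg a b hbj hba
    · have hbj' : b = jj := by
        apply Fin.ext
        rw [hjjv]
        omega
      subst hbj'
      by_contra hne
      apply hex
      refine ⟨a, ?_, hne⟩
      rw [Fin.lt_def, hjjv] at hba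
      omega

end Cfsg.Agent.Helper55.OmBN
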