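import Cfsg.Agent.Helper19.SpBN.Basic
import Cfsg.Agent.Helper41.SpBNP9
import Cfsg.Agent.Helper29.SpBNP10

/-!
# `Sp_{2m}(K)`: `p ∤ |G : B|` (piece (P11) of helper19's S2545, WANTED #8100)
-/

set_option autoImplicit false

namespace Cfsg.Agent.Helper55.SpBNP11

open Matrix Cfsg.Agent.Helper96.StN Cfsg.Agent.Helper96.StC Cfsg.Agent.Helper29.StCM
open Cfsg Cfsg.Agent.Helper6 Cfsg.Agent.Helper18 Cfsg.Agent.Helper19.Cox Cfsg.Agent.Helper19.Poinc
  Cfsg.Agent.Helper19.Stein Cfsg.Agent.Helper19.StBN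
open Cfsg.Agent.Helper19.SpBN

universe u

variable {K : Type u} [Field K] {m : ℕ}

/-- (P11), abstract form: a `p`-subgroup `U ≤ B` whose only fixed coset of `B` is `B`. -/
theorem not_dvd_index_of_fixed {G : Type*} [Group G] [Finite G] (p : ℕ) [Fact p.Prime]
    (U B : Subgroup G) (hUB : U ≤ B) (h9 : IsPGroup p U)
    (h10 : ∀ g : G, (∀ u ∈ U, g⁻¹ * u * g ∈ B) → g ∈ B) : ¬ p ∣ B.index := by
  classical
  have hp : p.Prime := Fact.out
  have hfix : MulAction.fixedPoints U (G ⧸ B) = {((1 : G) : G ⧸ B)} := by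
    ext x
    induction x using QuotientGroup.induction_on with
    | H g =>
      rw [MulAction.mem_fixedPoints, Set.mem_singleton_iff]
      constructor
      · intro h
        have hg : g ∈ B := by
          apply h10 g
          intro u hu
          have h1 : ((u * g : G) : G ⧸ B) = (g : G ⧸ B) := h ⟨u, hu⟩
          rw [QuotientGroup.eq] at h1
          have h2 := B.inv_mem h1
          have e : ((u * g)⁻¹ * g)⁻¹ = g⁻¹ * u * g := by group
          rw [e] at h2
          exact h2
        rw [QuotientGroup.eq]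
        simpa using B.inv_mem hg
      · intro h u
        rw [QuotientGroup.eq] at h
        have hg : g ∈ B := by
          have := B.inv_mem h
          simpa using this
        show ((((u : G) * g : G)) : G ⧸ B) = (g : G ⧸ B)
        rw [QuotientGroup.eq]
        exact B.mul_mem (B.inv_mem (B.mul_mem (hUB u.2) hg)) hg
  have hmod := h9.card_modEq_card_fixedPoints (G ⧸ B)
  have hone : Nat.card (({((1 : G) : G ⧸ B)} : Set (G ⧸ B)) : Type _) = 1 := by
    simp
  rw [hfix, hone] at hmod
  intro hdvd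
  rw [Subgroup.index] at hdvd
  have h0 : Nat.card (G ⧸ B) % p = 0 := Nat.mod_eq_zero_of_dvd hdvd
  have h1 : Nat.card (G ⧸ B) % p = 1 % p := hmod
  rw [h0, Nat.mod_eq_of_lt hp.one_lt] at h1
  exact zero_ne_one h1

/-- (P11) -/
theorem not_dvd_index_B (hM : MonoData (XS K m) reflPerm cw) [Fintype K] (p : ℕ) [Fact p.Prime]
    [CharP K p] : ¬ p ∣ (B K m).index := by
  have : Finite (SpG K m) := inferInstance
  exact not_dvd_index_of_fixed p (U K m) (B K m) le_sup_left
    (Cfsg.Agent.Helper41.SpBNP9.U_isPGroup p)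
    (fun g h => Cfsg.Agent.Helper29.SpBNP10.mem_B_of_conj hM g h)

end Cfsg.Agent.Helper55.SpBNP11
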