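import Cfsg.Agent.Helper19.SpBN.Basic
import Cfsg.Agent.Helper41.SpBNP9

/-!
# `Sp_{2m}(K)`: `|B : H|` is a power of `p` (piece (P13) of helper19's S2545, WANTED #8100)
-/

set_option autoImplicit false

namespace Cfsg.Agent.Helper55.SpBNP13

open Matrix Cfsg.Agent.Helper96.StN Cfsg.Agent.Helper96.StC Cfsg.Agent.Helper29.StCM
open Cfsg Cfsg.Agent.Helper6 Cfsg.Agent.Helper18 Cfsg.Agent.Helper19.Cox Cfsg.Agent.Helper19.Poinc
  Cfsg.Agent.Helper19.Stein Cfsg.Agent.Helper19.StBN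
open Cfsg.Agent.Helper19.SpBN

universe u

variable {K : Type u} [Field K] {m : ℕ}

/-- abstract form: `B = U H` with `U ∩ H = 1` gives `|B| = |U| |H|`. -/
theorem card_eq_mul_of_factor {G : Type*} [Group G] [Finite G] (U H B : Subgroup G)
    (hUB : U ≤ B) (hHB : H ≤ B) (hB : ∀ b ∈ B, ∃ u ∈ U, ∃ h ∈ H, b = u * h)
    (hUH : ∀ g, g ∈ U → g ∈ H → g = 1) : Nat.card B = Nat.card U * Nat.card H := by
  classical
  let f : U × H → B := fun x => ⟨(x.1 : G) * (x.2 : G), B.mul_mem (hUB x.1.2) (hHB x.2.2)⟩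
  have hinj : Function.Injective f := by
    rintro ⟨u, h⟩ ⟨u', h'⟩ hEq
    have e : (u : G) * (h : G) = (u' : G) * (h' : G) := congrArg Subtype.val hEq
    have e1 : (u' : G)⁻¹ * (u : G) = (h' : G) * (h : G)⁻¹ := by
      have : (u : G) = (u' : G) * (h' : G) * (h : G)⁻¹ := by rw [← e]; group
      rw [this]; group
    have hm1 : (u' : G)⁻¹ * (u : G) ∈ U := U.mul_mem (U.inv_mem u'.2) u.2
    have hm2 : (u' : G)⁻¹ * (u : G) ∈ H := by rw [e1]; exact H.mul_mem h'.2 (H.inv_mem h.2)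
    have h1 := hUH _ hm1 hm2
    have hu : (u : G) = (u' : G) := by
      have : (u : G) = (u' : G) * ((u' : G)⁻¹ * (u : G)) := by group
      rw [this, h1, mul_one]
    have hh : (h : G) = (h' : G) := by
      rw [hu] at e
      exact mul_left_cancel e
    exact Prod.ext (Subtype.ext hu) (Subtype.ext hh)
  have hsurj : Function.Surjective f := by
    rintro ⟨b, hb⟩
    obtain ⟨u, hu, h, hh, rfl⟩ := hB b hb
    exact ⟨(⟨u, hu⟩, ⟨h, hh⟩), rfl⟩
  rw [← Nat.card_prod]
  exact (Nat.card_congr (Equiv.ofBijective f ⟨hinj, hsurj⟩)).symm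

/-- abstract form of (P13): the index of `H` in `B = U H` is `|U|`. -/
theorem index_subgroupOf_eq_card {G : Type*} [Group G] [Finite G] (U H B : Subgroup G)
    (hUB : U ≤ B) (hHB : H ≤ B) (hB : ∀ b ∈ B, ∃ u ∈ U, ∃ h ∈ H, b = u * h)
    (hUH : ∀ g, g ∈ U → g ∈ H → g = 1) : (H.subgroupOf B).index = Nat.card U := by
  have h1 := card_eq_mul_of_factor U H B hUB hHB hB hUH
  have h2 := (H.subgroupOf B).card_mul_index
  have h3 : Nat.card (H.subgroupOf B) = Nat.card H :=
    Nat.card_congr (Subgroup.subgroupOfEquivOfLe hHB).toEquiv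
  rw [h3, h1, mul_comm] at h2
  have hpos : 0 < Nat.card H := Nat.card_pos
  exact Nat.eq_of_mul_eq_mul_right hpos h2

/-- (P13), with the exact value -/
theorem index_H_eq_card_U (hM : MonoData (XS K m) reflPerm cw) [Fintype K] :
    ((H K m).subgroupOf (B K m)).index = Nat.card (U K m) := by
  have : Finite (SpG K m) := inferInstance
  exact index_subgroupOf_eq_card (U K m) (H K m) (B K m) le_sup_left le_sup_right
    (fun b hb => (mem_B_iff hM b).mp hb) (fun g hu hh => U_inf_H hM hu hh)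

/-- (P13) -/
theorem index_H_eq_pow (hM : MonoData (XS K m) reflPerm cw) [Fintype K] (p : ℕ) [Fact p.Prime]
    [CharP K p] : ∃ k : ℕ, ((H K m).subgroupOf (B K m)).index = p ^ k := by
  have : Finite (SpG K m) := inferInstance
  obtain ⟨k, hk⟩ := (IsPGroup.iff_card (p := p) (G := U K m)).mp
    (Cfsg.Agent.Helper41.SpBNP9.U_isPGroup p)
  exact ⟨k, by rw [index_H_eq_card_U hM, hk]⟩

end Cfsg.Agent.Helper55.SpBNP13
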