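import Cfsg.Agent.Helper19.SpBN.Basic
import Cfsg.Agent.Helper55.SpBNP11
import Cfsg.Agent.Helper55.SpBNP13
import Cfsg.Agent.Helper53.SpBNP12

/-!
# `Sp_{2m}(K)`: the order of a Sylow `p`-subgroup (piece (P14) of helper19's S2545, WANTED #8100)
-/

set_option autoImplicit false

namespace Cfsg.Agent.Helper55.SpBNP14

open Matrix Cfsg.Agent.Helper96.StN Cfsg.Agent.Helper96.StC Cfsg.Agent.Helper29.StCM
open Cfsg Cfsg.Agent.Helper6 Cfsg.Agent.Helper18 Cfsg.Agent.Helper19.Cox Cfsg.Agent.Helper19.Poinc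
  Cfsg.Agent.Helper19.Stein Cfsg.Agent.Helper19.StBN
open Cfsg.Agent.Helper19.SpBN

universe u

variable {K : Type u} [Field K] {m : ℕ}

/-- abstract form of (P14) -/
theorem card_sylow_of_chain {G : Type*} [Group G] [Finite G] (p : ℕ) [Fact p.Prime]
    (H B : Subgroup G) (hHB : H ≤ B) (h11 : ¬ p ∣ B.index) (h12 : ¬ p ∣ Nat.card H)
    (h13 : ∃ k : ℕ, (H.subgroupOf B).index = p ^ k) (Q : Sylow p G) :
    Nat.card Q = (H.subgroupOf B).index := by
  have hp : p.Prime := Fact.out
  obtain ⟨k, hk⟩ := h13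
  have h1 := B.card_mul_index
  have h2 := (H.subgroupOf B).card_mul_index
  have h3 : Nat.card (H.subgroupOf B) = Nat.card H :=
    Nat.card_congr (Subgroup.subgroupOfEquivOfLe hHB).toEquiv
  rw [h3, hk] at h2
  have hG : Nat.card G = p ^ k * (Nat.card H * B.index) := by
    rw [← h1, ← h2]; ring
  have hr : ¬ p ∣ Nat.card H * B.index := by
    intro hd
    rcases (Nat.Prime.dvd_mul hp).mp hd with h | h
    · exact h12 h
    · exact h11 h
  have hr0 : Nat.card H * B.index ≠ 0 := by
    intro h0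
    rw [h0] at hr
    exact hr (dvd_zero p)
  have hfac : (Nat.card G).factorization p = k := by
    rw [hG, Nat.factorization_mul (pow_ne_zero k hp.ne_zero) hr0, Finsupp.add_apply,
      Nat.Prime.factorization_pow hp, Finsupp.single_eq_same,
      Nat.factorization_eq_zero_of_not_dvd hr, add_zero]
  rw [Sylow.card_eq_multiplicity, hfac, hk]

/-- (P14) -/
theorem card_sylow (hM : MonoData (XS K m) reflPerm cw) [Fintype K] (p : ℕ) [Fact p.Prime]
    [CharP K p] (Q : Sylow p (SpG K m)) :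
    Nat.card Q = ((H K m).subgroupOf (B K m)).index := by
  have : Finite (SpG K m) := inferInstance
  exact card_sylow_of_chain p (H K m) (B K m) le_sup_right
    (Cfsg.Agent.Helper55.SpBNP11.not_dvd_index_B hM p)
    (Cfsg.Agent.Helper53.SpBNP12.not_dvd_card_H hM p)
    (Cfsg.Agent.Helper55.SpBNP13.index_H_eq_pow hM p) Q

end Cfsg.Agent.Helper55.SpBNP14
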