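import Mathlib
import Cfsg.Agent.Helper13.USubDefs

/-!
# Pieces (R1), (R2) of S5982 (helper13, board #7436): transfer of the index and of `AllConj` along a
conjugation in `GL_n(F)`.
-/

set_option autoImplicit false

namespace Cfsg.Agent.Helper55.USubR12

open Matrix Polynomial Cfsg Cfsg.Geo
open Cfsg.Agent.Helper13.USub

variable {F : Type*} [Field F] {n : ℕ}

theorem SLs_normal : (SLs n F).Normal := MonoidHom.normal_ker _

theorem conj_mem_SLs (c x : GL (Fin n) F) (hx : x ∈ SLs n F) : c⁻¹ * x * c ∈ SLs n F := by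
  have := (SLs_normal (F := F) (n := n)).conj_mem x hx c⁻¹
  rwa [inv_inv] at this

theorem conj_mem_SLs' (c x : GL (Fin n) F) (hx : x ∈ SLs n F) : c * x * c⁻¹ ∈ SLs n F :=
  (SLs_normal (F := F) (n := n)).conj_mem x hx c

/-- conjugates of scalar matrices are scalar -/
theorem coe_conj_of_scalar (c x : GL (Fin n) F) (z : F)
    (hx : (x : Matrix (Fin n) (Fin n) F) = z • (1 : Matrix (Fin n) (Fin n) F)) :
    ((c⁻¹ * x * c : GL (Fin n) F) : Matrix (Fin n) (Fin n) F) =
      z • (1 : Matrix (Fin n) (Fin n) F) := by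
  rw [Units.val_mul, Units.val_mul, hx, Matrix.mul_smul, Matrix.mul_one, Matrix.smul_mul,
    Units.inv_mul]

/-- (R1) transfer of the index along a conjugation -/
theorem relIndex_eq_of_conj (c : GL (Fin n) F) (M M' : Subgroup (GL (Fin n) F))
    (h : ∀ g : GL (Fin n) F, g ∈ M ↔ c⁻¹ * g * c ∈ M') :
    M.relIndex (SLs n F) = M'.relIndex (SLs n F) := by
  set φ : GL (Fin n) F →* GL (Fin n) F := (MulAut.conj c⁻¹).toMonoidHom with hφ
  have hφa : ∀ g, φ g = c⁻¹ * g * c := by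
    intro g
    rw [hφ]
    simp [MulAut.conj_apply]
  have hM : M = M'.comap φ := by
    ext g
    rw [Subgroup.mem_comap, hφa]
    exact h g
  have hS : (SLs n F).map φ = SLs n F := by
    ext x
    rw [Subgroup.mem_map]
    constructor
    · rintro ⟨y, hy, rfl⟩
      rw [hφa]
      exact conj_mem_SLs c y hy
    · intro hx
      refine ⟨c * x * c⁻¹, conj_mem_SLs' c x hx, ?_⟩
      rw [hφa]
      group
  rw [hM, Subgroup.relIndex_comap, hS]

theorem allConj_of_conj (r : ℕ) (c : GL (Fin n) F) (M M' : Subgroup (GL (Fin n) F))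
    (h : ∀ g : GL (Fin n) F, g ∈ M ↔ c⁻¹ * g * c ∈ M') (hM' : AllConj n F r M') :
    AllConj n F r M := by
  intro x hx hxr hxs
  have hx' : c⁻¹ * x * c ∈ SLs n F := conj_mem_SLs c x hx
  obtain ⟨z, hz⟩ := hxr
  have h1 : ∃ z : F, (((c⁻¹ * x * c) ^ r : GL (Fin n) F) : Matrix (Fin n) (Fin n) F) =
      z • (1 : Matrix (Fin n) (Fin n) F) := by
    refine ⟨z, ?_⟩
    have e : (c⁻¹ * x * c) ^ r = c⁻¹ * x ^ r * c := by
      have := conj_pow (a := c⁻¹) (b := x) (i := r)
      rw [inv_inv] at this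
      exact this
    rw [e]
    exact coe_conj_of_scalar c (x ^ r) z hz
  have h2 : ∀ z : F, ((c⁻¹ * x * c : GL (Fin n) F) : Matrix (Fin n) (Fin n) F) ≠
      z • (1 : Matrix (Fin n) (Fin n) F) := by
    intro z hz'
    apply hxs z
    have := coe_conj_of_scalar c⁻¹ (c⁻¹ * x * c) z hz'
    rw [inv_inv] at this
    rw [← this]
    congr 1
    group
  obtain ⟨g', hg', hmem⟩ := hM' (c⁻¹ * x * c) hx' h1 h2
  refine ⟨c * g' * c⁻¹, conj_mem_SLs' c g' hg', ?_⟩
  rw [h]
  have e : c⁻¹ * ((c * g' * c⁻¹)⁻¹ * x * (c * g' * c⁻¹)) * c = g'⁻¹ * (c⁻¹ * x * c) * g' := by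
    group
  rw [e]
  exact hmem

/-- (R2) transfer of `AllConj` along a conjugation -/
theorem allConj_iff_of_conj (r : ℕ) (c : GL (Fin n) F) (M M' : Subgroup (GL (Fin n) F))
    (h : ∀ g : GL (Fin n) F, g ∈ M ↔ c⁻¹ * g * c ∈ M') :
    AllConj n F r M ↔ AllConj n F r M' := by
  constructor
  · intro hM
    apply allConj_of_conj r c⁻¹ M' M _ hM
    intro g
    rw [inv_inv, h]
    have e : c⁻¹ * (c * g * c⁻¹) * c = g := by group
    rw [e]
  · exact allConj_of_conj r c M M' h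

end Cfsg.Agent.Helper55.USubR12
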