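import Mathlib

/-!
# Piece (ULTE) of S5982 (helper13, board #7436): `(q₀²)^j - 1 = (q₀^j - 1)(q₀^j + 1)` and an odd
prime divides at most one factor.
-/

set_option autoImplicit false

namespace Cfsg.Agent.Helper55.USubULTE

/-- (ULTE) -/
theorem padicValNat_sq_pow_sub_one_eq (r q₀ : ℕ) [Fact r.Prime] (hr2 : r ≠ 2) (hq₀ : 1 < q₀)
    (hA : ∀ j, 0 < j → r ∣ (q₀ ^ 2) ^ j - 1 → r ∣ (if Even j then q₀ ^ j - 1 else q₀ ^ j + 1))
    (j : ℕ) (hj : 0 < j) :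
    padicValNat r ((q₀ ^ 2) ^ j - 1) =
      padicValNat r (if Even j then q₀ ^ j - 1 else q₀ ^ j + 1) := by
  have hr : r.Prime := Fact.out
  have hx : 2 ≤ q₀ ^ j := by
    calc 2 ≤ q₀ := hq₀
      _ = q₀ ^ 1 := (pow_one _).symm
      _ ≤ q₀ ^ j := Nat.pow_le_pow_right (by omega) hj
  obtain ⟨y, hy⟩ : ∃ y, q₀ ^ j = y + 1 := ⟨q₀ ^ j - 1, by omega⟩
  have hy1 : 1 ≤ y := by omega
  have hfac : (q₀ ^ 2) ^ j - 1 = (q₀ ^ j - 1) * (q₀ ^ j + 1) := by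
    rw [← pow_mul, mul_comm 2 j, pow_mul, hy]
    have h1 : (y + 1) ^ 2 = y * (y + 1 + 1) + 1 := by ring
    rw [h1, Nat.add_sub_cancel, Nat.add_sub_cancel]
  have ha0 : q₀ ^ j - 1 ≠ 0 := by omega
  have hb0 : q₀ ^ j + 1 ≠ 0 := by omega
  have hnot : ¬ (r ∣ q₀ ^ j - 1 ∧ r ∣ q₀ ^ j + 1) := by
    rintro ⟨h1, h2⟩
    have h3 : r ∣ (q₀ ^ j + 1) - (q₀ ^ j - 1) := Nat.dvd_sub h2 h1
    have h4 : (q₀ ^ j + 1) - (q₀ ^ j - 1) = 2 := by omega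
    rw [h4] at h3
    have h5 := Nat.le_of_dvd (by norm_num) h3
    have h6 := hr.two_le
    omega
  by_cases hdiv : r ∣ (q₀ ^ 2) ^ j - 1
  · have hch := hA j hj hdiv
    rw [hfac, padicValNat.mul ha0 hb0]
    by_cases hev : Even j
    · rw [if_pos hev] at hch ⊢
      have : ¬ r ∣ q₀ ^ j + 1 := fun h => hnot ⟨hch, h⟩
      rw [padicValNat.eq_zero_of_not_dvd this, add_zero]
    · rw [if_neg hev] at hch ⊢
      have : ¬ r ∣ q₀ ^ j - 1 := fun h => hnot ⟨h, hch⟩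
      rw [padicValNat.eq_zero_of_not_dvd this, zero_add]
  · rw [padicValNat.eq_zero_of_not_dvd hdiv]
    have h1 : ¬ r ∣ q₀ ^ j - 1 := fun h => hdiv (by rw [hfac]; exact Dvd.dvd.mul_right h _)
    have h2 : ¬ r ∣ q₀ ^ j + 1 := fun h => hdiv (by rw [hfac]; exact Dvd.dvd.mul_left h _)
    split_ifs
    · rw [padicValNat.eq_zero_of_not_dvd h1]
    · rw [padicValNat.eq_zero_of_not_dvd h2]

end Cfsg.Agent.Helper55.USubULTE
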