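import Mathlib
import Cfsg.Agent.Helper55.DihComplement

/-!
# Abelian Sylow 2-subgroups with three involutions (helper55)

* `centralizes_of_odd_of_centralizes_invol`: an element of odd order normalizing an abelian 2-group
  and centralizing its involutions centralizes it.
* `exists_odd_not_mem_centralizer`: if `N(P) ≰ C(P)` for an abelian Sylow 2-subgroup, some element
  of odd order of `N(P)` does not centralize `P`.
* `complement_or_conj_of_three_invol`: an abelian Sylow 2-subgroup with exactly three involutions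
  has a normal complement, or all involutions of the group are conjugate.
-/

set_option autoImplicit false

namespace Cfsg.Agent.Helper55

section

variable {G : Type*} [Group G]

theorem eq_of_conj_swap_of_odd {h a b : G} (h1 : h * a * h⁻¹ = b) (h2 : h * b * h⁻¹ = a) {k : ℕ}
    (hk : Odd k) (hhk : h ^ k = 1) : a = b := by
  obtain ⟨l, rfl⟩ := hk
  have hb : h * h ∈ Subgroup.centralizer ({b} : Set G) := by
    rw [mem_centralizer_iff_conj]
    have : h * h * b * (h * h)⁻¹ = h * (h * b * h⁻¹) * h⁻¹ := by group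
    rw [this, h2, h1]
  have hb' : (h * h) ^ l ∈ Subgroup.centralizer ({b} : Set G) := Subgroup.pow_mem _ hb l
  rw [mem_centralizer_iff_conj] at hb'
  have hpow : h ^ (2 * l + 1) = (h * h) ^ l * h := by
    rw [pow_succ, pow_mul, pow_two]
  have h3 : h ^ (2 * l + 1) * a * (h ^ (2 * l + 1))⁻¹ = a := by rw [hhk]; group
  rw [hpow] at h3
  have h4 : (h * h) ^ l * h * a * ((h * h) ^ l * h)⁻¹ = (h * h) ^ l * (h * a * h⁻¹) * ((h * h) ^ l)⁻¹ := by
    group
  rw [h4, h1, hb'] at h3
  exact h3.symm

/-- An element of odd order normalizing an abelian 2-group `P` and centralizing the involutions of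
`P` centralizes `P`. -/
theorem centralizes_of_odd_of_centralizes_invol (P : Subgroup G)
    (hab : ∀ x ∈ P, ∀ y ∈ P, x * y = y * x) (hP2 : IsPGroup 2 P) {g : G}
    (hgN : ∀ x ∈ P, g * x * g⁻¹ ∈ P) {k : ℕ} (hk : Odd k) (hgk : g ^ k = 1)
    (hinv : ∀ x ∈ P, x * x = 1 → g * x * g⁻¹ = x) : ∀ x ∈ P, g * x * g⁻¹ = x := by
  have key : ∀ j : ℕ, ∀ x ∈ P, x ^ (2 ^ j) = 1 → g * x * g⁻¹ = x := by
    intro j
    induction j with
    | zero =>
      intro x _ hx
      rw [pow_zero, pow_one] at hx
      rw [hx]; group
    | succ j ih =>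
      intro x hx hxj
      have hxx : (x * x) ^ (2 ^ j) = 1 := by
        rw [← pow_two, ← pow_mul, ← pow_succ']; exact hxj
      have h1 : g * (x * x) * g⁻¹ = x * x := ih (x * x) (P.mul_mem hx hx) hxx
      set c := g * x * g⁻¹ with hc
      have hcP : c ∈ P := hgN x hx
      set y := c * x⁻¹ with hy
      have hyP : y ∈ P := P.mul_mem hcP (P.inv_mem hx)
      have hyy : y * y = 1 := by
        have e1 : c * x⁻¹ * (c * x⁻¹) = (c * c) * (x⁻¹ * x⁻¹) := by
          have := hab x⁻¹ (P.inv_mem hx) c hcP
          calc c * x⁻¹ * (c * x⁻¹) = c * (x⁻¹ * c) * x⁻¹ := by group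
            _ = c * (c * x⁻¹) * x⁻¹ := by rw [this]
            _ = (c * c) * (x⁻¹ * x⁻¹) := by group
        have e2 : c * c = g * (x * x) * g⁻¹ := by rw [hc]; group
        rw [hy, e1, e2, h1]; group
      have hgy : g * y * g⁻¹ = y := hinv y hyP hyy
      have hcx : c = y * x := by rw [hy]; group
      -- conjugating by g^i multiplies by y^i
      have hiter : ∀ i : ℕ, g ^ i * x * (g ^ i)⁻¹ = y ^ i * x := by
        intro i
        induction i with
        | zero => simp
        | succ i ihi =>
          have e3 : g ^ (i + 1) * x * (g ^ (i + 1))⁻¹ = g ^ i * (g * x * g⁻¹) * (g ^ i)⁻¹ := by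
            rw [pow_succ]; group
          have hgiy : g ^ i * y * (g ^ i)⁻¹ = y := by
            have hmem : g ∈ Subgroup.centralizer ({y} : Set G) := mem_centralizer_iff_conj.2 hgy
            exact mem_centralizer_iff_conj.1 (Subgroup.pow_mem _ hmem i)
          rw [e3, ← hc, hcx]
          have e4 : g ^ i * (y * x) * (g ^ i)⁻¹ = (g ^ i * y * (g ^ i)⁻¹) * (g ^ i * x * (g ^ i)⁻¹) := by
            group
          rw [e4, hgiy, ihi, pow_succ']
          group
      have h2 := hiter k
      rw [hgk] at h2
      have hyk : y ^ k = 1 := by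
        have : x = y ^ k * x := by simpa using h2
        have h3 : y ^ k * x = 1 * x := by rw [one_mul]; exact this.symm
        exact mul_right_cancel h3
      obtain ⟨l, rfl⟩ := hk
      have hy1 : y = 1 := by
        rw [pow_succ, pow_mul, pow_two, hyy, one_pow, one_mul] at hyk
        exact hyk
      rw [hcx, hy1, one_mul]
  intro x hx
  obtain ⟨j, hj⟩ := hP2 ⟨x, hx⟩
  have hj' : x ^ (2 ^ j) = 1 := by
    have := congrArg Subtype.val hj
    simpa using this
  exact key j x hx hj'

end

end Cfsg.Agent.Helper55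

namespace Cfsg.Agent.Helper55

section

variable {G : Type*} [Group G] [Finite G]

/-- If `N(P) ≰ C(P)` for an abelian Sylow 2-subgroup `P`, some element of odd order of `N(P)`
does not centralize `P`. -/
theorem exists_odd_not_mem_centralizer (P : Sylow 2 G)
    (hab : ∀ x ∈ (P : Subgroup G), ∀ y ∈ (P : Subgroup G), x * y = y * x)
    (hNC : ¬ Subgroup.normalizer ((P : Subgroup G) : Set G) ≤ Subgroup.centralizer ((P : Subgroup G) : Set G)) :
    ∃ h ∈ Subgroup.normalizer ((P : Subgroup G) : Set G), Odd (orderOf h) ∧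
      h ∉ Subgroup.centralizer ((P : Subgroup G) : Set G) := by
  rw [SetLike.not_le_iff_exists] at hNC
  obtain ⟨g, hgN, hgC⟩ := hNC
  have ho : orderOf g ≠ 0 := (orderOf_pos g).ne'
  obtain ⟨i, o', ho'odd, hoeq⟩ := Nat.exists_eq_two_pow_mul_odd ho
  have ho'pos : o' ≠ 0 := by
    obtain ⟨k, hk⟩ := ho'odd; omega
  have h2pos : 2 ^ i ≠ 0 := by positivity
  -- the 2-part lies in P hence centralizes P
  have hg2N : g ^ o' ∈ Subgroup.normalizer ((P : Subgroup G) : Set G) := Subgroup.pow_mem _ hgN _
  have hg2o : orderOf (g ^ o') = 2 ^ i := by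
    rw [orderOf_pow_of_dvd ho'pos ⟨2 ^ i, by rw [hoeq]; ring⟩, hoeq]
    exact Nat.mul_div_cancel _ (Nat.pos_of_ne_zero ho'pos)
  have hg2P : g ^ o' ∈ (P : Subgroup G) := mem_sylow_of_mem_normalizer_of_orderOf P hg2N hg2o
  have hg2C : g ^ o' ∈ Subgroup.centralizer ((P : Subgroup G) : Set G) := by
    rw [Subgroup.mem_centralizer_iff]
    intro x hx
    exact hab x hx _ hg2P
  refine ⟨g ^ (2 ^ i), Subgroup.pow_mem _ hgN _, ?_, ?_⟩
  · rw [orderOf_pow_of_dvd h2pos ⟨o', hoeq⟩, hoeq, Nat.mul_div_cancel_left _ (Nat.pos_of_ne_zero h2pos)]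
    exact ho'odd
  · intro hC
    apply hgC
    have hcop : Nat.Coprime (2 ^ i) o' :=
      Nat.Coprime.pow_left _ (Nat.coprime_two_left.2 ho'odd)
    have hbez := Nat.gcd_eq_gcd_ab (2 ^ i) o'
    rw [hcop.gcd_eq_one] at hbez
    have hg1 : g = (g ^ (2 ^ i)) ^ (Nat.gcdA (2 ^ i) o') * (g ^ o') ^ (Nat.gcdB (2 ^ i) o') := by
      rw [← zpow_natCast g (2 ^ i), ← zpow_natCast g o', ← zpow_mul, ← zpow_mul, ← zpow_add, ← hbez]
      simp
    rw [hg1]
    exact Subgroup.mul_mem _ (Subgroup.zpow_mem _ hC _) (Subgroup.zpow_mem _ hg2C _)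

/-- An abelian Sylow 2-subgroup with exactly three involutions `u`, `v`, `u * v` has a normal
complement, or all involutions of the group are conjugate. -/
theorem complement_or_conj_of_three_invol (P : Sylow 2 G)
    (hab : ∀ x ∈ (P : Subgroup G), ∀ y ∈ (P : Subgroup G), x * y = y * x)
    {u v : G} (hu : u ∈ (P : Subgroup G)) (hv : v ∈ (P : Subgroup G)) (huo : orderOf u = 2)
    (hvo : orderOf v = 2) (huv : u ≠ v)
    (hI : ∀ x ∈ (P : Subgroup G), x * x = 1 → x = 1 ∨ x = u ∨ x = v ∨ x = u * v) :
    (∃ N : Subgroup G, N.Normal ∧ Subgroup.IsComplement' N (P : Subgroup G)) ∨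
      ∀ s t : G, orderOf s = 2 → orderOf t = 2 → IsConj s t := by
  have hp2 : Fact (Nat.Prime 2) := ⟨Nat.prime_two⟩
  by_cases hNC : Subgroup.normalizer ((P : Subgroup G) : Set G) ≤ Subgroup.centralizer ((P : Subgroup G) : Set G)
  · left
    exact ⟨(MonoidHom.transferSylow P hNC).ker, MonoidHom.normal_ker _,
      MonoidHom.ker_transferSylow_isComplement' P hNC⟩
  · right
    obtain ⟨h, hhN, hhodd, hhC⟩ := exists_odd_not_mem_centralizer P hab hNC
    have hhk : h ^ orderOf h = 1 := pow_orderOf_eq_one h
    have hc : ∀ y, y ∈ (P : Subgroup G) ↔ h * y * h⁻¹ ∈ (P : Subgroup G) :=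
      Subgroup.mem_normalizer_iff.1 hhN
    have hcP : ∀ x ∈ (P : Subgroup G), h * x * h⁻¹ ∈ (P : Subgroup G) := fun x hx => (hc x).1 hx
    have huu : u * u = 1 := mul_self_of_orderOf_two huo
    have hvv : v * v = 1 := mul_self_of_orderOf_two hvo
    have hu1 : u ≠ 1 := by intro h0; rw [h0, orderOf_one] at huo; omega
    have hv1 : v ≠ 1 := by intro h0; rw [h0, orderOf_one] at hvo; omega
    have huvc : u * v = v * u := hab u hu v hv
    obtain ⟨w, hw⟩ : ∃ w, w = u * v := ⟨_, rfl⟩
    rw [← hw] at hI
    have hwP : w ∈ (P : Subgroup G) := hw ▸ Subgroup.mul_mem _ hu hv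
    have hww : w * w = 1 := by
      calc w * w = u * (v * u) * v := by rw [hw]; group
        _ = u * (u * v) * v := by rw [huvc]
        _ = (u * u) * (v * v) := by group
        _ = 1 := by rw [huu, hvv, one_mul]
    have hw1 : w ≠ 1 := by
      intro h0
      rw [hw] at h0
      apply huv
      have : u = v⁻¹ := eq_inv_of_mul_eq_one_left h0
      rw [this, inv_eq_self_of_orderOf_two hvo]
    have hwu : w ≠ u := by
      intro h0
      rw [hw] at h0
      apply hv1
      have : u * v = u * 1 := by rw [mul_one]; exact h0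
      exact mul_left_cancel this
    have hwv : w ≠ v := by
      intro h0
      rw [hw] at h0
      apply hu1
      have : u * v = 1 * v := by rw [one_mul]; exact h0
      exact mul_right_cancel this
    -- conjugation by h on elements with square one
    have hcsq : ∀ x, x * x = 1 → (h * x * h⁻¹) * (h * x * h⁻¹) = 1 := by
      intro x hx
      have : (h * x * h⁻¹) * (h * x * h⁻¹) = h * (x * x) * h⁻¹ := by group
      rw [this, hx]; group
    have hcne : ∀ x, x ≠ 1 → h * x * h⁻¹ ≠ 1 := by
      intro x hx h0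
      apply hx
      have : x = h⁻¹ * (h * x * h⁻¹) * h := by group
      rw [this, h0]; group
    have hcinj : ∀ x y, h * x * h⁻¹ = h * y * h⁻¹ → x = y := fun x y hxy =>
      mul_left_cancel (mul_right_cancel hxy)
    have hcmul : h * w * h⁻¹ = (h * u * h⁻¹) * (h * v * h⁻¹) := by rw [hw]; group
    have hcu := hI _ (hcP u hu) (hcsq u huu)
    have hcv := hI _ (hcP v hv) (hcsq v hvv)
    have hcu1 := hcne u hu1
    have hcv1 := hcne v hv1
    have hcuv : h * u * h⁻¹ ≠ h * v * h⁻¹ := fun h0 => huv (hcinj _ _ h0)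
    -- u, v, w are pairwise conjugate
    have hconj : IsConj u v ∧ IsConj u w := by
      rcases hcu with h0 | hcu | hcu | hcu
      · exact absurd h0 hcu1
      · -- c u = u
        rcases hcv with h0 | hcv | hcv | hcv
        · exact absurd h0 hcv1
        · exact absurd (hcu.trans hcv.symm) hcuv
        · -- all fixed: contradiction
          exfalso
          apply hhC
          have hcw : h * w * h⁻¹ = w := by rw [hcmul, hcu, hcv, hw]
          have hall := centralizes_of_odd_of_centralizes_invol (P : Subgroup G) hab P.2 hcP hhodd hhk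
            (by
              intro x hx hxx
              rcases hI x hx hxx with rfl | rfl | rfl | rfl
              · group
              · exact hcu
              · exact hcv
              · exact hcw)
          rw [Subgroup.mem_centralizer_iff]
          intro x hx
          have := hall x hx
          calc x * h = (h * x * h⁻¹) * h := by rw [this]
            _ = h * x := by group
        · -- c v = w, then c w = v: swap
          exfalso
          have hcw : h * w * h⁻¹ = v := by
            rw [hcmul, hcu, hcv, hw, ← mul_assoc, huu, one_mul]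
          exact hwv (eq_of_conj_swap_of_odd hcv hcw hhodd hhk).symm
      · -- c u = v
        rcases hcv with h0 | hcv | hcv | hcv
        · exact absurd h0 hcv1
        · -- c v = u: swap
          exfalso
          exact huv (eq_of_conj_swap_of_odd hcu hcv hhodd hhk)
        · exact absurd (hcu.trans hcv.symm) hcuv
        · -- c v = w : 3-cycle u -> v -> w
          refine ⟨isConj_iff.2 ⟨h, hcu⟩, ?_⟩
          exact (isConj_iff.2 ⟨h, hcu⟩).trans (isConj_iff.2 ⟨h, hcv⟩)
      · -- c u = w
        rcases hcv with h0 | hcv | hcv | hcv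
        · exact absurd h0 hcv1
        · -- c v = u : 3-cycle v -> u -> w
          refine ⟨(isConj_iff.2 ⟨h, hcv⟩).symm, isConj_iff.2 ⟨h, hcu⟩⟩
        · -- c v = v, c w = c u c v = w v = u: swap u, w
          exfalso
          have hcw : h * w * h⁻¹ = u := by
            rw [hcmul, hcu, hcv, hw, mul_assoc, hvv, mul_one]
          exact hwu (eq_of_conj_swap_of_odd hcu hcw hhodd hhk).symm
        · exact absurd (hcu.trans hcv.symm) hcuv
    -- every involution of G is conjugate to u
    have hall : ∀ s : G, orderOf s = 2 → IsConj s u := by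
      intro s hs
      have hsp : IsPGroup 2 (Subgroup.zpowers s) :=
        IsPGroup.of_card (n := 1) (by rw [Nat.card_zpowers, hs, pow_one])
      obtain ⟨Q, hQ⟩ := hsp.exists_le_sylow
      obtain ⟨g, hg⟩ := MulAction.exists_smul_eq G Q P
      have hsQ : s ∈ (Q : Subgroup G) := hQ (Subgroup.mem_zpowers s)
      have hgs : g * s * g⁻¹ ∈ (P : Subgroup G) := by
        have h1 : (P : Subgroup G) = (Q : Subgroup G).map (MulAut.conj g).toMonoidHom := by
          rw [← hg]; rfl
        rw [h1]
        exact ⟨s, hsQ, rfl⟩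
      have hgso : orderOf (g * s * g⁻¹) = 2 := by rw [orderOf_conj_eq]; exact hs
      have hgs2 := mul_self_of_orderOf_two hgso
      have hgs1 : g * s * g⁻¹ ≠ 1 := by
        intro h0; rw [h0, orderOf_one] at hgso; omega
      have hsc : IsConj s (g * s * g⁻¹) := isConj_iff.2 ⟨g, rfl⟩
      rcases hI _ hgs hgs2 with h0 | h0 | h0 | h0
      · exact absurd h0 hgs1
      · rw [h0] at hsc; exact hsc
      · rw [h0] at hsc; exact hsc.trans hconj.1.symm
      · rw [h0] at hsc; exact hsc.trans hconj.2.symm
    intro s t hs ht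
    exact (hall s hs).trans (hall t ht).symm

end

end Cfsg.Agent.Helper55
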