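import Cfsg.Agent.Helper58.PsuIo.OdDefs
import Cfsg.Agent.Helper33.PsuM_AI

/-!
# S2089 block I-odd (helper58), piece (OMAT): the matrices of `qO`, `tO`
-/

set_option autoImplicit false

namespace Cfsg.Agent.Helper55.PsuIo

open Matrix
open Cfsg.Agent.Helper43.PsuM Cfsg.Agent.Helper58.PsuIo.Od

variable {F : Type*} [Field F] {m : ℕ} {σ : F →+* F}

set_option linter.unusedSectionVars false

/-! ### a small API for columns and rows over `Fin m ⊕ Fin m` -/

/-- the column `[u, v]ᵀ` -/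
def col2 (u v : Fin m → F) : Matrix (Fin m ⊕ Fin m) Unit F := Matrix.of fun a _ => Sum.elim u v a

/-- the row `[u, v]` -/
def row2 (u v : Fin m → F) : Matrix Unit (Fin m ⊕ Fin m) F := Matrix.of fun _ a => Sum.elim u v a

theorem colE_eq (y : Fin m → F) : colE y = col2 y 0 := rfl

theorem rowF_eq (z : Fin m → F) : rowF z = row2 0 z := rfl

theorem col2_transpose (u v : Fin m → F) : (col2 u v)ᵀ = row2 u v := rfl

theorem row2_transpose (u v : Fin m → F) : (row2 u v)ᵀ = col2 u v := rfl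

theorem col2_map (f : F → F) (u v : Fin m → F) :
    (col2 u v).map f = col2 (fun i => f (u i)) (fun i => f (v i)) := by
  ext a _
  rcases a with i | i <;> rfl

theorem row2_map (f : F → F) (u v : Fin m → F) :
    (row2 u v).map f = row2 (fun i => f (u i)) (fun i => f (v i)) := by
  ext _ a
  rcases a with i | i <;> rfl

theorem fromBlocks_mul_col2 (A B C D : Matrix (Fin m) (Fin m) F) (u v : Fin m → F) :
    fromBlocks A B C D * col2 u v = col2 (A *ᵥ u + B *ᵥ v) (C *ᵥ u + D *ᵥ v) := by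
  ext a _
  rcases a with i | i <;>
    simp [col2, Matrix.mul_apply, Fintype.sum_sum_type, Matrix.mulVec, dotProduct]

theorem row2_mul_fromBlocks (A B C D : Matrix (Fin m) (Fin m) F) (u v : Fin m → F) :
    row2 u v * fromBlocks A B C D = row2 (u ᵥ* A + v ᵥ* C) (u ᵥ* B + v ᵥ* D) := by
  ext _ a
  rcases a with i | i <;>
    simp [row2, Matrix.mul_apply, Fintype.sum_sum_type, Matrix.vecMul, dotProduct]

theorem col2_mul_row2 (u v u' v' : Fin m → F) :
    col2 u v * row2 u' v' =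
      fromBlocks (vecMulVec u u') (vecMulVec u v') (vecMulVec v u') (vecMulVec v v') := by
  ext a b
  rcases a with i | i <;> rcases b with j | j <;>
    simp [col2, row2, Matrix.mul_apply, vecMulVec_apply]

theorem row2_mul_col2 (u v u' v' : Fin m → F) :
    row2 u v * col2 u' v' = Matrix.of fun _ _ => u ⬝ᵥ u' + v ⬝ᵥ v' := by
  ext _ _
  simp [col2, row2, Matrix.mul_apply, Fintype.sum_sum_type, dotProduct]

theorem col2_add (u v u' v' : Fin m → F) : col2 u v + col2 u' v' = col2 (u + u') (v + v') := by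
  ext a _
  rcases a with i | i <;> rfl

theorem row2_add (u v u' v' : Fin m → F) : row2 u v + row2 u' v' = row2 (u + u') (v + v') := by
  ext _ a
  rcases a with i | i <;> rfl

theorem col2_zero : col2 (0 : Fin m → F) 0 = 0 := by
  ext a _
  rcases a with i | i <;> rfl

theorem row2_zero : row2 (0 : Fin m → F) 0 = 0 := by
  ext _ a
  rcases a with i | i <;> rfl

theorem col2_inj {u v u' v' : Fin m → F} (h : col2 u v = col2 u' v') : u = u' ∧ v = v' := by
  constructor
  · funext i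
    exact congrFun (congrFun h (Sum.inl i)) ()
  · funext i
    exact congrFun (congrFun h (Sum.inr i)) ()

/-! ### (OMAT) -/

/-- (OMAT1) -/
theorem det_qM (y : Fin m → F) (B : Matrix (Fin m) (Fin m) F) : (qM σ y B).det = 1 := by
  unfold qM
  rw [Matrix.det_fromBlocks_one₂₂, colE_eq, rowF_eq, col2_mul_row2]
  unfold Ev.qM
  have e : fromBlocks (1 : Matrix (Fin m) (Fin m) F) B 0 1
      - fromBlocks (vecMulVec y 0) (vecMulVec y fun i => -σ (y i)) (vecMulVec 0 0)
        (vecMulVec 0 fun i => -σ (y i))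
      = fromBlocks (1 : Matrix (Fin m) (Fin m) F) (B - vecMulVec y fun i => -σ (y i)) 0
        (1 : Matrix (Fin m) (Fin m) F) := by
    ext a b
    rcases a with i | i <;> rcases b with j | j <;> simp [vecMulVec_apply]
  rw [e, Matrix.det_fromBlocks_zero₂₁]
  simp

/-- `Qᵀ H` -/
theorem OM_QtH (B : Matrix (Fin m) (Fin m) F) :
    (Ev.qM B)ᵀ * Ev.Hm m F = fromBlocks 0 1 1 Bᵀ := by
  unfold Ev.qM Ev.Hm
  rw [Matrix.fromBlocks_transpose, Matrix.fromBlocks_multiply]
  simp

theorem OM_Q_map (B : Matrix (Fin m) (Fin m) F) :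
    (Ev.qM B).map σ = fromBlocks 1 (B.map σ) 0 1 := by
  unfold Ev.qM
  rw [Matrix.fromBlocks_map, Matrix.map_one σ (map_zero σ) (map_one σ),
    Matrix.map_zero σ (map_zero σ)]

/-- (OMAT2) -/
theorem isUo_qM_iff (hσ : ∀ x, σ (σ x) = x) (y : Fin m → F) (B : Matrix (Fin m) (Fin m) F) :
    IsUo σ (qM σ y B) ↔ QP σ y B := by
  have hone : (1 : Matrix Unit Unit F).map σ = 1 := Matrix.map_one σ (map_zero σ) (map_one σ)
  -- the four blocks
  have e11 : (Ev.qM B)ᵀ * Ev.Hm m F * (Ev.qM B).map σ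
      + (rowF fun i => -σ (y i))ᵀ * (rowF fun i => -σ (y i)).map σ
      = fromBlocks 0 1 1 (B.map σ + Bᵀ + vecMulVec (fun i => σ (y i)) y) := by
    rw [OM_QtH, OM_Q_map, Matrix.fromBlocks_multiply, rowF_eq, row2_transpose, row2_map,
      col2_mul_row2, Matrix.fromBlocks_add]
    ext a b
    rcases a with i | i <;> rcases b with j | j <;>
      simp [vecMulVec_apply, hσ, add_comm]
  have e12 : (Ev.qM B)ᵀ * Ev.Hm m F * (colE y).map σ + (rowF fun i => -σ (y i))ᵀ = 0 := by
    rw [OM_QtH, colE_eq, col2_map, fromBlocks_mul_col2, rowF_eq, row2_transpose, col2_add]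
    ext a _
    rcases a with i | i <;> simp [col2, Matrix.mulVec, dotProduct]
  have e21 : (colE y)ᵀ * Ev.Hm m F * (Ev.qM B).map σ + (rowF fun i => -σ (y i)).map σ = 0 := by
    unfold Ev.Hm
    rw [colE_eq, col2_transpose, row2_mul_fromBlocks, OM_Q_map, row2_mul_fromBlocks, rowF_eq,
      row2_map, row2_add]
    ext _ a
    rcases a with i | i <;> simp [row2, hσ]
  have e22 : (colE y)ᵀ * Ev.Hm m F * (colE y).map σ = 0 := by
    unfold Ev.Hm
    rw [colE_eq, col2_transpose, row2_mul_fromBlocks, col2_map, row2_mul_col2]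
    ext _ _
    simp [dotProduct]
  unfold IsUo Jo qM
  rw [Matrix.fromBlocks_transpose, Matrix.fromBlocks_map, Matrix.fromBlocks_multiply,
    Matrix.fromBlocks_multiply, Matrix.fromBlocks_inj]
  simp only [Matrix.mul_zero, add_zero, zero_add, Matrix.mul_one, Matrix.transpose_one,
    Matrix.one_mul, hone]
  rw [e11, e12, e21, e22]
  unfold QP Ev.Hm
  constructor
  · rintro ⟨h1, -, -, -⟩
    exact (Matrix.fromBlocks_inj.1 h1).2.2.2
  · intro h
    refine ⟨by rw [h], rfl, rfl, by simp⟩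

/-- (OMAT3) -/
theorem mat_qO (hσ : ∀ x, σ (σ x) = x) {y : Fin m → F} {B : Matrix (Fin m) (Fin m) F}
    (h : QP σ y B) : mat (qO σ y B) = qM σ y B := by
  unfold qO
  exact mat_ofMat σ (det_qM y B) ((isUo_qM_iff hσ y B).2 h)

theorem OM_sigma_ne_zero {x : F} (hx : x ≠ 0) : σ x ≠ 0 := by
  intro h
  exact hx ((map_eq_zero σ).1 h)

theorem OM_cw_mul (hσ : ∀ x, σ (σ x) = x) (d : Fin m → F) (hd : ∀ i, d i ≠ 0) :
    cw σ d * σ (cw σ d) = 1 := by
  unfold cw
  have h1 : (∏ i, d i) ≠ 0 := Finset.prod_ne_zero_iff.2 fun i _ => hd i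
  have h2 : (∏ i, σ (d i)) ≠ 0 := Finset.prod_ne_zero_iff.2 fun i _ => OM_sigma_ne_zero (hd i)
  rw [map_mul, map_inv₀, map_prod, map_prod]
  simp only [hσ]
  field_simp

/-- the determinant of `tM` -/
theorem OM_det_tM (d : Fin m → F) (hd : ∀ i, d i ≠ 0) : (tM σ d).det = 1 := by
  have h1 : (∏ i, d i) ≠ 0 := Finset.prod_ne_zero_iff.2 fun i _ => hd i
  have h2 : (∏ i, σ (d i)) ≠ 0 := Finset.prod_ne_zero_iff.2 fun i _ => OM_sigma_ne_zero (hd i)
  unfold tM Ev.iM cw
  rw [Matrix.det_fromBlocks_zero₂₁, Matrix.det_fromBlocks_zero₂₁, Matrix.det_diagonal,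
    Matrix.det_diagonal, Matrix.det_diagonal]
  simp only [Finset.univ_unique, Finset.prod_singleton, Finset.prod_inv_distrib]
  field_simp

/-- unitarity of `tM` -/
theorem OM_isUo_tM (hσ : ∀ x, σ (σ x) = x) (d : Fin m → F) (hd : ∀ i, d i ≠ 0) :
    IsUo σ (tM σ d) := by
  have hT : Ev.IsU σ (Ev.iM (Matrix.diagonal d) (Matrix.diagonal fun i => (σ (d i))⁻¹)) := by
    apply Cfsg.Agent.Helper33.PsuM.AI_isU_iM
    · rw [Matrix.diagonal_transpose, Matrix.diagonal_map (map_zero σ), Matrix.diagonal_mul_diagonal,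
        ← Matrix.diagonal_one]
      congr 1
      funext i
      rw [map_inv₀, hσ]
      exact mul_inv_cancel₀ (hd i)
    · rw [Matrix.diagonal_transpose, Matrix.diagonal_map (map_zero σ), Matrix.diagonal_mul_diagonal,
        ← Matrix.diagonal_one]
      congr 1
      funext i
      exact inv_mul_cancel₀ (OM_sigma_ne_zero (hd i))
  unfold Ev.IsU at hT
  have hC : (Matrix.diagonal fun _ : Unit => cw σ d)ᵀ * (Matrix.diagonal fun _ : Unit => cw σ d).map σ
      = 1 := by
    rw [Matrix.diagonal_transpose, Matrix.diagonal_map (map_zero σ), Matrix.diagonal_mul_diagonal,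
      ← Matrix.diagonal_one]
    congr 1
    funext _
    exact OM_cw_mul hσ d hd
  unfold IsUo Jo tM
  rw [Matrix.fromBlocks_transpose, Matrix.fromBlocks_map, Matrix.fromBlocks_multiply,
    Matrix.fromBlocks_multiply]
  simp only [Matrix.mul_zero, add_zero, zero_add, Matrix.mul_one, Matrix.transpose_zero,
    Matrix.zero_mul, Matrix.map_zero σ (map_zero σ)]
  rw [hT, hC]

/-- (OMAT4) -/
theorem mat_tO (hσ : ∀ x, σ (σ x) = x) (d : Fin m → F) (hd : ∀ i, d i ≠ 0) :
    mat (tO σ d) = tM σ d := by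
  unfold tO
  exact mat_ofMat σ (OM_det_tM d hd) (OM_isUo_tM hσ d hd)

end Cfsg.Agent.Helper55.PsuIo
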