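import Cfsg.Agent.Helper55.PsuIo_OMAT

/-!
# S2089 block I-odd (helper58), piece (OQ): the group law of `Qsub`
-/

set_option autoImplicit false

namespace Cfsg.Agent.Helper55.PsuIo

open Matrix
open Cfsg.Agent.Helper43.PsuM Cfsg.Agent.Helper58.PsuIo.Od

variable {F : Type*} [Field F] {m : ℕ} {σ : F →+* F}

theorem OQ_QP_entry {y : Fin m → F} {B : Matrix (Fin m) (Fin m) F} (h : QP σ y B) (i j : Fin m) :
    σ (B i j) + B j i + σ (y i) * y j = 0 := by
  have := congrFun (congrFun h i) j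
  simpa [Matrix.add_apply, Matrix.map_apply, Matrix.transpose_apply, vecMulVec_apply] using this

theorem OQ_QP_of_entry {y : Fin m → F} {B : Matrix (Fin m) (Fin m) F}
    (h : ∀ i j, σ (B i j) + B j i + σ (y i) * y j = 0) : QP σ y B := by
  unfold QP
  ext i j
  simpa [Matrix.add_apply, Matrix.map_apply, Matrix.transpose_apply, vecMulVec_apply] using h i j

/-- (OQ1) -/
theorem QP_mul (hσ : ∀ x, σ (σ x) = x) {y y' : Fin m → F} {B B' : Matrix (Fin m) (Fin m) F}
    (h : QP σ y B) (h' : QP σ y' B') :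
    QP σ (y + y') (B + B' - Matrix.vecMulVec y (fun j => σ (y' j))) := by
  apply OQ_QP_of_entry
  intro i j
  have h1 := OQ_QP_entry h i j
  have h2 := OQ_QP_entry h' i j
  simp only [Matrix.sub_apply, Matrix.add_apply, vecMulVec_apply, Pi.add_apply, map_sub, map_add,
    map_mul, hσ]
  linear_combination h1 + h2

/-- the product of two `qM`'s -/
theorem OQ_qM_mul (y y' : Fin m → F) (B B' : Matrix (Fin m) (Fin m) F) :
    qM σ y B * qM σ y' B' = qM σ (y + y') (B + B' - Matrix.vecMulVec y (fun j => σ (y' j))) := by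
  unfold qM
  rw [Matrix.fromBlocks_multiply]
  have e11 : Ev.qM B * Ev.qM B' + colE y * rowF (fun i => -σ (y' i))
      = Ev.qM (B + B' - Matrix.vecMulVec y (fun j => σ (y' j))) := by
    unfold Ev.qM
    rw [Matrix.fromBlocks_multiply, colE_eq, rowF_eq, col2_mul_row2, Matrix.fromBlocks_add]
    ext a b
    rcases a with i | i <;> rcases b with j | j <;> simp [vecMulVec_apply]
    ring
  have e12 : Ev.qM B * colE y' + colE y * (1 : Matrix Unit Unit F) = colE (y + y') := by
    unfold Ev.qM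
    rw [Matrix.mul_one, colE_eq, colE_eq, colE_eq, fromBlocks_mul_col2, col2_add]
    ext a _
    rcases a with i | i <;> simp [col2, add_comm]
  have e21 : rowF (fun i => -σ (y i)) * Ev.qM B' + (1 : Matrix Unit Unit F) * rowF (fun i => -σ (y' i))
      = rowF (fun i => -σ ((y + y') i)) := by
    unfold Ev.qM
    rw [Matrix.one_mul, rowF_eq, rowF_eq, rowF_eq, row2_mul_fromBlocks, row2_add]
    ext _ a
    rcases a with i | i <;> simp [row2, add_comm]
  have e22 : rowF (fun i => -σ (y i)) * colE y' + (1 : Matrix Unit Unit F) * 1 = 1 := by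
    rw [rowF_eq, colE_eq, row2_mul_col2, Matrix.one_mul]
    ext _ _
    simp
  rw [e11, e12, e21, e22]

/-- (OQ2) -/
theorem qO_mul (hσ : ∀ x, σ (σ x) = x) {y y' : Fin m → F} {B B' : Matrix (Fin m) (Fin m) F}
    (h : QP σ y B) (h' : QP σ y' B') :
    qO σ y B * qO σ y' B' = qO σ (y + y') (B + B' - Matrix.vecMulVec y (fun j => σ (y' j))) := by
  apply mat_injective
  rw [mat_mul, mat_qO hσ h, mat_qO hσ h', mat_qO hσ (QP_mul hσ h h'), OQ_qM_mul]

/-- (OQ3) -/
theorem QP_zero : QP σ (0 : Fin m → F) 0 := by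
  apply OQ_QP_of_entry
  intro i j
  simp

theorem OQ_qM_zero : qM σ (0 : Fin m → F) 0 = 1 := by
  unfold qM Ev.qM
  have e1 : colE (0 : Fin m → F) = 0 := by rw [colE_eq, col2_zero]
  have e2 : rowF (fun i => -σ ((0 : Fin m → F) i)) = 0 := by
    rw [rowF_eq, ← row2_zero]
    congr 1
    funext i
    simp
  rw [e1, e2, Matrix.fromBlocks_one, Matrix.fromBlocks_one]

/-- (OQ4) -/
theorem qO_zero (hσ : ∀ x, σ (σ x) = x) : qO σ (0 : Fin m → F) 0 = 1 := by
  apply mat_injective
  rw [mat_qO hσ QP_zero, OQ_qM_zero, mat_one]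

/-- (OQ5) -/
theorem QP_inv (hσ : ∀ x, σ (σ x) = x) {y : Fin m → F} {B : Matrix (Fin m) (Fin m) F}
    (h : QP σ y B) : QP σ (-y) (-B - Matrix.vecMulVec y (fun j => σ (y j))) := by
  apply OQ_QP_of_entry
  intro i j
  have h1 := OQ_QP_entry h i j
  simp only [Matrix.sub_apply, Matrix.neg_apply, vecMulVec_apply, Pi.neg_apply, map_sub, map_neg,
    map_mul, hσ]
  linear_combination -h1

/-- (OQ6) -/
theorem qO_inv (hσ : ∀ x, σ (σ x) = x) {y : Fin m → F} {B : Matrix (Fin m) (Fin m) F}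
    (h : QP σ y B) : (qO σ y B)⁻¹ = qO σ (-y) (-B - Matrix.vecMulVec y (fun j => σ (y j))) := by
  symm
  apply eq_inv_of_mul_eq_one_right
  rw [qO_mul hσ h (QP_inv hσ h)]
  have e1 : y + -y = 0 := add_neg_cancel y
  have e2 : B + (-B - Matrix.vecMulVec y (fun j => σ (y j)))
      - Matrix.vecMulVec y (fun j => σ ((-y) j)) = 0 := by
    ext i j
    simp [vecMulVec_apply]
    ring
  rw [e1, e2, qO_zero hσ]

/-- (OQ7) -/
theorem qO_inj (hσ : ∀ x, σ (σ x) = x) {y y' : Fin m → F} {B B' : Matrix (Fin m) (Fin m) F}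
    (h : QP σ y B) (h' : QP σ y' B') (heq : qO σ y B = qO σ y' B') : y = y' ∧ B = B' := by
  have hm : qM σ y B = qM σ y' B' := by
    rw [← mat_qO hσ h, ← mat_qO hσ h', heq]
  unfold qM at hm
  obtain ⟨h11, h12, -, -⟩ := Matrix.fromBlocks_inj.1 hm
  unfold Ev.qM at h11
  refine ⟨?_, (Matrix.fromBlocks_inj.1 h11).2.1⟩
  rw [colE_eq, colE_eq] at h12
  exact (col2_inj h12).1

end Cfsg.Agent.Helper55.PsuIo
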