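import Mathlib
import Cfsg.Prelude.Def_Characters
import Cfsg.Prelude.Def_Blocks

/-!
helper55 (for helper17, WANTED #6512, S1022): pieces (INV) `card_conj_normalizer_eq` and (PAR)
`even_card_of_classes`.
-/

set_option autoImplicit false
set_option linter.style.haveILetI false
set_option linter.unusedVariables false

namespace Cfsg.Agent.Helper55.O459A

open Cfsg Subgroup

universe u

variable {G : Type u} [Group G] [Finite G]

/-- the conjugation action of `P` on the conjugates of `y` lying in `N(P)`. -/
@[instance_reducible]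
def conjActOn (P : Subgroup G) (y : G) :
    MulAction ↥P {y' : G // IsConj y y' ∧ y' ∈ normalizer (P : Set G)} where
  smul g t := ⟨(g : G) * t.1 * (g : G)⁻¹, by
    refine ⟨?_, ?_⟩
    · have h1 : IsConj t.1 ((g : G) * t.1 * (g : G)⁻¹) := isConj_iff.mpr ⟨g, rfl⟩
      exact t.2.1.trans h1
    · exact (normalizer (P : Set G)).mul_mem ((normalizer (P : Set G)).mul_mem (le_normalizer g.2) t.2.2)
        ((normalizer (P : Set G)).inv_mem (le_normalizer g.2))⟩
  one_smul t := by
    apply Subtype.ext
    show ((1 : ↥P) : G) * t.1 * ((1 : ↥P) : G)⁻¹ = t.1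
    simp
  mul_smul g k t := by
    apply Subtype.ext
    show ((g * k : ↥P) : G) * t.1 * ((g * k : ↥P) : G)⁻¹ = (g : G) * ((k : G) * t.1 * (k : G)⁻¹) * (g : G)⁻¹
    push_cast
    group

/-- (INV) -/
theorem card_conj_normalizer_eq {p : ℕ} [Fact p.Prime] (P : Sylow p G)
    (hP : Nat.card (P : Subgroup G) = p) (y : G) :
    ∃ k : ℕ, Nat.card {y' : G // IsConj y y' ∧ y' ∈ normalizer ((P : Subgroup G) : Set G)} =
      Nat.card {y' : G // IsConj y y' ∧ y' ∈ centralizer ((P : Subgroup G) : Set G)} + p * k := by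
  letI := conjActOn (P : Subgroup G) y
  have hmod := P.isPGroup'.card_modEq_card_fixedPoints
    {y' : G // IsConj y y' ∧ y' ∈ normalizer ((P : Subgroup G) : Set G)}
  -- the fixed points
  have hfix : Nat.card (MulAction.fixedPoints ↥(P : Subgroup G)
      {y' : G // IsConj y y' ∧ y' ∈ normalizer ((P : Subgroup G) : Set G)}) =
      Nat.card {y' : G // IsConj y y' ∧ y' ∈ centralizer ((P : Subgroup G) : Set G)} := by
    refine Nat.card_congr
      { toFun := fun t => ⟨t.1.1, t.1.2.1, ?_⟩
        invFun := fun t => ⟨⟨t.1, t.2.1, centralizer_le_normalizer _ t.2.2⟩, ?_⟩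
        left_inv := fun t => rfl
        right_inv := fun t => rfl }
    · rw [mem_centralizer_iff]
      intro g hg
      have h1 := t.2 ⟨g, hg⟩
      have h2 : g * t.1.1 * g⁻¹ = t.1.1 := congrArg Subtype.val h1
      calc g * t.1.1 = g * t.1.1 * g⁻¹ * g := by group
        _ = t.1.1 * g := by rw [h2]
    · intro g
      apply Subtype.ext
      show (g : G) * t.1 * (g : G)⁻¹ = t.1
      have h1 := mem_centralizer_iff.mp t.2.2 g g.2
      rw [h1]; group
  rw [hfix] at hmod
  have hle : Nat.card {y' : G // IsConj y y' ∧ y' ∈ centralizer ((P : Subgroup G) : Set G)} ≤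
      Nat.card {y' : G // IsConj y y' ∧ y' ∈ normalizer ((P : Subgroup G) : Set G)} := by
    refine Nat.card_le_card_of_injective
      (fun t => (⟨t.1, t.2.1, centralizer_le_normalizer _ t.2.2⟩ :
        {y' : G // IsConj y y' ∧ y' ∈ normalizer ((P : Subgroup G) : Set G)})) ?_
    intro s t hst
    have h3 : (s : G) = (t : G) := congrArg (fun z : {y' : G // IsConj y y' ∧
      y' ∈ normalizer ((P : Subgroup G) : Set G)} => (z : G)) hst
    exact Subtype.ext h3
  obtain ⟨k, hk⟩ := (Nat.modEq_iff_dvd' hle).mp hmod.symm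
  exact ⟨k, by omega⟩

/-- (PAR) -/
theorem even_card_of_classes {α : Type*} [Finite α] (r : α → α → Prop) (hr : Equivalence r)
    (h2 : ∀ a : α, Nat.card {b : α // r a b} = 2) : Even (Nat.card α) := by
  classical
  letI s : Setoid α := ⟨r, hr⟩
  haveI : Fintype α := Fintype.ofFinite α
  haveI : Fintype (Quotient s) := Fintype.ofFinite _
  have h1 : Nat.card α = Nat.card (Σ q : Quotient s, {a : α // Quotient.mk s a = q}) :=
    Nat.card_congr (Equiv.sigmaFiberEquiv (Quotient.mk s)).symm
  rw [h1, Nat.card_sigma]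
  have h3 : ∀ q : Quotient s, Nat.card {a : α // Quotient.mk s a = q} = 2 := by
    intro q
    induction q using Quotient.inductionOn with
    | h a₀ =>
      rw [← h2 a₀]
      refine Nat.card_congr (Equiv.subtypeEquivRight (fun a => ?_))
      rw [Quotient.eq]
      exact ⟨fun h => hr.symm h, fun h => hr.symm h⟩
  rw [Finset.sum_congr rfl (fun q _ => h3 q), Finset.sum_const, smul_eq_mul]
  exact ⟨Finset.univ.card, by ring⟩

end Cfsg.Agent.Helper55.O459A
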