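import Cfsg.Agent.Helper19.E8C.Defs

/-!
# S5751 piece (ADD) of helper19's farm #13279

The coordinates `cmp g r j` (the `(e_r, h_j)` entry): additivity on `lowerGL bL F m` at the level `m`, vanishing below the
level, and the value on a root element.
-/

set_option autoImplicit false

namespace Cfsg.Agent.Helper55.E8C

open Cfsg Cfsg.Lie Cfsg.Agent.Helper18 Cfsg.Agent.Helper19.Poinc Cfsg.Agent.Helper19.E8C

variable {F : Type*} [Field F]

theorem cmp_one (r j : ℕ) : cmp (1 : GL chevE8.Idx F) r j = 0 := by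
  unfold Cfsg.Agent.Helper19.E8C.cmp
  split_ifs with h
  · rw [Units.val_one, Matrix.one_apply_ne (by simp)]
  · rfl

/-- local copy of `bL_lt_iff` of `Helper19.E8C.Basic` (so that this file imports only the definitions) -/
theorem add_bL_lt_iff (a b : chevE8.Idx) (k : ℕ) :
    bL a < bL b + k ↔ grW chevE8 lev a < grW chevE8 lev b + k := by
  unfold bL natLvl
  have := natLvl_nonneg (grW chevE8 lev) a
  have := natLvl_nonneg (grW chevE8 lev) b
  omega

/-- the grading of the two kinds of coordinates -/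
theorem add_bL_lt (r j : ℕ) (hr : r < chevE8.nroots) (hj : j < chevE8.rank) (k : ℕ) (h : lev r < (k : ℤ)) :
    bL (Sum.inr ⟨r, hr⟩ : chevE8.Idx) < bL (Sum.inl ⟨j, hj⟩ : chevE8.Idx) + k := by
  rw [add_bL_lt_iff]
  simpa [grW] using h

theorem cmp_zero_of_lower (m : ℕ) (g : GL chevE8.Idx F) (hg : g ∈ lowerGL bL F m) (r j : ℕ)
    (hr : lev r < (m : ℤ)) : cmp g r j = 0 := by
  unfold Cfsg.Agent.Helper19.E8C.cmp
  split_ifs with h
  · have h1 := ((mem_lowerGL bL m g).mp hg).2 (Sum.inr ⟨r, h.1⟩) (Sum.inl ⟨j, h.2⟩) (add_bL_lt r j h.1 h.2 m hr)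
    rw [Matrix.sub_apply, Matrix.one_apply_ne (by simp), sub_zero] at h1
    exact h1
  · rfl

theorem cmp_mul (m : ℕ) (hm : 1 ≤ m) (g : GL chevE8.Idx F) (hg : g ∈ lowerGL bL F m) (g' : GL chevE8.Idx F)
    (hg' : g' ∈ lowerGL bL F m) (r j : ℕ) (hr : lev r = (m : ℤ)) :
    cmp (g * g') r j = cmp g r j + cmp g' r j := by
  unfold Cfsg.Agent.Helper19.E8C.cmp
  split_ifs with h
  · have e : ((g * g' : GL chevE8.Idx F) : Matrix chevE8.Idx chevE8.Idx F) =
        ((g : Matrix chevE8.Idx chevE8.Idx F) - 1) * ((g' : Matrix chevE8.Idx chevE8.Idx F) - 1) +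
          (g : Matrix chevE8.Idx chevE8.Idx F) + ((g' : Matrix chevE8.Idx chevE8.Idx F) - 1) := by
      rw [Units.val_mul]; noncomm_ring
    have h1 := (((mem_lowerGL bL m g).mp hg).2.mul ((mem_lowerGL bL m g').mp hg').2)
      (Sum.inr ⟨r, h.1⟩) (Sum.inl ⟨j, h.2⟩) (add_bL_lt r j h.1 h.2 (m + m) (by rw [hr]; push_cast; omega))
    rw [e, Matrix.add_apply, Matrix.add_apply, h1, zero_add, Matrix.sub_apply, Matrix.one_apply_ne (by simp),
      sub_zero]
  · rw [add_zero]

theorem cmp_xGL (s : ℕ) (hs : s < chevE8.nroots) (t : F) (r j : ℕ) (hr : r < chevE8.nroots)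
    (hj : j < chevE8.rank) :
    cmp (xGL chevE8 F s t) r j = if r = s then -((chevE8.cartan j s : ℤ) : F) * t else 0 := by
  unfold Cfsg.Agent.Helper19.E8C.cmp
  rw [dif_pos ⟨hr, hj⟩, xGL_val chevE8 _ (triOK_of_mem chevE8 hE8)]
  unfold ChevalleyDatum.x
  rw [dif_pos hs]
  unfold ChevalleyDatum.xMat ChevalleyDatum.cartan
  simp only [Matrix.of_apply, Fin.mk.injEq]

end Cfsg.Agent.Helper55.E8C
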