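import Mathlib
import Cfsg.Agent.Helper5.SuBN.Defs

/-!
# S2546 (helper5), piece (TR1): a basis in which the standard hermitian form becomes antidiagonal
-/

set_option autoImplicit false

namespace Cfsg.Agent.Helper55.SuBNTR1

open Matrix Cfsg.Agent.Helper5.SuBN

variable {F : Type*} [Field F] {n : ℕ} {σ : F →+* F}

/-- the diagonal coefficient of column `a` -/
def alphaC (ζ l : F) (a : Fin n) : F :=
  if a < Fin.rev a then 1 else if Fin.rev a < a then l * ζ else 1

/-- the antidiagonal coefficient of column `a` -/
def betaC (ζ l : F) (a : Fin n) : F :=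
  if a < Fin.rev a then ζ else if Fin.rev a < a then 1 + l else 0

/-- the basis change matrix -/
def matC (ζ l : F) : Matrix (Fin n) (Fin n) F :=
  Matrix.of fun i a => (if i = a then alphaC ζ l a else 0) + (if i = Fin.rev a then betaC ζ l a else 0)

theorem matC_apply (ζ l : F) (i a : Fin n) :
    matC ζ l i a = (if i = a then alphaC ζ l a else 0) + (if i = Fin.rev a then betaC ζ l a else 0) :=
  rfl

theorem sum_matC (ζ l : F) (a b : Fin n) :
    ∑ i, matC ζ l i a * σ (matC ζ l i b) =
      alphaC ζ l a * σ (matC ζ l a b) + betaC ζ l a * σ (matC ζ l (Fin.rev a) b) := by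
  have h : ∀ i : Fin n, matC ζ l i a * σ (matC ζ l i b) =
      (if i = a then alphaC ζ l a * σ (matC ζ l i b) else 0) +
        (if i = Fin.rev a then betaC ζ l a * σ (matC ζ l i b) else 0) := by
    intro i
    rw [matC_apply ζ l i a, add_mul, ite_mul, ite_mul, zero_mul]
  simp only [h, Finset.sum_add_distrib, Finset.sum_ite_eq', Finset.mem_univ, if_true]

theorem exists_basis_change (ζ l : F) (hζ : ζ * σ ζ = -1) (hl : l + σ l = -1) (n : ℕ) :
    ∃ C : Matrix (Fin n) (Fin n) F,
      ∀ a b : Fin n, ∑ i, C i a * σ (C i b) = if a = Fin.rev b then 1 else 0 := by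
  refine ⟨matC ζ l, ?_⟩
  intro a b
  rw [sum_matC, matC_apply, matC_apply]
  by_cases hab : a = b
  · subst hab
    rcases lt_trichotomy a (Fin.rev a) with h | h | h
    · have hne : a ≠ Fin.rev a := ne_of_lt h
      have hne' : Fin.rev a ≠ a := fun e => hne e.symm
      simp only [alphaC, betaC, if_pos h, if_neg hne, if_neg hne', if_true, map_add, map_one,
        map_zero]
      linear_combination hζ
    · have hne' : Fin.rev a = a := h.symm
      have hlt : ¬ a < Fin.rev a := by rw [← h]; exact lt_irrefl a
      have hlt' : ¬ Fin.rev a < a := by rw [← h]; exact lt_irrefl a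
      simp only [alphaC, betaC, if_neg hlt, if_neg hlt', if_pos h, if_pos hne', if_true, map_add,
        map_one, map_zero]
      ring
    · have hne : a ≠ Fin.rev a := ne_of_gt h
      have hne' : Fin.rev a ≠ a := fun e => hne e.symm
      have hlt : ¬ a < Fin.rev a := not_lt.mpr (le_of_lt h)
      simp only [alphaC, betaC, if_pos h, if_neg hlt, if_neg hne, if_neg hne', if_true, map_add,
        map_one, map_zero, map_mul]
      linear_combination (l * σ l) * hζ + hl
  · by_cases hab' : a = Fin.rev b
    · have hb : b = Fin.rev a := by rw [hab', Fin.rev_rev]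
      subst hb
      have hne : a ≠ Fin.rev a := hab
      have hne' : Fin.rev a ≠ a := fun e => hne e.symm
      rw [Fin.rev_rev]
      rcases lt_trichotomy a (Fin.rev a) with h | h | h
      · have hlt : ¬ Fin.rev a < a := not_lt.mpr (le_of_lt h)
        simp only [alphaC, betaC, Fin.rev_rev, if_pos h, if_neg hlt, if_neg hne, if_neg hne',
          if_true, map_add, map_one, map_zero, map_mul]
        linear_combination (σ l) * hζ
      · exact absurd h hne
      · have hlt : ¬ a < Fin.rev a := not_lt.mpr (le_of_lt h)
        simp only [alphaC, betaC, Fin.rev_rev, if_pos h, if_neg hlt, if_neg hne, if_neg hne',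
          if_true, map_add, map_one, map_zero]
        linear_combination l * hζ
    · have h1 : Fin.rev a ≠ b := fun e => hab' (by rw [← e, Fin.rev_rev])
      have h2 : Fin.rev a ≠ Fin.rev b := fun e => hab (Fin.rev_injective e)
      simp only [if_neg hab, if_neg hab', if_neg h1, if_neg h2, add_zero, map_zero, mul_zero]

end Cfsg.Agent.Helper55.SuBNTR1
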