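import Mathlib
import Cfsg.Agent.Helper5.SuBN.Defs

/-!
# S2546 (helper5), piece (TR2): the special unitary groups of the antidiagonal and of the standard
hermitian form are isomorphic
-/

set_option autoImplicit false

namespace Cfsg.Agent.Helper55.SuBNTR2

open Matrix Cfsg.Agent.Helper5.SuBN

variable {F : Type*} [Field F] {n : ℕ} {σ : F →+* F}

/-- the key identity: `C` carries the antidiagonal form to the standard one -/
theorem hermForm_mulVec (q : ℕ) (hσq : ∀ x, σ x = x ^ q) (C : Matrix (Fin n) (Fin n) F)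
    (hCJ : ∀ a b : Fin n, ∑ i, C i a * σ (C i b) = if a = Fin.rev b then 1 else 0)
    (x y : Fin n → F) : Cfsg.hermForm n F q (C *ᵥ x) (C *ᵥ y) = hermJ σ x y := by
  have h : ∀ i, (C *ᵥ x) i * ((C *ᵥ y) i) ^ q =
      ∑ a, ∑ b, x a * σ (y b) * (C i a * σ (C i b)) := by
    intro i
    rw [← hσq]
    simp only [Matrix.mulVec, dotProduct, map_sum, map_mul, Finset.sum_mul, Finset.mul_sum]
    rw [Finset.sum_comm]
    apply Finset.sum_congr rfl
    intro a _
    apply Finset.sum_congr rfl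
    intro b _
    ring
  unfold Cfsg.hermForm
  simp only [h]
  rw [Finset.sum_comm]
  unfold hermJ
  apply Finset.sum_congr rfl
  intro a _
  rw [Finset.sum_comm]
  simp only [← Finset.mul_sum, hCJ]
  rw [Finset.sum_eq_single (Fin.rev a)]
  · rw [if_pos (Fin.rev_rev a).symm, mul_one]
  · intro b _ hb
    rw [if_neg, mul_zero]
    intro h'
    apply hb
    rw [h', Fin.rev_rev]
  · intro hh; exact absurd (Finset.mem_univ _) hh

theorem hermJ_single_right (x : Fin n → F) (b : Fin n) :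
    hermJ σ x (Pi.single (Fin.rev b) 1) = x b := by
  unfold hermJ
  rw [Finset.sum_eq_single b]
  · simp
  · intro i _ hi
    have : Fin.rev i ≠ Fin.rev b := fun h => hi (Fin.rev_injective h)
    rw [Pi.single_eq_of_ne this, map_zero, mul_zero]
  · intro hh; exact absurd (Finset.mem_univ _) hh

/-- `C` is invertible -/
theorem isUnit_det_of_hCJ (q : ℕ) (hσq : ∀ x, σ x = x ^ q) (C : Matrix (Fin n) (Fin n) F)
    (hCJ : ∀ a b : Fin n, ∑ i, C i a * σ (C i b) = if a = Fin.rev b then 1 else 0) :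
    IsUnit C.det := by
  rw [isUnit_iff_ne_zero]
  intro hdet
  obtain ⟨v, hv0, hv⟩ := Matrix.exists_mulVec_eq_zero_iff.mpr hdet
  apply hv0
  funext b
  have h := hermForm_mulVec q hσq C hCJ v (Pi.single (Fin.rev b) 1)
  rw [hermJ_single_right, hv] at h
  rw [← h]
  unfold Cfsg.hermForm
  simp

theorem nonempty_mulEquiv_SU (q : ℕ) (hσq : ∀ x, σ x = x ^ q)
    (C : Matrix (Fin n) (Fin n) F)
    (hCJ : ∀ a b : Fin n, ∑ i, C i a * σ (C i b) = if a = Fin.rev b then 1 else 0) :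
    Nonempty (UG n σ ≃* ↥(Cfsg.SU n F q)) := by
  have hC : IsUnit C.det := isUnit_det_of_hCJ q hσq C hCJ
  have hCi : C⁻¹ * C = 1 := Matrix.nonsing_inv_mul C hC
  have hiC : C * C⁻¹ = 1 := Matrix.mul_nonsing_inv C hC
  have hkey := hermForm_mulVec q hσq C hCJ
  -- determinants
  have hdet1 : ∀ M : Matrix (Fin n) (Fin n) F, M.det = 1 → (C * M * C⁻¹).det = 1 := by
    intro M hM
    rw [Matrix.det_mul, Matrix.det_mul, hM, mul_one, ← Matrix.det_mul, hiC, Matrix.det_one]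
  have hdet2 : ∀ M : Matrix (Fin n) (Fin n) F, M.det = 1 → (C⁻¹ * M * C).det = 1 := by
    intro M hM
    rw [Matrix.det_mul, Matrix.det_mul, hM, mul_one, ← Matrix.det_mul, hCi, Matrix.det_one]
  -- forward
  have hfwd : ∀ g : UG n σ, ∀ u v : Fin n → F,
      Cfsg.hermForm n F q ((C * mat g * C⁻¹) *ᵥ u) ((C * mat g * C⁻¹) *ᵥ v) =
        Cfsg.hermForm n F q u v := by
    intro g u v
    have hu : u = C *ᵥ (C⁻¹ *ᵥ u) := by rw [Matrix.mulVec_mulVec, hiC, Matrix.one_mulVec]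
    have hv : v = C *ᵥ (C⁻¹ *ᵥ v) := by rw [Matrix.mulVec_mulVec, hiC, Matrix.one_mulVec]
    have e : ∀ w : Fin n → F, (C * mat g * C⁻¹) *ᵥ w = C *ᵥ (mat g *ᵥ (C⁻¹ *ᵥ w)) := by
      intro w
      rw [Matrix.mulVec_mulVec, Matrix.mulVec_mulVec]
    rw [e, e, hkey]
    have hg := g.2 (C⁻¹ *ᵥ u) (C⁻¹ *ᵥ v)
    rw [slToMat_apply] at hg
    rw [hg, ← hkey, ← hu, ← hv]
  have hbwd : ∀ h : ↥(Cfsg.SU n F q), ∀ x y : Fin n → F,
      hermJ σ ((C⁻¹ * h.1.1 * C) *ᵥ x) ((C⁻¹ * h.1.1 * C) *ᵥ y) = hermJ σ x y := by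
    intro h x y
    have e : ∀ w : Fin n → F, C *ᵥ ((C⁻¹ * h.1.1 * C) *ᵥ w) = h.1.1 *ᵥ (C *ᵥ w) := by
      intro w
      rw [Matrix.mulVec_mulVec, Matrix.mulVec_mulVec, ← Matrix.mul_assoc, ← Matrix.mul_assoc, hiC,
        Matrix.one_mul]
    rw [← hkey, e, e]
    have hh := h.2 (C *ᵥ x) (C *ᵥ y)
    rw [slToMat_apply] at hh
    rw [hh, hkey]
  refine ⟨{
    toFun := fun g => ⟨⟨C * mat g * C⁻¹, hdet1 _ g.1.det_coe⟩, fun u v => hfwd g u v⟩
    invFun := fun h => ⟨⟨C⁻¹ * h.1.1 * C, hdet2 _ h.1.det_coe⟩, fun x y => hbwd h x y⟩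
    left_inv := ?_
    right_inv := ?_
    map_mul' := ?_ }⟩
  · intro g
    apply Subtype.ext
    apply Subtype.ext
    change C⁻¹ * (C * mat g * C⁻¹) * C = mat g
    rw [← Matrix.mul_assoc, ← Matrix.mul_assoc, hCi, Matrix.one_mul, Matrix.mul_assoc, hCi,
      Matrix.mul_one]
  · intro h
    apply Subtype.ext
    apply Subtype.ext
    change C * (C⁻¹ * h.1.1 * C) * C⁻¹ = h.1.1
    rw [← Matrix.mul_assoc, ← Matrix.mul_assoc, hiC, Matrix.one_mul, Matrix.mul_assoc, hiC,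
      Matrix.mul_one]
  · intro g g'
    apply Subtype.ext
    apply Subtype.ext
    change C * (mat g * mat g') * C⁻¹ = (C * mat g * C⁻¹) * (C * mat g' * C⁻¹)
    have : (C * mat g * C⁻¹) * (C * mat g' * C⁻¹) = C * mat g * (C⁻¹ * C) * mat g' * C⁻¹ := by
      simp only [Matrix.mul_assoc]
    rw [this, hCi, Matrix.mul_one]
    simp only [Matrix.mul_assoc]

end Cfsg.Agent.Helper55.SuBNTR2
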