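import Mathlib

namespace Cfsg.Agent.Helper55.SteinX3a

theorem sum_powerset_reindex {α : Type*} [Fintype α] [DecidableEq α] (r : ℕ) (e : Fin r ≃ α)
    (Φ : Finset α → ℂ) :
    ∑ J ∈ (Finset.range r).powerset, (-1 : ℂ) ^ J.card *
        Φ (Finset.univ.filter (fun a => ((e.symm a : Fin r) : ℕ) ∈ J)) =
      ∑ J' ∈ (Finset.univ : Finset α).powerset, (-1 : ℂ) ^ J'.card * Φ J' := by
  have hinj : Function.Injective (fun a : α => ((e.symm a : Fin r) : ℕ)) := by
    intro a b hab
    exact e.symm.injective (Fin.ext hab)
  refine Finset.sum_bij'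
    (fun J _ => Finset.univ.filter (fun a => ((e.symm a : Fin r) : ℕ) ∈ J))
    (fun J' _ => J'.image (fun a => ((e.symm a : Fin r) : ℕ))) ?_ ?_ ?_ ?_ ?_
  · intro J _
    simp
  · intro J' _
    rw [Finset.mem_powerset]
    intro x hx
    rw [Finset.mem_image] at hx
    obtain ⟨a, _, rfl⟩ := hx
    exact Finset.mem_range.mpr (e.symm a).isLt
  · intro J hJ
    rw [Finset.mem_powerset] at hJ
    ext x
    simp only [Finset.mem_image, Finset.mem_filter, Finset.mem_univ, true_and]
    constructor
    · rintro ⟨a, ha, rfl⟩
      exact ha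
    · intro hx
      have hxr : x < r := Finset.mem_range.mp (hJ hx)
      refine ⟨e ⟨x, hxr⟩, ?_, ?_⟩
      · simpa using hx
      · simp
  · intro J' _
    ext a
    simp only [Finset.mem_image, Finset.mem_filter, Finset.mem_univ, true_and]
    constructor
    · rintro ⟨b, hb, hab⟩
      have : b = a := hinj hab
      exact this ▸ hb
    · intro ha
      exact ⟨a, ha, rfl⟩
  · intro J hJ
    rw [Finset.mem_powerset] at hJ
    have hcard : (Finset.univ.filter (fun a => ((e.symm a : Fin r) : ℕ) ∈ J)).card = J.card := by
      have himg : (Finset.univ.filter (fun a => ((e.symm a : Fin r) : ℕ) ∈ J)).image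
          (fun a => ((e.symm a : Fin r) : ℕ)) = J := by
        ext x
        simp only [Finset.mem_image, Finset.mem_filter, Finset.mem_univ, true_and]
        constructor
        · rintro ⟨a, ha, rfl⟩
          exact ha
        · intro hx
          have hxr : x < r := Finset.mem_range.mp (hJ hx)
          refine ⟨e ⟨x, hxr⟩, ?_, ?_⟩
          · simpa using hx
          · simp
      rw [← Finset.card_image_of_injective _ hinj, himg]
    rw [hcard]

end Cfsg.Agent.Helper55.SteinX3a
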