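import Mathlib

namespace Cfsg.Agent.Helper55.SteinX3b

theorem card_fixedBy_orbit {G : Type*} [Group G] (B H : Subgroup G) (n₀ : G)
    (hH : ∀ u ∈ B, n₀⁻¹ * u * n₀ ∈ B ↔ u ∈ H) (b : B) :
    Nat.card {x : G ⧸ B // (b : G) • x = x ∧ ∃ u ∈ B, x = QuotientGroup.mk (u * n₀)} =
      Nat.card (MulAction.fixedBy (↥B ⧸ H.subgroupOf B) b) := by
  classical
  -- the key equivalence
  have key : ∀ u u' : B,
      (QuotientGroup.mk ((u : G) * n₀) : G ⧸ B) = QuotientGroup.mk ((u' : G) * n₀) ↔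
        (QuotientGroup.mk u : ↥B ⧸ H.subgroupOf B) = QuotientGroup.mk u' := by
    intro u u'
    rw [QuotientGroup.eq, QuotientGroup.eq, Subgroup.mem_subgroupOf]
    have h1 : ((u : G) * n₀)⁻¹ * ((u' : G) * n₀) = n₀⁻¹ * ((u⁻¹ * u' : B) : G) * n₀ := by
      push_cast
      group
    rw [h1]
    exact hH _ (u⁻¹ * u').2
  let f : ↥B ⧸ H.subgroupOf B → G ⧸ B :=
    Quotient.lift (s := QuotientGroup.leftRel (H.subgroupOf B))
      (fun u : B => (QuotientGroup.mk ((u : G) * n₀) : G ⧸ B)) (by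
        intro u u' huu'
        exact (key u u').mpr (Quotient.sound huu'))
  have hf : ∀ u : B, f (QuotientGroup.mk u) = QuotientGroup.mk ((u : G) * n₀) := fun u => rfl
  have hfinj : Function.Injective f := by
    intro y y' hyy'
    induction y using QuotientGroup.induction_on with
    | H u =>
      induction y' using QuotientGroup.induction_on with
      | H u' =>
        rw [hf, hf] at hyy'
        exact (key u u').mp hyy'
  have hfsmul : ∀ y : ↥B ⧸ H.subgroupOf B, f (b • y) = (b : G) • f y := by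
    intro y
    induction y using QuotientGroup.induction_on with
    | H u =>
      have : b • (QuotientGroup.mk u : ↥B ⧸ H.subgroupOf B) = QuotientGroup.mk (b * u) := rfl
      rw [this, hf, hf]
      have h2 : (b : G) • (QuotientGroup.mk ((u : G) * n₀) : G ⧸ B) =
          QuotientGroup.mk ((b : G) * ((u : G) * n₀)) := rfl
      rw [h2]
      push_cast
      rw [mul_assoc]
  symm
  refine Nat.card_congr (Equiv.ofBijective
    (fun y : MulAction.fixedBy (↥B ⧸ H.subgroupOf B) b =>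
      (⟨f y.1, by
        have hy : b • y.1 = y.1 := y.2
        refine ⟨?_, ?_⟩
        · rw [← hfsmul, hy]
        · obtain ⟨u, hu⟩ := QuotientGroup.mk_surjective y.1
          exact ⟨(u : G), u.2, by rw [← hu, hf]⟩⟩ :
        {x : G ⧸ B // (b : G) • x = x ∧ ∃ u ∈ B, x = QuotientGroup.mk (u * n₀)})) ⟨?_, ?_⟩)
  · intro y y' hyy'
    have : f y.1 = f y'.1 := congrArg Subtype.val hyy'
    exact Subtype.ext (hfinj this)
  · rintro ⟨x, hbx, u, hu, rfl⟩
    refine ⟨⟨QuotientGroup.mk ⟨u, hu⟩, ?_⟩, ?_⟩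
    · show b • (QuotientGroup.mk ⟨u, hu⟩ : ↥B ⧸ H.subgroupOf B) = QuotientGroup.mk ⟨u, hu⟩
      apply hfinj
      rw [hfsmul, hf]
      exact hbx
    · apply Subtype.ext
      show f (QuotientGroup.mk ⟨u, hu⟩) = _
      rw [hf]

end Cfsg.Agent.Helper55.SteinX3b
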