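import Mathlib
import Cfsg.Agent.Helper3.S3S3Defs

/-!
# (G1b) for S3805 (helper3): a four-group acting faithfully on an elementary abelian group of
order 9 is diagonal

`T` elementary abelian of order 9 with `C_G(T) = T`; `a, b` representatives of the Klein four-group
`N_G(T)/T`.  Then, after replacing `(a, b)` by `(b, b a)` or `(a, a b)` if necessary, there are
generators `x, y` of `T` with `a` inverting `x` and centralizing `y`, `b` centralizing `x` and
inverting `y`.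
-/

set_option autoImplicit false

namespace Cfsg.Agent.Helper55.S3S3G1b

open Cfsg.Agent.Helper3.S3S3

universe u

variable {G : Type u} [Group G]

/-- the hypotheses on a pair of representatives of the Klein four-group `N_G(T)/T` -/
structure Reps (T : Subgroup G) (a b : G) : Prop where
  aN : a ∈ Subgroup.normalizer (T : Set G)
  bN : b ∈ Subgroup.normalizer (T : Set G)
  aT : a ∉ T
  bT : b ∉ T
  abT : a * b ∉ T
  a2 : a * a ∈ T
  b2 : b * b ∈ T
  comm : a * b * a⁻¹ * b⁻¹ ∈ T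
  cover : ∀ n ∈ Subgroup.normalizer (T : Set G),
    ∃ t ∈ T, n = t ∨ n = t * a ∨ n = t * b ∨ n = t * (a * b)

theorem conj_mem {T : Subgroup G} {n t : G} (hn : n ∈ Subgroup.normalizer (T : Set G))
    (ht : t ∈ T) : n * t * n⁻¹ ∈ T :=
  (Subgroup.mem_normalizer_iff.mp hn t).mp ht

theorem conj_conj {T : Subgroup G} (hcomm : ∀ s ∈ T, ∀ t ∈ T, s * t = t * s) {n t : G}
    (hn2 : n * n ∈ T) (ht : t ∈ T) : n * (n * t * n⁻¹) * n⁻¹ = t := by
  have h := hcomm _ hn2 t ht
  calc n * (n * t * n⁻¹) * n⁻¹ = (n * n * t) * (n * n)⁻¹ := by group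
    _ = t * (n * n) * (n * n)⁻¹ := by rw [h]
    _ = t := by group

theorem conj_comm {T : Subgroup G} (hcomm : ∀ s ∈ T, ∀ t ∈ T, s * t = t * s) {a b t : G}
    (ha : a ∈ Subgroup.normalizer (T : Set G)) (hb : b ∈ Subgroup.normalizer (T : Set G))
    (hc : a * b * a⁻¹ * b⁻¹ ∈ T) (ht : t ∈ T) :
    a * (b * t * b⁻¹) * a⁻¹ = b * (a * t * a⁻¹) * b⁻¹ := by
  have h1 : b * (a * t * a⁻¹) * b⁻¹ ∈ T := conj_mem hb (conj_mem ha ht)
  have h := hcomm _ hc _ h1
  calc a * (b * t * b⁻¹) * a⁻¹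
      = (a * b * a⁻¹ * b⁻¹) * (b * (a * t * a⁻¹) * b⁻¹) * (a * b * a⁻¹ * b⁻¹)⁻¹ := by group
    _ = (b * (a * t * a⁻¹) * b⁻¹) * (a * b * a⁻¹ * b⁻¹) * (a * b * a⁻¹ * b⁻¹)⁻¹ := by rw [h]
    _ = b * (a * t * a⁻¹) * b⁻¹ := by group

namespace Reps

variable {T : Subgroup G} {a b : G}

theorem swap (h : Reps T a b) : Reps T b a where
  aN := h.bN
  bN := h.aN
  aT := h.bT
  bT := h.aT
  abT := by
    intro hba
    apply h.abT
    have : a * b = (a * b * a⁻¹ * b⁻¹) * (b * a) := by group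
    rw [this]
    exact T.mul_mem h.comm hba
  a2 := h.b2
  b2 := h.a2
  comm := by
    have : b * a * b⁻¹ * a⁻¹ = (a * b * a⁻¹ * b⁻¹)⁻¹ := by group
    rw [this]
    exact T.inv_mem h.comm
  cover := by
    intro n hn
    obtain ⟨t, ht, rfl | rfl | rfl | rfl⟩ := h.cover n hn
    · exact ⟨_, ht, Or.inl rfl⟩
    · exact ⟨t, ht, Or.inr (Or.inr (Or.inl rfl))⟩
    · exact ⟨t, ht, Or.inr (Or.inl rfl)⟩
    · refine ⟨t * (a * b * a⁻¹ * b⁻¹), T.mul_mem ht h.comm, Or.inr (Or.inr (Or.inr ?_))⟩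
      group

theorem mulRight (h : Reps T a b) : Reps T a (a * b) where
  aN := h.aN
  bN := Subgroup.mul_mem _ h.aN h.bN
  aT := h.aT
  bT := h.abT
  abT := by
    intro haab
    apply h.bT
    have : b = (a * a)⁻¹ * (a * (a * b)) := by group
    rw [this]
    exact T.mul_mem (T.inv_mem h.a2) haab
  a2 := h.a2
  b2 := by
    have : a * b * (a * b) = (a * b * a⁻¹ * b⁻¹) * (b * (a * a) * b⁻¹) * (b * b) := by group
    rw [this]
    exact T.mul_mem (T.mul_mem h.comm (conj_mem h.bN h.a2)) h.b2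
  comm := by
    have : a * (a * b) * a⁻¹ * (a * b)⁻¹ = a * (a * b * a⁻¹ * b⁻¹) * a⁻¹ := by group
    rw [this]
    exact conj_mem h.aN h.comm
  cover := by
    intro n hn
    obtain ⟨t, ht, rfl | rfl | rfl | rfl⟩ := h.cover n hn
    · exact ⟨_, ht, Or.inl rfl⟩
    · exact ⟨t, ht, Or.inr (Or.inl rfl)⟩
    · refine ⟨t * (a * a)⁻¹, T.mul_mem ht (T.inv_mem h.a2), Or.inr (Or.inr (Or.inr ?_))⟩
      group
    · exact ⟨t, ht, Or.inr (Or.inr (Or.inl rfl))⟩

end Reps

/-- an element of `N_G(T)` centralizing `T` lies in `T = C_G(T)` -/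
theorem mem_of_centralizes {T : Subgroup G} (hC : Subgroup.centralizer (T : Set G) = T) {n : G}
    (hn : ∀ t ∈ T, n * t * n⁻¹ = t) : n ∈ T := by
  rw [← hC, Subgroup.mem_centralizer_iff]
  intro t ht
  have h := hn t ht
  calc t * n = (n * t * n⁻¹) * n := by rw [h]
    _ = n * t := by group

/-- the core: if neither `a` nor `b` inverts all of `T`, the action is diagonal -/
theorem core [Finite G] (T : Subgroup G)
    (hcomm : ∀ s ∈ T, ∀ t ∈ T, s * t = t * s) (hexp : ∀ t ∈ T, t ^ 3 = 1)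
    (hcard : Nat.card T = 9) (hC : Subgroup.centralizer (T : Set G) = T)
    (a b : G) (h : Reps T a b) (hai : ¬ ∀ t ∈ T, a * t * a⁻¹ = t⁻¹)
    (hbi : ¬ ∀ t ∈ T, b * t * b⁻¹ = t⁻¹) :
    ∃ x y : G, NData T x y a b := by
  have hac : ¬ ∀ t ∈ T, a * t * a⁻¹ = t := fun hh => h.aT (mem_of_centralizes hC hh)
  have hbc : ¬ ∀ t ∈ T, b * t * b⁻¹ = t := fun hh => h.bT (mem_of_centralizes hC hh)
  have habc : ¬ ∀ t ∈ T, a * b * t * (a * b)⁻¹ = t := fun hh => h.abT (mem_of_centralizes hC hh)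
  push Not at hai hac
  obtain ⟨t₀, ht₀, h0⟩ := hai
  obtain ⟨t₁, ht₁, h1⟩ := hac
  have hu₀ : a * t₀ * a⁻¹ ∈ T := conj_mem h.aN ht₀
  have hu₁ : a * t₁ * a⁻¹ ∈ T := conj_mem h.aN ht₁
  obtain ⟨y, hy⟩ : ∃ y, y = t₀ * (a * t₀ * a⁻¹) := ⟨_, rfl⟩
  obtain ⟨x, hx⟩ : ∃ x, x = t₁ * (a * t₁ * a⁻¹)⁻¹ := ⟨_, rfl⟩
  have hyT : y ∈ T := hy ▸ T.mul_mem ht₀ hu₀
  have hxT : x ∈ T := hx ▸ T.mul_mem ht₁ (T.inv_mem hu₁)
  have hay : a * y * a⁻¹ = y := by
    rw [hy]
    calc a * (t₀ * (a * t₀ * a⁻¹)) * a⁻¹ = (a * t₀ * a⁻¹) * (a * (a * t₀ * a⁻¹) * a⁻¹) := by group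
      _ = (a * t₀ * a⁻¹) * t₀ := by rw [conj_conj hcomm h.a2 ht₀]
      _ = t₀ * (a * t₀ * a⁻¹) := hcomm _ hu₀ _ ht₀
  have hax : a * x * a⁻¹ = x⁻¹ := by
    rw [hx]
    calc a * (t₁ * (a * t₁ * a⁻¹)⁻¹) * a⁻¹
        = (a * t₁ * a⁻¹) * (a * (a * t₁ * a⁻¹) * a⁻¹)⁻¹ := by group
      _ = (a * t₁ * a⁻¹) * t₁⁻¹ := by rw [conj_conj hcomm h.a2 ht₁]
      _ = (t₁ * (a * t₁ * a⁻¹)⁻¹)⁻¹ := by group
  have hy1 : y ≠ 1 := by
    intro hy0
    rw [hy] at hy0
    exact h0 (eq_inv_of_mul_eq_one_right hy0)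
  have hx1 : x ≠ 1 := by
    intro hx0
    rw [hx, mul_inv_eq_one] at hx0
    exact h1 hx0.symm
  have hx3 : x ^ 3 = 1 := hexp x hxT
  have hy3 : y ^ 3 = 1 := hexp y hyT
  have hxy : x * y = y * x := hcomm x hxT y hyT
  -- an element of `T` equal to its inverse is trivial
  have hsq : ∀ z ∈ T, z⁻¹ = z → z = 1 := by
    intro z hz hzz
    have h3 := hexp z hz
    have h2 : z * z = 1 := by
      calc z * z = z⁻¹ * z := by rw [hzz]
        _ = 1 := inv_mul_cancel z
    calc z = z ^ 3 * (z * z)⁻¹ := by group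
      _ = 1 := by rw [h3, h2]; simp
  have hxpow : ∀ i : ℕ, a * x ^ i * a⁻¹ = (x ^ i)⁻¹ := by
    intro i
    rw [← conj_pow, hax, inv_pow]
  have hypow : ∀ j : ℕ, a * y ^ j * a⁻¹ = y ^ j := by
    intro j
    rw [← conj_pow, hay]
  have hxpT : ∀ i : ℕ, x ^ i ∈ T := fun i => T.pow_mem hxT i
  have hypT : ∀ j : ℕ, y ^ j ∈ T := fun j => T.pow_mem hyT j
  have hindep : ∀ i j : ℕ, x ^ i = y ^ j → x ^ i = 1 := by
    intro i j hij
    apply hsq _ (hxpT i)
    rw [← hxpow i, hij, hypow j]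
  -- the decomposition of an element of `T` fixed / inverted by `a`
  have hfix : ∀ i j : ℕ, a * (x ^ i * y ^ j) * a⁻¹ = x ^ i * y ^ j → x ^ i = 1 := by
    intro i j hh
    rw [← conj_mul, hxpow, hypow] at hh
    have := mul_right_cancel hh
    exact hsq _ (hxpT i) this
  have hinv : ∀ i j : ℕ, a * (x ^ i * y ^ j) * a⁻¹ = (x ^ i * y ^ j)⁻¹ → y ^ j = 1 := by
    intro i j hh
    rw [← conj_mul, hxpow, hypow, mul_inv_rev, hcomm _ (T.inv_mem (hypT j)) _ (T.inv_mem (hxpT i))] at hh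
    have := mul_left_cancel hh
    exact hsq _ (hypT j) this.symm
  have hox : orderOf x = 3 := orderOf_eq_prime hx3 hx1
  have hoy : orderOf y = 3 := orderOf_eq_prime hy3 hy1
  -- the nine products `x ^ i * y ^ j` are distinct
  have hmemT : ∀ t ∈ T, ∃ i j : ℕ, t = x ^ i * y ^ j := by
    let f : Fin 3 × Fin 3 → T := fun p => ⟨x ^ p.1.val * y ^ p.2.val, T.mul_mem (hxpT _) (hypT _)⟩
    have hf : Function.Injective f := by
      rintro ⟨i, j⟩ ⟨k, l⟩ hfe
      have he : x ^ i.val * y ^ j.val = x ^ k.val * y ^ l.val := congrArg Subtype.val hfe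
      have he' : (x ^ i.val)⁻¹ * y ^ j.val = (x ^ k.val)⁻¹ * y ^ l.val := by
        have := congrArg (fun z => a * z * a⁻¹) he
        simp only [← conj_mul, hxpow, hypow] at this
        exact this
      -- divide
      have e1 : x ^ i.val * x ^ i.val = x ^ k.val * x ^ k.val := by
        have hc1 : x ^ i.val * x ^ i.val = (x ^ i.val * y ^ j.val) * ((x ^ i.val)⁻¹ * y ^ j.val)⁻¹ := by
          rw [mul_inv_rev, inv_inv, mul_assoc, mul_inv_cancel_left]
        have hc2 : x ^ k.val * x ^ k.val = (x ^ k.val * y ^ l.val) * ((x ^ k.val)⁻¹ * y ^ l.val)⁻¹ := by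
          rw [mul_inv_rev, inv_inv, mul_assoc, mul_inv_cancel_left]
        rw [hc1, hc2, he, he']
      have e2 : x ^ i.val = x ^ k.val := by
        have hi3 : (x ^ i.val) ^ 3 = 1 := hexp _ (hxpT _)
        have hk3 : (x ^ k.val) ^ 3 = 1 := hexp _ (hxpT _)
        calc x ^ i.val = (x ^ i.val * x ^ i.val) * (x ^ i.val * x ^ i.val) * ((x ^ i.val) ^ 3)⁻¹ := by group
          _ = (x ^ k.val * x ^ k.val) * (x ^ k.val * x ^ k.val) * ((x ^ k.val) ^ 3)⁻¹ := by
              rw [e1, hi3, hk3]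
          _ = x ^ k.val := by group
      have e3 : y ^ j.val = y ^ l.val := by
        rw [e2] at he
        exact mul_left_cancel he
      have hik : i = k := by
        have := (pow_eq_pow_iff_modEq).mp e2
        rw [hox] at this
        apply Fin.ext
        have hi := i.isLt
        have hk := k.isLt
        unfold Nat.ModEq at this
        omega
      have hjl : j = l := by
        have := (pow_eq_pow_iff_modEq).mp e3
        rw [hoy] at this
        apply Fin.ext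
        have hj := j.isLt
        have hl := l.isLt
        unfold Nat.ModEq at this
        omega
      rw [hik, hjl]
    have hbij : Function.Bijective f := by
      apply hf.bijective_of_nat_card_le
      rw [hcard, Nat.card_prod, Nat.card_fin]
    intro t ht
    obtain ⟨⟨i, j⟩, hij⟩ := hbij.2 ⟨t, ht⟩
    exact ⟨i.val, j.val, (congrArg Subtype.val hij).symm⟩
  -- elements of `T` inverted / fixed by `a`
  have hL1 : ∀ u ∈ T, a * u * a⁻¹ = u⁻¹ → u = 1 ∨ u = x ∨ u = x⁻¹ := by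
    intro u hu hau
    obtain ⟨i, j, rfl⟩ := hmemT u hu
    have hj := hinv i j hau
    rw [hj, mul_one]
    have hmod : x ^ i = x ^ (i % 3) := by
      rw [← hox]; exact (pow_mod_orderOf x i).symm
    have hlt : i % 3 < 3 := Nat.mod_lt _ (by norm_num)
    rw [hmod]
    interval_cases (i % 3)
    · left; simp
    · right; left; simp
    · right; right
      have : x ^ 2 * x = 1 := by rw [← pow_succ]; exact hx3
      exact eq_inv_of_mul_eq_one_left this
  have hL2 : ∀ v ∈ T, a * v * a⁻¹ = v → v = 1 ∨ v = y ∨ v = y⁻¹ := by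
    intro v hv hav
    obtain ⟨i, j, rfl⟩ := hmemT v hv
    have hi := hfix i j hav
    rw [hi, one_mul]
    have hmod : y ^ j = y ^ (j % 3) := by
      rw [← hoy]; exact (pow_mod_orderOf y j).symm
    have hlt : j % 3 < 3 := Nat.mod_lt _ (by norm_num)
    rw [hmod]
    interval_cases (j % 3)
    · left; simp
    · right; left; simp
    · right; right
      have : y ^ 2 * y = 1 := by rw [← pow_succ]; exact hy3
      exact eq_inv_of_mul_eq_one_left this
  -- the action of `b`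
  have hbxT : b * x * b⁻¹ ∈ T := conj_mem h.bN hxT
  have hbyT : b * y * b⁻¹ ∈ T := conj_mem h.bN hyT
  have hbx_inv : a * (b * x * b⁻¹) * a⁻¹ = (b * x * b⁻¹)⁻¹ := by
    rw [conj_comm hcomm h.aN h.bN h.comm hxT, hax, conj_inv]
  have hby_fix : a * (b * y * b⁻¹) * a⁻¹ = b * y * b⁻¹ := by
    rw [conj_comm hcomm h.aN h.bN h.comm hyT, hay]
  have hbx_ne : b * x * b⁻¹ ≠ 1 := by
    intro hh
    apply hx1
    have : x = b⁻¹ * (b * x * b⁻¹) * b := by group
    rw [this, hh]; group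
  have hby_ne : b * y * b⁻¹ ≠ 1 := by
    intro hh
    apply hy1
    have : y = b⁻¹ * (b * y * b⁻¹) * b := by group
    rw [this, hh]; group
  -- an element acting on `x`, `y` determines its action on `T`
  have hgen_fix : ∀ n : G, n * x * n⁻¹ = x → n * y * n⁻¹ = y → ∀ t ∈ T, n * t * n⁻¹ = t := by
    intro n hnx hny t ht
    obtain ⟨i, j, rfl⟩ := hmemT t ht
    rw [← conj_mul, ← conj_pow, ← conj_pow, hnx, hny]
  have hgen_inv : ∀ n : G, n * x * n⁻¹ = x⁻¹ → n * y * n⁻¹ = y⁻¹ → ∀ t ∈ T, n * t * n⁻¹ = t⁻¹ := by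
    intro n hnx hny t ht
    obtain ⟨i, j, rfl⟩ := hmemT t ht
    rw [← conj_mul, ← conj_pow, ← conj_pow, hnx, hny, inv_pow, inv_pow, mul_inv_rev,
      hcomm _ (T.inv_mem (hypT j)) _ (T.inv_mem (hxpT i))]
  have hbx : b * x * b⁻¹ = x ∧ b * y * b⁻¹ = y⁻¹ := by
    rcases hL1 _ hbxT hbx_inv with e | e | e
    · exact absurd e hbx_ne
    · rcases hL2 _ hbyT hby_fix with e' | e' | e'
      · exact absurd e' hby_ne
      · exact absurd (hgen_fix b e e') hbc
      · exact ⟨e, e'⟩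
    · rcases hL2 _ hbyT hby_fix with e' | e' | e'
      · exact absurd e' hby_ne
      · -- `a * b` centralizes `T`
        exfalso
        apply habc
        apply hgen_fix
        · have : a * b * x * (a * b)⁻¹ = a * (b * x * b⁻¹) * a⁻¹ := by group
          rw [this, e, conj_inv.symm, hax, inv_inv]
        · have : a * b * y * (a * b)⁻¹ = a * (b * y * b⁻¹) * a⁻¹ := by group
          rw [this, e', hay]
      · exact absurd (hgen_inv b e e') hbi
  exact ⟨x, y, {
    x3 := hx3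
    y3 := hy3
    x1 := hx1
    y1 := hy1
    comm := hxy
    commT := hcomm
    xT := hxT
    yT := hyT
    indep := hindep
    memT := hmemT
    aN := h.aN
    bN := h.bN
    ax := hax
    ay := hay
    bx := hbx.1
    by_ := hbx.2
    memN := h.cover }⟩

/-- (G1b) a four-group acting faithfully on an elementary abelian group of order 9 is diagonal. -/
theorem exists_ndata_of_reps [Finite G] (T : Subgroup G)
    (hcomm : ∀ s ∈ T, ∀ t ∈ T, s * t = t * s) (hexp : ∀ t ∈ T, t ^ 3 = 1)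
    (hcard : Nat.card T = 9)
    (hC : Subgroup.centralizer (T : Set G) = T)
    (a b : G) (ha : a ∈ Subgroup.normalizer (T : Set G)) (hb : b ∈ Subgroup.normalizer (T : Set G))
    (haT : a ∉ T) (hbT : b ∉ T) (habT : a * b ∉ T) (ha2 : a * a ∈ T) (hb2 : b * b ∈ T)
    (hcomm' : a * b * a⁻¹ * b⁻¹ ∈ T)
    (hN : ∀ n ∈ Subgroup.normalizer (T : Set G),
        ∃ t ∈ T, n = t ∨ n = t * a ∨ n = t * b ∨ n = t * (a * b)) :
    ∃ x y a' b' : G, NData T x y a' b' := by
  have h : Reps T a b := ⟨ha, hb, haT, hbT, habT, ha2, hb2, hcomm', hN⟩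
  -- if `m`, `n` both invert `T` then `m * n` centralizes `T`
  have hprod : ∀ m n : G, (∀ t ∈ T, m * t * m⁻¹ = t⁻¹) → (∀ t ∈ T, n * t * n⁻¹ = t⁻¹) →
      ∀ t ∈ T, m * n * t * (m * n)⁻¹ = t := by
    intro m n hm hn t ht
    have : m * n * t * (m * n)⁻¹ = m * (n * t * n⁻¹) * m⁻¹ := by group
    rw [this, hn t ht, hm _ (T.inv_mem ht), inv_inv]
  by_cases hai : ∀ t ∈ T, a * t * a⁻¹ = t⁻¹
  · -- use `(b, b * a)`
    have h' : Reps T b (b * a) := h.swap.mulRight
    have hbi : ¬ ∀ t ∈ T, b * t * b⁻¹ = t⁻¹ := fun hbi =>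
      habT (mem_of_centralizes hC (hprod a b hai hbi))
    have hbai : ¬ ∀ t ∈ T, b * a * t * (b * a)⁻¹ = t⁻¹ := by
      intro hbai
      apply hbT
      apply mem_of_centralizes hC
      intro t ht
      have h1 := hprod (b * a) a hbai hai t ht
      have h2 : a * a * t * (a * a)⁻¹ = t := by
        rw [hcomm _ ha2 t ht]; group
      -- `b * (a * a) = b * a * a`
      have h3 : b * t * b⁻¹ = (b * a * a) * ((a * a)⁻¹ * t * (a * a)) * (b * a * a)⁻¹ := by group
      have h4 : (a * a)⁻¹ * t * (a * a) = t := by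
        rw [mul_assoc, ← hcomm _ ha2 t ht]; group
      rw [h3, h4]
      exact h1
    obtain ⟨x, y, hd⟩ := core T hcomm hexp hcard hC b (b * a) h' hbi hbai
    exact ⟨x, y, b, b * a, hd⟩
  · by_cases hbi : ∀ t ∈ T, b * t * b⁻¹ = t⁻¹
    · -- use `(a, a * b)`
      have h' : Reps T a (a * b) := h.mulRight
      have habi : ¬ ∀ t ∈ T, a * b * t * (a * b)⁻¹ = t⁻¹ := by
        intro habi
        apply haT
        apply mem_of_centralizes hC
        intro t ht
        have h1 := hprod (a * b) b habi hbi t ht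
        have h4 : (b * b)⁻¹ * t * (b * b) = t := by
          rw [mul_assoc, ← hcomm _ hb2 t ht]; group
        have h3 : a * t * a⁻¹ = (a * b * b) * ((b * b)⁻¹ * t * (b * b)) * (a * b * b)⁻¹ := by group
        rw [h3, h4]
        exact h1
      obtain ⟨x, y, hd⟩ := core T hcomm hexp hcard hC a (a * b) h' hai habi
      exact ⟨x, y, a, a * b, hd⟩
    · obtain ⟨x, y, hd⟩ := core T hcomm hexp hcard hC a b h hai hbi
      exact ⟨x, y, a, b, hd⟩

end Cfsg.Agent.Helper55.S3S3G1b
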