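import Mathlib
import Cfsg.Prelude.Def_OddOrderLocal
import Cfsg.Agent.S1404
import Cfsg.Agent.S1425
import Cfsg.Agent.Helper29.BG11A
import Cfsg.Agent.Helper68.BG12A
import Cfsg.Agent.Helper31.BGTrans
import Cfsg.Agent.Helper55.BGThmB
import Cfsg.Agent.Helper55.BG1211
import Cfsg.Agent.S1403
import Cfsg.Agent.S1415
import Cfsg.Agent.Helper22.BG127a
import Cfsg.Agent.Helper29.BG10G
import Cfsg.Agent.Helper31.LocalCore
import Cfsg.Agent.Helper54.BGUnique3
import Cfsg.Agent.Helper71.BGHall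

set_option autoImplicit false
set_option linter.unusedSectionVars false
set_option linter.unusedVariables false
set_option linter.style.haveILetI false

/-!
# B-G Theorem 14.2 (statements S1430 + S1431): the assembly in CASE B of helper70's plan (#3585)

CASE B is the configuration where the Hall `κ(M)`-subgroup `K` is a full complement of `M_σ` in `M`
(all Sylow subgroups of `K` cyclic, `C = C_{M_σ}(K) ≠ 1`, `C_{M_σ}(x) = C` for all `x ∈ K - 1`).
Given the conclusions `(Z2)`, `(Z4)`, `(Z5)` of Theorem N3 and `(T6)` (as hypotheses in the shape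
needed here), the conclusions of S1430 and S1431 follow, with `U = 1`.

`caseB_S1430`, `caseB_S1431`: the two conclusions, from explicit hypotheses.
-/

namespace Cfsg.Agent.Helper55.BG14CaseB

open Cfsg Cfsg.Agent.Helper29.BG10 Cfsg.Agent.Helper68.BG12

variable {G : Type*} [Group G] [Finite G]

/-- the data of CASE B, for a complement `K` of `M_σ` in `M` -/
structure CaseB (M K : Subgroup G) : Prop where
  hG : Cfsg.IsMinSimpleOddOrder G
  hM : IsCoatom M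
  compl : Cfsg.IsComplIn K (Cfsg.sigmaCore M) M
  /-- every prime divisor of `|M|` lies in `σ(M) ∪ κ(M)` -/
  hpi : ∀ p : ℕ, p.Prime → p ∣ Nat.card M → p ∈ Cfsg.sigma M ∨ p ∈ Cfsg.kappa M
  /-- (Z2) -/
  z2 : ∀ x ∈ K, x ≠ 1 → Cfsg.sigmaCore M ⊓ Subgroup.centralizer ({x} : Set G) =
    Cfsg.sigmaCore M ⊓ Subgroup.centralizer (K : Set G)
  /-- (Z4) -/
  z4 : ∀ X : Subgroup G, X ≤ K → (Nat.card X).Prime →
    M ⊓ Subgroup.normalizer (X : Set G) = K ⊔ (Cfsg.sigmaCore M ⊓ Subgroup.centralizer (K : Set G)) ∧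
    ∀ Mstar : Subgroup G, IsCoatom Mstar → Subgroup.normalizer (X : Set G) ≤ Mstar →
      X ≤ Cfsg.sigmaCore Mstar
  /-- (Z5) -/
  z5 : ∀ X : Subgroup G, X ≤ Cfsg.sigmaCore M ⊓ Subgroup.centralizer (K : Set G) →
    (Nat.card X).Prime → ∀ L : Subgroup G, IsCoatom L → Subgroup.normalizer (X : Set G) ≤ L → L = M
  /-- (T6) -/
  t6 : ∀ p : ℕ, p.Prime →
    p ∣ Nat.card ↥(Cfsg.sigmaCore M ⊓ Subgroup.centralizer (K : Set G)) →
    ∀ S : Sylow p ↥(Cfsg.sigmaCore M),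
      Cfsg.InUniqueMaximal ((S : Subgroup ↥(Cfsg.sigmaCore M)).map (Cfsg.sigmaCore M).subtype) ∧
      ¬ (S : Subgroup ↥(Cfsg.sigmaCore M)).map (Cfsg.sigmaCore M).subtype ≤
        (Cfsg.sigmaCore M ⊓ Subgroup.centralizer (K : Set G))

namespace CaseB

variable {M K : Subgroup G}

section
variable (h : CaseB M K)
include h

theorem hKM : K ≤ M := h.compl.1

theorem hSM : Cfsg.sigmaCore M ≤ M := h.compl.2.1

theorem hinf : K ⊓ Cfsg.sigmaCore M = ⊥ := h.compl.2.2.1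

/-- an element of `M_σ` normalizing `K` centralizes it -/
theorem mem_centralizer_of_mem_normalizer {b : G} (hb : b ∈ Cfsg.sigmaCore M)
    (hbN : ∀ y ∈ K, b * y * b⁻¹ ∈ K) : b ∈ Subgroup.centralizer (K : Set G) := by
  rw [Subgroup.mem_centralizer_iff]
  intro y hy
  have h1 : b * y * b⁻¹ * y⁻¹ ∈ K := K.mul_mem (hbN y hy) (K.inv_mem hy)
  have h2 : b * y * b⁻¹ * y⁻¹ ∈ Cfsg.sigmaCore M := by
    have h3 : y * b⁻¹ * y⁻¹ ∈ Cfsg.sigmaCore M :=
      conj_mem_sigmaCore (h.hKM hy) ((Cfsg.sigmaCore M).inv_mem hb)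
    have : b * y * b⁻¹ * y⁻¹ = b * (y * b⁻¹ * y⁻¹) := by group
    rw [this]
    exact (Cfsg.sigmaCore M).mul_mem hb h3
  have h4 : b * y * b⁻¹ * y⁻¹ ∈ K ⊓ Cfsg.sigmaCore M := ⟨h1, h2⟩
  rw [h.hinf, Subgroup.mem_bot] at h4
  have : b * y = y * b := by
    have h5 : b * y * b⁻¹ * y⁻¹ * (y * b) = 1 * (y * b) := by rw [h4]
    have h6 : b * y * b⁻¹ * y⁻¹ * (y * b) = b * y := by group
    rw [h6, one_mul] at h5
    exact h5
  exact this.symm

/-- `N_M(K) = K C` -/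
theorem inf_normalizer_K :
    M ⊓ Subgroup.normalizer (K : Set G) =
      K ⊔ (Cfsg.sigmaCore M ⊓ Subgroup.centralizer (K : Set G)) := by
  apply le_antisymm
  · rintro g ⟨hgM, hgN⟩
    obtain ⟨k, hk, b, hb, rfl⟩ := h.compl.2.2.2 g hgM
    have hbN : b ∈ Subgroup.normalizer (K : Set G) := by
      have : b = k⁻¹ * (k * b) := by group
      rw [this]
      exact Subgroup.mul_mem _ (Subgroup.inv_mem _ (Subgroup.le_normalizer hk)) hgN
    have hbC := h.mem_centralizer_of_mem_normalizer hb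
      (fun y hy => (Subgroup.mem_normalizer_iff.mp hbN y).mp hy)
    exact Subgroup.mul_mem _ (Subgroup.mem_sup_left hk) (Subgroup.mem_sup_right ⟨hb, hbC⟩)
  · apply sup_le
    · exact le_inf h.hKM Subgroup.le_normalizer
    · rintro x ⟨hxS, hxC⟩
      exact ⟨h.hSM hxS, Subgroup.centralizer_le_normalizer _ hxC⟩

/-- **S1430 in CASE B** -/
theorem concl_S1430 :
    (∀ k ∈ K, k ≠ 1 → Cfsg.sigmaCore M ⊓ Subgroup.centralizer ({k} : Set G) =
        (Cfsg.sigmaCore M ⊓ Subgroup.centralizer (K : Set G))) ∧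
      (∃ U : Subgroup G, IsMulCommutative U ∧
        Cfsg.IsPiHallOf {q | q.Prime ∧ q ∉ Cfsg.kappa M ∧ q ∉ Cfsg.sigma M} U M ∧
        K ≤ Subgroup.normalizer (U : Set G) ∧
        ∀ k ∈ K, k ≠ 1 → U ⊓ Subgroup.centralizer ({k} : Set G) = ⊥) ∧
      ∀ X : Subgroup G, X ≤ K → (Nat.card X).Prime →
        M ⊓ Subgroup.normalizer (X : Set G) =
            K ⊔ (Cfsg.sigmaCore M ⊓ Subgroup.centralizer (K : Set G)) ∧
          M ⊓ Subgroup.normalizer (K : Set G) =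
            K ⊔ (Cfsg.sigmaCore M ⊓ Subgroup.centralizer (K : Set G)) ∧
          ∀ Mstar : Subgroup G, IsCoatom Mstar → Subgroup.normalizer (X : Set G) ≤ Mstar →
            X ≤ Cfsg.sigmaCore Mstar := by
  refine ⟨h.z2, ⟨⊥, ?_, ⟨bot_le, ?_, ?_⟩, ?_, ?_⟩, ?_⟩
  · rw [Cfsg.Agent.Helper23.isMulCommutative_subgroup_iff]
    intro a ha b hb
    rw [Subgroup.mem_bot] at ha hb
    rw [ha, hb]
  · intro p hp hd
    rw [Subgroup.card_bot] at hd
    exact absurd (Nat.dvd_one.mp hd) hp.one_lt.ne'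
  · rintro p hp ⟨-, hpκ, hpσ⟩ hd
    rw [Subgroup.relIndex_bot_left] at hd
    rcases h.hpi p hp hd with h1 | h1
    · exact hpσ h1
    · exact hpκ h1
  · intro k _
    rw [Subgroup.mem_normalizer_iff]
    intro x
    simp only [Subgroup.mem_bot]
    constructor
    · intro hx; rw [hx]; group
    · intro hx
      have : x = k⁻¹ * (k * x * k⁻¹) * k := by group
      rw [this, hx]; group
  · intro k _ _
    exact bot_inf_eq _
  · intro X hXK hXp
    exact ⟨(h.z4 X hXK hXp).1, h.inf_normalizer_K, (h.z4 X hXK hXp).2⟩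

/-- for `X ≤ C` of prime order, `N_G(X) ≤ M` -/
theorem normalizer_le_of_le_C {X : Subgroup G}
    (hX : X ≤ Cfsg.sigmaCore M ⊓ Subgroup.centralizer (K : Set G)) (hXp : (Nat.card X).Prime) :
    Subgroup.normalizer (X : Set G) ≤ M := by
  haveI : IsSimpleGroup G := h.hG.2.1
  have hX1 : X ≠ ⊥ := by
    intro hb
    rw [hb, Subgroup.card_bot] at hXp
    exact Nat.not_prime_one hXp
  have hXtop : X ≠ ⊤ := by
    intro ht
    have : (⊤ : Subgroup G) ≤ M := ht ▸ (hX.trans inf_le_left).trans h.hSM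
    exact h.hM.1 (top_le_iff.mp this)
  have hN := Cfsg.Agent.Helper31.bgt_normalizer_ne_top_of_simple hX1 hXtop
  obtain ⟨L, hL, hNL⟩ := (eq_top_or_exists_le_coatom _).resolve_left hN
  rw [← h.z5 X hX hXp L hL hNL]
  exact hNL

/-- **S1431 in CASE B** -/
theorem concl_S1431 :
    (∀ g : G, g ∉ M → (Cfsg.sigmaCore M ⊓ Subgroup.centralizer (K : Set G)) ⊓
        M.map (MulAut.conj g).toMonoidHom = ⊥) ∧
      (∀ g ∈ M, g ∉ K ⊔ (Cfsg.sigmaCore M ⊓ Subgroup.centralizer (K : Set G)) →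
        K ⊓ K.map (MulAut.conj g).toMonoidHom = ⊥) ∧
      (∀ (p : ℕ), p.Prime →
        p ∣ Nat.card ↥(Cfsg.sigmaCore M ⊓ Subgroup.centralizer (K : Set G)) →
        ∀ S : Sylow p ↥(Cfsg.sigmaCore M),
        Cfsg.InUniqueMaximal
          ((S : Subgroup ↥(Cfsg.sigmaCore M)).map (Cfsg.sigmaCore M).subtype) ∧
        (S : Subgroup ↥(Cfsg.sigmaCore M)).map (Cfsg.sigmaCore M).subtype ≤ M ∧
        ¬ (S : Subgroup ↥(Cfsg.sigmaCore M)).map (Cfsg.sigmaCore M).subtype ≤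
          (Cfsg.sigmaCore M ⊓ Subgroup.centralizer (K : Set G))) ∧
      ∀ Y : Subgroup G, (∀ p : ℕ, p.Prime → p ∣ Nat.card Y → p ∈ Cfsg.sigma M) →
        Y ⊓ (Cfsg.sigmaCore M ⊓ Subgroup.centralizer (K : Set G)) ≠ ⊥ →
        Y ≤ Cfsg.sigmaCore M := by
  classical
  set C : Subgroup G := Cfsg.sigmaCore M ⊓ Subgroup.centralizer (K : Set G) with hC
  -- a subgroup of prime order inside a nontrivial subgroup
  have hprime : ∀ W : Subgroup G, W ≠ ⊥ → ∃ X : Subgroup G, X ≤ W ∧ (Nat.card X).Prime := by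
    intro W hW
    obtain ⟨⟨w, hw⟩, hw1'⟩ := (Subgroup.ne_bot_iff_exists_ne_one).mp hW
    have hw1 : w ≠ 1 := fun h1 => hw1' (Subtype.ext h1)
    have hoe : orderOf w ≠ 1 := fun h1 => hw1 (orderOf_eq_one_iff.mp h1)
    obtain ⟨q, hq, hqe⟩ := Nat.exists_prime_and_dvd hoe
    refine ⟨Subgroup.zpowers (w ^ (orderOf w / q)), ?_, ?_⟩
    · rw [Subgroup.zpowers_le]; exact W.pow_mem hw _
    · rw [Nat.card_zpowers, orderOf_pow_orderOf_div (orderOf_pos w).ne' hqe]; exact hq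
  -- the key step: `g X g⁻¹ ≤ M` for `X ≤ C` of prime order forces `g ∈ M`
  have hkey : ∀ X : Subgroup G, X ≤ C → (Nat.card X).Prime → ∀ g : G,
      X.map (MulAut.conj g).toMonoidHom ≤ M → g ∈ M := by
    intro X hXC hXp g hg
    haveI : Fact (Nat.card X).Prime := ⟨hXp⟩
    have hXσ : Nat.card X ∈ Cfsg.sigma M := by
      apply Cfsg.Agent.Helper29.BG11.primes_sigmaCore M _ hXp
      exact Subgroup.card_dvd_of_le (hXC.trans inf_le_left)
    have hX1 : X ≠ ⊥ := by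
      intro hb
      rw [hb, Subgroup.card_bot] at hXp
      exact Nat.not_prime_one hXp
    have hXM : X ≤ M := (hXC.trans inf_le_left).trans h.hSM
    obtain ⟨m, hm, c, hc, rfl⟩ := (Cfsg.Agent.S1404.result h.hG M h.hM (Nat.card X) hXσ X
      (IsPGroup.of_card (n := 1) (by rw [pow_one])) hX1 hXM).1 g hg
    have hcN : c ∈ Subgroup.normalizer (X : Set G) :=
      Subgroup.centralizer_le_normalizer _ hc
    exact M.mul_mem hm (h.normalizer_le_of_le_C hXC hXp hcN)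
  refine ⟨?_, ?_, ?_, ?_⟩
  · -- (1)
    intro g hg
    by_contra hne
    obtain ⟨X, hXle, hXp⟩ := hprime _ hne
    apply hg
    have hXg : X.map (MulAut.conj g⁻¹).toMonoidHom ≤ M := by
      rintro _ ⟨x, hx, rfl⟩
      obtain ⟨m, hm, hmx⟩ := (hXle hx).2
      have : (MulAut.conj g⁻¹).toMonoidHom x = m := by
        rw [← hmx]
        simp [MulAut.conj_apply, mul_assoc]
      rw [this]; exact hm
    have := hkey X (hXle.trans inf_le_left) hXp g⁻¹ hXg
    simpa using M.inv_mem this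
  · -- (2)
    intro g hgM hgKC
    by_contra hne
    obtain ⟨⟨x, hx⟩, hx1'⟩ := (Subgroup.ne_bot_iff_exists_ne_one).mp hne
    have hx1 : x ≠ 1 := fun h1 => hx1' (Subtype.ext h1)
    obtain ⟨hxK, ⟨y, hyK, hyx⟩⟩ := hx
    obtain ⟨k, hk, b, hb, rfl⟩ := h.compl.2.2.2 g hgM
    have hyx' : k * b * y * (k * b)⁻¹ = x := by
      rw [← hyx]; rfl
    -- `x' = k⁻¹ x k = b y b⁻¹ ∈ K`
    have hx'K : b * y * b⁻¹ ∈ K := by
      have : b * y * b⁻¹ = k⁻¹ * x * k := by rw [← hyx']; group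
      rw [this]
      exact K.mul_mem (K.mul_mem (K.inv_mem hk) hxK) hk
    have h1 : b * y * b⁻¹ * y⁻¹ ∈ K := K.mul_mem hx'K (K.inv_mem hyK)
    have h2 : b * y * b⁻¹ * y⁻¹ ∈ Cfsg.sigmaCore M := by
      have h3 : y * b⁻¹ * y⁻¹ ∈ Cfsg.sigmaCore M :=
        conj_mem_sigmaCore (h.hKM hyK) ((Cfsg.sigmaCore M).inv_mem hb)
      have : b * y * b⁻¹ * y⁻¹ = b * (y * b⁻¹ * y⁻¹) := by group
      rw [this]
      exact (Cfsg.sigmaCore M).mul_mem hb h3
    have h4 : b * y * b⁻¹ * y⁻¹ ∈ K ⊓ Cfsg.sigmaCore M := ⟨h1, h2⟩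
    rw [h.hinf, Subgroup.mem_bot] at h4
    have hby : b * y = y * b := by
      have h5 : b * y * b⁻¹ * y⁻¹ * (y * b) = 1 * (y * b) := by rw [h4]
      have h6 : b * y * b⁻¹ * y⁻¹ * (y * b) = b * y := by group
      rw [h6, one_mul] at h5
      exact h5
    have hy1 : y ≠ 1 := by
      intro hy1
      apply hx1
      rw [← hyx', hy1]; group
    have hbC : b ∈ Subgroup.centralizer ({y} : Set G) := by
      rw [Subgroup.mem_centralizer_iff]
      intro z hz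
      rw [Set.mem_singleton_iff] at hz
      rw [hz]; exact hby.symm
    have hbC' : b ∈ Cfsg.sigmaCore M ⊓ Subgroup.centralizer ({y} : Set G) := ⟨hb, hbC⟩
    rw [h.z2 y hyK hy1] at hbC'
    exact hgKC (Subgroup.mul_mem _ (Subgroup.mem_sup_left hk) (Subgroup.mem_sup_right hbC'))
  · -- (3)
    intro p hp hd S
    obtain ⟨h1, h2⟩ := h.t6 p hp hd S
    refine ⟨h1, ?_, h2⟩
    rintro _ ⟨x, -, rfl⟩
    exact h.hSM x.2
  · -- (4)
    intro Y hYσ hYC
    have hY1 : Y ≠ ⊥ := by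
      intro hb
      apply hYC
      rw [hb]; exact bot_inf_eq _
    obtain ⟨g, hg⟩ := Cfsg.Agent.S1425.result h.hG M h.hM Y hY1 hYσ
    obtain ⟨X, hXle, hXp⟩ := hprime _ hYC
    have hXg : X.map (MulAut.conj g).toMonoidHom ≤ M :=
      ((Subgroup.map_mono (hXle.trans inf_le_left)).trans hg).trans h.hSM
    have hgM := hkey X (hXle.trans inf_le_right) hXp g hXg
    intro y hy
    have h1 : g * y * g⁻¹ ∈ Cfsg.sigmaCore M := hg ⟨y, hy, by simp [MulAut.conj_apply]⟩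
    have h2 := conj_mem_sigmaCore (M.inv_mem hgM) h1
    have : g⁻¹ * (g * y * g⁻¹) * g⁻¹⁻¹ = y := by group
    rwa [this] at h2

end

end CaseB

/-! ### From Theorem N3 and (T6) to CASE B -/

/-- Theorem N3 of helper70's plan (#3585), in statement shape: (Z1), (Z2), (Z4), (Z5). -/
def N3 (G : Type*) [Group G] : Prop :=
  ∀ (M E E3 Y0 : Subgroup G), IsCoatom M → Cfsg.IsComplIn E (Cfsg.sigmaCore M) M →
    Cfsg.IsPiHallOf (Cfsg.tau3 M) E3 E → Y0 ≤ E3 → (Nat.card Y0).Prime →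
    Cfsg.sigmaCore M ⊓ Subgroup.centralizer (Y0 : Set G) ≠ ⊥ →
    (∀ q : ℕ, q.Prime → ∀ Q : Subgroup G, Q ≤ E → IsPGroup q Q → IsCyclic Q) ∧
    (Cfsg.sigmaCore M ⊓ Subgroup.centralizer (E : Set G) ≠ ⊥ ∧
      ∀ x ∈ E, x ≠ 1 → Cfsg.sigmaCore M ⊓ Subgroup.centralizer ({x} : Set G) =
        Cfsg.sigmaCore M ⊓ Subgroup.centralizer (E : Set G)) ∧
    (∀ X : Subgroup G, X ≤ E → (Nat.card X).Prime →
      M ⊓ Subgroup.normalizer (X : Set G) =
        E ⊔ (Cfsg.sigmaCore M ⊓ Subgroup.centralizer (E : Set G)) ∧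
      ∀ Ms : Subgroup G, IsCoatom Ms → Subgroup.normalizer (X : Set G) ≤ Ms →
        X ≤ Cfsg.sigmaCore Ms) ∧
    (∀ X : Subgroup G, X ≤ Cfsg.sigmaCore M ⊓ Subgroup.centralizer (E : Set G) →
      (Nat.card X).Prime → ∀ L : Subgroup G, IsCoatom L → Subgroup.normalizer (X : Set G) ≤ L →
        L = M)

/-- (T6) of helper70's plan (#3506), in statement shape. -/
def T6 (G : Type*) [Group G] : Prop :=
  ∀ (M E : Subgroup G), IsCoatom M → Cfsg.IsComplIn E (Cfsg.sigmaCore M) M →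
    ∀ p : ℕ, p ∈ Cfsg.tau1 M → ∀ P : Subgroup G, P ≤ E → Nat.card P = p →
    ∀ q : ℕ, q.Prime → q ∣ Nat.card ↥(Cfsg.sigmaCore M ⊓ Subgroup.centralizer (P : Set G)) →
    ∀ Q : Sylow q ↥(Cfsg.sigmaCore M),
      Cfsg.InUniqueMaximal ((Q : Subgroup ↥(Cfsg.sigmaCore M)).map (Cfsg.sigmaCore M).subtype) ∧
      ¬ (Q : Subgroup ↥(Cfsg.sigmaCore M)).map (Cfsg.sigmaCore M).subtype ≤
        Cfsg.sigmaCore M ⊓ Subgroup.centralizer (P : Set G)

/-- transport of a fixed point: if `m x m⁻¹ ∈ E` (`m ∈ M`) is a non-identity element all of whose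
`M_σ`-centralizers are `C_{M_σ}(E) ≠ 1`, then `x` centralizes a non-identity element of `M_σ` -/
theorem exists_comm_of_conj_mem {M E : Subgroup G}
    (hCne : Cfsg.sigmaCore M ⊓ Subgroup.centralizer (E : Set G) ≠ ⊥)
    (z2 : ∀ x ∈ E, x ≠ 1 → Cfsg.sigmaCore M ⊓ Subgroup.centralizer ({x} : Set G) =
        Cfsg.sigmaCore M ⊓ Subgroup.centralizer (E : Set G))
    {x m : G} (hm : m ∈ M) (hx1 : x ≠ 1) (hxE : m * x * m⁻¹ ∈ E) :
    ∃ y ∈ Cfsg.sigmaCore M, y ≠ 1 ∧ x * y = y * x := by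
  have hx'1 : m * x * m⁻¹ ≠ 1 := by
    intro h1
    apply hx1
    have : x = m⁻¹ * (m * x * m⁻¹) * m := by group
    rw [this, h1]; group
  have h2 := z2 _ hxE hx'1
  rw [← h2] at hCne
  obtain ⟨⟨y', hy'⟩, hy'1'⟩ := (Subgroup.ne_bot_iff_exists_ne_one).mp hCne
  have hy'1 : y' ≠ 1 := fun h1 => hy'1' (Subtype.ext h1)
  obtain ⟨hy'S, hy'C⟩ := hy'
  have hcomm : (m * x * m⁻¹) * y' = y' * (m * x * m⁻¹) :=
    (Subgroup.mem_centralizer_iff.mp hy'C) _ rfl
  refine ⟨m⁻¹ * y' * m, ?_, ?_, ?_⟩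
  · have := conj_mem_sigmaCore (M.inv_mem hm) hy'S
    rwa [inv_inv] at this
  · intro h1
    apply hy'1
    have : y' = m * (m⁻¹ * y' * m) * m⁻¹ := by group
    rw [this, h1]; group
  · have e1 : x * (m⁻¹ * y' * m) = m⁻¹ * ((m * x * m⁻¹) * y') * m := by group
    have e2 : (m⁻¹ * y' * m) * x = m⁻¹ * (y' * (m * x * m⁻¹)) * m := by group
    rw [e1, e2, hcomm]

/-- prime divisors of `|E|` lie in `τ₁(M) ∪ τ₃(M)` or in `τ₂(M)` -/
theorem mem_tau_of_dvd_card' {M E : Subgroup G} (hctx : ECtx M E) {q : ℕ} (hq : q.Prime)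
    (hqE : q ∣ Nat.card E) : q ∈ Cfsg.tau1 M ∨ q ∈ Cfsg.tau3 M ∨ q ∈ Cfsg.tau2 M := by
  have hqσ : q ∉ Cfsg.sigma M := hctx.not_sigma_of_dvd q hq hqE
  have hr2 : Cfsg.PRankLE q 2 ↥M := by
    by_contra hr2
    exact hqσ (hctx.alpha_sub ⟨hq, hr2⟩)
  have hqM : q ∣ Nat.card M := hqE.trans (Subgroup.card_dvd_of_le hctx.compl.1)
  by_cases hr1 : Cfsg.PRankLE q 1 ↥M
  · by_cases hd : q ∣ Nat.card ↥⁅M, M⁆
    · exact Or.inr (Or.inl ⟨hq, hqσ, hd, hr1⟩)
    · exact Or.inl ⟨hq, hqσ, hqM, hd, hr1⟩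
  · exact Or.inr (Or.inr ⟨hq, hqσ, hr2, hr1⟩)

/-- **[P10] CASE B assembly**: the conclusions of S1430 and S1431 from Theorem N3 and (T6), when
some subgroup `Y0` of prime order of a Hall `τ₃(M)`-subgroup of a complement centralizes a
non-identity element of `M_σ`. -/
theorem caseB (hG : Cfsg.IsMinSimpleOddOrder G) (hN3 : N3 G) (hT6 : T6 G)
    (M : Subgroup G) (hM : IsCoatom M) (K : Subgroup G)
    (hK : Cfsg.IsPiHallOf (Cfsg.kappa M) K M) (hK1 : K ≠ ⊥)
    (hB : ∃ E E3 Y0 : Subgroup G, Cfsg.IsComplIn E (Cfsg.sigmaCore M) M ∧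
      Cfsg.IsPiHallOf (Cfsg.tau3 M) E3 E ∧ Y0 ≤ E3 ∧ (Nat.card Y0).Prime ∧
      Cfsg.sigmaCore M ⊓ Subgroup.centralizer (Y0 : Set G) ≠ ⊥) :
    CaseB M K := by
  classical
  obtain ⟨E, E3, Y0, hE, hE3, hY0E3, hY0p, hY0c⟩ := hB
  have hU : UniquenessThm G := fun L hL hL2 hL3 => Cfsg.Agent.S1403.result hG L hL hL2 hL3
  have hctxE : ECtx M E := eCtx_of hG hU hM hE
  obtain ⟨z1, ⟨hCne, z2⟩, z4, z5⟩ := hN3 M E E3 Y0 hM hE hE3 hY0E3 hY0p hY0c
  have hKM : K ≤ M := hK.1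
  have hSM : Cfsg.sigmaCore M ≤ M := hE.2.1
  have hnotσ : ∀ r : ℕ, r.Prime → r ∉ Cfsg.sigma M → ¬ r ∣ Nat.card (Cfsg.sigmaCore M) :=
    fun r hr hrσ hd => hrσ (Cfsg.Agent.Helper29.BG11.primes_sigmaCore M r hr hd)
  -- Step 2: every prime divisor of `|E|` lies in `κ(M)`
  have hκ : ∀ r : ℕ, r.Prime → r ∣ Nat.card E → r ∈ Cfsg.kappa M := by
    intro r hr hrE
    have hrσ := hctxE.not_sigma_of_dvd r hr hrE
    have hrM : r ∣ Nat.card M := hrE.trans (Subgroup.card_dvd_of_le hE.1)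
    refine ⟨hr, hrM, hrσ, ?_⟩
    intro P
    haveI : Fact r.Prime := ⟨hr⟩
    set B : Subgroup G := (P : Subgroup M).map M.subtype with hBdef
    have hBp : IsPGroup r B := P.isPGroup'.map _
    have hBM : B ≤ M := Subgroup.map_subtype_le _
    obtain ⟨m, hm, hmB⟩ := Cfsg.Agent.Helper22.BG127.exists_cj_le_compl hE (hnotσ r hr hrσ) hBp hBM
    have hcyc : IsCyclic ↥(cj m B) := z1 r hr (cj m B) hmB (isPGroup_cj hBp)
    refine ⟨?_, ?_⟩
    · -- `P` is cyclic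
      let e1 : ↥(P : Subgroup M) ≃* ↥B :=
        Subgroup.equivMapOfInjective (P : Subgroup M) M.subtype M.subtype_injective
      let e2 : ↥B ≃* ↥(cj m B) :=
        Subgroup.equivMapOfInjective B (MulAut.conj m).toMonoidHom (MulAut.conj m).injective
      exact isCyclic_of_surjective (e1.trans e2).symm.toMonoidHom (e1.trans e2).symm.surjective
    · have hPne : (P : Subgroup M) ≠ ⊥ := P.ne_bot_of_dvd_card hrM
      obtain ⟨⟨x, hx⟩, hx1'⟩ := (Subgroup.ne_bot_iff_exists_ne_one).mp hPne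
      have hx1 : x ≠ 1 := fun h1 => hx1' (Subtype.ext h1)
      have hxG1 : (x : G) ≠ 1 := fun h1 => hx1 (Subtype.ext h1)
      have hxE : m * (x : G) * m⁻¹ ∈ E := by
        apply hmB
        rw [mem_cj]
        have : m⁻¹ * (m * (x : G) * m⁻¹) * m = (x : G) := by group
        rw [this]
        exact ⟨x, hx, rfl⟩
      obtain ⟨y, hy, hy1, hxy⟩ := exists_comm_of_conj_mem hCne z2 hm hxG1 hxE
      exact ⟨x, hx, hx1, y, hy, hy1, hxy⟩
  -- Step 3: `|K| = |E|`, so `K` is a complement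
  have hcardM : Nat.card E * Nat.card (Cfsg.sigmaCore M) = Nat.card M :=
    card_mul_card_of_isComplIn hE
  have hKrel : K.relIndex M * Nat.card K = Nat.card M := Cfsg.Agent.Helper31.relIndex_mul_card' hKM
  have hcopK : (Nat.card K).Coprime (Nat.card (Cfsg.sigmaCore M)) :=
    Nat.coprime_of_dvd fun q hq hqK hqS =>
      (hK.2.1 q hq hqK).2.2.1 (Cfsg.Agent.Helper29.BG11.primes_sigmaCore M q hq hqS)
  have hKE : Nat.card K ∣ Nat.card E := by
    have h1 : Nat.card K ∣ Nat.card E * Nat.card (Cfsg.sigmaCore M) := by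
      rw [hcardM]; exact Subgroup.card_dvd_of_le hKM
    exact hcopK.dvd_of_dvd_mul_right h1
  have hEK : Nat.card E ∣ Nat.card K := by
    have hcop : (Nat.card E).Coprime (K.relIndex M) :=
      Nat.coprime_of_dvd fun q hq hqE hqr => hK.2.2 q hq (hκ q hq hqE) hqr
    have h1 : Nat.card E ∣ K.relIndex M * Nat.card K := by
      rw [hKrel]; exact Subgroup.card_dvd_of_le hE.1
    exact hcop.dvd_of_dvd_mul_left h1
  have hcardK : Nat.card K = Nat.card E := Nat.dvd_antisymm hKE hEK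
  have hcopE : (Nat.card E).Coprime (Nat.card (Cfsg.sigmaCore M)) := hcardK ▸ hcopK
  have hKc : Cfsg.IsComplIn K (Cfsg.sigmaCore M) M := by
    have := Cfsg.Agent.Helper55.BG1211.isComplIn_map_of_card (M := M) hcardM.symm hcopE rfl
      (K.subgroupOf M) (by rw [Cfsg.Agent.Helper1.card_subgroupOf_of_le hKM, hcardK])
    rwa [Subgroup.map_subgroupOf_eq_of_le hKM] at this
  have hctxK : ECtx M K := eCtx_of hG hU hM hKc
  -- Step 4: Theorem N3 for `K`
  have hs : (Nat.card Y0).Prime := hY0p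
  set s := Nat.card Y0 with hsdef
  have hsE3 : s ∣ Nat.card E3 := Subgroup.card_dvd_of_le hY0E3
  have hsτ3 : s ∈ Cfsg.tau3 M := hE3.2.1 s hs hsE3
  have hsE : s ∣ Nat.card E := hsE3.trans (Subgroup.card_dvd_of_le hE3.1)
  have hsκ : s ∈ Cfsg.kappa M := hκ s hs hsE
  have hsK : s ∣ Nat.card K := by rw [hcardK]; exact hsE
  haveI : Fact s.Prime := ⟨hs⟩
  obtain ⟨x, hxo⟩ := exists_prime_orderOf_dvd_card' (G := ↥K) s hsK
  have hxo' : orderOf (x : G) = s := by rw [← hxo, Subgroup.orderOf_coe]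
  have hxG1 : (x : G) ≠ 1 := by
    intro h1
    rw [h1, orderOf_one] at hxo'
    exact hs.one_lt.ne hxo'
  set Y' : Subgroup G := Subgroup.zpowers (x : G) with hY'
  have hY'K : Y' ≤ K := by rw [hY', Subgroup.zpowers_le]; exact x.2
  have hY'c : Nat.card Y' = s := by rw [hY', Nat.card_zpowers, hxo']
  have hY'p : IsPGroup s Y' := IsPGroup.of_card (n := 1) (by rw [hY'c, pow_one])
  have hY'ne : Cfsg.sigmaCore M ⊓ Subgroup.centralizer (Y' : Set G) ≠ ⊥ := by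
    obtain ⟨m, hm, hmY⟩ := Cfsg.Agent.Helper22.BG127.exists_cj_le_compl hE
      (hnotσ s hs hsκ.2.2.1) hY'p (hY'K.trans hKM)
    have hxE : m * (x : G) * m⁻¹ ∈ E := by
      apply hmY
      rw [mem_cj]
      have : m⁻¹ * (m * (x : G) * m⁻¹) * m = (x : G) := by group
      rw [this]
      exact Subgroup.mem_zpowers _
    obtain ⟨y, hy, hy1, hxy⟩ := exists_comm_of_conj_mem hCne z2 hm hxG1 hxE
    intro hb
    apply hy1
    have hyC : y ∈ Subgroup.centralizer ({(x : G)} : Set G) := by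
      rw [Subgroup.mem_centralizer_iff]
      intro z hz
      rw [Set.mem_singleton_iff] at hz
      rw [hz]; exact hxy
    have : y ∈ Cfsg.sigmaCore M ⊓ Subgroup.centralizer (Y' : Set G) := by
      rw [hY', Cfsg.Agent.Helper55.BGThmB.centralizer_zpowers]
      exact ⟨hy, hyC⟩
    rw [hb, Subgroup.mem_bot] at this
    exact this
  haveI hMsolv : Group.IsSolvable ↥M := hG.2.2.2 M hM.1
  haveI hKsolv : Group.IsSolvable ↥K :=
    Group.isSolvable_of_isSolvable_injective (Subgroup.inclusion_injective hKM)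
  obtain ⟨K3, hK3, hY'K3⟩ := Cfsg.Agent.Helper71.BGHall.exists_isPiHallOf_ge (Cfsg.tau3 M) K
    hY'K (by
      intro q hq hqd
      rw [hY'c] at hqd
      rw [(Nat.prime_dvd_prime_iff_eq hq hs).mp hqd]
      exact hsτ3)
  obtain ⟨z1', ⟨hCne', z2'⟩, z4', z5'⟩ :=
    hN3 M K K3 Y' hM hKc hK3 hY'K3 (by rw [hY'c]; exact hs) hY'ne
  -- a prime of `τ₁(M)` dividing `|K|`
  obtain ⟨r, hr, hrK, hrτ1⟩ : ∃ r : ℕ, r.Prime ∧ r ∣ Nat.card K ∧ r ∈ Cfsg.tau1 M := by
    by_contra hcon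
    push Not at hcon
    -- all primes of `|K|` lie in `τ₃(M)`
    have hall : ∀ q : ℕ, q.Prime → q ∣ Nat.card K → q ∈ Cfsg.tau3 M := by
      intro q hq hqK
      rcases mem_tau_of_dvd_card' hctxK hq hqK with h1 | h3 | h2
      · exact absurd h1 (hcon q hq hqK)
      · exact h3
      · exfalso
        haveI : Fact q.Prime := ⟨hq⟩
        obtain ⟨A₀, hA₀M, hA₀e, hA₀c⟩ := exists_elementaryAbelian_sq h2.2.2.1 h2.2.2.2
        have hA₀p : IsPGroup q A₀ := by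
          apply IsPGroup.of_card (n := 2)
          rw [hA₀c]
        obtain ⟨m, hm, hmA⟩ := Cfsg.Agent.Helper22.BG127.exists_cj_le_compl hKc
          (hnotσ q hq h2.2.1) hA₀p hA₀M
        have hcyc := z1' q hq (cj m A₀) hmA (isPGroup_cj hA₀p)
        have hel : ∀ a ∈ cj m A₀, a ^ q = 1 := by
          intro a ha
          rw [mem_cj] at ha
          have h1 := hA₀e.2 _ ha
          have h2 : (m⁻¹ * a * m) ^ q = m⁻¹ * a ^ q * m := by
            have := conj_pow (a := m⁻¹) (b := a) (i := q)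
            simpa using this
          rw [h2] at h1
          have h3 : a ^ q = m * 1 * m⁻¹ := by rw [← h1]; group
          simpa using h3
        have hlt : q < Nat.card (cj m A₀) := by
          rw [card_cj, hA₀c]
          have := hq.one_lt
          nlinarith
        exact Cfsg.Agent.Helper54.BGU.not_isCyclic_of_exp_le (le_refl (cj m A₀)) hel hlt hcyc
    have hKhall : Cfsg.IsPiHallOf (Cfsg.tau3 M) K K := by
      refine ⟨le_rfl, hall, ?_⟩
      intro q hq _ hd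
      rw [Subgroup.relIndex_self] at hd
      exact hq.one_lt.ne' (Nat.dvd_one.mp hd)
    obtain ⟨hKcyc, hKcomm, -⟩ := (Cfsg.Agent.S1415.result hG M hM K hKc).2.2 K hKhall
    apply hK1
    rw [eq_bot_iff]
    have hbot : ⁅K, K⁆ = ⊥ := by
      rw [Subgroup.commutator_eq_bot_iff_le_centralizer]
      intro a ha
      rw [Subgroup.mem_centralizer_iff]
      intro b hb
      haveI := hKcyc
      have := (IsCyclic.commGroup (α := ↥K)).mul_comm ⟨b, hb⟩ ⟨a, ha⟩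
      exact congrArg Subtype.val this
    rw [← hbot]
    exact hKcomm
  haveI : Fact r.Prime := ⟨hr⟩
  obtain ⟨u, huo⟩ := exists_prime_orderOf_dvd_card' (G := ↥K) r hrK
  have huo' : orderOf (u : G) = r := by rw [← huo, Subgroup.orderOf_coe]
  have hu1 : (u : G) ≠ 1 := by
    intro h1
    rw [h1, orderOf_one] at huo'
    exact hr.one_lt.ne huo'
  set P : Subgroup G := Subgroup.zpowers (u : G) with hPdef
  have hPK : P ≤ K := by rw [hPdef, Subgroup.zpowers_le]; exact u.2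
  have hPc : Nat.card P = r := by rw [hPdef, Nat.card_zpowers, huo']
  have hDP : Cfsg.sigmaCore M ⊓ Subgroup.centralizer (P : Set G) =
      Cfsg.sigmaCore M ⊓ Subgroup.centralizer (K : Set G) := by
    rw [hPdef, Cfsg.Agent.Helper55.BGThmB.centralizer_zpowers]
    exact z2' (u : G) u.2 hu1
  refine ⟨hG, hM, hKc, ?_, z2', z4', z5', ?_⟩
  · intro p hp hpM
    have h1 : p ∣ Nat.card K * Nat.card (Cfsg.sigmaCore M) := by
      rw [card_mul_card_of_isComplIn hKc]; exact hpM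
    rcases (Nat.Prime.dvd_mul hp).mp h1 with h2 | h2
    · exact Or.inr (hK.2.1 p hp h2)
    · exact Or.inl (Cfsg.Agent.Helper29.BG11.primes_sigmaCore M p hp h2)
  · intro q hq hqd Q
    have := hT6 M K hM hKc r hrτ1 P hPK hPc q hq (by rw [hDP]; exact hqd) Q
    rw [hDP] at this
    exact this

/-- **[P10]**: both conclusions (S1430 body and S1431 body) in CASE B. -/
theorem caseB_concl (hG : Cfsg.IsMinSimpleOddOrder G) (hN3 : N3 G) (hT6 : T6 G)
    (M : Subgroup G) (hM : IsCoatom M) (K : Subgroup G)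
    (hK : Cfsg.IsPiHallOf (Cfsg.kappa M) K M) (hK1 : K ≠ ⊥)
    (hB : ∃ E E3 Y0 : Subgroup G, Cfsg.IsComplIn E (Cfsg.sigmaCore M) M ∧
      Cfsg.IsPiHallOf (Cfsg.tau3 M) E3 E ∧ Y0 ≤ E3 ∧ (Nat.card Y0).Prime ∧
      Cfsg.sigmaCore M ⊓ Subgroup.centralizer (Y0 : Set G) ≠ ⊥) :
    ((∀ k ∈ K, k ≠ 1 → Cfsg.sigmaCore M ⊓ Subgroup.centralizer ({k} : Set G) =
        (Cfsg.sigmaCore M ⊓ Subgroup.centralizer (K : Set G))) ∧
      (∃ U : Subgroup G, IsMulCommutative U ∧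
        Cfsg.IsPiHallOf {q | q.Prime ∧ q ∉ Cfsg.kappa M ∧ q ∉ Cfsg.sigma M} U M ∧
        K ≤ Subgroup.normalizer (U : Set G) ∧
        ∀ k ∈ K, k ≠ 1 → U ⊓ Subgroup.centralizer ({k} : Set G) = ⊥) ∧
      ∀ X : Subgroup G, X ≤ K → (Nat.card X).Prime →
        M ⊓ Subgroup.normalizer (X : Set G) =
            K ⊔ (Cfsg.sigmaCore M ⊓ Subgroup.centralizer (K : Set G)) ∧
          M ⊓ Subgroup.normalizer (K : Set G) =
            K ⊔ (Cfsg.sigmaCore M ⊓ Subgroup.centralizer (K : Set G)) ∧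
          ∀ Mstar : Subgroup G, IsCoatom Mstar → Subgroup.normalizer (X : Set G) ≤ Mstar →
            X ≤ Cfsg.sigmaCore Mstar) ∧
    ((∀ g : G, g ∉ M → (Cfsg.sigmaCore M ⊓ Subgroup.centralizer (K : Set G)) ⊓
        M.map (MulAut.conj g).toMonoidHom = ⊥) ∧
      (∀ g ∈ M, g ∉ K ⊔ (Cfsg.sigmaCore M ⊓ Subgroup.centralizer (K : Set G)) →
        K ⊓ K.map (MulAut.conj g).toMonoidHom = ⊥) ∧
      (∀ (p : ℕ), p.Prime →
        p ∣ Nat.card ↥(Cfsg.sigmaCore M ⊓ Subgroup.centralizer (K : Set G)) →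
        ∀ S : Sylow p ↥(Cfsg.sigmaCore M),
        Cfsg.InUniqueMaximal
          ((S : Subgroup ↥(Cfsg.sigmaCore M)).map (Cfsg.sigmaCore M).subtype) ∧
        (S : Subgroup ↥(Cfsg.sigmaCore M)).map (Cfsg.sigmaCore M).subtype ≤ M ∧
        ¬ (S : Subgroup ↥(Cfsg.sigmaCore M)).map (Cfsg.sigmaCore M).subtype ≤
          (Cfsg.sigmaCore M ⊓ Subgroup.centralizer (K : Set G))) ∧
      ∀ Y : Subgroup G, (∀ p : ℕ, p.Prime → p ∣ Nat.card Y → p ∈ Cfsg.sigma M) →
        Y ⊓ (Cfsg.sigmaCore M ⊓ Subgroup.centralizer (K : Set G)) ≠ ⊥ →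
        Y ≤ Cfsg.sigmaCore M) := by
  have h := caseB hG hN3 hT6 M hM K hK hK1 hB
  exact ⟨h.concl_S1430, h.concl_S1431⟩

end Cfsg.Agent.Helper55.BG14CaseB
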