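import Mathlib
import Cfsg.Prelude.Def_OddOrderLocal
import Cfsg.Agent.Helper55.BG14CaseB
import Cfsg.Agent.Helper70.BG14N0
import Cfsg.Agent.Helper23.BG13E

set_option autoImplicit false
set_option linter.unusedSectionVars false
set_option linter.unusedVariables false
set_option linter.style.haveILetI false

/-!
# Adapters: helper70's `BG14.N3`, `BG14.T6` (file `Helper70/BG14N0.lean`) imply the hypotheses
`BG14CaseB.N3`, `BG14CaseB.T6` of the CASE B assembly of S1430 + S1431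
-/

namespace Cfsg.Agent.Helper55.BG14CaseB

open Cfsg Cfsg.Agent.Helper29.BG10 Cfsg.Agent.Helper68.BG12

variable {G : Type*} [Group G] [Finite G]

/-- helper70's `T6` (with `IsSylowIn`) gives the `T6` of `BG14CaseB` (with `Sylow`) -/
theorem t6_of_helper70 (h : Cfsg.Agent.Helper70.BG14.T6 G) : T6 G := by
  intro M E hM hE p hp P hPE hPc q hq hqd Q
  haveI : Fact q.Prime := ⟨hq⟩
  apply h M E hM hE p hp P hPE hPc q hq hqd
  refine ⟨Subgroup.map_subtype_le _, Q.isPGroup'.map _, ?_⟩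
  rw [Subgroup.relIndex, Subgroup.subgroupOf,
    Subgroup.comap_map_eq_self_of_injective (Cfsg.sigmaCore M).subtype_injective]
  exact Q.not_dvd_index

/-- helper70's `N3` gives the `N3` of `BG14CaseB` -/
theorem n3_of_helper70 (hG : Cfsg.IsMinSimpleOddOrder G) (h : Cfsg.Agent.Helper70.BG14.N3 G) :
    N3 G := by
  intro M E E3 Y0 hM hE hE3 hY0E3 hY0p hY0c
  have hU : UniquenessThm G := fun L hL hL2 hL3 => Cfsg.Agent.S1403.result hG L hL hL2 hL3
  have hctxE : ECtx M E := eCtx_of hG hU hM hE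
  have hs3 : Nat.card Y0 ∈ Cfsg.tau3 M :=
    hE3.2.1 _ hY0p (Subgroup.card_dvd_of_le hY0E3)
  have hc := h M E Y0 (Nat.card Y0)
    ⟨hM, hE, hs3, hY0E3.trans hE3.1, rfl, hY0c⟩
  refine ⟨?_, ⟨hc.cent_ne_bot, hc.cent_eq⟩, ?_, hc.unique_of_le_cent⟩
  · intro q hq Q hQE hQp
    haveI : Fact q.Prime := ⟨hq⟩
    by_cases hQ1 : Q = ⊥
    · subst hQ1
      infer_instance
    · have hqQ : q ∣ Nat.card Q := by
        obtain ⟨k, hk⟩ := IsPGroup.iff_card.1 hQp
        have hk0 : k ≠ 0 := by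
          rintro rfl
          rw [pow_zero] at hk
          exact hQ1 (Subgroup.card_eq_one.mp hk)
        rw [hk]
        exact dvd_pow_self q hk0
      have hqE : q ∣ Nat.card E := hqQ.trans (Subgroup.card_dvd_of_le hQE)
      have hrk : Cfsg.PRankLE q 1 ↥M := by
        rcases mem_tau_of_dvd_card' hctxE hq hqE with h1 | h3 | h2
        · exact h1.2.2.2.2
        · exact h3.2.2.2
        · exfalso
          rw [hc.tau2_empty] at h2
          exact h2
      have hrkQ : Cfsg.PRankLE q 1 ↥Q :=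
        Cfsg.Agent.Helper23.BG13.pRankLE_mono (hQE.trans hE.1) hrk
      exact Cfsg.Agent.Helper23.BG13.isCyclic_of_isPGroup_of_pRankLE_one hG.1 hQp hrkQ
  · intro X hXE hXp
    exact ⟨hc.normalizer_eq X hXE hXp, hc.le_sigmaCore X hXE hXp⟩

/-- the CASE B conclusions of S1430 + S1431 directly from helper70's `N3` and `T6` -/
theorem caseB_concl_of_helper70 (hG : Cfsg.IsMinSimpleOddOrder G)
    (hN3 : Cfsg.Agent.Helper70.BG14.N3 G) (hT6 : Cfsg.Agent.Helper70.BG14.T6 G)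
    (M : Subgroup G) (hM : IsCoatom M) (K : Subgroup G)
    (hK : Cfsg.IsPiHallOf (Cfsg.kappa M) K M) (hK1 : K ≠ ⊥)
    (hB : ∃ E E3 Y0 : Subgroup G, Cfsg.IsComplIn E (Cfsg.sigmaCore M) M ∧
      Cfsg.IsPiHallOf (Cfsg.tau3 M) E3 E ∧ Y0 ≤ E3 ∧ (Nat.card Y0).Prime ∧
      Cfsg.sigmaCore M ⊓ Subgroup.centralizer (Y0 : Set G) ≠ ⊥) :
    CaseB M K :=
  caseB hG (n3_of_helper70 hG hN3) (t6_of_helper70 hT6) M hM K hK hK1 hB

end Cfsg.Agent.Helper55.BG14CaseB
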