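import Cfsg.Agent.Helper80.Tor.Defs
import Cfsg.Agent.Helper20.TorDET
import Cfsg.Agent.Helper42.TorIDX
import Cfsg.Agent.Helper33.TorCP
import Cfsg.Agent.Helper85.TorEIG
import Cfsg.Agent.Helper84.TorZA
import Cfsg.Agent.Helper24.TorTORL
import Cfsg.Agent.Helper69.TorCYC

/-!
# S2372/S2375 piece (TCOUNT) of helper80's farm #13336

The twisted torus `twTorus M q` in `(Kˣ)^l` is cyclic of order `N₀`.
-/

set_option autoImplicit false

namespace Cfsg.Agent.Helper55.Tor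

open Cfsg.Agent.Helper18 (zact)
open Polynomial
open Cfsg.Agent.Helper80.Tor

/-- the `ℓ`-torsion of a finite abelian group has order a power of `ℓ` dividing the order of the group -/
theorem tcount_torsion_card {A : Type*} [CommGroup A] [Finite A] (ℓ : ℕ) [Fact ℓ.Prime] :
    ∃ k : ℕ, Nat.card {a : A // a ^ ℓ = 1} = ℓ ^ k ∧ ℓ ^ k ∣ Nat.card A := by
  have e : Nat.card {a : A // a ^ ℓ = 1} = Nat.card ↥(powMonoidHom ℓ : A →* A).ker :=
    Nat.card_congr (Equiv.subtypeEquivRight (fun a => by rw [MonoidHom.mem_ker, powMonoidHom_apply]))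
  have hp : IsPGroup ℓ ↥(powMonoidHom ℓ : A →* A).ker := by
    intro x
    refine ⟨1, ?_⟩
    have hx := x.2
    rw [MonoidHom.mem_ker, powMonoidHom_apply] at hx
    apply Subtype.ext
    rw [pow_one, Subgroup.coe_pow, hx, Subgroup.coe_one]
  obtain ⟨k, hk⟩ := hp.exists_card_eq
  refine ⟨k, by rw [e, hk], ?_⟩
  rw [← hk]
  exact Subgroup.card_subgroup_dvd_card _

/-- (TCOUNT) -/
theorem twTorus_cyclic_card {K : Type*} [Field K] [Fintype K] {l m q N₀ : ℕ} (hq : 2 ≤ q) (hm : 0 < m)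
    (hK : Fintype.card K = q ^ m) (hl : Nat.totient m = l) (M : Matrix (Fin l) (Fin l) ℤ)
    (hM : aeval M (cyclotomic m ℤ) = 0) (g : ℤ[X]) (hN₀ : 0 < N₀)
    (hg : (1 - C (q : ℤ) * X) * g = C (N₀ : ℤ) - C ((q : ℤ) ^ l) * cyclotomic m ℤ)
    (hdvd : N₀ ∣ q ^ m - 1)
    (hgood : ∀ ℓ : ℕ, ℓ.Prime → ℓ ∣ m → ℓ ∣ N₀ → ¬ ℓ ^ 2 ∣ N₀) :
    IsCyclic ↥(twTorus (G := Kˣ) M q) ∧ Nat.card ↥(twTorus (G := Kˣ) M q) = N₀ := by
  have hBA : (1 - (q : ℤ) • M) * aeval M g = (N₀ : ℤ) • (1 : Matrix (Fin l) (Fin l) ℤ) := by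
    have h := congrArg (aeval M) hg
    simp only [map_mul, map_sub, map_one, aeval_C, aeval_X, hM, mul_zero, sub_zero,
      Algebra.algebraMap_eq_smul_one, smul_mul_assoc, one_mul] at h
    exact h
  have hcomm : aeval M g * (1 - (q : ℤ) • M) = (1 - (q : ℤ) • M) * aeval M g := by
    have e : (1 - (q : ℤ) • M) = aeval M (1 - C (q : ℤ) * X) := by
      simp only [map_mul, map_sub, map_one, aeval_C, aeval_X, Algebra.algebraMap_eq_smul_one, smul_mul_assoc,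
        one_mul]
    rw [e, ← map_mul, ← map_mul, mul_comm]
  have hAB : aeval M g * (1 - (q : ℤ) • M) = (N₀ : ℤ) • (1 : Matrix (Fin l) (Fin l) ℤ) := by
    rw [hcomm, hBA]
  have hT : twTorus (G := Kˣ) M q = (zact (1 - (q : ℤ) • M) : (Fin l → Kˣ) →* (Fin l → Kˣ)).ker := by
    ext c
    rw [Cfsg.Agent.Helper84.Tor.mem_twTorus_iff, MonoidHom.mem_ker]
  have hdet : (1 - (q : ℤ) • M).det = N₀ := Cfsg.Agent.Helper20.Tor.det_one_sub_smul (by omega) hm hl M hM g hg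
  have hcard : Nat.card (zact (1 - (q : ℤ) • M) : (Fin l → Kˣ) →* (Fin l → Kˣ)).ker = N₀ := by
    rw [Cfsg.Agent.Helper42.Tor.card_ker_zact_eq (aeval M g) (1 - (q : ℤ) • M) N₀ hN₀ hAB hBA (by rw [hK]; exact hdvd), hdet,
      Int.natAbs_natCast]
  have hchar := Cfsg.Agent.Helper33.Tor.charpoly_eq_cyclotomic hm hl M hM
  rw [hT]
  refine ⟨?_, hcard⟩
  apply Cfsg.Agent.Helper69.Tor.isCyclic_of_card_torsion_le
  intro ℓ hℓ
  have hfact : Fact ℓ.Prime := ⟨hℓ⟩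
  obtain ⟨k, hk, hkd⟩ := tcount_torsion_card
    (A := ↥(zact (1 - (q : ℤ) • M) : (Fin l → Kˣ) →* (Fin l → Kˣ)).ker) ℓ
  rw [hcard] at hkd
  by_cases hℓN : ℓ ∣ N₀
  · by_cases hℓm : ℓ ∣ m
    · have h2 := hgood ℓ hℓ hℓm hℓN
      have hk1 : k ≤ 1 := by
        by_contra hcon
        exact h2 (dvd_trans (pow_dvd_pow ℓ (Nat.lt_of_not_le hcon)) hkd)
      rw [hk]
      calc ℓ ^ k ≤ ℓ ^ 1 := Nat.pow_le_pow_right hℓ.pos hk1
        _ = ℓ := pow_one ℓ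
    · have hℓq : ¬ ℓ ∣ q := by
        intro h
        have h1 : ℓ ∣ q ^ m := dvd_pow h hm.ne'
        have h2 : ℓ ∣ q ^ m - 1 := dvd_trans hℓN hdvd
        have h3 : 1 ≤ q ^ m := Nat.one_le_pow _ _ (by omega)
        have h4 : ℓ ∣ q ^ m - (q ^ m - 1) := Nat.dvd_sub h1 h2
        have h5 : q ^ m - (q ^ m - 1) = 1 := by omega
        rw [h5] at h4
        exact hℓ.one_lt.ne' (Nat.dvd_one.mp h4)
      exact (Cfsg.Agent.Helper24.Tor.card_torsion_ker_le (K := K) (1 - (q : ℤ) • M)).trans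
        (Cfsg.Agent.Helper85.Tor.card_ker_mod_le hm hℓm hℓq M hchar)
  · have hk0 : k = 0 := by
      by_contra hcon
      exact hℓN (dvd_trans (dvd_pow_self ℓ hcon) hkd)
    rw [hk, hk0, pow_zero]
    exact hℓ.one_lt.le

end Cfsg.Agent.Helper55.Tor
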