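import Cfsg.Agent.Helper16.DT.Defs
import Cfsg.Agent.Helper80.Pullback

/-!
# DT farm of helper16 (#13881), leaf (E4C), core

`isCharacter_brauerFull_of_pPrime_image_of` is (E4C) with the leaf (E4) as an explicit hypothesis; the verbatim leaf
`isCharacter_brauerFull_of_pPrime_image` is in `DT_E4C.lean`.
-/

set_option autoImplicit false
set_option linter.unusedSectionVars false
set_option linter.unusedVariables false

namespace Cfsg.Agent.Helper55.DT

open Cfsg Cfsg.Agent.Helper16 Cfsg.Agent.Helper16.DT Polynomial Matrix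

universe u v w

variable {p : ℕ} [Fact p.Prime] {M : Ideal AlgInt} [M.IsMaximal]

/-- (E4C) from (E4): a matrix representation over the residue field all of whose values have order prime to `p` has an
ordinary character as lifted trace function -/
theorem isCharacter_brauerFull_of_pPrime_image_of
    (hE4 : ∀ {Q : Type u} [Group Q] [Finite Q], ¬ p ∣ Nat.card Q →
      ∀ {n : ℕ} (τ : Q →* Matrix (Fin n) (Fin n) (AlgInt ⧸ M)), IsCharacter Q (brauerFull p M τ))
    {H : Type u} [Group H] [Finite H] {n : ℕ} (τ : H →* Matrix (Fin n) (Fin n) (AlgInt ⧸ M))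
    (hτ : ∀ h, ∃ m : ℕ, ¬ p ∣ m ∧ τ h ^ m = 1) : IsCharacter H (brauerFull p M τ) := by
  classical
  have hQ : ¬ p ∣ Nat.card (H ⧸ τ.ker) := by
    intro hdvd
    have : Fintype (H ⧸ τ.ker) := Fintype.ofFinite _
    rw [Nat.card_eq_fintype_card] at hdvd
    obtain ⟨x, hx⟩ := exists_prime_orderOf_dvd_card p hdvd
    obtain ⟨h, rfl⟩ := QuotientGroup.mk_surjective x
    obtain ⟨m, hpm, hm⟩ := hτ h
    have h1 : h ^ m ∈ τ.ker := by
      rw [MonoidHom.mem_ker, map_pow]
      exact hm
    have h2 : (h : H ⧸ τ.ker) ^ m = 1 := by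
      rw [← QuotientGroup.mk_pow]
      exact (QuotientGroup.eq_one_iff _).mpr h1
    have h3 : p ∣ m := by
      rw [← hx]
      exact orderOf_dvd_of_pow_eq_one h2
    exact hpm h3
  have h4 := hE4 hQ (QuotientGroup.lift τ.ker τ (le_refl _))
  exact Cfsg.Agent.Helper80.IsCharacter.comp_hom h4 (QuotientGroup.mk' τ.ker)

end Cfsg.Agent.Helper55.DT
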