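import Cfsg.Agent.Helper16.DT.Defs
import Cfsg.Agent.Helper16.SubsectionCount
import Cfsg.Agent.Helper3.DT_E5A

/-!
# DT farm of helper16 (#13881), leaf (E5B), core

`isCharacter_theta_restrict_of` is (E5B) with the leaf (E4C) as an explicit hypothesis (it uses helper3's landed (E5A));
the verbatim leaf `isCharacter_theta_restrict` is in `DT_E5B.lean`.
-/

set_option autoImplicit false
set_option linter.unusedSectionVars false
set_option linter.unusedVariables false

namespace Cfsg.Agent.Helper55.DT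

open Cfsg Cfsg.Agent.Helper16 Cfsg.Agent.Helper16.DT Polynomial Matrix

universe u v w

variable {p : ℕ} [Fact p.Prime] {M : Ideal AlgInt} [M.IsMaximal] {G : Type u} [Group G]

/-- the `p`-part in a subgroup is the `p`-part in the group -/
theorem E5B_isPPart_coe (E : Subgroup G) (e x : E) (h : IsPPart p e x) : IsPPart p (e : G) (x : G) := by
  obtain ⟨y, hxy, hc, ⟨k, hk⟩, hy⟩ := h
  refine ⟨(y : G), ?_, ?_, ⟨k, ?_⟩, ?_⟩
  · rw [← hxy]
    rfl
  · have := congrArg (Subtype.val : E → G) hc.eq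
    exact this
  · rw [Subgroup.orderOf_coe]
    exact hk
  · rw [Subgroup.orderOf_coe]
    exact hy

/-- (E5B) from (E4C) -/
theorem isCharacter_theta_restrict_of
    (hE4C : ∀ {H : Type u} [Group H] [Finite H] {n : ℕ} (τ : H →* Matrix (Fin n) (Fin n) (AlgInt ⧸ M)),
      (∀ h, ∃ m : ℕ, ¬ p ∣ m ∧ τ h ^ m = 1) → IsCharacter H (brauerFull p M τ))
    [Fintype G] {n : ℕ}
    (ρ : G →* Matrix (Fin n) (Fin n) (AlgInt ⧸ M)) (E : Subgroup G) (q : ℕ) (hq : q.Prime)
    (hE : IsElementary q E) :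
    IsCharacter E (fun e : E => brauerFull p M ρ ((pPartOf p (e : G))⁻¹ * (e : G))) := by
  obtain ⟨π, hπ⟩ := Cfsg.Agent.Helper3.DT.exists_pPrime_hom_of_isElementary (p := p) (E := E) q hq hE
  have h1 : ∀ e : E, (pPartOf p (e : G))⁻¹ * (e : G) = ((π e : E) : G) := by
    intro e
    have h2 : pPartOf p (e : G) = ((e * (π e)⁻¹ : E) : G) :=
      (pPartOf_eq_iff (e : G) _).mpr (E5B_isPPart_coe E e _ (hπ e))
    rw [h2]
    push_cast
    group
  have h3 : ∀ e : E, ¬ p ∣ orderOf (π e) := by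
    intro e
    obtain ⟨y, hxy, -, -, hy⟩ := hπ e
    have hyπ : y = π e := by
      have : e * (π e)⁻¹ * y = e * (π e)⁻¹ * π e := by rw [hxy]; group
      exact mul_left_cancel this
    rw [← hyπ]
    exact hy
  have h4 := hE4C (ρ.comp (E.subtype.comp π)) (fun e => ⟨orderOf (π e), h3 e, by
    show ρ ((π e : E) : G) ^ orderOf (π e) = 1
    rw [← map_pow, ← Subgroup.coe_pow, pow_orderOf_eq_one, Subgroup.coe_one, map_one]⟩)
  have h5 : (fun e : E => brauerFull p M ρ ((pPartOf p (e : G))⁻¹ * (e : G))) =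
      brauerFull p M (ρ.comp (E.subtype.comp π)) := by
    funext e
    rw [h1 e]
    rfl
  rw [h5]
  exact h4

end Cfsg.Agent.Helper55.DT
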