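import Mathlib
import Cfsg.Agent.Helper61.W2pDefs
import Cfsg.Agent.Helper78.Kernel
import Cfsg.Agent.Helper79.CharBasic

/-!
# Piece (FA) of S0720 (helper61, board #7019): the non-principal constituents of the permutation
character of a primitive faithful group are faithful.
-/

set_option autoImplicit false

namespace Cfsg.Agent.Helper55.W2p

open Cfsg Cfsg.Agent.Helper61.W2p
open scoped ComplexConjugate

variable {G : Type*} [Group G] [Fintype G] {Ω : Type*} [Fintype Ω] [MulAction G Ω] {p : ℕ}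

/-- (FA) the non-principal constituents of the permutation character are faithful -/
theorem faithful_of_constituent (S : Setup G Ω p) (χ : G → ℂ) (hχ : IsIrrCharacter G χ)
    (h1 : χ ≠ fun _ => 1) (hc : classInner (pc G Ω) χ ≠ 0) : ∀ g : G, χ g = χ 1 → g = 1 := by
  classical
  intro g hg
  by_contra hg1
  have hχ' := hχ
  obtain ⟨n, ρ, hirr, hρ⟩ := hχ
  -- the kernel
  let K : Subgroup G := MonoidHom.ker (ρ : G →* ((Fin n → ℂ) →ₗ[ℂ] (Fin n → ℂ)))
  have hKn : K.Normal := MonoidHom.normal_ker _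
  have hgK : g ∈ K := by
    rw [MonoidHom.mem_ker]
    exact Helper78.rep_eq_one_of_character_eq ρ g (by rw [hρ]; exact hg)
  have hχK : ∀ k : K, χ (k : G) = χ 1 := by
    intro k
    have hk : ρ (k : G) = 1 := MonoidHom.mem_ker.mp k.2
    rw [← hρ]
    have h1' : ρ (1 : G) = 1 := map_one ρ
    unfold Representation.character
    rw [hk, h1']
  -- transitivity of `K`
  haveI := S.hprim
  haveI := S.hfaith
  have hfp : MulAction.fixedPoints K Ω ≠ Set.univ := by
    intro htop
    apply hg1
    apply FaithfulSMul.eq_of_smul_eq_smul (α := Ω)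
    intro a
    have ha : a ∈ MulAction.fixedPoints K Ω := by rw [htop]; trivial
    rw [one_smul]
    exact ha ⟨g, hgK⟩
  haveI : MulAction.IsPretransitive K Ω :=
    MulAction.IsQuasiPreprimitive.isPretransitive_of_normal (G := G) (N := K) hfp
  haveI : MulAction.IsPretransitive G Ω := S.hprim.toIsPretransitive
  have hΩ : 0 < Fintype.card Ω := by
    rw [S.hcard]
    exact Nat.mul_pos (by norm_num) S.hp.pos
  obtain ⟨a⟩ : Nonempty Ω := Fintype.card_pos_iff.mp hΩ
  haveI : Finite (IrrCharacter G) := Helper79.irr_finite'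
  haveI : Fintype (IrrCharacter G) := Fintype.ofFinite _
  have hKne : (Nat.card K : ℂ) ≠ 0 := by exact_mod_cast Nat.card_pos.ne'
  -- Burnside for `K`
  have hA : ∑ k : K, pc G Ω (k : G) = (Nat.card K : ℂ) := by
    have h := Helper12.PermCharBasics.classInner_permChar_one (G := K) (Ω := Ω) a
    unfold classInner at h
    simp only [map_one, mul_one] at h
    have h' : ∑ k : K, Helper12.PermCharBasics.permChar K Ω k = (Nat.card K : ℂ) := by
      have := congrArg (fun z => (Nat.card K : ℂ) * z) h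
      simp only [mul_one] at this
      rw [← mul_assoc, mul_inv_cancel₀ hKne, one_mul] at this
      exact this
    rw [← h']
    rfl
  -- the decomposition of the permutation character
  have hdec := Helper74.isCharacter_eq_sum_irr
    (Helper12.PermCharBasics.permChar_isCharacter (G := G) (Ω := Ω))
  have hdec' : ∀ x : G, pc G Ω x =
      ∑ ψ : IrrCharacter G, (Helper12.PermCharBasics.mult Ω ψ : ℂ) * (ψ : G → ℂ) x := by
    intro x
    have := congrFun hdec x
    simp only [Finset.sum_apply, Pi.smul_apply, smul_eq_mul,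
      Helper12.PermCharBasics.mult_spec] at this
    exact this
  -- averages over `K`
  have hn : ∀ ψ : IrrCharacter G, ∃ m : ℕ,
      ∑ k : K, (ψ : G → ℂ) (k : G) = (Nat.card K : ℂ) * m := by
    intro ψ
    obtain ⟨m, hm⟩ := Helper74.isCharacter_inner_irr_nat
      (Helper74.isCharacter_restrict K (Helper74.irr_isCharacter ψ)) (Helper74.irrTriv K)
    refine ⟨m, ?_⟩
    unfold classInner at hm
    simp only [Helper74.irrTriv_apply, map_one, mul_one] at hm
    rw [← hm, ← mul_assoc, mul_inv_cancel₀ hKne, one_mul]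
  choose nn hnn using hn
  have hsum : (1 : ℂ) = ∑ ψ : IrrCharacter G,
      (Helper12.PermCharBasics.mult Ω ψ : ℂ) * (nn ψ : ℂ) := by
    have h2 : ∑ k : K, pc G Ω (k : G) = ∑ ψ : IrrCharacter G,
        (Helper12.PermCharBasics.mult Ω ψ : ℂ) * ((Nat.card K : ℂ) * nn ψ) := by
      simp only [hdec']
      rw [Finset.sum_comm]
      refine Finset.sum_congr rfl (fun ψ _ => ?_)
      rw [← Finset.mul_sum, hnn]
    rw [hA] at h2
    have h3 : (Nat.card K : ℂ) * 1 = (Nat.card K : ℂ) * ∑ ψ : IrrCharacter G,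
        (Helper12.PermCharBasics.mult Ω ψ : ℂ) * (nn ψ : ℂ) := by
      rw [mul_one, Finset.mul_sum]
      refine h2.trans (Finset.sum_congr rfl (fun ψ _ => ?_))
      ring
    exact mul_left_cancel₀ hKne h3
  have hsumN : 1 = ∑ ψ : IrrCharacter G, Helper12.PermCharBasics.mult Ω ψ * nn ψ := by
    exact_mod_cast hsum
  -- two different terms
  set ψ₀ : IrrCharacter G := Helper74.irrTriv G with hψ₀
  set ψ₁ : IrrCharacter G := ⟨χ, hχ'⟩ with hψ₁
  have hne : ψ₁ ≠ ψ₀ := by
    intro h
    apply h1
    have := congrArg Subtype.val h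
    exact this
  have hm0 : Helper12.PermCharBasics.mult Ω ψ₀ = 1 := Helper12.PermCharBasics.mult_irrTriv a
  have hn0 : nn ψ₀ = 1 := by
    have := hnn ψ₀
    simp only [hψ₀, Helper74.irrTriv_apply, Finset.sum_const, Finset.card_univ,
      nsmul_eq_mul, mul_one] at this
    rw [← Nat.card_eq_fintype_card] at this
    have h4 : (Nat.card K : ℂ) * 1 = (Nat.card K : ℂ) * (nn (Helper74.irrTriv G) : ℂ) := by
      rw [mul_one]; exact this
    have h5 := mul_left_cancel₀ hKne h4
    exact_mod_cast h5.symm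
  have hm1 : Helper12.PermCharBasics.mult Ω ψ₁ ≠ 0 := by
    intro h
    apply hc
    have := Helper12.PermCharBasics.mult_spec (Ω := Ω) ψ₁
    rw [h, Nat.cast_zero] at this
    exact this
  have hn1 : nn ψ₁ ≠ 0 := by
    intro h
    have h4 := hnn ψ₁
    rw [h, Nat.cast_zero, mul_zero] at h4
    have h5 : ∑ k : K, (ψ₁ : G → ℂ) (k : G) = (Nat.card K : ℂ) * χ 1 := by
      have : ∀ k : K, (ψ₁ : G → ℂ) (k : G) = χ 1 := fun k => hχK k
      simp only [this, Finset.sum_const, Finset.card_univ, nsmul_eq_mul]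
      rw [← Nat.card_eq_fintype_card]
    rw [h5] at h4
    rcases mul_eq_zero.mp h4 with h6 | h6
    · exact hKne h6
    · exact Helper78.irrChar_one_ne_zero hχ' h6
  have hge : Helper12.PermCharBasics.mult Ω ψ₀ * nn ψ₀ + Helper12.PermCharBasics.mult Ω ψ₁ * nn ψ₁ ≤
      ∑ ψ : IrrCharacter G, Helper12.PermCharBasics.mult Ω ψ * nn ψ := by
    rw [← Finset.add_sum_erase Finset.univ _ (Finset.mem_univ ψ₀)]
    apply Nat.add_le_add_left
    exact Finset.single_le_sum (f := fun ψ => Helper12.PermCharBasics.mult Ω ψ * nn ψ)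
      (fun _ _ => Nat.zero_le _) (Finset.mem_erase.mpr ⟨hne, Finset.mem_univ ψ₁⟩)
  rw [hm0, hn0] at hge
  have : 1 ≤ Helper12.PermCharBasics.mult Ω ψ₁ * nn ψ₁ :=
    Nat.one_le_iff_ne_zero.mpr (Nat.mul_ne_zero hm1 hn1)
  omega

end Cfsg.Agent.Helper55.W2p
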