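import Mathlib
import Cfsg.Prelude.Def_Solvable
import Cfsg.Agent.S0027
import Cfsg.Agent.Lib.Cores
import Cfsg.Agent.Helper21.Fitting
import Cfsg.Agent.Helper71.ShultNil
import Cfsg.Agent.Helper63.BG13F

set_option autoImplicit false
set_option linter.unusedSectionVars false
set_option linter.unusedVariables false
set_option linter.style.haveILetI false

/-!
# Shult's theorem with a solvable target (helper55; piece [P5] of helper70's plan #3585)

`commutator_le_centralizer_of_fpf_solvable`: `K` solvable, `A₁` of prime order `p` normalizing `R`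
and `K`, `R` a `p'`-group normalizing `K`, `R A₁` solvable of odd order prime to `|K|`, and
`C_K(A₁) = 1`.  Then `[R, A₁]` centralizes `K`.

Reduction to the nilpotent case (`Helper71.ShultNil.commutator_le_centralizer_of_fpf`) applied to
`F(K)`: `D = [R, A₁]` centralizes `F(K)`; by the three subgroups lemma `[K, D]` centralizes `F(K)`,
so `[K, D] ≤ C_K(F(K)) ≤ F(K)`; hence `[K, D, D] = 1` and `[K, D] = [K, D, D] = 1` (coprime action).
-/

namespace Cfsg.Agent.Helper55.ShultSolv

open Subgroup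
open scoped commutatorElement

variable {X : Type*} [Group X] [Finite X]

/-- `C_K(F(K)) ≤ F(K)` for a solvable subgroup `K`, inside the ambient group. -/
theorem inf_centralizer_fitting_le (K : Subgroup X) (hKsolv : Group.IsSolvable ↥K) :
    K ⊓ centralizer (((Cfsg.fittingSubgroup ↥K).map K.subtype : Subgroup X) : Set X) ≤
      (Cfsg.fittingSubgroup ↥K).map K.subtype := by
  haveI : (Cfsg.fittingSubgroup ↥K).Normal := Cfsg.Agent.Helper21.fittingSubgroup_normal
  have hCn : (centralizer ((Cfsg.fittingSubgroup ↥K : Subgroup ↥K) : Set ↥K)).Normal :=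
    Subgroup.normal_centralizer
  have hCs : Group.IsSolvable ↥(centralizer ((Cfsg.fittingSubgroup ↥K : Subgroup ↥K) : Set ↥K)) :=
    Group.isSolvable_of_isSolvable_injective (Subgroup.subtype_injective _)
  have hle := Cfsg.Agent.Helper21.le_fittingSubgroup_of_isSolvable_of_le_centralizer
    (Nat.card ↥(centralizer ((Cfsg.fittingSubgroup ↥K : Subgroup ↥K) : Set ↥K)))
    (centralizer ((Cfsg.fittingSubgroup ↥K : Subgroup ↥K) : Set ↥K)) le_rfl hCn hCs le_rfl
  rintro x ⟨hxK, hxC⟩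
  refine ⟨⟨x, hxK⟩, hle ?_, rfl⟩
  rw [Subgroup.mem_centralizer_iff]
  intro f hf
  apply Subtype.ext
  exact (Subgroup.mem_centralizer_iff.mp hxC) (f : X) ⟨f, hf, rfl⟩

/-- **Shult's theorem, solvable target.** -/
theorem commutator_le_centralizer_of_fpf_solvable (K R A₁ : Subgroup X)
    (hKsolv : Group.IsSolvable ↥K) {p : ℕ} (hp : p.Prime) (hA₁ : Nat.card A₁ = p)
    (hAR : A₁ ≤ normalizer (R : Set X)) (hRK : R ≤ normalizer (K : Set X))
    (hAK : A₁ ≤ normalizer (K : Set X))
    (hsolv : Group.IsSolvable ↥(R ⊔ A₁)) (hodd : Odd (Nat.card ↥(R ⊔ A₁)))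
    (hcop : (Nat.card ↥(R ⊔ A₁)).Coprime (Nat.card K)) (hpR : ¬ p ∣ Nat.card R)
    (hfpf : K ⊓ centralizer (A₁ : Set X) = ⊥) : ⁅R, A₁⁆ ≤ centralizer (K : Set X) := by
  classical
  set F : Subgroup X := (Cfsg.fittingSubgroup ↥K).map K.subtype with hF
  have hFK : F ≤ K := map_subtype_le _
  haveI hFc : (Cfsg.fittingSubgroup ↥K).Characteristic :=
    Cfsg.Agent.Lib.fittingSubgroup_characteristic
  have hNF : normalizer (K : Set X) ≤ normalizer (F : Set X) :=
    Cfsg.Agent.Helper71.ShultNil.normalizer_le_normalizer_map_of_characteristic K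
      (Cfsg.fittingSubgroup ↥K)
  have hFnil : Group.IsNilpotent ↥F := by
    haveI : Group.IsNilpotent ↥(Cfsg.fittingSubgroup ↥K) :=
      Cfsg.Agent.Lib.isNilpotent_fittingSubgroup
    exact Group.nilpotent_of_mulEquiv
      ((Cfsg.fittingSubgroup ↥K).equivMapOfInjective K.subtype K.subtype_injective)
  set D : Subgroup X := ⁅R, A₁⁆ with hD
  -- `D` centralizes `F`
  have hDF : D ≤ centralizer (F : Set X) := by
    apply Cfsg.Agent.Helper71.ShultNil.commutator_le_centralizer_of_fpf F R A₁ hFnil hp hA₁ hAR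
      (hRK.trans hNF) (hAK.trans hNF) hsolv hodd
      (Nat.Coprime.coprime_dvd_right (Subgroup.card_dvd_of_le hFK) hcop) hpR
    rw [eq_bot_iff, ← hfpf]
    exact inf_le_inf_right _ hFK
  have hDR : D ≤ R := Cfsg.Agent.Helper63.BG13F.commutator_le_left_of_le_normalizer hAR
  have hDK : D ≤ normalizer (K : Set X) := hDR.trans hRK
  -- three subgroups lemma
  have h1 : ⁅⁅D, F⁆, K⁆ = ⊥ := by
    rw [Subgroup.commutator_eq_bot_iff_le_centralizer.mpr hDF]
    exact Subgroup.commutator_bot_left K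
  have hKF : K ≤ normalizer (F : Set X) := Subgroup.le_normalizer.trans hNF
  have h2 : ⁅⁅F, K⁆, D⁆ = ⊥ := by
    have h3 : ⁅F, K⁆ ≤ F := Cfsg.Agent.Helper63.BG13F.commutator_le_left_of_le_normalizer hKF
    have h4 : ⁅F, D⁆ = ⊥ := by
      rw [Subgroup.commutator_comm]
      exact Subgroup.commutator_eq_bot_iff_le_centralizer.mpr hDF
    rw [eq_bot_iff, ← h4]
    exact Subgroup.commutator_mono h3 le_rfl
  have h5 : ⁅⁅K, D⁆, F⁆ = ⊥ := Subgroup.commutator_commutator_eq_bot_of_rotate h1 h2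
  have h6 : ⁅K, D⁆ ≤ centralizer (F : Set X) := Subgroup.commutator_eq_bot_iff_le_centralizer.mp h5
  have h7 : ⁅K, D⁆ ≤ K := Cfsg.Agent.Helper63.BG13F.commutator_le_left_of_le_normalizer hDK
  have h8 : ⁅K, D⁆ ≤ F := (le_inf h7 h6).trans (inf_centralizer_fitting_le K hKsolv)
  have h9 : ⁅⁅K, D⁆, D⁆ = ⊥ := by
    have h4 : ⁅F, D⁆ = ⊥ := by
      rw [Subgroup.commutator_comm]
      exact Subgroup.commutator_eq_bot_iff_le_centralizer.mpr hDF
    rw [eq_bot_iff, ← h4]
    exact Subgroup.commutator_mono h8 le_rfl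
  have hcopD : (Nat.card D).Coprime (Nat.card K) :=
    Nat.Coprime.coprime_dvd_left (Subgroup.card_dvd_of_le (hDR.trans le_sup_left)) hcop
  have h10 := Cfsg.Agent.S0027.result D K hDK hcopD (Or.inr hKsolv)
  rw [h9] at h10
  rw [← Subgroup.commutator_eq_bot_iff_le_centralizer, Subgroup.commutator_comm]
  exact h10.symm

/-- The Frobenius fact of STEP 2: if `Y = [Y, P]` and `C_K(P) = 1` then `Y` centralizes `K`. -/
theorem le_centralizer_of_fpf_of_commutator_eq (K Y P : Subgroup X)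
    (hKsolv : Group.IsSolvable ↥K) {p : ℕ} (hp : p.Prime) (hP : Nat.card P = p)
    (hPY : P ≤ normalizer (Y : Set X)) (hYK : Y ≤ normalizer (K : Set X))
    (hPK : P ≤ normalizer (K : Set X))
    (hsolv : Group.IsSolvable ↥(Y ⊔ P)) (hodd : Odd (Nat.card ↥(Y ⊔ P)))
    (hcop : (Nat.card ↥(Y ⊔ P)).Coprime (Nat.card K)) (hpY : ¬ p ∣ Nat.card Y)
    (hYP : ⁅Y, P⁆ = Y)
    (hfpf : K ⊓ centralizer (P : Set X) = ⊥) : Y ≤ centralizer (K : Set X) := by
  have := commutator_le_centralizer_of_fpf_solvable K Y P hKsolv hp hP hPY hYK hPK hsolv hodd hcop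
    hpY hfpf
  rwa [hYP] at this

end Cfsg.Agent.Helper55.ShultSolv
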