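-- helper55: piece (QF) of helper84's S2282 (#8821): the opposite radical `Q_{f_1} = n Q_{e_1} n`.
import Mathlib
import Cfsg.Agent.Helper84.RUn.Defs
import Cfsg.Agent.Helper41.RUnNH

set_option autoImplicit false
set_option linter.unusedSectionVars false

namespace Cfsg.Agent.Helper55.RUn

open Matrix Cfsg.Agent.Helper84.RUn Cfsg.Agent.Helper84.PSU

variable {K : Type*} [Field K] {j : ℕ}

local notation "Vec" => (I (j + 2) 1 → K)
local notation "Mat" => Matrix (I (j + 2) 1) (I (j + 2) 1) K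
local notation "Mk" => Matrix (Fin (j + 2)) (Fin (j + 2)) K

/-- `n e_1 = f_1` -/
theorem nM_vE1 : (nM : Mat) *ᵥ (vE i1 : Vec) = vF i1 := by
  rw [Cfsg.Agent.Helper41.RUn.nM_mulVec]
  funext y
  have h12 : (i1 : Fin (j + 2)) ≠ i2 := Cfsg.Agent.Helper41.RUn.i1_ne_i2
  simp only [vE, vF, bv_apply]
  by_cases h1 : y = eI i1
  · subst h1
    simp
  · by_cases h2 : y = fI i1
    · subst h2
      simp
    · by_cases h3 : y = eI i2
      · subst h3
        simp
      · by_cases h4 : y = fI i2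
        · subst h4
          simp [h12.symm]
        · simp [h1, h2, h3, h4]

/-- `n` is an involution on vectors -/
theorem nM_nM_mulVec (x : Vec) : (nM : Mat) *ᵥ ((nM : Mat) *ᵥ x) = x := by
  rw [Matrix.mulVec_mulVec, Cfsg.Agent.Helper41.RUn.nM_mul_nM, Matrix.one_mulVec]

/-- `n` preserves `V'` -/
theorem inV'_nM (x : Vec) (hx : InV' x) : InV' ((nM : Mat) *ᵥ x) := by
  rw [Cfsg.Agent.Helper41.RUn.nM_mulVec]
  obtain ⟨h1, h2⟩ := hx
  refine ⟨?_, ?_⟩
  · simp [h2]
  · simp [h1]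

variable (bar : K →+* K) (hb : ∀ x, bar (bar x) = x)

set_option quotPrecheck false in
local notation "SUk" => ↥(SUm (j + 2) 1 bar)

include hb in
theorem hasM_eich_f (H : Subgroup SUk) (hn : HasM bar H (nM : Mat))
    (h : ∀ (x : Vec) (z : K), InV' x → z + bar z + hf bar x x = 0 → HasM bar H (eichM bar (vE i1) x z)) :
    ∀ (x : Vec) (z : K), InV' x → z + bar z + hf bar x x = 0 → HasM bar H (eichM bar (vF i1) x z) := by
  intro x z hx hz
  have hU : IsU bar (nM : Mat) := Cfsg.Agent.Helper41.RUn.isU_nM bar hb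
  have hx' : InV' ((nM : Mat) *ᵥ x) := inV'_nM x hx
  have hz' : z + bar z + hf bar ((nM : Mat) *ᵥ x) ((nM : Mat) *ᵥ x) = 0 := by
    rw [hU x x]; exact hz
  have hE := h _ z hx' hz'
  have hconj := conj_eichM bar hU Cfsg.Agent.Helper41.RUn.nM_mul_nM (vE i1) ((nM : Mat) *ᵥ x) z
  rw [nM_vE1, nM_nM_mulVec] at hconj
  rw [← hconj]
  exact HasM.mul bar (HasM.mul bar hn hE) hn

end Cfsg.Agent.Helper55.RUn
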