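-- helper55: piece (SPAN) of helper84's S2282 (#8830): `f_2` is a cyclic vector of `UW'` on `V'`.
import Mathlib
import Cfsg.Agent.Helper84.RUn.Defs
import Cfsg.Agent.Helper41.RUnNH
import Cfsg.Agent.Helper81.RUnUWP

set_option autoImplicit false
set_option linter.unusedSectionVars false

namespace Cfsg.Agent.Helper55.RUn

open Matrix Cfsg.Agent.Helper84.RUn Cfsg.Agent.Helper84.PSU

/-- the iterates `N^k v`, `k ≤ n`, of a vector with `N^n v ≠ 0 = N^{n+1} v` are independent -/
theorem linearIndependent_iterate_of_top {F V : Type*} [Field F] [AddCommGroup V] [Module F V]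
    (N : V →ₗ[F] V) (v : V) (n : ℕ) (h1 : (N ^ n) v ≠ 0) (h2 : (N ^ (n + 1)) v = 0) :
    LinearIndependent F (fun k : Fin (n + 1) => (N ^ (k : ℕ)) v) := by
  rw [Fintype.linearIndependent_iff]
  intro g hg
  have hz : ∀ m, n + 1 ≤ m → (N ^ m) v = 0 := by
    intro m hm
    obtain ⟨d, rfl⟩ := Nat.exists_eq_add_of_le hm
    rw [add_comm, pow_add, Module.End.mul_apply, h2, map_zero]
  have key : ∀ m (hm : m < n + 1), g ⟨m, hm⟩ = 0 := by
    intro m
    induction m using Nat.strong_induction_on with
    | _ m ih =>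
      intro hm
      have h3 := congrArg (N ^ (n - m)) hg
      rw [map_sum, map_zero] at h3
      rw [Finset.sum_eq_single (⟨m, hm⟩ : Fin (n + 1))] at h3
      · rw [map_smul, ← Module.End.mul_apply, ← pow_add] at h3
        have h4 : n - m + m = n := by omega
        simp only [h4] at h3
        rcases smul_eq_zero.mp h3 with h | h
        · exact h
        · exact absurd h h1
      · intro i _ hi
        rw [map_smul, ← Module.End.mul_apply, ← pow_add]
        rcases lt_or_gt_of_ne (fun h => hi (Fin.ext h) : (i : ℕ) ≠ m) with h | h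
        · have := ih i h i.2
          rw [Fin.eta] at this
          rw [this, zero_smul]
        · rw [hz _ (by omega), smul_zero]
      · intro h
        exact absurd (Finset.mem_univ _) h
  intro i
  have := key i i.2
  rwa [Fin.eta] at this

variable {K : Type*} [Field K] {j : ℕ}

local notation "Vec" => (I (j + 2) 1 → K)
local notation "Mat" => Matrix (I (j + 2) 1) (I (j + 2) 1) K
local notation "Mk" => Matrix (Fin (j + 2)) (Fin (j + 2)) K

/-- the two indices `e_1`, `f_1` -/
def iota2 (j : ℕ) : Fin 2 → I (j + 2) 1 := ![eI i1, fI i1]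

theorem iota2_injective : Function.Injective (iota2 j) := by
  intro a b h
  fin_cases a <;> fin_cases b <;> simp [iota2] at h ⊢

/-- `V'` as a submodule -/
def subV' (K : Type*) [Field K] (j : ℕ) : Submodule K (I (j + 2) 1 → K) :=
  LinearMap.ker (LinearMap.funLeft K K (iota2 j))

theorem mem_subV' (x : Vec) : x ∈ subV' K j ↔ InV' x := by
  rw [subV', LinearMap.mem_ker]
  constructor
  · intro h
    refine ⟨?_, ?_⟩
    · have := congrFun h 0
      simpa [LinearMap.funLeft_apply, iota2] using this
    · have := congrFun h 1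
      simpa [LinearMap.funLeft_apply, iota2] using this
  · rintro ⟨h1, h2⟩
    funext a
    fin_cases a
    · simpa [LinearMap.funLeft_apply, iota2] using h1
    · simpa [LinearMap.funLeft_apply, iota2] using h2

theorem finrank_subV' : Module.finrank K (subV' K j) = 2 * j + 3 := by
  have h1 := LinearMap.finrank_range_add_finrank_ker (LinearMap.funLeft K K (iota2 j))
  have h2 : LinearMap.range (LinearMap.funLeft K K (iota2 j)) = ⊤ :=
    LinearMap.range_eq_top.mpr (LinearMap.funLeft_surjective_of_injective K K _ iota2_injective)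
  rw [h2, finrank_top] at h1
  simp only [Module.finrank_fintype_fun_eq_card, Fintype.card_sum, Fintype.card_fin] at h1
  rw [subV']
  omega

variable (bar : K →+* K)

/-- the nilpotent part of `UW'` as a linear map -/
def NUlin (c : K) : Vec →ₗ[K] Vec := Matrix.mulVecLin (UWM bar c) - LinearMap.id

theorem NUlin_apply (c : K) (x : Vec) : NUlin bar c x = NU bar c x := by
  simp [NUlin, NU]

theorem NUlin_pow_apply (c : K) (k : ℕ) (x : Vec) : (NUlin bar c ^ k) x = (NU bar c)^[k] x := by
  have h : ⇑(NUlin (j := j) bar c) = NU (j := j) bar c := funext (NUlin_apply (j := j) bar c)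
  rw [Module.End.pow_apply, h]

theorem inV'_vF2 : InV' (vF i2 : Vec) := by
  have h12 : (i1 : Fin (j + 2)) ≠ i2 := Cfsg.Agent.Helper41.RUn.i1_ne_i2
  refine ⟨?_, ?_⟩
  · simp [vF, bv_apply]
  · simp [vF, bv_apply, h12]

/-- (SPAN), with the facts of (UWP) that it uses as hypotheses -/
theorem span_NU_core (c : K) (hV : ∀ x : Vec, InV' x → InV' (NU bar c x))
    (htop : (NU bar c)^[2 * j + 2] (vF i2 : Vec) ≠ 0)
    (hzero : (NU bar c)^[2 * j + 3] (vF i2 : Vec) = 0)
    (S : Submodule K Vec) (h2 : (vF i2 : Vec) ∈ S) (hS : ∀ x ∈ S, UWM bar c *ᵥ x ∈ S) :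
    ∀ x : Vec, InV' x → x ∈ S := by
  have hli := linearIndependent_iterate_of_top (NUlin bar c) (vF i2 : Vec) (2 * j + 2)
    (by rw [NUlin_pow_apply]; exact htop) (by rw [NUlin_pow_apply]; exact hzero)
  have hSN : ∀ x ∈ S, NU bar c x ∈ S := fun x hx => S.sub_mem (hS x hx) hx
  have hmemS : ∀ k : ℕ, (NU bar c)^[k] (vF i2 : Vec) ∈ S := by
    intro k
    induction k with
    | zero => exact h2
    | succ k ih => rw [Function.iterate_succ_apply']; exact hSN _ ih
  have hmemV : ∀ k : ℕ, InV' ((NU bar c)^[k] (vF i2 : Vec)) := by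
    intro k
    induction k with
    | zero => exact inV'_vF2
    | succ k ih => rw [Function.iterate_succ_apply']; exact hV _ ih
  set u : Fin (2 * j + 2 + 1) → Vec := fun k => (NUlin bar c ^ (k : ℕ)) (vF i2 : Vec) with hu
  have hle1 : Submodule.span K (Set.range u) ≤ subV' K j := by
    rw [Submodule.span_le]
    rintro _ ⟨k, rfl⟩
    rw [SetLike.mem_coe, mem_subV', hu]
    simp only
    rw [NUlin_pow_apply]
    exact hmemV _
  have hle2 : Submodule.span K (Set.range u) ≤ S := by
    rw [Submodule.span_le]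
    rintro _ ⟨k, rfl⟩
    rw [SetLike.mem_coe, hu]
    simp only
    rw [NUlin_pow_apply]
    exact hmemS _
  have hfr : Module.finrank K (Submodule.span K (Set.range u)) = Module.finrank K (subV' K j) := by
    rw [finrank_span_eq_card hli, finrank_subV', Fintype.card_fin]
  have heq := Submodule.eq_of_le_of_finrank_eq hle1 hfr
  intro x hx
  apply hle2
  rw [heq, mem_subV']
  exact hx

theorem vE2_ne_zero : (vE i2 : Vec) ≠ 0 := by
  intro h
  have := congrFun h (eI i2)
  simp [vE, bv_apply] at this

/-- (SPAN) `f_2` is a cyclic vector of `UW'` on `V'` -/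
theorem span_NU (c : K) (S : Submodule K Vec) (h2 : (vF i2 : Vec) ∈ S)
    (hS : ∀ x ∈ S, UWM bar c *ᵥ x ∈ S) : ∀ x : Vec, InV' x → x ∈ S := by
  refine span_NU_core bar c (Cfsg.Agent.Helper81.RUn.NU_inV' bar c) ?_
    (Cfsg.Agent.Helper81.RUn.NU_iter_zero bar c _ inV'_vF2) S h2 hS
  rw [Cfsg.Agent.Helper81.RUn.NU_iter_top bar c _ inV'_vF2]
  intro h
  rcases smul_eq_zero.mp h with h | h
  · have h1 : (vF i2 : Vec) (fI i2) = 1 := by simp [vF, bv_apply]
    rw [h1, mul_one] at h
    exact absurd h (pow_ne_zero _ (neg_ne_zero.mpr one_ne_zero))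
  · exact vE2_ne_zero h

end Cfsg.Agent.Helper55.RUn
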