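-- helper55: piece (ALG) of helper84's S2282 (#8830): the `K`-structure of `Λ` comes from the parameter `c`.
import Mathlib
import Cfsg.Agent.Helper84.RUn.Defs
import Cfsg.Agent.Helper41.RUnNH
import Cfsg.Agent.Helper81.RUnUWP
import Cfsg.Agent.Helper55.RUnQF
import Cfsg.Agent.Helper55.RUnSPAN

set_option autoImplicit false
set_option linter.unusedSectionVars false

namespace Cfsg.Agent.Helper55.RUn

open Matrix Cfsg.Agent.Helper84.RUn Cfsg.Agent.Helper84.PSU

variable {K : Type*} [Field K] {j : ℕ}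

local notation "Vec" => (I (j + 2) 1 → K)
local notation "Mat" => Matrix (I (j + 2) 1) (I (j + 2) 1) K
local notation "Mk" => Matrix (Fin (j + 2)) (Fin (j + 2)) K

/-- `n e_2 = f_2` -/
theorem nM_vE2 : (nM : Mat) *ᵥ (vE i2 : Vec) = vF i2 := by
  rw [Cfsg.Agent.Helper41.RUn.nM_mulVec]
  funext y
  have h12 : (i1 : Fin (j + 2)) ≠ i2 := Cfsg.Agent.Helper41.RUn.i1_ne_i2
  simp only [vE, vF, bv_apply]
  by_cases h1 : y = eI i1
  · subst h1
    simp
  · by_cases h2 : y = fI i1
    · subst h2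
      simp [h12]
    · by_cases h3 : y = eI i2
      · subst h3
        simp
      · by_cases h4 : y = fI i2
        · subst h4
          simp [h12.symm]
        · simp [h1, h2, h3, h4]

/-- the `f_2`-coordinate of `n x` is the `e_2`-coordinate of `x` -/
theorem nM_mulVec_fI2 (x : Vec) : ((nM : Mat) *ᵥ x) (fI i2) = x (eI i2) := by
  have h12 : (i1 : Fin (j + 2)) ≠ i2 := Cfsg.Agent.Helper41.RUn.i1_ne_i2
  rw [Cfsg.Agent.Helper41.RUn.nM_mulVec]
  simp [h12.symm]

theorem inV'_smul (a : K) (x : Vec) (hx : InV' x) : InV' (a • x) := by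
  obtain ⟨h1, h2⟩ := hx
  exact ⟨by simp [h1], by simp [h2]⟩

variable (bar : K →+* K)

theorem NU_iter_smul (c a : K) (k : ℕ) (x : Vec) :
    (NU bar c)^[k] (a • x) = a • (NU bar c)^[k] x := by
  induction k with
  | zero => rfl
  | succ k ih =>
    rw [Function.iterate_succ_apply', Function.iterate_succ_apply', ih,
      Cfsg.Agent.Helper81.RUn.NU_smul]

theorem NU_iter_inV' (c : K) (k : ℕ) (x : Vec) (hx : InV' x) : InV' ((NU bar c)^[k] x) := by
  induction k with
  | zero => exact hx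
  | succ k ih =>
    rw [Function.iterate_succ_apply']
    exact Cfsg.Agent.Helper81.RUn.NU_inV' bar c _ ih

/-- (ALG) the algebra lemma: the `K`-structure comes from `c` -/
theorem alg_lemma {c : K} (hgen : ∀ A : AddSubgroup K, (∀ x ∈ A, c * x ∈ A) → (1 : K) ∈ A → A = ⊤)
    (L : AddSubgroup Vec) (h1 : ∀ x ∈ L, UWM bar c *ᵥ x ∈ L)
    (h2 : ∀ x ∈ L, (nM : Mat) *ᵥ (UWM bar c *ᵥ ((nM : Mat) *ᵥ x)) ∈ L) (hf2 : (vF i2 : Vec) ∈ L) :
    ∀ x : Vec, InV' x → x ∈ L := by
  -- `L` is stable under `N` and under `n N n`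
  have hN : ∀ x ∈ L, NU bar c x ∈ L := fun x hx => L.sub_mem (h1 x hx) hx
  have hNk : ∀ k : ℕ, ∀ x ∈ L, (NU bar c)^[k] x ∈ L := by
    intro k
    induction k with
    | zero => exact fun x hx => hx
    | succ k ih =>
      intro x hx
      rw [Function.iterate_succ_apply']
      exact hN _ (ih x hx)
  have hN' : ∀ x ∈ L, (nM : Mat) *ᵥ (NU bar c ((nM : Mat) *ᵥ x)) ∈ L := by
    intro x hx
    have : (nM : Mat) *ᵥ (NU bar c ((nM : Mat) *ᵥ x)) =
        (nM : Mat) *ᵥ (UWM bar c *ᵥ ((nM : Mat) *ᵥ x)) - x := by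
      unfold NU
      rw [Matrix.mulVec_sub, nM_nM_mulVec]
    rw [this]
    exact L.sub_mem (h2 x hx) hx
  have hN'k : ∀ k : ℕ, ∀ x ∈ L, (nM : Mat) *ᵥ ((NU bar c)^[k] ((nM : Mat) *ᵥ x)) ∈ L := by
    intro k
    induction k with
    | zero =>
      intro x hx
      rw [Function.iterate_zero_apply, nM_nM_mulVec]
      exact hx
    | succ k ih =>
      intro x hx
      rw [Function.iterate_succ_apply']
      have := hN' _ (ih x hx)
      rwa [nM_nM_mulVec] at this
  -- the additive group `T`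
  let T : AddSubgroup K :=
    { carrier := {t | t • (vF i2 : Vec) ∈ L}
      add_mem' := by
        intro s t hs ht
        simp only [Set.mem_ofPred_eq] at hs ht ⊢
        rw [add_smul]
        exact L.add_mem hs ht
      zero_mem' := by
        simp only [Set.mem_ofPred_eq]
        rw [zero_smul]
        exact L.zero_mem
      neg_mem' := by
        intro t ht
        simp only [Set.mem_ofPred_eq] at ht ⊢
        rw [neg_smul]
        exact L.neg_mem ht }
  have hT : ∀ t : K, t ∈ T ↔ t • (vF i2 : Vec) ∈ L := fun t => Iff.rfl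
  have hT1 : (1 : K) ∈ T := by
    rw [hT, one_smul]; exact hf2
  have hTc : ∀ t ∈ T, c * t ∈ T := by
    intro t ht
    rw [hT] at ht ⊢
    have hV1 : InV' (t • (vF i2 : Vec)) := inV'_smul t _ inV'_vF2
    have hx1 := hNk (j + 1) _ ht
    have hx1V : InV' ((NU bar c)^[j + 1] (t • (vF i2 : Vec))) := NU_iter_inV' bar c _ _ hV1
    have hz := hN'k (2 * j + 2) _ hx1
    rw [Cfsg.Agent.Helper81.RUn.NU_iter_top bar c _ (inV'_nM _ hx1V), nM_mulVec_fI2,
      Matrix.mulVec_smul, nM_vE2, NU_iter_smul, Cfsg.Agent.Helper81.RUn.NU_iter_vF2] at hz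
    have he : ((t • ((-1 : K) ^ j • ((vW : Vec) + c • sE)) : Vec)) (eI i2) = t * ((-1) ^ j * c) := by
      simp [vW, sE, bv_apply, i2]
    rw [he] at hz
    have hp : ((-1 : K) ^ j) * ((-1) ^ j) = 1 := by
      rw [← mul_pow]; simp
    have hcoef : (-1 : K) ^ (j + 1) * (t * ((-1) ^ j * c)) = -(c * t) := by
      rw [pow_succ]
      linear_combination (-(t * c)) * hp
    rw [hcoef, neg_smul] at hz
    have := L.neg_mem hz
    rwa [neg_neg] at this
  have hTtop : T = ⊤ := hgen T hTc hT1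
  have hall : ∀ t : K, t • (vF i2 : Vec) ∈ L := by
    intro t
    rw [← hT, hTtop]
    exact AddSubgroup.mem_top t
  -- the submodule `{x | K x ⊆ L}`
  let S : Submodule K Vec :=
    { carrier := {x | ∀ t : K, t • x ∈ L}
      add_mem' := by
        intro x y hx hy t
        rw [smul_add]
        exact L.add_mem (hx t) (hy t)
      zero_mem' := by
        intro t
        rw [smul_zero]
        exact L.zero_mem
      smul_mem' := by
        intro a x hx t
        rw [smul_smul]
        exact hx _ }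
  have hS : ∀ x : Vec, x ∈ S ↔ ∀ t : K, t • x ∈ L := fun x => Iff.rfl
  have hS2 : (vF i2 : Vec) ∈ S := (hS _).mpr hall
  have hSU : ∀ x ∈ S, UWM bar c *ᵥ x ∈ S := by
    intro x hx
    rw [hS] at hx ⊢
    intro t
    rw [← Matrix.mulVec_smul]
    exact h1 _ (hx t)
  intro x hx
  have := (hS x).mp (span_NU bar c S hS2 hSU x hx) 1
  rwa [one_smul] at this

end Cfsg.Agent.Helper55.RUn
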