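import Cfsg.Agent.Helper55.E27A6
import Cfsg.Agent.Helper51.E27A5

/-!
helper55 (for helper3, WANTED #6444 (A6)): `pair_counts` with the exact skeleton signature, from
`Helper55.E27A6.pair_counts'` and helper51's (A2)–(A5).
-/

set_option autoImplicit false

namespace Cfsg.Agent.Helper55.E27A6

open Cfsg Finset Cfsg.Agent.Helper3.E27 Cfsg.Agent.Helper3.S3S3

universe u

variable {G : Type u} [Group G]

/-- (A6) the class multiplication counts for `x₁ = τ(1,0,0)`, `x₃ = τ(0,0,1)`. -/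
theorem pair_counts [Fintype G] [DecidableEq G] {T : Subgroup G} {τ : Vec → G} {a b : G}
    (h : HCfg T τ a b)
    (hloc : ∀ t ∈ T, t ≠ 1 →
      Subgroup.centralizer ({t} : Set G) ≤ Subgroup.normalizer (T : Set G))
    (v : Vec) :
    pairCount (τ (p 0)) (τ (p 2)) (τ v) =
      if v 1 = 0 ∧ v 0 ≠ 0 ∧ v 2 ≠ 0 then 54 * 54 else 0 :=
  pair_counts' h hloc (Cfsg.Agent.Helper51.E27.sylow_of_hcfg h).1
    (fun n hn => Cfsg.Agent.Helper51.E27.conj_N h n hn)
    (fun v v' hv => Cfsg.Agent.Helper51.E27.fusion h hloc v v' hv)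
    (fun v hv => Cfsg.Agent.Helper51.E27.card_centralizer h hloc v hv) v

end Cfsg.Agent.Helper55.E27A6
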