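import Cfsg.Agent.Helper55.KLRestr
set_option autoImplicit false

/-!
Piece (A-ii) of helper85's plan for S5142: behaviour of the sets `A_P = restrSet F D P` under replacing `P` by a
`D`-conjugate and under conjugation by an element of `Aut_F(T)`.
-/

namespace Cfsg.Agent.Helper55.KLConj

open Cfsg Cfsg.FusionSystem Cfsg.Agent.Helper87 Cfsg.Agent.Helper85.KL Cfsg.Agent.Helper55.KLRestr

variable {Ω : Type*} [Group Ω] {S T : Subgroup Ω}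

/-- `A_P ⊆ A_{P₀}` when `P₀` is the image of `P` under a map of `D`. -/
theorem restrSet_subset_of_conj (F : FusionSystem S) (D : FusionSystem T) (hD : D.IsInvariantIn F)
    {P P₀ : Subgroup Ω} (ρ : P →* Ω) (hρ : ρ ∈ D.Hom P) (hρr : ρ.range = P₀) :
    restrSet F D P ⊆ restrSet F D P₀ := by
  rintro α ⟨hαF, hPT, hαD⟩
  have hP₀T : P₀ ≤ T := by
    rw [← hρr]
    rintro _ ⟨x, rfl⟩
    exact (D.le_of_mem hρ).2 x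
  refine ⟨hαF, hP₀T, ?_⟩
  obtain ⟨χ, hχ, hχx⟩ := hD.2.2.1 P hPT ρ hρ α hαF
  have hval : ∀ x : P, resAut hPT α x ∈ (P.subgroupOf T).map (T.subtype.comp α.toMonoidHom) := by
    intro x
    exact ⟨⟨(x : Ω), hPT x.2⟩, x.2, rfl⟩
  have hcomp := D.comp_mem hαD hχ hval
  have hiso : IsIso D (isoOfRange D hρ hρr).symm := (isIso_isoOfRange D hρ hρr).symm
  have hfin := comp_iso_mem D hiso hcomp
  refine mem_of_eq D hfin (fun y => ?_)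
  set x : P := (isoOfRange D hρ hρr).symm y with hx
  have hρx : ρ x = (y : Ω) := by
    have := isoOfRange_apply D hρ hρr x
    rw [← this, hx, MulEquiv.apply_symm_apply]
  have hρxT : ρ x ∈ T := (D.le_of_mem hρ).2 x
  have h := hχx x hρxT (hval x)
  have e : (⟨ρ x, hρxT⟩ : T) = ⟨(y : Ω), hP₀T y.2⟩ := Subtype.ext hρx
  rw [e] at h
  show ((α ⟨(y : Ω), hP₀T y.2⟩ : T) : Ω) = χ ⟨resAut hPT α x, hval x⟩
  exact h.symm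

/-- `α₁ A_{P₀} α₁⁻¹ ⊆ A_{α₁(P₀)}`. -/
theorem conj_mem_restrSet (F : FusionSystem S) (D : FusionSystem T) (hD : D.IsInvariantIn F)
    {P₀ P₁ : Subgroup Ω} (hP₀T : P₀ ≤ T) (hP₁T : P₁ ≤ T) (α₁ : MulAut T) (hα₁ : α₁ ∈ F.autGroup T)
    (h : ∀ x : T, (x : Ω) ∈ P₀ ↔ ((α₁ x : T) : Ω) ∈ P₁) {α : MulAut T} (hα : α ∈ restrSet F D P₀) :
    α₁ * α * α₁⁻¹ ∈ restrSet F D P₁ := by
  obtain ⟨hαF, _, hαD⟩ := hα
  refine ⟨Subgroup.mul_mem _ (Subgroup.mul_mem _ hα₁ hαF) (Subgroup.inv_mem _ hα₁), hP₁T, ?_⟩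
  obtain ⟨χ, hχ, hχx⟩ := hD.2.2.1 P₀ hP₀T (resAut hP₀T α) hαD α₁ hα₁
  have hle : P₁ ≤ (P₀.subgroupOf T).map (T.subtype.comp α₁.toMonoidHom) := by
    intro y hy
    refine ⟨α₁⁻¹ ⟨y, hP₁T hy⟩, ?_, ?_⟩
    · show ((α₁⁻¹ ⟨y, hP₁T hy⟩ : T) : Ω) ∈ P₀
      rw [h (α₁⁻¹ ⟨y, hP₁T hy⟩), MulAut.apply_inv_self]
      exact hy
    · show ((α₁ (α₁⁻¹ ⟨y, hP₁T hy⟩) : T) : Ω) = y
      rw [MulAut.apply_inv_self]
  refine mem_of_eq D (restrict_mem D hχ hle) (fun y => ?_)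
  -- the preimage of `y` under `α₁`
  have hx₀ : ((α₁⁻¹ ⟨(y : Ω), hP₁T y.2⟩ : T) : Ω) ∈ P₀ := by
    rw [h (α₁⁻¹ ⟨(y : Ω), hP₁T y.2⟩), MulAut.apply_inv_self]
    exact y.2
  set x : P₀ := ⟨((α₁⁻¹ ⟨(y : Ω), hP₁T y.2⟩ : T) : Ω), hx₀⟩ with hx
  have hxT : (⟨(x : Ω), hP₀T x.2⟩ : T) = α₁⁻¹ ⟨(y : Ω), hP₁T y.2⟩ := Subtype.ext rfl
  have hαxT : resAut hP₀T α x ∈ T := (α ⟨(x : Ω), hP₀T x.2⟩).2
  have hval : ((α₁ ⟨(x : Ω), hP₀T x.2⟩ : T) : Ω) = (y : Ω) := by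
    rw [hxT, MulAut.apply_inv_self]
  have hmem : ((α₁ ⟨(x : Ω), hP₀T x.2⟩ : T) : Ω) ∈ (P₀.subgroupOf T).map (T.subtype.comp α₁.toMonoidHom) := by
    rw [hval]; exact hle y.2
  have hh := hχx x hαxT hmem
  have e1 : (⟨((α₁ ⟨(x : Ω), hP₀T x.2⟩ : T) : Ω), hmem⟩ :
      ↥((P₀.subgroupOf T).map (T.subtype.comp α₁.toMonoidHom))) = Subgroup.inclusion hle y := Subtype.ext hval
  rw [e1] at hh
  show (((α₁ * α * α₁⁻¹) ⟨(y : Ω), hP₁T y.2⟩ : T) : Ω) = χ (Subgroup.inclusion hle y)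
  rw [hh]
  show ((α₁ (α (α₁⁻¹ ⟨(y : Ω), hP₁T y.2⟩)) : T) : Ω) = ((α₁ ⟨resAut hP₀T α x, hαxT⟩ : T) : Ω)
  have e2 : (⟨resAut hP₀T α x, hαxT⟩ : T) = α (α₁⁻¹ ⟨(y : Ω), hP₁T y.2⟩) := by
    apply Subtype.ext
    show ((α ⟨(x : Ω), hP₀T x.2⟩ : T) : Ω) = _
    rw [hxT]
  rw [e2]

/-- `Aut_D(T)` is normalized by `Aut_F(T)`. -/
theorem conj_mem_autGroup (F : FusionSystem S) (D : FusionSystem T) (hD : D.IsInvariantIn F)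
    {α β : MulAut T} (hα : α ∈ F.autGroup T) (hβ : β ∈ D.autGroup T) : α * β * α⁻¹ ∈ D.autGroup T := by
  have h1 : β ∈ restrSet F D T := autGroup_le_restrSet F D hD le_rfl hβ
  have h2 := conj_mem_restrSet F D hD (P₀ := T) (P₁ := T) le_rfl le_rfl α hα
    (fun x => ⟨fun _ => (α x).2, fun _ => x.2⟩) h1
  exact mem_autGroup_of_mem_restrSet_self F D h2

end Cfsg.Agent.Helper55.KLConj
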