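import Cfsg.Agent.Helper85.KLDefs
set_option autoImplicit false

/-!
Piece (A-i) of helper85's plan for S5142: basic closure properties of the sets `A_P = restrSet F D P`
(`Aut_D(T) ⊆ A_P`, `A_T ⊆ Aut_D(T)`, antitone in `P`, closed under products and inverses).
-/

namespace Cfsg.Agent.Helper55.KLRestr

open Cfsg Cfsg.FusionSystem Cfsg.Agent.Helper87 Cfsg.Agent.Helper85.KL

variable {Ω : Type*} [Group Ω] {S T : Subgroup Ω}

theorem autGroup_le_restrSet (F : FusionSystem S) (D : FusionSystem T) (hD : D.IsInvariantIn F)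
    {P : Subgroup Ω} (hPT : P ≤ T) {α : MulAut T} (hα : α ∈ D.autGroup T) : α ∈ restrSet F D P := by
  have hiso : IsIso D (α : T ≃* T) := (mem_autGroup_iff D le_rfl α).1 hα
  have hmem : T.subtype.comp α.toMonoidHom ∈ D.Hom T := hiso
  refine ⟨Subgroup.subset_closure (hD.1 T hmem), hPT, ?_⟩
  exact mem_of_eq D (restrict_mem D hmem hPT) (fun x => rfl)

theorem mem_autGroup_of_mem_restrSet_self (F : FusionSystem S) (D : FusionSystem T) {α : MulAut T}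
    (hα : α ∈ restrSet F D T) : α ∈ D.autGroup T := by
  obtain ⟨-, hTT, h⟩ := hα
  exact Subgroup.subset_closure (mem_of_eq D h (fun x => rfl))

theorem restrSet_mono (F : FusionSystem S) (D : FusionSystem T) {P R : Subgroup Ω} (hPR : P ≤ R) :
    restrSet F D R ⊆ restrSet F D P := by
  rintro α ⟨hαF, hRT, h⟩
  exact ⟨hαF, hPR.trans hRT, mem_of_eq D (restrict_mem D h hPR) (fun x => rfl)⟩

theorem mul_mem_restrSet (F : FusionSystem S) (D : FusionSystem T) (hD : D.IsInvariantIn F) {P : Subgroup Ω}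
    {α β : MulAut T} (hα : α ∈ restrSet F D P) (hβ : β ∈ restrSet F D P) : α * β ∈ restrSet F D P := by
  obtain ⟨hαF, hPT, hαD⟩ := hα
  obtain ⟨hβF, _, hβD⟩ := hβ
  refine ⟨Subgroup.mul_mem _ hαF hβF, hPT, ?_⟩
  obtain ⟨χ, hχ, hχx⟩ := hD.2.2.1 P hPT (resAut hPT β) hβD α hαF
  have hval : ∀ x : P, resAut hPT α x ∈ (P.subgroupOf T).map (T.subtype.comp α.toMonoidHom) := by
    intro x
    exact ⟨⟨(x : Ω), hPT x.2⟩, x.2, rfl⟩
  have hcomp := D.comp_mem hαD hχ hval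
  refine mem_of_eq D hcomp (fun x => ?_)
  have hβxT : resAut hPT β x ∈ T := (β ⟨(x : Ω), hPT x.2⟩).2
  have h := hχx x hβxT (hval x)
  show ((α (β ⟨(x : Ω), hPT x.2⟩) : T) : Ω) = χ ⟨resAut hPT α x, hval x⟩
  exact h.symm

theorem inv_mem_restrSet (F : FusionSystem S) (D : FusionSystem T) (hD : D.IsInvariantIn F) {P : Subgroup Ω}
    {α : MulAut T} (hα : α ∈ restrSet F D P) : α⁻¹ ∈ restrSet F D P := by
  obtain ⟨hαF, hPT, hαD⟩ := hα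
  refine ⟨Subgroup.inv_mem _ hαF, hPT, ?_⟩
  obtain ⟨ψ, hψ, hψx⟩ := D.inv_mem hαD
  have hP₂T : (resAut hPT α).range ≤ T := by
    rintro _ ⟨x, rfl⟩
    exact (α ⟨(x : Ω), hPT x.2⟩).2
  obtain ⟨χ, hχ, hχx⟩ := hD.2.2.1 _ hP₂T ψ hψ α⁻¹ (Subgroup.inv_mem _ hαF)
  have hle : P ≤ (((resAut hPT α).range).subgroupOf T).map (T.subtype.comp (α⁻¹).toMonoidHom) := by
    intro x hx
    refine ⟨α ⟨x, hPT hx⟩, ⟨⟨x, hx⟩, rfl⟩, ?_⟩
    show ((α⁻¹ (α ⟨x, hPT hx⟩) : T) : Ω) = x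
    rw [MulAut.inv_apply_self]
  refine mem_of_eq D (restrict_mem D hχ hle) (fun x => ?_)
  have hψT : ψ ⟨resAut hPT α x, ⟨x, rfl⟩⟩ ∈ T := by
    rw [hψx x]; exact hPT x.2
  have hval : ((α⁻¹ ⟨((⟨resAut hPT α x, ⟨x, rfl⟩⟩ : (resAut hPT α).range) : Ω),
      hP₂T (⟨resAut hPT α x, ⟨x, rfl⟩⟩ : (resAut hPT α).range).2⟩ : T) : Ω) = (x : Ω) := by
    show ((α⁻¹ (α ⟨(x : Ω), hPT x.2⟩) : T) : Ω) = (x : Ω)
    rw [MulAut.inv_apply_self]
  have hmem : ((α⁻¹ ⟨((⟨resAut hPT α x, ⟨x, rfl⟩⟩ : (resAut hPT α).range) : Ω),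
      hP₂T (⟨resAut hPT α x, ⟨x, rfl⟩⟩ : (resAut hPT α).range).2⟩ : T) : Ω) ∈
      (((resAut hPT α).range).subgroupOf T).map (T.subtype.comp (α⁻¹).toMonoidHom) := by
    rw [hval]; exact hle x.2
  have h := hχx ⟨resAut hPT α x, ⟨x, rfl⟩⟩ hψT hmem
  have e1 : (⟨((α⁻¹ ⟨((⟨resAut hPT α x, ⟨x, rfl⟩⟩ : (resAut hPT α).range) : Ω),
      hP₂T (⟨resAut hPT α x, ⟨x, rfl⟩⟩ : (resAut hPT α).range).2⟩ : T) : Ω), hmem⟩ :
      ↥((((resAut hPT α).range).subgroupOf T).map (T.subtype.comp (α⁻¹).toMonoidHom))) =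
      Subgroup.inclusion hle x := Subtype.ext hval
  have e2 : (⟨ψ ⟨resAut hPT α x, ⟨x, rfl⟩⟩, hψT⟩ : T) = ⟨(x : Ω), hPT x.2⟩ := Subtype.ext (hψx x)
  rw [e1, e2] at h
  show ((α⁻¹ ⟨(x : Ω), hPT x.2⟩ : T) : Ω) = χ (Subgroup.inclusion hle x)
  exact h.symm

end Cfsg.Agent.Helper55.KLRestr
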