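import Cfsg.Agent.Helper36.F4Odd.Defs2

/-!
helper55 for helper36 (S4280, batch II, piece (TE)): an element of the torus of `F₄(F)` is determined by the values of
the roots.
-/

set_option autoImplicit false
set_option maxRecDepth 100000

namespace Cfsg.Agent.Helper55.F4Odd

open Cfsg Cfsg.Lie Cfsg.Agent.Helper18 Cfsg.Agent.Helper36.F4Odd Cfsg.Agent.Helper19.Twist
  Cfsg.Agent.Helper36.FieldFix

variable {F : Type*} [Field F]

/-- (TE) an element of the torus is determined by the values of the roots. -/
theorem tor_ext (c d : Fin chevF4.rank → Fˣ) (h : ∀ s < 48, chr s c = chr s d) : tor (F := F) c = tor d := by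
  unfold tor
  apply Units.ext
  rw [torusHom_val, torusHom_val]
  congr 1
  funext j
  rcases j with a | s
  · simp [torusChar]
  · have hs : s.val < 48 := s.isLt
    have h1 := h s.val hs
    simp only [torusChar, MonoidHom.coe_mk, OneHom.coe_mk, Sum.elim_inr]
    exact congrArg Units.val h1

end Cfsg.Agent.Helper55.F4Odd
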