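import Cfsg.Agent.Helper36.F4Odd.Defs2

/-!
helper55 for helper36 (S4280, batch III, piece (UM)): the Bruhat cell subgroup of `n_w` in `F₄(F)` is generated by the
root subgroups of the positive roots made negative by `w`.
-/

set_option autoImplicit false
set_option maxRecDepth 100000

namespace Cfsg.Agent.Helper55.F4Odd

open Cfsg Cfsg.Lie Cfsg.Agent.Helper18 Cfsg.Agent.Helper36.F4Odd Cfsg.Agent.Helper19.Twist
  Cfsg.Agent.Helper36.FieldFix Cfsg.Agent.Helper19.Cox Cfsg.Agent.Helper19.Poinc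

theorem hlf_F4_um : hlfOf chevF4 = 24 := by decide +kernel

variable {F : Type*} [Field F]

/-- (UM) the Bruhat cell subgroup of `n_w`. -/
theorem Um_nW (w : List ℕ) (hw : ∀ i ∈ w, i < 4) :
    Um chevF4 F (nW w) = listSubgroup chevF4 F (negList w) := by
  have hF4' := Cfsg.Agent.Helper36.SigmaF4.hF4
  have htri := Cfsg.Agent.Helper18.triOK_of_mem chevF4 hF4'
  have hwr : ∀ i ∈ w, i < chevF4.rank := hw
  have hN : nW (F := F) w ∈ chevF4.monomialSubgroup F := nW_mem w hw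
  have e2 : theta chevF4 hF4' Cfsg.Agent.Helper19.Poinc.certF4 (Cfsg.Agent.Helper18.nConjHyp chevF4 hF4')
      (⟨nW (F := F) w, hN⟩ : ↥(chevF4.monomialSubgroup F)) =
      Cfsg.Agent.Helper19.Cox.gp Cfsg.Agent.Helper19.Poinc.certF4.M w :=
    Cfsg.Agent.Helper36.F4Mix.NP_theta_nWords (F := F) w hwr
  have h1 := Um_eq_UnegW chevF4 hF4' Cfsg.Agent.Helper19.Poinc.certF4
    (Cfsg.Agent.Helper18.nConjHyp chevF4 hF4') (⟨nW (F := F) w, hN⟩ : ↥(chevF4.monomialSubgroup F))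
  rw [e2] at h1
  have h1' : Um chevF4 F (nW w) =
      UnegW chevF4 Cfsg.Agent.Helper19.Poinc.certF4 F
        (Cfsg.Agent.Helper19.Cox.gp Cfsg.Agent.Helper19.Poinc.certF4.M w) := h1
  rw [h1']
  have hmem : ∀ r, (r ∈ negList w ↔ (24 ≤ r ∧ r < 48) ∧ aW w r < 24) := by
    intro r
    unfold Cfsg.Agent.Helper36.F4Odd.negList
    rw [List.mem_filter, mem_posList, decide_eq_true_iff]
  unfold UnegW listSubgroup
  congr 1
  ext g
  constructor
  · rintro ⟨r, t, ⟨hr1, hr2⟩, hneg, rfl⟩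
    rw [Cfsg.Agent.Helper19.Cox.phi_gp] at hneg
    rw [hlf_F4_um] at hr1 hneg
    exact ⟨r, t, (hmem r).mpr ⟨⟨hr1, hr2⟩, hneg⟩, Cfsg.Agent.Helper18.xGL_val chevF4 _ htri r t⟩
  · rintro ⟨r, t, hr, hg⟩
    obtain ⟨⟨h3, hr48⟩, h4⟩ := (hmem r).mp hr
    refine ⟨r, t, ⟨by rw [hlf_F4_um]; exact h3, hr48⟩, ?_, ?_⟩
    · rw [Cfsg.Agent.Helper19.Cox.phi_gp, hlf_F4_um]; exact h4
    · exact Units.ext (by rw [hg, Cfsg.Agent.Helper18.xGL_val chevF4 _ htri])

end Cfsg.Agent.Helper55.F4Odd
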