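import Cfsg.Agent.Helper55.KLConj
import Cfsg.Agent.Helper87.FusionRS
import Cfsg.Agent.Helper87.FusionFrobenius
set_option autoImplicit false

/-!
Piece (F) of helper85's plan for S5142, core form: the induction on `|T| - |P|` showing that every element of
`A_P = restrSet F D P` (for `P` a `T`-centric subgroup in the sense of `TCentric`) has a `p`-power in `Aut_D(T)`.
The group-theoretic lemma (C) and the step (E) enter as hypotheses `hC`, `hE` with exactly the types of the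
corresponding statements of the plan.
-/

namespace Cfsg.Agent.Helper55.KLInd

open Cfsg Cfsg.FusionSystem Cfsg.Agent.Helper87 Cfsg.Agent.Helper85.KL Cfsg.Agent.Helper55.KLRestr
  Cfsg.Agent.Helper55.KLConj

variable {Ω : Type*} [Group Ω] {S T : Subgroup Ω}

/-- `A_P` as a subgroup of `Aut(T)`. -/
def restrSubgroup (F : FusionSystem S) (D : FusionSystem T) (hD : D.IsInvariantIn F) {P : Subgroup Ω}
    (hPT : P ≤ T) : Subgroup (MulAut T) where
  carrier := restrSet F D P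
  mul_mem' := fun ha hb => mul_mem_restrSet F D hD ha hb
  one_mem' := autGroup_le_restrSet F D hD hPT (Subgroup.one_mem _)
  inv_mem' := fun ha => inv_mem_restrSet F D hD ha

theorem mem_restrSubgroup (F : FusionSystem S) (D : FusionSystem T) (hD : D.IsInvariantIn F) {P : Subgroup Ω}
    (hPT : P ≤ T) (α : MulAut T) : α ∈ restrSubgroup F D hD hPT ↔ α ∈ restrSet F D P := Iff.rfl

/-- An overgroup (inside `T`) of a `T`-centric subgroup is `T`-centric. -/
theorem tCentric_of_le (F : FusionSystem S) {P R : Subgroup Ω} (hP : TCentric F T P) (hPR : P ≤ R)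
    (hRT : R ≤ T) : TCentric F T R := by
  refine ⟨hRT, ?_⟩
  rintro R' ⟨φ, hφ, rfl⟩
  have hφ' := restrict_mem F hφ hPR
  have hconj : F.IsConj P (φ.comp (Subgroup.inclusion hPR)).range := ⟨_, hφ', rfl⟩
  have h1 := hP.2 _ hconj
  have h2 : (φ.comp (Subgroup.inclusion hPR)).range ≤ φ.range := by
    rintro _ ⟨x, rfl⟩
    exact ⟨Subgroup.inclusion hPR x, rfl⟩
  have h3 : centralizerIn T φ.range ≤ centralizerIn T (φ.comp (Subgroup.inclusion hPR)).range := by
    unfold centralizerIn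
    exact inf_le_inf_left _ (Subgroup.centralizer_le h2)
  exact (h3.trans h1).trans h2

/-- An `F`-conjugate (inside `T`) of a `T`-centric subgroup is `T`-centric. -/
theorem tCentric_of_isConj (F : FusionSystem S) {P P₁ : Subgroup Ω} (hP : TCentric F T P)
    (hc : F.IsConj P P₁) (hP₁T : P₁ ≤ T) : TCentric F T P₁ :=
  ⟨hP₁T, fun Q hQ => hP.2 Q (isConj_trans F hc hQ)⟩

theorem card_eq_of_isConj (F : FusionSystem S) {P P₁ : Subgroup Ω} (hc : F.IsConj P P₁) :
    Nat.card P = Nat.card P₁ := by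
  obtain ⟨e, -⟩ := (isConj_iff F P P₁).mp hc
  exact Nat.card_congr e.toEquiv

/-- Powers of an automorphism induced by conjugation. -/
theorem pow_apply_of_conj {P : Subgroup Ω} (α : MulAut P) (g : Ω)
    (h : ∀ x : P, ((α x : P) : Ω) = g * (x : Ω) * g⁻¹) (n : ℕ) (x : P) :
    (((α ^ n) x : P) : Ω) = g ^ n * (x : Ω) * (g ^ n)⁻¹ := by
  induction n generalizing x with
  | zero => simp
  | succ n ih =>
    rw [pow_succ, MulAut.mul_apply, ih, h, pow_succ]
    group

/-- `Aut_K(P)` is a `p`-group when `K` is contained in a `p`-group `S`. -/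
theorem isPGroup_autInducedBy {p : ℕ} (hS : IsPGroup p S) {K : Subgroup Ω} (hK : K ≤ S) (P : Subgroup Ω) :
    IsPGroup p (autInducedBy K P) := by
  rintro ⟨α, hα⟩
  obtain ⟨g, hg, hgx⟩ := (mem_autInducedBy_iff K P α).1 hα
  obtain ⟨k, hk⟩ := hS ⟨g, hK hg⟩
  have hk' : g ^ p ^ k = 1 := by
    have := congrArg (Subtype.val) hk
    simpa using this
  refine ⟨k, Subtype.ext ?_⟩
  show α ^ p ^ k = 1
  ext x
  rw [pow_apply_of_conj α g hgx, hk']
  simp

/-- Core of (F): the induction, with (C) and (E) as hypotheses. -/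
theorem exists_pow_mem_autGroup_core [Finite S] (p : ℕ) [Fact p.Prime] (hS : IsPGroup p S) (F : FusionSystem S)
    (D : FusionSystem T) (hD : D.IsInvariantIn F)
    (hC : ∀ (X B Y Z : Subgroup (MulAut T)), B ≤ Y → Y ≤ X → Z ≤ X →
      (∀ x ∈ X, ∀ b ∈ B, x * b * x⁻¹ ∈ B) → (∀ y ∈ Y, ∃ k : ℕ, y ^ p ^ k ∈ B) → IsPGroup p Z →
      (∀ x ∈ X, ∃ y ∈ Y, ∃ z ∈ Z, x = y * z) → ∀ x ∈ X, ∃ k : ℕ, x ^ p ^ k ∈ B)
    (hE : ∀ {P : Subgroup Ω} (_ : P ≤ T), F.IsFullyNormalized P → centralizerIn T P ≤ P →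
      ∀ α : MulAut T, α ∈ restrSet F D P →
        ∃ s ∈ centralizerIn S P, ∃ σ ∈ F.autGroup T, (∀ t : T, ((σ t : T) : Ω) = s * (t : Ω) * s⁻¹) ∧
          α * σ⁻¹ ∈ restrSet F D (normalizerIn T P)) :
    ∀ (n : ℕ) (P : Subgroup Ω), Nat.card T - Nat.card P = n → TCentric F T P →
      ∀ α : MulAut T, α ∈ restrSet F D P → ∃ k : ℕ, α ^ p ^ k ∈ D.autGroup T := by
  have hTS : T ≤ S := (F.le_of_mem (hD.1 T (subtype_mem D le_rfl))).1
  have : Finite T := Finite.of_injective (Subgroup.inclusion hTS) (Subgroup.inclusion_injective hTS)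
  have hT : IsPGroup p T := hS.to_le hTS
  intro n
  induction n using Nat.strong_induction_on with
  | _ n ih =>
    intro P hn hP α hα
    have hPT : P ≤ T := hP.1
    by_cases hPeq : P = T
    · subst hPeq
      exact ⟨0, by simpa using mem_autGroup_of_mem_restrSet_self F D hα⟩
    have hcardlt : Nat.card P < Nat.card T := by
      rcases lt_or_ge (Nat.card P) (Nat.card T) with h | h
      · exact h
      · exact absurd (Subgroup.eq_of_le_of_card_ge hPT h) hPeq
    -- a fully normalized conjugate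
    obtain ⟨P₁, hconj, hP₁n⟩ := exists_isConj_fullyNormalized F (hPT.trans hTS)
    obtain ⟨ξ, hξ, hξr⟩ := hconj
    obtain ⟨α₁, hα₁, ξ₀, hξ₀, hfr⟩ := hD.2.2.2 P hPT ξ hξ
    have hξ₀T : ∀ x : P, ξ₀ x ∈ T := (D.le_of_mem hξ₀).2
    have hP₁T : P₁ ≤ T := by
      rw [← hξr]
      rintro _ ⟨x, rfl⟩
      rw [hfr x (hξ₀T x)]
      exact (α₁ ⟨ξ₀ x, hξ₀T x⟩).2
    have hP₀T : ξ₀.range ≤ T := by
      rintro _ ⟨x, rfl⟩
      exact hξ₀T x
    have hα0 : α ∈ restrSet F D ξ₀.range := restrSet_subset_of_conj F D hD ξ₀ hξ₀ rfl hα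
    have hiff : ∀ x : T, (x : Ω) ∈ ξ₀.range ↔ ((α₁ x : T) : Ω) ∈ P₁ := by
      intro x
      constructor
      · rintro ⟨y, hy⟩
        rw [← hξr]
        refine ⟨y, ?_⟩
        rw [hfr y (hξ₀T y)]
        have : (⟨ξ₀ y, hξ₀T y⟩ : T) = x := Subtype.ext hy
        rw [this]
      · intro hx
        rw [← hξr] at hx
        obtain ⟨y, hy⟩ := hx
        rw [hfr y (hξ₀T y)] at hy
        have : (⟨ξ₀ y, hξ₀T y⟩ : T) = x := α₁.injective (Subtype.ext hy)
        exact ⟨y, congrArg Subtype.val this⟩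
    have hα' : α₁ * α * α₁⁻¹ ∈ restrSet F D P₁ := conj_mem_restrSet F D hD hP₀T hP₁T α₁ hα₁ hiff hα0
    have hconj' : F.IsConj P P₁ := ⟨ξ, hξ, hξr⟩
    have hP₁c : TCentric F T P₁ := tCentric_of_isConj F hP hconj' hP₁T
    have hcard₁ : Nat.card P = Nat.card P₁ := card_eq_of_isConj F hconj'
    have hP₁lt : P₁ < T := by
      refine lt_of_le_of_ne hP₁T ?_
      intro h
      rw [h] at hcard₁
      exact absurd hcard₁ (ne_of_lt hcardlt)
    have hRlt : P₁ < normalizerIn T P₁ := lt_normalizerIn hT hP₁lt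
    have hRT : normalizerIn T P₁ ≤ T := inf_le_left
    have hRc : TCentric F T (normalizerIn T P₁) := tCentric_of_le F hP₁c hRlt.le hRT
    have hcardR : Nat.card P₁ < Nat.card (normalizerIn T P₁) := by
      have : Finite (normalizerIn T P₁) :=
        Finite.of_injective (Subgroup.inclusion hRT) (Subgroup.inclusion_injective hRT)
      rcases lt_or_ge (Nat.card P₁) (Nat.card (normalizerIn T P₁)) with h | h
      · exact h
      · exact absurd (Subgroup.eq_of_le_of_card_ge hRlt.le h) (ne_of_lt hRlt)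
    have hcardRT : Nat.card (normalizerIn T P₁) ≤ Nat.card T := Subgroup.card_le_of_le hRT
    have hIH : ∀ y ∈ restrSubgroup F D hD hRT, ∃ k : ℕ, y ^ p ^ k ∈ D.autGroup T := by
      intro y hy
      exact ih (Nat.card T - Nat.card (normalizerIn T P₁)) (by omega) _ rfl hRc y hy
    -- apply (C)
    have hZX : autInducedBy (centralizerIn S P₁) T ≤ restrSubgroup F D hD hP₁T := by
      intro σ hσ
      obtain ⟨g, hg, hgx⟩ := (mem_autInducedBy_iff _ _ σ).1 hσ
      have hgS : g ∈ S := hg.1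
      have hgc : g ∈ Subgroup.centralizer (P₁ : Set Ω) := hg.2
      refine ⟨Subgroup.subset_closure ?_, hP₁T, ?_⟩
      · exact mem_of_eq F (F.conj_mem hTS hgS) (fun x => hgx x)
      · refine mem_of_eq D (subtype_mem D hP₁T) (fun x => ?_)
        show ((σ ⟨(x : Ω), hP₁T x.2⟩ : T) : Ω) = (x : Ω)
        rw [hgx]
        have := hgc (x : Ω) x.2
        show g * (x : Ω) * g⁻¹ = x
        rw [← this, mul_inv_cancel_right]
    have hmain := hC (restrSubgroup F D hD hP₁T) (D.autGroup T) (restrSubgroup F D hD hRT)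
      (autInducedBy (centralizerIn S P₁) T)
      (fun b hb => autGroup_le_restrSet F D hD hRT hb)
      (fun y hy => restrSet_mono F D hRlt.le hy)
      hZX
      (fun x hx b hb => conj_mem_autGroup F D hD hx.1 hb)
      hIH
      (isPGroup_autInducedBy hS inf_le_left T)
      (by
        intro x hx
        obtain ⟨s, hs, σ, hσF, hσ, hxσ⟩ := hE hP₁T hP₁n (hP.2 P₁ hconj') x hx
        refine ⟨x * σ⁻¹, hxσ, σ, ?_, (inv_mul_cancel_right x σ).symm⟩
        exact Subgroup.subset_closure ⟨s, hs, hσ⟩)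
    obtain ⟨k, hk⟩ := hmain _ hα'
    refine ⟨k, ?_⟩
    rw [conj_pow] at hk
    have := conj_mem_autGroup F D hD (Subgroup.inv_mem _ hα₁) hk
    have e : α₁⁻¹ * (α₁ * α ^ p ^ k * α₁⁻¹) * α₁⁻¹⁻¹ = α ^ p ^ k := by group
    rwa [e] at this

/-- (F) with (C) and (E) as hypotheses (of exactly the types of the plan's statements). -/
theorem exists_pow_mem_autGroup_of [Finite S] (p : ℕ) [Fact p.Prime] (hS : IsPGroup p S) (F : FusionSystem S)
    (D : FusionSystem T) (hD : D.IsInvariantIn F)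
    (hC : ∀ (X B Y Z : Subgroup (MulAut T)), B ≤ Y → Y ≤ X → Z ≤ X →
      (∀ x ∈ X, ∀ b ∈ B, x * b * x⁻¹ ∈ B) → (∀ y ∈ Y, ∃ k : ℕ, y ^ p ^ k ∈ B) → IsPGroup p Z →
      (∀ x ∈ X, ∃ y ∈ Y, ∃ z ∈ Z, x = y * z) → ∀ x ∈ X, ∃ k : ℕ, x ^ p ^ k ∈ B)
    (hE : ∀ {P : Subgroup Ω} (_ : P ≤ T), F.IsFullyNormalized P → centralizerIn T P ≤ P →
      ∀ α : MulAut T, α ∈ restrSet F D P →
        ∃ s ∈ centralizerIn S P, ∃ σ ∈ F.autGroup T, (∀ t : T, ((σ t : T) : Ω) = s * (t : Ω) * s⁻¹) ∧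
          α * σ⁻¹ ∈ restrSet F D (normalizerIn T P))
    {P : Subgroup Ω} (hP : TCentric F T P) (α : MulAut T) (hα : α ∈ restrSet F D P) :
    ∃ k : ℕ, α ^ p ^ k ∈ D.autGroup T :=
  exists_pow_mem_autGroup_core p hS F D hD hC hE _ P rfl hP α hα

end Cfsg.Agent.Helper55.KLInd
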