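import Mathlib

/-!
helper55 for helper38 (S2500 part 5, leaf (G3)): the `3`-part of an element inducing `s ↦ s ^ N` with `s ^ (N ^ 3) = s`.
-/

set_option autoImplicit false

namespace Cfsg.Agent.Helper55.P5

theorem g3_conj_pow {G : Type*} [Group G] (s d₀ : G) (N : ℕ) (h1 : d₀ * s * d₀⁻¹ = s ^ N) (j : ℕ) :
    d₀ ^ j * s * (d₀ ^ j)⁻¹ = s ^ (N ^ j) := by
  induction j with
  | zero => simp
  | succ j ih =>
    have e : d₀ ^ (j + 1) * s * (d₀ ^ (j + 1))⁻¹ = d₀ * (d₀ ^ j * s * (d₀ ^ j)⁻¹) * d₀⁻¹ := by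
      rw [pow_succ']; group
    rw [e, ih, ← conj_pow, h1, ← pow_mul, ← pow_succ']

theorem g3_fix_pow {G : Type*} [Group G] (s : G) (N : ℕ) (h2 : s ^ (N ^ 3) = s) (t : ℕ) :
    s ^ ((N ^ 3) ^ t) = s := by
  induction t with
  | zero => simp
  | succ t ih => rw [pow_succ, pow_mul, ih, h2]

/-- (G3) the `3`-part of an element inducing `s ↦ s ^ N` with `s ^ (N ^ 3) = s` -/
theorem exists_three_power_conj {G : Type*} [Group G] [Finite G] (s d₀ : G) (N : ℕ)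
    (h1 : d₀ * s * d₀⁻¹ = s ^ N) (h2 : s ^ (N ^ 3) = s) :
    ∃ (d : G) (k : ℕ), d ^ (3 ^ k) = 1 ∧ d * s * d⁻¹ = s ^ N := by
  have hn : orderOf d₀ ≠ 0 := (orderOf_pos d₀).ne'
  obtain ⟨k, m, hm, hnm⟩ := Nat.exists_eq_pow_mul_and_not_dvd hn 3 (by norm_num)
  obtain ⟨m', hm'1, hm'2⟩ : ∃ m', m' % 3 = 1 ∧ m ∣ m' := by
    have h12 : m % 3 = 1 ∨ m % 3 = 2 := by omega
    rcases h12 with h | h
    · exact ⟨m, h, dvd_rfl⟩
    · exact ⟨2 * m, by omega, Dvd.intro_left 2 rfl⟩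
  refine ⟨d₀ ^ m', k, ?_, ?_⟩
  · obtain ⟨c, rfl⟩ := hm'2
    rw [← pow_mul, show m * c * 3 ^ k = (3 ^ k * m) * c by ring, ← hnm, pow_mul, pow_orderOf_eq_one, one_pow]
  · rw [g3_conj_pow s d₀ N h1 m']
    obtain ⟨t, ht⟩ : ∃ t, m' = 3 * t + 1 := ⟨m' / 3, by omega⟩
    rw [ht, pow_succ, pow_mul, pow_mul, g3_fix_pow s N h2 t]

end Cfsg.Agent.Helper55.P5
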