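import Mathlib

/-!
helper55 for helper38 (S2500 part 5, leaf (NZ)): an element conjugating `s` to a power of `s` normalises `⟨s⟩`.
-/

set_option autoImplicit false

namespace Cfsg.Agent.Helper55.P5

/-- (NZ) an element conjugating `s` to a power of `s` normalises `⟨s⟩` (finite group) -/
theorem mem_normalizer_zpowers {G : Type*} [Group G] [Finite G] (s d : G) (N : ℕ)
    (h : d * s * d⁻¹ = s ^ N) : d ∈ Subgroup.normalizer (Subgroup.zpowers s : Set G) := by
  apply Subgroup.mem_normalizer_fintype
  intro n hn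
  rw [SetLike.mem_coe, Subgroup.mem_zpowers_iff] at hn
  obtain ⟨k, rfl⟩ := hn
  rw [SetLike.mem_coe]
  have e : d * s ^ k * d⁻¹ = (s ^ N) ^ k := by
    rw [← h, conj_zpow]
  rw [e]
  exact Subgroup.zpow_mem _ (Subgroup.pow_mem _ (Subgroup.mem_zpowers s) N) k

end Cfsg.Agent.Helper55.P5
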