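import Cfsg.Agent.Helper38.FP.Defs

/-!
# S2276 (helper38), piece (FF3): witnesses for `p = 3` (a full cycle on at least 9 points).
-/

set_option autoImplicit false

namespace Cfsg.Agent.Helper55.FP

open Equiv Cfsg.Agent.Helper38.FP

/-! ## Certificates in `Perm (Fin 9)` -/

/-- `(1 3)(0 2)` -/
def d90 : Perm (Fin 9) := swap 1 3 * swap 0 2
/-- `(2 4)(1 3)` -/
def d91 : Perm (Fin 9) := swap 2 4 * swap 1 3
/-- `(5 7)(4 6)` -/
def d94 : Perm (Fin 9) := swap 5 7 * swap 4 6
/-- `(6 8)(5 7)` -/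
def d95 : Perm (Fin 9) := swap 6 8 * swap 5 7
/-- the 5-cycle `(1 2)(3 4)(2 3)(0 1)` -/
def e90 : Perm (Fin 9) := (swap 1 2 * swap 3 4) * (swap 2 3 * swap 0 1)
/-- its shift `(2 3)(4 5)(3 4)(1 2)` -/
def e91 : Perm (Fin 9) := (swap 2 3 * swap 4 5) * (swap 3 4 * swap 1 2)

set_option maxRecDepth 100000 in
theorem d90_ne_one : d90 ≠ 1 := by decide

set_option maxRecDepth 100000 in
theorem d90_sq : d90 ^ 2 = 1 := by decide

set_option maxRecDepth 100000 in
theorem e90_ne_one : e90 ≠ 1 := by decide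

set_option maxRecDepth 100000 in
theorem e90_pow : e90 ^ 5 = 1 := by decide

set_option maxRecDepth 100000 in
theorem certA_ne : d90 * d91 * (d94 * d95) ≠ 1 := by decide

set_option maxRecDepth 100000 in
theorem certA_key :
    d90 * d91 * (d94 * d95) = (d94 * d95 * (d90 * d91)) *
      ((d90 * d91 * (d94 * d95)) *
        ((d90 * d91)⁻¹ * (d90 * d91 * (d94 * d95)) * (d90 * d91)⁻¹⁻¹) *
        (d90 * d91 * (d94 * d95))⁻¹ *
        ((d90 * d91)⁻¹ * (d90 * d91 * (d94 * d95)) * (d90 * d91)⁻¹⁻¹)⁻¹) *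
      (d94 * d95 * (d90 * d91))⁻¹ := by decide

set_option maxRecDepth 100000 in
theorem certE_key :
    e90 = (e91⁻¹ * e91⁻¹) * (e90 * (e91 * e90 * e91⁻¹) * e90⁻¹ * (e91 * e90 * e91⁻¹)⁻¹) *
      (e91⁻¹ * e91⁻¹)⁻¹ := by decide


theorem certA : ¬ Group.IsSolvable
    ↥(Subgroup.closure ({d90 * d91, d94 * d95} : Set (Perm (Fin 9)))) := by
  have hA : d90 * d91 ∈ Subgroup.closure ({d90 * d91, d94 * d95} : Set (Perm (Fin 9))) :=
    Subgroup.subset_closure (Set.mem_insert _ _)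
  have hB : d94 * d95 ∈ Subgroup.closure ({d90 * d91, d94 * d95} : Set (Perm (Fin 9))) :=
    Subgroup.subset_closure (Set.mem_insert_of_mem _ rfl)
  exact not_solvable_closure_of_cert _ _ (d90 * d91 * (d94 * d95)) (d90 * d91)⁻¹
    (d94 * d95 * (d90 * d91)) (Subgroup.mul_mem _ hA hB) (Subgroup.inv_mem _ hA)
    (Subgroup.mul_mem _ hB hA) certA_ne certA_key

theorem certE : ¬ Group.IsSolvable
    ↥(Subgroup.closure ({e90, e91} : Set (Perm (Fin 9)))) := by
  have hE : e90 ∈ Subgroup.closure ({e90, e91} : Set (Perm (Fin 9))) :=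
    Subgroup.subset_closure (Set.mem_insert _ _)
  have hF : e91 ∈ Subgroup.closure ({e90, e91} : Set (Perm (Fin 9))) :=
    Subgroup.subset_closure (Set.mem_insert_of_mem _ rfl)
  exact not_solvable_closure_of_cert _ _ e90 e91 (e91⁻¹ * e91⁻¹) hE hF
    (Subgroup.mul_mem _ (Subgroup.inv_mem _ hF) (Subgroup.inv_mem _ hF)) e90_ne_one certE_key

/-! ## The points `xᵢ = uⁱ x` of a full cycle -/

section pts

variable {α : Type} [Fintype α] [DecidableEq α]

/-- `xᵢ = uⁱ x` -/
def pt (u : Perm α) (x : α) (i : ℕ) : α := (u ^ i) x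

omit [Fintype α] [DecidableEq α] in
theorem apply_pt (u : Perm α) (x : α) (i : ℕ) : u (pt u x i) = pt u x (i + 1) := by
  unfold pt
  rw [pow_succ', Perm.mul_apply]

theorem pt_injOn (u : Perm α) (hu : IsFull u) (h2 : 2 ≤ Fintype.card α) (x : α) (i j : ℕ)
    (hi : i < Fintype.card α) (hj : j < Fintype.card α) (h : pt u x i = pt u x j) : i = j := by
  have key : ∀ i j : ℕ, i < j → j < Fintype.card α → pt u x i ≠ pt u x j := by
    intro i j hij hj h
    have hc := hu.isCycle h2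
    have hx : u x ≠ x := by
      have : x ∈ u.support := hu.support_eq_univ h2 ▸ Finset.mem_univ x
      exact Perm.mem_support.1 this
    have h1 : (u ^ (j - i)) x = x := by
      have hji : j = i + (j - i) := by omega
      unfold pt at h
      have h3 : (u ^ j) x = (u ^ i) ((u ^ (j - i)) x) := by
        conv_lhs => rw [hji, pow_add, Perm.mul_apply]
      rw [h3] at h
      exact ((u ^ i).injective h).symm
    have h4 : u ^ (j - i) = 1 := (hc.pow_eq_one_iff' hx).2 h1
    have h5 : orderOf u ∣ j - i := orderOf_dvd_of_pow_eq_one h4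
    rw [hu.orderOf_eq h2] at h5
    have := Nat.le_of_dvd (by omega) h5
    omega
  rcases lt_trichotomy i j with hij | hij | hij
  · exact absurd h (key i j hij hj)
  · exact hij
  · exact absurd h.symm (key j i hij hi)

omit [Fintype α] in
theorem conj_swap_pt (u : Perm α) (x : α) (i j : ℕ) :
    u * swap (pt u x i) (pt u x j) * u⁻¹ = swap (pt u x (i + 1)) (pt u x (j + 1)) := by
  rw [← apply_pt, ← apply_pt, Equiv.swap_apply_apply]

/-- the embedding `i ↦ xᵢ` of `Fin 9` -/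
def emb9 (u : Perm α) (hu : IsFull u) (h9 : 9 ≤ Fintype.card α) (x : α) : Fin 9 ↪ α :=
  ⟨fun i => pt u x i, fun i j h => Fin.ext (pt_injOn u hu (by omega) x i j
    (lt_of_lt_of_le i.isLt h9) (lt_of_lt_of_le j.isLt h9) h)⟩

omit [Fintype α] in
theorem via_swap (ι : Fin 9 ↪ α) (i j : Fin 9) :
    Perm.viaEmbeddingHom ι (swap i j) = swap (ι i) (ι j) := by
  ext a
  rw [Perm.viaEmbeddingHom_apply]
  by_cases ha : a ∈ Set.range ι
  · obtain ⟨k, rfl⟩ := ha
    rw [Perm.viaEmbedding_apply, ι.injective.swap_apply]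
  · rw [Perm.viaEmbedding_apply_of_notMem _ _ _ ha, swap_apply_of_ne_of_ne]
    · rintro rfl; exact ha ⟨i, rfl⟩
    · rintro rfl; exact ha ⟨j, rfl⟩

/-- (FF3) witnesses for `p = 3`. -/
theorem exists_witness_three (h9 : 9 ≤ Fintype.card α) (u : Perm α) (hu : IsFull u) :
    ∃ τ₀ τ' : Perm α, Perm.sign τ₀ = -1 ∧ Perm.sign τ' = 1 ∧
      Good 3 u (τ₀ * u⁻¹ * τ₀⁻¹) ∧ Good 3 u (τ' * u⁻¹ * τ'⁻¹) := by
  have : Fact (Nat.Prime 3) := ⟨Nat.prime_three⟩
  obtain ⟨x⟩ : Nonempty α := Fintype.card_pos_iff.1 (by omega)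
  obtain ⟨φ, hφ⟩ : ∃ φ : Perm (Fin 9) →* Perm α, φ = Perm.viaEmbeddingHom (emb9 u hu h9 x) :=
    ⟨_, rfl⟩
  have hφinj : Function.Injective φ := hφ ▸ Perm.viaEmbeddingHom_injective _
  have hφs : ∀ i j : Fin 9, φ (swap i j) = swap (pt u x i) (pt u x j) := fun i j => by
    rw [hφ]; exact via_swap _ i j
  have hne : ∀ i j : ℕ, i < 9 → j < 9 → i ≠ j → pt u x i ≠ pt u x j := fun i j hi hj hij h =>
    hij (pt_injOn u hu (by omega) x i j (by omega) (by omega) h)
  refine ⟨swap (pt u x 0) (pt u x 2), swap (pt u x 0) (pt u x 1) * swap (pt u x 2) (pt u x 3),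
    Perm.sign_swap (hne 0 2 (by norm_num) (by norm_num) (by norm_num)), ?_, ?_, ?_⟩
  · rw [map_mul, Perm.sign_swap (hne 0 1 (by norm_num) (by norm_num) (by norm_num)),
      Perm.sign_swap (hne 2 3 (by norm_num) (by norm_num) (by norm_num))]
    rfl
  · -- the odd witness
    obtain ⟨D, hD⟩ : ∃ D : ℕ → Perm α, D = fun i =>
        swap (pt u x (i + 1)) (pt u x (i + 3)) * swap (pt u x i) (pt u x (i + 2)) := ⟨_, rfl⟩
    have hDconj : ∀ i, u * D i * u⁻¹ = D (i + 1) := by
      intro i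
      rw [hD]
      simp only
      have : ∀ s t : Perm α, u * (s * t) * u⁻¹ = (u * s * u⁻¹) * (u * t * u⁻¹) := fun s t => by
        group
      rw [this, conj_swap_pt, conj_swap_pt]
    have hprod : u * (swap (pt u x 0) (pt u x 2) * u⁻¹ * (swap (pt u x 0) (pt u x 2))⁻¹) = D 0 := by
      have : ∀ τ : Perm α, u * (τ * u⁻¹ * τ⁻¹) = (u * τ * u⁻¹) * τ⁻¹ := fun τ => by group
      rw [this, swap_inv, conj_swap_pt, hD]
    have hφd : φ d90 = D 0 := by
      rw [hD]
      simp only [d90, map_mul, hφs]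
      rfl
    obtain ⟨H, hH⟩ : ∃ H : Subgroup (Perm α), H = Subgroup.closure
        ({u, swap (pt u x 0) (pt u x 2) * u⁻¹ * (swap (pt u x 0) (pt u x 2))⁻¹} : Set (Perm α)) :=
      ⟨_, rfl⟩
    have huH : u ∈ H := hH ▸ Subgroup.subset_closure (Set.mem_insert _ _)
    have hyH : swap (pt u x 0) (pt u x 2) * u⁻¹ * (swap (pt u x 0) (pt u x 2))⁻¹ ∈ H :=
      hH ▸ Subgroup.subset_closure (Set.mem_insert_of_mem _ rfl)
    have hDH : ∀ i, D i ∈ H := by
      intro i
      induction i with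
      | zero => rw [← hprod]; exact H.mul_mem huH hyH
      | succ i ih => rw [← hDconj]; exact H.mul_mem (H.mul_mem huH ih) (H.inv_mem huH)
    have hφA : φ (d90 * d91) = D 0 * D 1 := by
      rw [hD]
      simp only [d90, d91, map_mul, hφs]
      rfl
    have hφB : φ (d94 * d95) = D 4 * D 5 := by
      rw [hD]
      simp only [d94, d95, map_mul, hφs]
      rfl
    have hle : Subgroup.closure ({φ (d90 * d91), φ (d94 * d95)} : Set (Perm α)) ≤ H := by
      rw [Subgroup.closure_le]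
      rintro c (rfl | rfl)
      · rw [hφA]; exact H.mul_mem (hDH 0) (hDH 1)
      · rw [hφB]; exact H.mul_mem (hDH 4) (hDH 5)
    refine ⟨?_, hH ▸ not_solvable_of_le hle (not_solvable_closure_map_of_injective φ hφinj certA)⟩
    rw [hprod, ← hφd]
    refine not_isPEl_of_pow _ 1 2 ?_ ?_ (by norm_num)
    · rw [pow_one]
      intro h
      exact d90_ne_one (hφinj (h.trans (map_one φ).symm))
    · rw [pow_one, ← map_pow, d90_sq, map_one]
  · -- the even witness
    obtain ⟨E, hE⟩ : ∃ E : ℕ → Perm α, E = fun i =>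
        (swap (pt u x (i + 1)) (pt u x (i + 2)) * swap (pt u x (i + 3)) (pt u x (i + 4))) *
          (swap (pt u x (i + 2)) (pt u x (i + 3)) * swap (pt u x i) (pt u x (i + 1))) := ⟨_, rfl⟩
    have hEconj : ∀ i, u * E i * u⁻¹ = E (i + 1) := by
      intro i
      rw [hE]
      simp only
      have : ∀ a b c d : Perm α, u * ((a * b) * (c * d)) * u⁻¹ =
          ((u * a * u⁻¹) * (u * b * u⁻¹)) * ((u * c * u⁻¹) * (u * d * u⁻¹)) := fun a b c d => by
        group
      rw [this, conj_swap_pt, conj_swap_pt, conj_swap_pt, conj_swap_pt]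
    have hprod : u * ((swap (pt u x 0) (pt u x 1) * swap (pt u x 2) (pt u x 3)) * u⁻¹ *
        (swap (pt u x 0) (pt u x 1) * swap (pt u x 2) (pt u x 3))⁻¹) = E 0 := by
      have : ∀ a b : Perm α, u * ((a * b) * u⁻¹ * (a * b)⁻¹) =
          ((u * a * u⁻¹) * (u * b * u⁻¹)) * (b⁻¹ * a⁻¹) := fun a b => by group
      rw [this, swap_inv, swap_inv, conj_swap_pt, conj_swap_pt, hE]
    have hφe : φ e90 = E 0 := by
      rw [hE]
      simp only [e90, map_mul, hφs]
      rfl
    have hφf : φ e91 = E 1 := by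
      rw [hE]
      simp only [e91, map_mul, hφs]
      rfl
    obtain ⟨H, hH⟩ : ∃ H : Subgroup (Perm α), H = Subgroup.closure
        ({u, (swap (pt u x 0) (pt u x 1) * swap (pt u x 2) (pt u x 3)) * u⁻¹ *
          (swap (pt u x 0) (pt u x 1) * swap (pt u x 2) (pt u x 3))⁻¹} : Set (Perm α)) :=
      ⟨_, rfl⟩
    have huH : u ∈ H := hH ▸ Subgroup.subset_closure (Set.mem_insert _ _)
    have hyH : (swap (pt u x 0) (pt u x 1) * swap (pt u x 2) (pt u x 3)) * u⁻¹ *
          (swap (pt u x 0) (pt u x 1) * swap (pt u x 2) (pt u x 3))⁻¹ ∈ H :=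
      hH ▸ Subgroup.subset_closure (Set.mem_insert_of_mem _ rfl)
    have hE0 : E 0 ∈ H := by rw [← hprod]; exact H.mul_mem huH hyH
    have hE1 : E 1 ∈ H := by
      rw [← hEconj]; exact H.mul_mem (H.mul_mem huH hE0) (H.inv_mem huH)
    have hle : Subgroup.closure ({φ e90, φ e91} : Set (Perm α)) ≤ H := by
      rw [Subgroup.closure_le]
      rintro c (rfl | rfl)
      · rw [hφe]; exact hE0
      · rw [hφf]; exact hE1
    refine ⟨?_, hH ▸ not_solvable_of_le hle (not_solvable_closure_map_of_injective φ hφinj certE)⟩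
    rw [hprod, ← hφe]
    refine not_isPEl_of_pow _ 1 5 ?_ ?_ (by norm_num)
    · rw [pow_one]
      intro h
      exact e90_ne_one (hφinj (h.trans (map_one φ).symm))
    · rw [pow_one, ← map_pow, e90_pow, map_one]

end pts

end Cfsg.Agent.Helper55.FP
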