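import Cfsg.Agent.Helper39.C320.Defs

/-!
# S1903 (helper39), piece (A12): the defining relations hold for a suitable `a`.
-/

set_option autoImplicit false

namespace Cfsg.Agent.Helper55.C320

open Cfsg.Agent.Helper39.C320

variable {G : Type*} [Group G] [Finite G]
variable {P Z : Subgroup G} {x : G}

/-- (A12) the relations -/
theorem Setup.exists_rel (h : Setup P Z x)
    (hcen : ∀ z ∈ Z, ∀ g : G, g * z = z * g)
    (hab : ∀ p ∈ P, ∀ q ∈ P, p * q * p⁻¹ * q⁻¹ ∈ Z)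
    (hnorm : ∀ a ∈ P, (a * x) ^ 5 ∈ Z)
    (hsq : ∃ a ∈ P, a ∉ Z ∧ a * a ∈ Z) :
    ∃ a ∈ P, a ∉ Z ∧ Rel x a := by
  obtain ⟨a, haP, haZ, haa⟩ := hsq
  have hnP := h.normP
  obtain ⟨w, hw⟩ : ∃ w : G, w = (a * x) ^ 5 := ⟨_, rfl⟩
  have hwZ : w ∈ Z := hw ▸ hnorm a haP
  have hwP : w ∈ P := h.Z_le hwZ
  have hww : w * w = 1 := h.sq_Z w hwZ
  have hwc : ∀ g : G, g * w = w * g := hcen w hwZ
  have hbP : a * w ∈ P := P.mul_mem haP hwP
  have hbZ : a * w ∉ Z := by
    intro hb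
    apply haZ
    have : a = a * w * w⁻¹ := by group
    rw [this]
    exact Z.mul_mem hb (Z.inv_mem hwZ)
  have hbb : (a * w) * (a * w) = a * a := by
    calc (a * w) * (a * w) = a * (w * a) * w := by group
      _ = a * (a * w) * w := by rw [hwc a]
      _ = a * a * (w * w) := by group
      _ = a * a := by rw [hww, mul_one]
  -- conjugates of `a * w` lie in `P`
  have hc1P : cj1 x (a * w) ∈ P := hnP.conj_mem _ hbP x
  have hc2P : cj2 x (a * w) ∈ P := hnP.conj_mem _ hbP (x ^ 2)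
  have hk1Z : k1 x (a * w) ∈ Z := hab _ hbP _ hc1P
  have hk2Z : k2 x (a * w) ∈ Z := hab _ hbP _ hc2P
  refine ⟨a * w, hbP, hbZ, ?_⟩
  refine ⟨?_, ?_, ?_, ?_, ?_, ?_, ?_, ?_, ?_, ?_⟩
  · rw [← h.ord_x]; exact pow_orderOf_eq_one x
  · have h1 : a * w * x = (a * x) * w := by
      calc a * w * x = a * (w * x) := by group
        _ = a * (x * w) := by rw [hwc x]
        _ = (a * x) * w := by group
    have hcm : Commute (a * x) w := hwc (a * x)
    rw [h1, hcm.mul_pow, ← hw]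
    have : w ^ 5 = w := by
      have hw2 : w ^ 2 = 1 := by rw [pow_two]; exact hww
      rw [show (5 : ℕ) = 2 * 2 + 1 from rfl, pow_succ, pow_mul, hw2, one_pow, one_mul]
    rw [this, hww]
  · have hb2 : (a * w) ^ 2 = a * a := by rw [pow_two]; exact hbb
    rw [show (4 : ℕ) = 2 * 2 from rfl, pow_mul, hb2, pow_two]
    exact h.sq_Z _ haa
  · rw [hbb]
    exact (hcen _ haa x).symm
  · exact (hcen _ hk1Z _).symm
  · exact (hcen _ hk1Z _).symm
  · exact (hcen _ hk2Z _).symm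
  · exact (hcen _ hk2Z _).symm
  · exact h.sq_Z _ hk1Z
  · exact h.sq_Z _ hk2Z

end Cfsg.Agent.Helper55.C320
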