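import Cfsg.Agent.Helper39.C320.Defs

/-!
# S1903 (helper39), piece (A4): `x` does not centralise `P`.
-/

set_option autoImplicit false

namespace Cfsg.Agent.Helper55.C320

open Cfsg.Agent.Helper39.C320

variable {G : Type*} [Group G] [Finite G]
variable {P Z : Subgroup G} {x : G}

/-- (A4) `x` does not centralise `P` (else `G' < P`) -/
theorem Setup.not_comm (h : Setup P Z x)
    (htop : ∀ K : Subgroup G, P ≤ K → x ∈ K → K = ⊤) :
    ¬ ∀ p ∈ P, x * p = p * x := by
  intro hc
  -- `x` is central
  have hcent : Subgroup.centralizer {x} = (⊤ : Subgroup G) := by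
    apply htop
    · intro p hp
      rw [Subgroup.mem_centralizer_iff]
      intro y hy
      rw [Set.mem_singleton_iff] at hy
      subst hy
      exact hc p hp
    · rw [Subgroup.mem_centralizer_iff]
      intro y hy
      rw [Set.mem_singleton_iff] at hy
      subst hy
      rfl
  have hxc : x ∈ Subgroup.center G := by
    rw [Subgroup.mem_center_iff]
    intro g
    have hg : g ∈ Subgroup.centralizer {x} := hcent ▸ Subgroup.mem_top g
    rw [Subgroup.mem_centralizer_iff] at hg
    exact (hg x rfl).symm
  have hNle : Subgroup.zpowers x ≤ Subgroup.center G := (Subgroup.zpowers_le).mpr hxc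
  have hNn : (Subgroup.zpowers x).Normal := by
    refine ⟨fun n hn g => ?_⟩
    have := hNle hn
    rw [Subgroup.mem_center_iff] at this
    rw [this g, mul_inv_cancel_right]
    exact hn
  set N := Subgroup.zpowers x with hN
  have hcardN : Nat.card N = 5 := by rw [hN, Nat.card_zpowers, h.ord_x]
  have hcardQ : Nat.card (G ⧸ N) = 64 := by
    have := Subgroup.card_eq_card_quotient_mul_card_subgroup N
    rw [h.cardG, hcardN] at this
    omega
  have : Fact (Nat.Prime 2) := ⟨Nat.prime_two⟩
  have hpg : IsPGroup 2 (G ⧸ N) := IsPGroup.of_card (n := 6) (by rw [hcardQ]; norm_num)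
  have : Group.IsNilpotent (G ⧸ N) := hpg.isNilpotent
  have : Nontrivial (G ⧸ N) := by
    apply (Finite.one_lt_card_iff_nontrivial).mp
    rw [hcardQ]; norm_num
  have hlt : commutator (G ⧸ N) < ⊤ := Group.IsSolvable.commutator_lt_top_of_nontrivial (G ⧸ N)
  -- but the commutator subgroup of the quotient is the image of `P`, which is everything
  have hsup : P ⊔ N = ⊤ := htop _ le_sup_left (le_sup_right (a := P) (Subgroup.mem_zpowers x))
  have hmapP : P.map (QuotientGroup.mk' N) = ⊤ := by
    have h1 : (P ⊔ N).map (QuotientGroup.mk' N) = P.map (QuotientGroup.mk' N) := by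
      rw [Subgroup.map_sup, QuotientGroup.map_mk'_self, sup_bot_eq]
    rw [← h1, hsup]
    exact Subgroup.map_top_of_surjective _ (QuotientGroup.mk'_surjective N)
  have hcomm : commutator (G ⧸ N) = (commutator G).map (QuotientGroup.mk' N) := by
    rw [commutator_def, commutator_def, Subgroup.map_commutator,
      Subgroup.map_top_of_surjective _ (QuotientGroup.mk'_surjective N)]
  rw [hcomm, h.comm, hmapP] at hlt
  exact lt_irrefl _ hlt

end Cfsg.Agent.Helper55.C320
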