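import Cfsg.Agent.Helper40.D4Tor.Defs

/-!
# S2376 piece (FIXMAP) of helper40's market #13182

The entrywise image of `³D₄(q)` over a bigger field is fixed by the graph-field automorphism of the bigger field.
-/

set_option autoImplicit false
set_option maxRecDepth 100000

namespace Cfsg.Agent.Helper55.D4Tor

open Cfsg Cfsg.Lie Cfsg.Agent.Helper18 Cfsg.Agent.Helper19.Twist Cfsg.Agent.Helper40.D4Tor
open Cfsg.Agent.Helper40.GraphAut Cfsg.Agent.S1081

/-- the underlying matrix of `GL.map φ g` is the entrywise image -/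
theorem fixmap_map_val {n : Type*} [Fintype n] [DecidableEq n] {F K : Type*} [Field F] [Field K] (φ : F →+* K)
    (g : GL n F) :
    ((Matrix.GeneralLinearGroup.map φ g : GL n K) : Matrix n n K) = (g : Matrix n n F).map φ := by
  ext i j
  rw [Matrix.GeneralLinearGroup.map_apply, Matrix.map_apply]

/-- local copy of (MAP-X): `GL.map φ (x_r(t)) = x_r(φ t)` -/
theorem fixmap_xGL {K K' : Type*} [Field K] [Field K'] (φ : K →+* K') (r : ℕ) (t : K) :
    Matrix.GeneralLinearGroup.map φ (xGL chevD4 K r t) = xGL chevD4 K' r (φ t) := by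
  apply Units.ext
  rw [fixmap_map_val, xGL_val chevD4 _ (triOK_of_mem chevD4 memD4), xGL_val chevD4 _ (triOK_of_mem chevD4 memD4),
    x_map']

/-- (FIXMAP) the image of `³D₄(q)` over the bigger field is fixed by the graph-field automorphism of the bigger field. -/
theorem gmap_mem_Fix {K K' : Type*} [Field K] [Fintype K] [Field K'] (q : ℕ) (hK : Fintype.card K = q ^ 3)
    (φ : K →+* K') (f' : K' ≃+* K') (hf' : ∀ x, f' x = x ^ q) (g : GL chevD4.Idx K) (hg : g ∈ twistedD4 K q) :
    Matrix.GeneralLinearGroup.map φ g ∈ FixD4 f' := by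
  have htri := triOK_of_mem chevD4 memD4
  have hle : twistedD4 K q ≤ (FixD4 f').comap (Matrix.GeneralLinearGroup.map φ) := by
    unfold twistedD4 ChevalleyDatum.genSubgroup
    rw [Subgroup.closure_le]
    rintro g ⟨w, hw, hg⟩
    rw [SetLike.mem_coe, Subgroup.mem_comap, mem_FixD4]
    rcases hw with ⟨t, ht, r, hr, rfl⟩ | ⟨t, rs, hrs, rfl⟩
    · have e : g = xGL chevD4 K r t := Units.ext (by
        rw [hg, xGL_val chevD4 _ htri]; simp [ChevalleyDatum.wordMat])
      have ht' : (φ t) ^ q = φ t := by rw [← map_pow, ht]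
      simp only [d4p2, d4m2, List.mem_cons, List.not_mem_nil, or_false] at hr
      rcases hr with rfl | rfl
      · rw [e, fixmap_xGL, sigD4_xGL f' _ (by decide)]
        have e1 : pi1 14 = 14 := rfl
        have e2 : eps1 14 = 1 := rfl
        rw [e1, e2, hf', ht', Int.cast_one, one_mul]
      · rw [e, fixmap_xGL, sigD4_xGL f' _ (by decide)]
        have e1 : pi1 9 = 9 := rfl
        have e2 : eps1 9 = 1 := rfl
        rw [e1, e2, hf', ht', Int.cast_one, one_mul]
    · have e7 : (φ (t ^ q ^ 2)) ^ q = φ t := by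
        rw [← map_pow, ← pow_mul, ← pow_succ, ← hK, FiniteField.pow_card]
      have e8 : (φ (t ^ q)) ^ q = φ (t ^ q ^ 2) := by rw [← map_pow, ← pow_mul, sq]
      have e9 : (φ t) ^ q = φ (t ^ q) := by rw [map_pow]
      simp only [d4p1, d4p3, d4p4, d4m1, d4m3, d4m4, List.mem_cons, List.not_mem_nil, or_false] at hrs
      rcases hrs with rfl | rfl
      · have e : g = xGL chevD4 K 18 t * xGL chevD4 K 13 (t ^ q) * xGL chevD4 K 12 (t ^ q ^ 2) := Units.ext (by
          rw [hg, Units.val_mul, Units.val_mul, xGL_val chevD4 _ htri, xGL_val chevD4 _ htri,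
            xGL_val chevD4 _ htri]
          simp [ChevalleyDatum.wordMat, mul_assoc])
        have e' : Matrix.GeneralLinearGroup.map φ g =
            xGL chevD4 K' 18 (φ t) * xGL chevD4 K' 13 (φ (t ^ q)) * xGL chevD4 K' 12 (φ (t ^ q ^ 2)) := by
          rw [e, map_mul, map_mul, fixmap_xGL, fixmap_xGL, fixmap_xGL]
        rw [e', map_mul, map_mul,
          sigD4_xGL f' _ (by decide), sigD4_xGL f' _ (by decide), sigD4_xGL f' _ (by decide)]
        have e1 : pi1 18 = 13 := rfl
        have e2 : pi1 13 = 12 := rfl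
        have e3 : pi1 12 = 18 := rfl
        have e4 : eps1 18 = 1 := rfl
        have e5 : eps1 13 = 1 := rfl
        have e6 : eps1 12 = 1 := rfl
        rw [e1, e2, e3, e4, e5, e6, Int.cast_one, one_mul, one_mul, one_mul, hf', hf', hf', e7, e8, e9]
        rw [mul_assoc, ← xGL_comm_of_commTerms_nil chevD4 memD4 18 12 (by decide) (by decide) (by decide)
          (by decide) (by decide), ← mul_assoc,
          ← xGL_comm_of_commTerms_nil chevD4 memD4 18 13 (by decide) (by decide) (by decide)
          (by decide) (by decide), mul_assoc]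
      · have e : g = xGL chevD4 K 5 t * xGL chevD4 K 10 (t ^ q) * xGL chevD4 K 11 (t ^ q ^ 2) := Units.ext (by
          rw [hg, Units.val_mul, Units.val_mul, xGL_val chevD4 _ htri, xGL_val chevD4 _ htri,
            xGL_val chevD4 _ htri]
          simp [ChevalleyDatum.wordMat, mul_assoc])
        have e' : Matrix.GeneralLinearGroup.map φ g =
            xGL chevD4 K' 5 (φ t) * xGL chevD4 K' 10 (φ (t ^ q)) * xGL chevD4 K' 11 (φ (t ^ q ^ 2)) := by
          rw [e, map_mul, map_mul, fixmap_xGL, fixmap_xGL, fixmap_xGL]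
        rw [e', map_mul, map_mul,
          sigD4_xGL f' _ (by decide), sigD4_xGL f' _ (by decide), sigD4_xGL f' _ (by decide)]
        have e1 : pi1 5 = 10 := rfl
        have e2 : pi1 10 = 11 := rfl
        have e3 : pi1 11 = 5 := rfl
        have e4 : eps1 5 = 1 := rfl
        have e5 : eps1 10 = 1 := rfl
        have e6 : eps1 11 = 1 := rfl
        rw [e1, e2, e3, e4, e5, e6, Int.cast_one, one_mul, one_mul, one_mul, hf', hf', hf', e7, e8, e9]
        rw [mul_assoc, ← xGL_comm_of_commTerms_nil chevD4 memD4 5 11 (by decide) (by decide) (by decide)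
          (by decide) (by decide), ← mul_assoc,
          ← xGL_comm_of_commTerms_nil chevD4 memD4 5 10 (by decide) (by decide) (by decide)
          (by decide) (by decide), mul_assoc]
  exact hle hg

end Cfsg.Agent.Helper55.D4Tor
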