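import Cfsg.Agent.Helper18.InvOdd.G2D
import Cfsg.Agent.Helper18.InvOdd.CentDecomp

/-!
helper55 for helper40 (S2371, piece (CK)): the centraliser in `G₂(K)` of a regular element of the split torus is the torus.
-/

set_option autoImplicit false
set_option maxRecDepth 100000

namespace Cfsg.Agent.Helper55.G2Tor

open Cfsg Cfsg.Lie Cfsg.Agent.Helper18 Cfsg.Agent.Helper18.G2Odd

theorem ck_rho : ∀ w ∈ canon12, (∀ s < 12, rho chevG2 w s = s) → w = [] := by decide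

/-- an element of `U` commuting with a torus element all of whose root values are `≠ 1` is trivial -/
theorem ck_unip {K : Type*} [Field K] (c₀ c₁ : Kˣ) (hne : ∀ s < 12, chr s c₀ c₁ ≠ 1)
    (v : GL chevG2.Idx K) (hv : v ∈ chevG2.posUnipotent K) (hcv : v * tor c₀ c₁ = tor c₀ c₁ * v) : v = 1 := by
  obtain ⟨t, rfl⟩ := U_expr v hv
  have h1 : tor c₀ c₁ * uprod t * (tor c₀ c₁)⁻¹ = uprod (fun r => ((chr r c₀ c₁ : Kˣ) : K) * t r) := by
    unfold uprod
    beta_reduce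
    rw [← tor_conj c₀ c₁ 6 (by norm_num), ← tor_conj c₀ c₁ 7 (by norm_num), ← tor_conj c₀ c₁ 8 (by norm_num),
      ← tor_conj c₀ c₁ 9 (by norm_num), ← tor_conj c₀ c₁ 10 (by norm_num), ← tor_conj c₀ c₁ 11 (by norm_num)]
    group
  have h2 : uprod t = uprod (fun r => ((chr r c₀ c₁ : Kˣ) : K) * t r) := by
    rw [← h1, ← hcv]; group
  have h3 := uprod_inj _ _ h2
  have ht : ∀ r, 6 ≤ r → r < 12 → t r = 0 := by
    intro r h6 h12
    have h4 : t r = ((chr r c₀ c₁ : Kˣ) : K) * t r := h3 r h6 h12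
    by_contra hne0
    apply hne r h12
    apply Units.ext
    rw [Units.val_one]
    have h5 : (1 - ((chr r c₀ c₁ : Kˣ) : K)) * t r = 0 := by rw [sub_mul, one_mul, ← h4, sub_self]
    rcases mul_eq_zero.mp h5 with h6' | h6'
    · exact (sub_eq_zero.mp h6').symm
    · exact absurd h6' hne0
  unfold uprod
  rw [ht 6 (by norm_num) (by norm_num), ht 7 (by norm_num) (by norm_num), ht 8 (by norm_num) (by norm_num),
    ht 9 (by norm_num) (by norm_num), ht 10 (by norm_num) (by norm_num), ht 11 (by norm_num) (by norm_num)]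
  simp only [X_zero, mul_one]

/-- an element of `N` commuting with a torus element with pairwise distinct root values lies in `H` -/
theorem ck_mono {K : Type*} [Field K] (c₀ c₁ : Kˣ)
    (hinj : ∀ s < 12, ∀ s' < 12, chr s c₀ c₁ = chr s' c₀ c₁ → s = s')
    (n : GL chevG2.Idx K) (hn : n ∈ chevG2.monomialSubgroup K) (hcn : n * tor c₀ c₁ = tor c₀ c₁ * n) :
    n ∈ chevG2.diagonalSubgroup K := by
  obtain ⟨k, hk, w, hw, rfl⟩ := monomial_canon n hn
  have hwlt : ∀ i ∈ w, i < 2 := canon_lt w hw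
  have hkc : k * tor c₀ c₁ = tor c₀ c₁ * k := diag_comm k _ hk (tor_mem _ _)
  have hwc : nW w * tor c₀ c₁ = tor c₀ c₁ * nW w := by
    have : k * (nW w * tor c₀ c₁) = k * (tor c₀ c₁ * nW w) := by
      rw [← mul_assoc, hcn, ← mul_assoc, ← mul_assoc, hkc]
    exact mul_left_cancel this
  have hwc' : (nW (F := K) w)⁻¹ * (tor c₀ c₁)⁻¹ = (tor c₀ c₁)⁻¹ * (nW w)⁻¹ := by
    rw [← mul_inv_rev, ← mul_inv_rev, hwc]
  have hrho : ∀ s < 12, rho chevG2 w s = s := by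
    intro s hs
    obtain ⟨hlt, η, hη, hconj⟩ := nW_conj (F := K) w hwlt s hs
    have hη0 : η ≠ 0 := by
      rcases hη with rfl | rfl
      · exact one_ne_zero
      · exact neg_ne_zero.mpr one_ne_zero
    have e1 : tor c₀ c₁ * (nW w * X s 1 * (nW w)⁻¹) * (tor c₀ c₁)⁻¹ =
        nW w * (tor c₀ c₁ * X s 1 * (tor c₀ c₁)⁻¹) * (nW w)⁻¹ := by
      calc tor c₀ c₁ * (nW w * X s 1 * (nW w)⁻¹) * (tor c₀ c₁)⁻¹
          = (tor c₀ c₁ * nW w) * X s 1 * ((nW w)⁻¹ * (tor c₀ c₁)⁻¹) := by group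
        _ = (nW w * tor c₀ c₁) * X s 1 * ((tor c₀ c₁)⁻¹ * (nW w)⁻¹) := by rw [hwc, hwc']
        _ = nW w * (tor c₀ c₁ * X s 1 * (tor c₀ c₁)⁻¹) * (nW w)⁻¹ := by group
    rw [hconj 1, tor_conj c₀ c₁ _ hlt, tor_conj c₀ c₁ s hs, hconj] at e1
    have e2 := X_injective _ hlt _ _ e1
    apply hinj _ hlt s hs
    apply Units.ext
    have e3 : ((chr (rho chevG2 w s) c₀ c₁ : Kˣ) : K) * η = ((chr s c₀ c₁ : Kˣ) : K) * η := by
      linear_combination e2
    exact mul_right_cancel₀ hη0 e3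
  have hw0 : w = [] := ck_rho w hw hrho
  subst hw0
  rw [nW_nil, mul_one]
  exact hk

/-- (CK) the centraliser of a regular element of the split torus -/
theorem cent_regular {K : Type*} [Field K] (c₀ c₁ : Kˣ)
    (hinj : ∀ s < 12, ∀ s' < 12, chr s c₀ c₁ = chr s' c₀ c₁ → s = s') (hne : ∀ s < 12, chr s c₀ c₁ ≠ 1)
    (g : GL chevG2.Idx K) (hg : g ∈ chevG2.group K) (hc : g * tor c₀ c₁ = tor c₀ c₁ * g) :
    g ∈ chevG2.diagonalSubgroup K := by
  obtain ⟨u₁, hu₁, h, hh, n, hn, u, hu, rfl, hcu₁, hcn, hcu⟩ :=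
    Cfsg.Agent.Helper18.InvOdd.cent_decomp chevG2 hG2 (tor c₀ c₁) (tor_mem _ _) g hg hc
  have hu' : u ∈ chevG2.posUnipotent K := Um_le_pos n hu
  have e1 : u₁ = 1 := ck_unip c₀ c₁ hne u₁ hu₁ hcu₁
  have e2 : u = 1 := ck_unip c₀ c₁ hne u hu' hcu
  have e3 : n ∈ chevG2.diagonalSubgroup K := ck_mono c₀ c₁ hinj n hn hcn
  rw [e1, e2, one_mul, mul_one]
  exact mul_mem hh e3

end Cfsg.Agent.Helper55.G2Tor
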