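import Cfsg.Agent.Helper18.InvOdd.G2D

/-!
helper55 for helper40 (S2371, piece (TORV)): the matrix of the torus element `tor c₀ c₁` of `G₂(K)`.
-/

set_option autoImplicit false
set_option maxRecDepth 100000

namespace Cfsg.Agent.Helper55.G2Tor

open Cfsg Cfsg.Lie Cfsg.Agent.Helper18 Cfsg.Agent.Helper18.G2Odd

/-- the value of `tor` as a matrix. -/
theorem tor_val {K : Type*} [Field K] (c₀ c₁ : Kˣ) :
    ((tor c₀ c₁ : GL chevG2.Idx K) : Matrix chevG2.Idx chevG2.Idx K) =
      Matrix.diagonal (Sum.elim (fun _ => (1 : K)) (fun s : Fin chevG2.nroots => ((chr s.val c₀ c₁ : Kˣ) : K))) := by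
  unfold tor
  rw [torusHom_val]
  congr 1
  funext j
  rcases j with a | s
  · simp [torusChar]
  · simp only [torusChar, MonoidHom.coe_mk, OneHom.coe_mk, Sum.elim_inr]
    have : (Finset.univ : Finset (Fin chevG2.rank)) =
        {(⟨0, by decide⟩ : Fin chevG2.rank), (⟨1, by decide⟩ : Fin chevG2.rank)} := by
      decide
    rw [this, Finset.prod_insert (by decide), Finset.prod_singleton]
    rfl

end Cfsg.Agent.Helper55.G2Tor
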