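import Mathlib
import Cfsg.Agent.Helper43.EF.Defs

/-!
# S5976 (helper43 WANTED #7932), piece (STD)

Every `y` with `y² = δ ≠ 0`, `y* = -y` (for the standard alternating form) is `Sp`-conjugate to the
standard `Y0 d δ`, provided the norm form `a² - δ b²` is universal.
-/

set_option autoImplicit false
set_option linter.unusedSectionVars false
set_option linter.unusedVariables false

namespace Cfsg.Agent.Helper55.EF

open Matrix Cfsg Cfsg.Geo Cfsg.Agent.Helper13 Cfsg.Agent.Helper45.C3S Cfsg.Agent.Helper43.EF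

variable {F : Type*} [Field F] {d : ℕ}

local notation "Vec" => (Fin d ⊕ Fin d → F)
local notation "Mat" => Matrix (Fin d ⊕ Fin d) (Fin d ⊕ Fin d) F
local notation "⟪" x ", " y "⟫" => Cfsg.sympForm d F x y

/-- the functional `u ↦ ⟪u, w⟫` -/
def formL (w : Vec) : Vec →ₗ[F] F where
  toFun u := ⟪u, w⟫
  map_add' u u' := sympForm_add_left u u' w
  map_smul' c u := by
    rw [sympForm_smul_left]
    rfl

theorem formL_apply (w u : Vec) : formL w u = ⟪u, w⟫ := rfl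

theorem adata_mulVec_mulVec {y : Mat} {δ : F} (hy : AData y δ) (u : Vec) :
    y *ᵥ (y *ᵥ u) = δ • u := by
  rw [Matrix.mulVec_mulVec, hy.sq, Matrix.smul_mulVec, Matrix.one_mulVec]

theorem adata_symm {y : Mat} {δ : F} (hy : AData y δ) (u v : Vec) :
    ⟪y *ᵥ u, v⟫ = ⟪y *ᵥ v, u⟫ := by
  rw [hy.adj u v, sympForm_swap (y *ᵥ v) u]

theorem adata_form_comb {y : Mat} {δ : F} (hy : AData y δ) (x : Vec) (a b : F) :
    ⟪y *ᵥ (a • x + b • (y *ᵥ x)), a • x + b • (y *ᵥ x)⟫ =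
      (a * a - δ * b * b) * ⟪y *ᵥ x, x⟫ := by
  have h1 : ⟪y *ᵥ x, y *ᵥ x⟫ = 0 := sympForm_self _
  have h2 : ⟪x, x⟫ = 0 := sympForm_self _
  have h3 : ⟪x, y *ᵥ x⟫ = -⟪y *ᵥ x, x⟫ := sympForm_swap _ _
  rw [Matrix.mulVec_add, Matrix.mulVec_smul, Matrix.mulVec_smul, adata_mulVec_mulVec hy]
  simp only [sympForm_add_left, sympForm_add_right, sympForm_smul_left, sympForm_smul_right,
    h1, h2, h3]
  ring

/-- a `y`-invariant nondegenerate nonzero subspace contains `w` with `⟪y w, w⟫ = 1` -/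
theorem exists_unit_vector (h2 : (2 : F) ≠ 0) {y : Mat} {δ : F} (hδ : δ ≠ 0) (hy : AData y δ)
    (hnorm : ∀ c : F, ∃ a b : F, a * a - δ * b * b = c) (W : Submodule F Vec)
    (hWy : ∀ u ∈ W, y *ᵥ u ∈ W) (hnd : ∀ u ∈ W, u ≠ 0 → ∃ v ∈ W, ⟪u, v⟫ ≠ 0) (hW : W ≠ ⊥) :
    ∃ w ∈ W, ⟪y *ᵥ w, w⟫ = 1 := by
  obtain ⟨u, hu, hu0⟩ := Submodule.exists_mem_ne_zero_of_ne_bot hW
  obtain ⟨v, hv, huv⟩ := hnd u hu hu0
  -- `u' = y⁻¹ u`
  set u' : Vec := δ⁻¹ • (y *ᵥ u) with hu'
  have hu'W : u' ∈ W := W.smul_mem _ (hWy u hu)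
  have hyu' : y *ᵥ u' = u := by
    rw [hu', Matrix.mulVec_smul, adata_mulVec_mulVec hy, smul_smul, inv_mul_cancel₀ hδ, one_smul]
  -- some `x ∈ W` with `⟪y x, x⟫ ≠ 0`
  obtain ⟨x, hx, hxx⟩ : ∃ x ∈ W, ⟪y *ᵥ x, x⟫ ≠ 0 := by
    by_contra hcon0
    have hcon : ∀ x ∈ W, ⟪y *ᵥ x, x⟫ = 0 := fun x hx =>
      by_contra (fun h => hcon0 ⟨x, hx, h⟩)
    have e1 := hcon u' hu'W
    have e2 := hcon v hv
    have e3 := hcon (u' + v) (W.add_mem hu'W hv)
    rw [Matrix.mulVec_add] at e3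
    simp only [sympForm_add_left, sympForm_add_right] at e3
    rw [e1, e2, adata_symm hy v u', hyu'] at e3
    have : (2 : F) * ⟪u, v⟫ = 0 := by
      have : (0 : F) + ⟪u, v⟫ + (⟪u, v⟫ + 0) = 2 * ⟪u, v⟫ := by ring
      rw [← this]
      exact e3
    rcases mul_eq_zero.mp this with h | h
    · exact h2 h
    · exact huv h
  obtain ⟨a, b, hab⟩ := hnorm (⟪y *ᵥ x, x⟫)⁻¹
  refine ⟨a • x + b • (y *ᵥ x), W.add_mem (W.smul_mem _ hx) (W.smul_mem _ (hWy x hx)), ?_⟩
  rw [adata_form_comb hy, hab, inv_mul_cancel₀ hxx]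

/-- the orthogonal frame: induction on the dimension -/
theorem exists_frame (h2 : (2 : F) ≠ 0) {y : Mat} {δ : F} (hδ : δ ≠ 0) (hy : AData y δ)
    (hnorm : ∀ c : F, ∃ a b : F, a * a - δ * b * b = c) :
    ∀ (k : ℕ) (W : Submodule F Vec), Module.finrank F W = 2 * k →
      (∀ u ∈ W, y *ᵥ u ∈ W) → (∀ u ∈ W, u ≠ 0 → ∃ v ∈ W, ⟪u, v⟫ ≠ 0) →
      ∃ w : Fin k → Vec, (∀ j, w j ∈ W) ∧ (∀ i j, ⟪w i, w j⟫ = 0) ∧
        (∀ i j, ⟪y *ᵥ w i, w j⟫ = if i = j then 1 else 0) := by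
  intro k
  induction k with
  | zero =>
    intro W _ _ _
    exact ⟨Fin.elim0, fun j => j.elim0, fun i => i.elim0, fun i => i.elim0⟩
  | succ k ih =>
    intro W hfin hWy hnd
    have hW : W ≠ ⊥ := by
      intro h
      rw [h, finrank_bot] at hfin
      omega
    obtain ⟨w, hw, hww⟩ := exists_unit_vector h2 hδ hy hnorm W hWy hnd hW
    have hyw : y *ᵥ w ∈ W := hWy w hw
    have hw_yw : ⟪w, y *ᵥ w⟫ = -1 := by rw [sympForm_swap, hww]
    have hyw_yw : ⟪y *ᵥ w, y *ᵥ w⟫ = 0 := sympForm_self _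
    have hw_w : ⟪w, w⟫ = 0 := sympForm_self _
    -- the map `W → F × F`
    let φ : Vec →ₗ[F] F × F := (formL w).prod (formL (y *ᵥ w))
    let f : ↥W →ₗ[F] F × F := φ.domRestrict W
    have hfapp : ∀ x : ↥W, f x = (⟪(x : Vec), w⟫, ⟪(x : Vec), y *ᵥ w⟫) := fun x => rfl
    have hsurj : LinearMap.range f = ⊤ := by
      rw [eq_top_iff]
      rintro ⟨s, t⟩ -
      refine ⟨⟨s • (y *ᵥ w) + (-t) • w, W.add_mem (W.smul_mem _ hyw) (W.smul_mem _ hw)⟩, ?_⟩
      rw [hfapp]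
      simp only [sympForm_add_left, sympForm_smul_left, hww, hyw_yw, hw_w, hw_yw]
      ext <;> simp
    have hker : Module.finrank F (LinearMap.ker f) = 2 * k := by
      have h := LinearMap.finrank_range_add_finrank_ker f
      rw [hsurj, finrank_top, Module.finrank_prod, Module.finrank_self, hfin] at h
      omega
    set W' : Submodule F Vec := (LinearMap.ker f).map W.subtype with hW'
    have hmem : ∀ u : Vec, u ∈ W' ↔ u ∈ W ∧ ⟪u, w⟫ = 0 ∧ ⟪u, y *ᵥ w⟫ = 0 := by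
      intro u
      rw [hW', Submodule.mem_map]
      constructor
      · rintro ⟨x, hx, rfl⟩
        rw [LinearMap.mem_ker, hfapp, Prod.mk_eq_zero] at hx
        exact ⟨x.2, hx.1, hx.2⟩
      · rintro ⟨huW, h1, h2'⟩
        refine ⟨⟨u, huW⟩, ?_, rfl⟩
        rw [LinearMap.mem_ker, hfapp, Prod.mk_eq_zero]
        exact ⟨h1, h2'⟩
    have hfin' : Module.finrank F W' = 2 * k := by
      rw [hW', Submodule.finrank_map_subtype_eq, hker]
    have hWy' : ∀ u ∈ W', y *ᵥ u ∈ W' := by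
      intro u hu
      obtain ⟨huW, h1, h2'⟩ := (hmem u).mp hu
      refine (hmem _).mpr ⟨hWy u huW, ?_, ?_⟩
      · rw [hy.adj, h2', neg_zero]
      · rw [hy.adj, adata_mulVec_mulVec hy, sympForm_smul_right, h1, mul_zero, neg_zero]
    have hnd' : ∀ u ∈ W', u ≠ 0 → ∃ v ∈ W', ⟪u, v⟫ ≠ 0 := by
      intro u hu hu0
      obtain ⟨huW, h1, h2'⟩ := (hmem u).mp hu
      obtain ⟨v, hv, huv⟩ := hnd u huW hu0
      refine ⟨v - (-⟪v, y *ᵥ w⟫) • w - ⟪v, w⟫ • (y *ᵥ w), ?_, ?_⟩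
      · refine (hmem _).mpr ⟨W.sub_mem (W.sub_mem hv (W.smul_mem _ hw)) (W.smul_mem _ hyw), ?_, ?_⟩
        · simp only [sympForm_sub_left, sympForm_smul_left, hw_w, hww]
          ring
        · simp only [sympForm_sub_left, sympForm_smul_left, hw_yw, hyw_yw]
          ring
      · have e1 : ⟪u, w⟫ = 0 := h1
        have e2 : ⟪u, y *ᵥ w⟫ = 0 := h2'
        simp only [sympForm_sub_right, sympForm_smul_right, e1, e2]
        simpa using huv
    obtain ⟨w', hw'W, hw'0, hw'1⟩ := ih W' hfin' hWy' hnd'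
    have hw'props : ∀ j, w' j ∈ W ∧ ⟪w' j, w⟫ = 0 ∧ ⟪w' j, y *ᵥ w⟫ = 0 := fun j =>
      (hmem _).mp (hw'W j)
    refine ⟨Fin.cons w w', ?_, ?_, ?_⟩
    · intro j
      refine Fin.cases ?_ (fun j => ?_) j
      · simpa using hw
      · simpa using (hw'props j).1
    · intro i j
      refine Fin.cases ?_ (fun i => ?_) i <;> refine Fin.cases ?_ (fun j => ?_) j
      · simp
      · simp only [Fin.cons_zero, Fin.cons_succ]
        rw [sympForm_swap, (hw'props j).2.1, neg_zero]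
      · simp only [Fin.cons_zero, Fin.cons_succ]
        exact (hw'props i).2.1
      · simp only [Fin.cons_succ]
        exact hw'0 i j
    · intro i j
      refine Fin.cases ?_ (fun i => ?_) i <;> refine Fin.cases ?_ (fun j => ?_) j
      · simpa using hww
      · simp only [Fin.cons_zero, Fin.cons_succ]
        rw [sympForm_swap, (hw'props j).2.2, neg_zero, if_neg (Fin.succ_ne_zero j).symm]
      · simp only [Fin.cons_zero, Fin.cons_succ]
        rw [hy.adj, (hw'props i).2.2, neg_zero, if_neg (Fin.succ_ne_zero i)]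
      · simp only [Fin.cons_succ, Fin.succ_inj]
        exact hw'1 i j

/-- the matrix with columns `w j` (at `inl j`) and `y w j` (at `inr j`) -/
def frameMat (y : Mat) (w : Fin d → Vec) : Mat :=
  Matrix.of fun r c => Sum.elim (fun j => w j r) (fun j => (y *ᵥ w j) r) c

theorem frameMat_mulVec_inl (y : Mat) (w : Fin d → Vec) (j : Fin d) :
    frameMat y w *ᵥ Pi.single (Sum.inl j) 1 = w j := by
  rw [Matrix.mulVec_single_one]
  rfl

theorem frameMat_mulVec_inr (y : Mat) (w : Fin d → Vec) (j : Fin d) :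
    frameMat y w *ᵥ Pi.single (Sum.inr j) 1 = y *ᵥ w j := by
  rw [Matrix.mulVec_single_one]
  rfl

/-- a matrix whose columns have Gram matrix `J` is symplectic -/
theorem mem_symplecticGroup_of_gram (G : Mat)
    (h : ∀ a b, ⟪G *ᵥ Pi.single a 1, G *ᵥ Pi.single b 1⟫ = Matrix.J (Fin d) F a b) :
    G ∈ Matrix.symplecticGroup (Fin d) F := by
  rw [SymplecticGroup.mem_iff']
  ext a b
  have h1 := sympForm_mulVec G (Pi.single a 1) (Pi.single b 1)
  rw [h a b, Matrix.mulVec_single_one, single_one_dotProduct] at h1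
  rw [h1]
  rfl

theorem Y0_mulVec_inl (δ : F) (j : Fin d) :
    Y0 d δ *ᵥ Pi.single (Sum.inl j) 1 = Pi.single (Sum.inr j) 1 := by
  rw [Matrix.mulVec_single_one]
  ext r
  rcases r with r | r
  · simp [Y0, Matrix.col]
  · simp [Y0, Matrix.col, Matrix.one_apply, Pi.single_apply]

theorem Y0_mulVec_inr (δ : F) (j : Fin d) :
    Y0 d δ *ᵥ Pi.single (Sum.inr j) 1 = δ • Pi.single (Sum.inl j) 1 := by
  rw [Matrix.mulVec_single_one]
  ext r
  rcases r with r | r
  · simp [Y0, Matrix.col, Matrix.one_apply, Pi.single_apply]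
  · simp [Y0, Matrix.col]

/-- two matrices agreeing on the standard basis are equal -/
theorem mat_ext_single {A B : Mat} (h : ∀ c, A *ᵥ Pi.single c 1 = B *ᵥ Pi.single c 1) : A = B := by
  ext r c
  have := congrFun (h c) r
  rw [Matrix.mulVec_single_one, Matrix.mulVec_single_one] at this
  exact this

/-- (STD) every `y` with `y² = δ ≠ 0`, `y* = -y` is `Sp`-conjugate to the standard `Y0` -/
theorem exists_conj_Y0 (h2 : (2 : F) ≠ 0) {y : Mat} {δ : F} (hδ : δ ≠ 0) (hy : AData y δ)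
    (hnorm : ∀ c : F, ∃ a b : F, a * a - δ * b * b = c) :
    ∃ g ∈ Cfsg.spGL d F, ((g⁻¹ : GL (Fin d ⊕ Fin d) F) : Mat) * y * (g : Mat) = Y0 d δ := by
  classical
  have hfin : Module.finrank F (⊤ : Submodule F Vec) = 2 * d := by
    rw [finrank_top, Module.finrank_fintype_fun_eq_card, Fintype.card_sum, Fintype.card_fin]
    ring
  have hnd : ∀ u ∈ (⊤ : Submodule F Vec), u ≠ 0 → ∃ v ∈ (⊤ : Submodule F Vec), ⟪u, v⟫ ≠ 0 := by
    intro u _ hu
    obtain ⟨x, hx⟩ := sympForm_nondeg_left (m := d) hu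
    refine ⟨x, Submodule.mem_top, ?_⟩
    rw [sympForm_swap]
    exact neg_ne_zero.mpr hx
  obtain ⟨w, -, hw0, hw1⟩ := exists_frame h2 hδ hy hnorm d ⊤ hfin
    (fun _ _ => Submodule.mem_top) hnd
  set G : Mat := frameMat y w with hG
  have hGsymp : G ∈ Matrix.symplecticGroup (Fin d) F := by
    apply mem_symplecticGroup_of_gram
    intro a b
    rcases a with i | i <;> rcases b with j | j
    · rw [frameMat_mulVec_inl, frameMat_mulVec_inl, hw0]
      simp [Matrix.J]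
    · rw [frameMat_mulVec_inl, frameMat_mulVec_inr, sympForm_swap, hw1]
      simp [Matrix.J, Matrix.one_apply, eq_comm]
    · rw [frameMat_mulVec_inr, frameMat_mulVec_inl, hw1]
      simp [Matrix.J, Matrix.one_apply]
    · rw [frameMat_mulVec_inr, frameMat_mulVec_inr, hy.adj, adata_mulVec_mulVec hy,
        sympForm_smul_right, hw0]
      simp [Matrix.J]
  let g : GL (Fin d ⊕ Fin d) F :=
    (Matrix.symplecticGroup (Fin d) F).subtype.toHomUnits ⟨G, hGsymp⟩
  have hgcoe : (g : Mat) = G := rfl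
  have hgmem : g ∈ Cfsg.spGL d F := by
    rw [mem_spGL_iff, hgcoe]
    exact (mem_symplecticGroup_iff_preserves G).mp hGsymp
  have hcomm : y * G = G * Y0 d δ := by
    apply mat_ext_single
    intro c
    rcases c with j | j
    · rw [← Matrix.mulVec_mulVec, ← Matrix.mulVec_mulVec, frameMat_mulVec_inl, Y0_mulVec_inl,
        frameMat_mulVec_inr]
    · rw [← Matrix.mulVec_mulVec, ← Matrix.mulVec_mulVec, frameMat_mulVec_inr, Y0_mulVec_inr,
        Matrix.mulVec_smul, frameMat_mulVec_inl, adata_mulVec_mulVec hy]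
  refine ⟨g, hgmem, ?_⟩
  rw [hgcoe, mul_assoc, hcomm, ← mul_assoc, ← hgcoe, gl_inv_mul, one_mul]

end Cfsg.Agent.Helper55.EF
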