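import Cfsg.Agent.Helper43.O7Defs

/-!
# Leaf (O7-L4b) of S2647 (helper43, board #6842/#6850): the sign vectors `(s,s,s,s,t,t,1)` are
central in `S0`.
-/

set_option autoImplicit false

namespace Cfsg.Agent.Helper55.O7

open Matrix Cfsg.Agent.Helper43.Syl Cfsg.Agent.Helper44 Cfsg.Agent.Helper43.O7

variable {F : Type*} [Field F] [Fintype F]

theorem cvec_tau (s t : ℤˣ) (i : Fin 7) : cvec s t (tau i) = cvec s t i := by
  fin_cases i <;> rfl

theorem cvec_tau2 (s t : ℤˣ) (i : Fin 7) : cvec s t (tau2 i) = cvec s t i := by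
  fin_cases i <;> rfl

theorem cvec_P0 (s t : ℤˣ) (σ : Equiv.Perm (Fin 7)) (hσ : σ ∈ P0) :
    ∀ i : Fin 7, cvec s t (σ i) = cvec s t i := by
  unfold P0 at hσ
  induction hσ using Subgroup.closure_induction with
  | mem x hx =>
    rcases hx with rfl | rfl
    · exact cvec_tau s t
    · exact cvec_tau2 s t
  | one => intro i; rfl
  | mul x y _ _ hx hy =>
    intro i
    rw [Equiv.Perm.mul_apply, hx, hy]
  | inv x _ hx =>
    intro i
    have := hx (x⁻¹ i)
    have e : x (x⁻¹ i) = i := by simp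
    rw [e] at this
    exact this.symm

/-- L4b -/
theorem cvec_central (s t : ℤˣ) (x : Cfsg.isometryGroup F ⇑(Q7 F)) (hx : x ∈ S0 F) :
    dg F (cvec s t) * x = x * dg F (cvec s t) := by
  obtain ⟨ε, σ, -, hσ, rfl⟩ := hx
  have hinv : (fun i => cvec s t (σ⁻¹ i)) = cvec s t := by
    funext i
    exact cvec_P0 s t σ⁻¹ (Subgroup.inv_mem _ hσ) i
  have h1 : pm F σ * dg F (cvec s t) = dg F (cvec s t) * pm F σ := by
    rw [pm_mul_dg, hinv]
  have h2 : dg F (cvec s t) * dg F ε = dg F ε * dg F (cvec s t) := by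
    rw [← map_mul, ← map_mul, mul_comm]
  rw [← mul_assoc, h2, mul_assoc, mul_assoc, h1]

end Cfsg.Agent.Helper55.O7
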