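import Mathlib
import Cfsg.Agent.Helper43.XS.Defs

/-!
# S6002 (helper43 WANTED #8578), piece (A1f)
-/

set_option autoImplicit false
set_option linter.unusedSectionVars false
set_option linter.unusedVariables false

namespace Cfsg.Agent.Helper55.XS

open Matrix Cfsg Cfsg.Geo Cfsg.Agent.Helper43.XS

variable {F : Type*} [Field F]

local notation "Mat" => Matrix (Fin 2 ⊕ Fin 2) (Fin 2 ⊕ Fin 2) F
local notation "GLn" => GL (Fin 2 ⊕ Fin 2) F
local notation "Vec" => (Fin 2 ⊕ Fin 2 → F)

theorem neg_ne_self_GL (h2 : (2 : F) ≠ 0) (E : GLn) : E ≠ -E := by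
  intro h
  have h1 : (E : Mat) = -(E : Mat) := by
    conv_lhs => rw [h]
    rfl
  have h3 : (2 : F) • (E : Mat) = 0 := by
    rw [two_smul]
    nth_rewrite 1 [h1]
    exact neg_add_cancel _
  have h4 : (E : Mat) = 0 := by
    rcases smul_eq_zero.mp h3 with h | h
    · exact absurd h h2
    · exact h
  have h5 : (E : Mat) * ((E⁻¹ : GLn) : Mat) = 1 := by
    rw [← Units.val_mul, mul_inv_cancel, Units.val_one]
  rw [h4, zero_mul] at h5
  exact zero_ne_one h5

/-- (A1f) at a fixed point of `σ` and for `y` of odd order, `y` commutes with the involution -/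
theorem commute_of_fixed {E : GLn} (y : GLn) (hy : y * E * y⁻¹ = E ∨ y * E * y⁻¹ = -E) (n : ℕ)
    (hn : Odd n) (hyn : y ^ n = 1) (h2 : (2 : F) ≠ 0) : y * E = E * y := by
  rcases hy with hy | hy
  · calc y * E = y * E * y⁻¹ * y := by group
      _ = E * y := by rw [hy]
  · exfalso
    -- `y²` commutes with `E`
    have h2c : y ^ 2 * E = E * y ^ 2 := by
      have h : y * (y * E * y⁻¹) * y⁻¹ = E := by
        rw [hy, mul_neg, neg_mul, hy, neg_neg]
      calc y ^ 2 * E = y * (y * E * y⁻¹) * y⁻¹ * y ^ 2 := by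
            simp only [pow_two, mul_assoc, inv_mul_cancel_left, inv_mul_cancel, mul_one]
        _ = E * y ^ 2 := by rw [h]
    obtain ⟨j, rfl⟩ := hn
    have hc : Commute (y ^ 2) E := h2c
    have hcj : Commute ((y ^ 2) ^ j) E := hc.pow_left j
    have hyj : y = ((y ^ 2) ^ j)⁻¹ := by
      rw [eq_inv_iff_mul_eq_one, ← pow_mul, ← pow_succ', hyn]
    have hcy : Commute y E := by
      rw [hyj]
      exact hcj.inv_left
    have : y * E * y⁻¹ = E := by
      rw [hcy.eq]; group
    rw [this] at hy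
    exact neg_ne_self_GL h2 E hy

end Cfsg.Agent.Helper55.XS
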