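import Mathlib

/-!
# S6002 (helper43 WANTED #8578), piece (AR): the order of `p` modulo 5
-/

set_option autoImplicit false

namespace Cfsg.Agent.Helper55.XS

theorem orderOf_two_zmod5 : orderOf (2 : ZMod 5) = 4 := by
  rw [orderOf_eq_iff (by norm_num)]
  refine ⟨by decide, fun m hm hpos => ?_⟩
  interval_cases m <;> decide

theorem orderOf_three_zmod5 : orderOf (3 : ZMod 5) = 4 := by
  rw [orderOf_eq_iff (by norm_num)]
  refine ⟨by decide, fun m hm hpos => ?_⟩
  interval_cases m <;> decide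

theorem zmod5_cases (a : ZMod 5) (h : orderOf a ≠ 4) : a = 0 ∨ a ^ 2 = 1 := by
  fin_cases a
  · left; rfl
  · right; decide
  · exact absurd orderOf_two_zmod5 h
  · exact absurd orderOf_three_zmod5 h
  · right; decide

/-- (AR) arithmetic: the order of `p` modulo 5 -/
theorem ord_five_cases {p : ℕ} (hp : p.Prime) (h : orderOf (p : ZMod 5) ≠ 4) :
    p = 5 ∨ 5 ∣ p ^ 2 - 1 := by
  rcases zmod5_cases _ h with h0 | h1
  · left
    rw [ZMod.natCast_eq_zero_iff] at h0
    exact ((Nat.prime_dvd_prime_iff_eq (by norm_num) hp).mp h0).symm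
  · right
    have hpos : 1 ≤ p ^ 2 := Nat.one_le_pow _ _ hp.pos
    have : ((p ^ 2 - 1 : ℕ) : ZMod 5) = 0 := by
      rw [Nat.cast_sub hpos]
      push_cast
      rw [h1, sub_self]
    exact (ZMod.natCast_eq_zero_iff _ _).mp this

end Cfsg.Agent.Helper55.XS
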