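import Mathlib
import Cfsg.Agent.Helper24.ZasGrpA

/-!
# S6002 (helper43 WANTED #8578), piece (C2)
-/

set_option autoImplicit false
set_option linter.unusedVariables false

namespace Cfsg.Agent.Helper55.XS

/-- (C2) in a finite group whose `q`-subgroups are all cyclic, any element of order `q` is
conjugate into the subgroup generated by any other -/
theorem conj_mem_zpowers_of_cyclic {G : Type*} [Group G] [Finite G] (q : ℕ) [Fact q.Prime]
    (hcyc : ∀ P : Subgroup G, IsPGroup q P → IsCyclic P) (x y : G) (hx : x ^ q = 1) (hx1 : x ≠ 1)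
    (hy : y ^ q = 1) (hy1 : y ≠ 1) : ∃ g : G, g⁻¹ * x * g ∈ Subgroup.zpowers y := by
  have hq : q.Prime := Fact.out
  have hpx : IsPGroup q (Subgroup.zpowers x) := by
    rintro ⟨a, ha⟩
    obtain ⟨k, rfl⟩ := Subgroup.mem_zpowers_iff.mp ha
    refine ⟨1, Subtype.ext ?_⟩
    show (x ^ k) ^ (q ^ 1) = 1
    rw [pow_one, ← zpow_natCast, ← zpow_mul, mul_comm, zpow_mul, zpow_natCast, hx, one_zpow]
  have hpy : IsPGroup q (Subgroup.zpowers y) := by
    rintro ⟨a, ha⟩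
    obtain ⟨k, rfl⟩ := Subgroup.mem_zpowers_iff.mp ha
    refine ⟨1, Subtype.ext ?_⟩
    show (y ^ k) ^ (q ^ 1) = 1
    rw [pow_one, ← zpow_natCast, ← zpow_mul, mul_comm, zpow_mul, zpow_natCast, hy, one_zpow]
  obtain ⟨P1, hP1⟩ := hpx.exists_le_sylow
  obtain ⟨P2, hP2⟩ := hpy.exists_le_sylow
  obtain ⟨g, hg⟩ := MulAction.exists_smul_eq G P1 P2
  have hxP1 : x ∈ (P1 : Subgroup G) := hP1 (Subgroup.mem_zpowers x)
  have hyP2 : y ∈ (P2 : Subgroup G) := hP2 (Subgroup.mem_zpowers y)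
  have hgx : g * x * g⁻¹ ∈ (P2 : Subgroup G) := by
    rw [← hg, Sylow.coe_subgroup_smul]
    exact ⟨x, hxP1, rfl⟩
  have hcycP2 : IsCyclic (P2 : Subgroup G) := hcyc (P2 : Subgroup G) P2.isPGroup'
  have hy1' : (⟨y, hyP2⟩ : (P2 : Subgroup G)) ≠ 1 := by
    intro h
    exact hy1 (congrArg Subtype.val h)
  have hyq' : (⟨y, hyP2⟩ : (P2 : Subgroup G)) ^ q = 1 := Subtype.ext (by
    rw [SubgroupClass.coe_pow]; exact hy)
  have hxq' : (⟨g * x * g⁻¹, hgx⟩ : (P2 : Subgroup G)) ^ q = 1 := Subtype.ext (by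
    rw [SubgroupClass.coe_pow]
    show (g * x * g⁻¹) ^ q = 1
    rw [conj_pow, hx, mul_one, mul_inv_cancel])
  have hmem := Cfsg.Agent.Helper24.Zas.mem_zpowers_of_cyclic (H := (P2 : Subgroup G)) hq
    hy1' hyq' hxq'
  obtain ⟨k, hk⟩ := Subgroup.mem_zpowers_iff.mp hmem
  refine ⟨g⁻¹, ?_⟩
  rw [inv_inv, Subgroup.mem_zpowers_iff]
  refine ⟨k, ?_⟩
  have := congrArg Subtype.val hk
  rw [SubgroupClass.coe_zpow] at this
  exact this

end Cfsg.Agent.Helper55.XS
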