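import Mathlib

/-!
# S6002 (helper43 WANTED #8578), piece (X5b): the trace of an element of order 5 of `SL_2`
-/

set_option autoImplicit false

namespace Cfsg.Agent.Helper55.XS

open Matrix

variable {F : Type*} [Field F]

/-- Cayley-Hamilton for `2 × 2` matrices of determinant one -/
theorem sq_eq_of_det_one (u : Matrix (Fin 2) (Fin 2) F) (hdet : u.det = 1) :
    u * u = u.trace • u - 1 := by
  rw [Matrix.det_fin_two] at hdet
  ext i j
  fin_cases i <;> fin_cases j <;>
    simp [Matrix.mul_apply, Fin.sum_univ_two, Matrix.trace_fin_two] <;>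
    first | ring1 | linear_combination (-1 : F) * hdet

/-- (X5b) arithmetic of the trace of an element of order 5 of `SL_2` -/
theorem false_of_trace_sq (h5 : (5 : F) ≠ 0) (u : Matrix (Fin 2) (Fin 2) F) (hdet : u.det = 1)
    (hu5 : u ^ 5 = 1) (hu1 : u ≠ 1) (htr : (2 + u.trace) * (2 + u.trace) = 1) : False := by
  have hCH := sq_eq_of_det_one u hdet
  set t := u.trace with ht
  have hfac : (t + 1) * (t + 3) = 0 := by linear_combination htr
  rcases mul_eq_zero.mp hfac with h | h
  · -- `t = -1`: `u³ = 1`
    have ht1 : t = -1 := by linear_combination h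
    rw [ht1] at hCH
    have hu2 : u * u = -u - 1 := by rw [hCH, neg_one_smul]
    have hu3 : u * u * u = 1 := by
      rw [hu2, sub_mul, neg_mul, one_mul, hu2]
      abel
    have hu5' : u ^ 5 = u * u := by
      calc u ^ 5 = (u * u * u) * (u * u) := by
            simp only [pow_succ, pow_zero, one_mul, mul_assoc]
        _ = u * u := by rw [hu3, one_mul]
    rw [hu5'] at hu5
    rw [hu5, one_mul] at hu3
    exact hu1 hu3
  · -- `t = -3`
    have ht3 : t = -3 := by linear_combination h
    rw [ht3] at hCH
    have hu2 : u * u = (-3 : F) • u - 1 := hCH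
    have hu3 : u * u * u = (8 : F) • u + (3 : F) • (1 : Matrix (Fin 2) (Fin 2) F) := by
      rw [hu2, sub_mul, one_mul, smul_mul_assoc, hu2]
      module
    have hu4 : u * u * u * u = (-21 : F) • u - (8 : F) • (1 : Matrix (Fin 2) (Fin 2) F) := by
      rw [hu3, add_mul, smul_mul_assoc, smul_mul_assoc, one_mul, hu2]
      module
    have hu5e : u * u * u * u * u = (55 : F) • u + (21 : F) • (1 : Matrix (Fin 2) (Fin 2) F) := by
      rw [hu4, sub_mul, smul_mul_assoc, smul_mul_assoc, one_mul, hu2]
      module
    have hu5' : u ^ 5 = u * u * u * u * u := by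
      simp only [pow_succ, pow_zero, one_mul]
    rw [hu5', hu5e] at hu5
    -- take traces: `55 t + 42 = 2`
    have htrace := congrArg Matrix.trace hu5
    rw [Matrix.trace_add, Matrix.trace_smul, Matrix.trace_smul, Matrix.trace_one, ← ht, ht3] at htrace
    simp only [Fintype.card_fin, smul_eq_mul] at htrace
    have h125 : (5 : F) * 5 * 5 = 0 := by
      have : (55 : F) * (-3) + 21 * ((2 : ℕ) : F) = ((2 : ℕ) : F) := htrace
      push_cast at this
      linear_combination (-1 : F) * this
    rcases mul_eq_zero.mp h125 with h' | h'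
    · rcases mul_eq_zero.mp h' with h'' | h''
      · exact h5 h''
      · exact h5 h''
    · exact h5 h'

end Cfsg.Agent.Helper55.XS
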