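import Mathlib
import Cfsg.Agent.Helper55.EFSTD

/-!
# S5980 (helper45 WANTED #8070), piece (CJ2)

The elements of `Sp_{2d}(q)`, `q` odd, with square `-1` form one conjugacy class: both are
`Sp`-conjugate to the standard `Y0 d (-1)` (`Helper55.EF.exists_conj_Y0`).
-/

set_option autoImplicit false
set_option linter.unusedSectionVars false
set_option linter.unusedVariables false

namespace Cfsg.Agent.Helper55.Tsp

open Matrix Polynomial Cfsg.Geo
open Cfsg.Agent.Helper13 Cfsg.Agent.Helper43.EF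

universe u

variable {F : Type u} [Field F] {d : ℕ}

/-- sums of two squares fill a finite field of odd characteristic -/
theorem exists_sq_add_sq [Fintype F] (h2 : (2 : F) ≠ 0) (c : F) :
    ∃ a b : F, a * a - (-1) * b * b = c := by
  have hchar : ringChar F ≠ 2 := by
    intro h
    have : CharP F 2 := ringChar.of_eq h
    exact h2 (by exact_mod_cast CharP.cast_eq_zero F 2)
  have hf : (X ^ 2 : F[X]).degree = 2 := degree_X_pow 2
  have hg : (X ^ 2 - C c : F[X]).degree = 2 := degree_X_pow_sub_C (by norm_num) c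
  obtain ⟨a, b, hab⟩ := FiniteField.exists_root_sum_quadratic hf hg
    (FiniteField.odd_card_of_char_ne_two hchar)
  refine ⟨a, b, ?_⟩
  simp only [eval_pow, eval_X, eval_sub, eval_C] at hab
  linear_combination hab

/-- an element of `Sp` with square `-1` is skew-adjoint -/
theorem adata_of_sq_neg_one (x : GL (Fin d ⊕ Fin d) F) (hx : x ∈ Cfsg.spGL d F)
    (hxx : (x : Matrix (Fin d ⊕ Fin d) (Fin d ⊕ Fin d) F)
      * (x : Matrix (Fin d ⊕ Fin d) (Fin d ⊕ Fin d) F) = -1) :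
    AData (x : Matrix (Fin d ⊕ Fin d) (Fin d ⊕ Fin d) F) (-1 : F) := by
  constructor
  · rw [hxx, neg_smul, one_smul]
  · intro u v
    have h := (mem_spGL_iff x).1 hx u
      ((x : Matrix (Fin d ⊕ Fin d) (Fin d ⊕ Fin d) F) *ᵥ v)
    rw [Matrix.mulVec_mulVec, hxx, Matrix.neg_mulVec, Matrix.one_mulVec, sympForm_neg_right] at h
    rw [← h, neg_neg]

/-- (CJ2) the elements of `Sp_{2d}(q)`, `q` odd, with square `-1` form one conjugacy class -/
theorem conj_of_sq_neg_one [Fintype F] (h2 : (2 : F) ≠ 0) (x y : GL (Fin d ⊕ Fin d) F)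
    (hx : x ∈ Cfsg.spGL d F) (hy : y ∈ Cfsg.spGL d F)
    (hxx : (x : Matrix (Fin d ⊕ Fin d) (Fin d ⊕ Fin d) F)
      * (x : Matrix (Fin d ⊕ Fin d) (Fin d ⊕ Fin d) F) = -1)
    (hyy : (y : Matrix (Fin d ⊕ Fin d) (Fin d ⊕ Fin d) F)
      * (y : Matrix (Fin d ⊕ Fin d) (Fin d ⊕ Fin d) F) = -1) :
    ∃ g ∈ Cfsg.spGL d F, g⁻¹ * x * g = y := by
  have hδ : (-1 : F) ≠ 0 := neg_ne_zero.mpr one_ne_zero
  obtain ⟨g1, hg1, e1⟩ := Cfsg.Agent.Helper55.EF.exists_conj_Y0 h2 hδ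
    (adata_of_sq_neg_one x hx hxx) (exists_sq_add_sq h2)
  obtain ⟨g2, hg2, e2⟩ := Cfsg.Agent.Helper55.EF.exists_conj_Y0 h2 hδ
    (adata_of_sq_neg_one y hy hyy) (exists_sq_add_sq h2)
  have hGL : g1⁻¹ * x * g1 = g2⁻¹ * y * g2 := by
    apply Units.ext
    rw [Units.val_mul, Units.val_mul, Units.val_mul, Units.val_mul, e1, e2]
  refine ⟨g1 * g2⁻¹, (Cfsg.spGL d F).mul_mem hg1 ((Cfsg.spGL d F).inv_mem hg2), ?_⟩
  calc (g1 * g2⁻¹)⁻¹ * x * (g1 * g2⁻¹) = g2 * (g1⁻¹ * x * g1) * g2⁻¹ := by group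
    _ = g2 * (g2⁻¹ * y * g2) * g2⁻¹ := by rw [hGL]
    _ = y := by group

end Cfsg.Agent.Helper55.Tsp
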