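import Mathlib

/-!
# S6001 (helper44), piece (G1a): facts on `bar x = x ^ p` in the field with `p ^ 2` elements,
`p % 4 = 3`
-/

set_option autoImplicit false

namespace Cfsg.Agent.Helper55.U4

open Matrix Polynomial

variable {F : Type*} [Field F]

/-- (G1a) -/
theorem bar_facts [Fintype F] {p : ℕ} [Fact p.Prime] [CharP F p] (hF : Fintype.card F = p ^ 2)
    (hp4 : p % 4 = 3) (bar : F →+* F) (hbar : ∀ x, bar x = x ^ p) :
    (∀ a, bar (bar a) = a) ∧ bar ≠ RingHom.id F ∧ (2 : F) ≠ 0 ∧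
      (∀ i : F, i ^ 2 = -1 → bar i = -i) ∧ (∀ z : F, z ^ 4 = 1 → z * bar z = 1) := by
  have hp1 : 1 < p := (Fact.out : p.Prime).one_lt
  refine ⟨?_, ?_, ?_, ?_, ?_⟩
  · intro a
    rw [hbar, hbar, ← pow_mul, ← pow_two, ← hF, FiniteField.pow_card]
  · intro hid
    have hall : ∀ a : F, a ^ p = a := by
      intro a
      rw [← hbar, hid, RingHom.id_apply]
    have hne : (X ^ p - X : F[X]) ≠ 0 := FiniteField.X_pow_card_sub_X_ne_zero F hp1
    have hsub : (Finset.univ : Finset F).val ⊆ (X ^ p - X : F[X]).roots := by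
      intro a _
      rw [Polynomial.mem_roots hne, Polynomial.IsRoot.def]
      simp [hall a]
    have hle := Polynomial.card_le_degree_of_subset_roots hsub
    rw [Finset.card_univ, hF, FiniteField.X_pow_card_sub_X_natDegree_eq F hp1] at hle
    nlinarith
  · intro h2
    have h2' : ((2 : ℕ) : F) = 0 := by exact_mod_cast h2
    rw [CharP.cast_eq_zero_iff F p 2] at h2'
    have := Nat.le_of_dvd (by norm_num) h2'
    omega
  · intro i hi
    rw [hbar]
    have hp : p = 2 * (2 * (p / 4) + 1) + 1 := by omega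
    rw [hp, pow_succ, pow_mul, hi, Odd.neg_one_pow ⟨p / 4, rfl⟩, neg_one_mul]
  · intro z hz
    rw [hbar, ← pow_succ']
    have hp : p + 1 = 4 * (p / 4 + 1) := by omega
    rw [hp, pow_mul, hz, one_pow]

end Cfsg.Agent.Helper55.U4
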