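import Mathlib
import Cfsg.Agent.Helper44.U4Defs
import Cfsg.Agent.Helper42.P4E1
import Cfsg.Agent.Helper12.U4SUC

/-!
# S6001 (helper44), piece (FWG): the general forward step
-/

set_option autoImplicit false
open scoped MatrixGroups

namespace Cfsg.Agent.Helper55.U4

open Matrix Polynomial Cfsg.Agent.Helper99.P4 Cfsg.Geo Cfsg.Agent.Helper44.U4

variable {F : Type*} [Field F]

/-- (FWG), with (SUC) `su_conj_of_gu_conj` as an explicit hypothesis -/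
theorem fw_gen_core {p : ℕ}
    (hSUC : ∀ (a u : GL (Fin 4) F), a ∈ Cfsg.GU 4 F p → u ∈ Cfsg.GU 4 F p → ∀ k : ℕ,
      k.Coprime p → a ^ k = 1 → ∃ g ∈ SU4 F p, g⁻¹ * a * g = u⁻¹ * a * u)
    {i : F} (hi : i ^ 2 = -1) (x s y u : GL (Fin 4) F) (hx : x ∈ SU4 F p) (c : F)
    (hs : (s : Matrix (Fin 4) (Fin 4) F) = c • 1) (hsU : s ∈ Cfsg.GU 4 F p)
    (hu : u ∈ Cfsg.GU 4 F p) (hy : y ∈ N0 i hi) (huy : u⁻¹ * (s * x) * u = y)
    (k : ℕ) (hk : k.Coprime p) (hxk : (s * x) ^ k = 1) :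
    ∃ g ∈ SU4 F p, g⁻¹ * x * g ∈ N0 i hi := by
  have hxU : x ∈ Cfsg.GU 4 F p := (Subgroup.mem_inf.mp hx).1
  obtain ⟨g, hg, hgc⟩ := hSUC (s * x) u (mul_mem hsU hxU) hu k hk hxk
  refine ⟨g, hg, ?_⟩
  have hcomm : ∀ h : GL (Fin 4) F, s * h = h * s := by
    intro h
    apply Units.ext
    rw [Units.val_mul, Units.val_mul, hs, Matrix.smul_mul, Matrix.mul_smul, Matrix.one_mul,
      Matrix.mul_one]
  have h1 : g⁻¹ * (s * x) * g = s * (g⁻¹ * x * g) := by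
    rw [← mul_assoc g⁻¹ s x, ← hcomm g⁻¹]
    simp only [mul_assoc]
  have h2 : g⁻¹ * x * g = s⁻¹ * y := by
    rw [← huy, ← hgc, h1, inv_mul_cancel_left]
  rw [h2]
  exact mul_mem (inv_mem (Cfsg.Agent.Helper42.P4.scalar_mem_N0 hi s c hs)) hy

/-- (FWG) the general forward step -/
theorem fw_gen [Fintype F] {p : ℕ} [Fact p.Prime] [CharP F p] (hF : Fintype.card F = p ^ 2)
    {i : F} (hi : i ^ 2 = -1) (x s y u : GL (Fin 4) F) (hx : x ∈ SU4 F p) (c : F)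
    (hs : (s : Matrix (Fin 4) (Fin 4) F) = c • 1) (hsU : s ∈ Cfsg.GU 4 F p)
    (hu : u ∈ Cfsg.GU 4 F p) (hy : y ∈ N0 i hi) (huy : u⁻¹ * (s * x) * u = y)
    (k : ℕ) (hk : k.Coprime p) (hxk : (s * x) ^ k = 1) :
    ∃ g ∈ SU4 F p, g⁻¹ * x * g ∈ N0 i hi :=
  fw_gen_core (fun a u ha hu k hk hak =>
    Cfsg.Agent.Helper12.U4.su_conj_of_gu_conj hF a u ha hu k hk hak) hi x s y u hx c hs hsU hu hy huy
    k hk hxk

end Cfsg.Agent.Helper55.U4
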