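import Mathlib
import Cfsg.Prelude.Def_CaseTheorems
import Cfsg.Agent.Helper54.SCG.Defs
import Cfsg.Agent.S1213

/-!
# S3921 farm of helper54 (#14142), leaf (QD): no quasi-dihedral Sylow 2-subgroup when `C(x)` is a 2-group
-/

set_option autoImplicit false

namespace Cfsg.Agent.Helper55.SCG

open Cfsg.Agent.Helper54.SCG Matrix

/-- a simple non-abelian finite group has no subgroup of index 2 -/
theorem QD_no_index_two {G : Type*} [Group G] [Finite G] [IsSimpleGroup G]
    (hna : ¬ IsMulCommutative G) (H : Subgroup G) : H.index ≠ 2 := by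
  intro h2
  have hn : H.Normal := Subgroup.normal_of_index_eq_two h2
  rcases hn.eq_bot_or_eq_top with h | h
  · rw [h, Subgroup.index_bot] at h2
    have hp : Fact (Nat.Prime 2) := ⟨Nat.prime_two⟩
    have hc : IsCyclic G := isCyclic_of_prime_card h2
    exact hna hc.isMulCommutative
  · rw [h, Subgroup.index_top] at h2
    omega

/-- a nontrivial finite 2-group has a subgroup of index 2 -/
theorem QD_exists_index_two {K : Type*} [Group K] [Finite K] (hK : IsPGroup 2 K) (h1 : 1 < Nat.card K) :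
    ∃ H : Subgroup K, H.index = 2 := by
  have hp : Fact (Nat.Prime 2) := ⟨Nat.prime_two⟩
  obtain ⟨k, hk⟩ := hK.exists_card_eq
  have hk0 : k ≠ 0 := by
    rintro rfl
    rw [hk, pow_zero] at h1
    omega
  obtain ⟨k', rfl⟩ := Nat.exists_eq_succ_of_ne_zero hk0
  obtain ⟨H, hH⟩ := Sylow.exists_subgroup_card_pow_prime 2 (n := k') (G := K) (by
    rw [hk]; exact pow_dvd_pow 2 (Nat.le_succ k'))
  refine ⟨H, ?_⟩
  have h3 := H.card_mul_index
  rw [hH, hk, pow_succ] at h3
  have h4 : 0 < 2 ^ k' := pos_of_ne_zero (by positivity)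
  exact Nat.eq_of_mul_eq_mul_left h4 h3

/-- (QD) -/
theorem QD_not_quasidihedral {G : Type*} [Group G] [Finite G] [IsSimpleGroup G]
    (hna : ¬ IsMulCommutative G) (S : Sylow 2 G) (hS : Cfsg.IsQuasiDihedral ↥(S : Subgroup G))
    (x : G) (hx : orderOf x = 2)
    (hC : IsPGroup 2 ↥(Subgroup.centralizer ({x} : Set G))) : False := by
  obtain ⟨R, -, ⟨K, -, -, hKno, hKq⟩, -⟩ :=
    Cfsg.Agent.S1213.result S (Or.inl hS) (QD_no_index_two hna) x hx
  have hK2 : IsPGroup 2 ↥K := hC.to_subgroup K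
  have hp : Fact (Nat.Prime 2) := ⟨Nat.prime_two⟩
  obtain ⟨m, hm, ⟨e⟩⟩ := hKq default
  have hcard : 1 < Nat.card ↥K := by
    have h1 : Nat.card ↥((default : Sylow 2 ↥K) : Subgroup ↥K) = 4 * 2 ^ m := by
      rw [Nat.card_congr e.toEquiv]
      have : NeZero (2 ^ m) := ⟨by positivity⟩
      rw [Nat.card_eq_fintype_card, QuaternionGroup.card]
    have h2 : Nat.card ↥((default : Sylow 2 ↥K) : Subgroup ↥K) ≤ Nat.card ↥K :=
      Nat.le_of_dvd Nat.card_pos (Subgroup.card_subgroup_dvd_card _)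
    have h3 : 1 ≤ 2 ^ m := Nat.one_le_two_pow
    omega
  obtain ⟨H, hH⟩ := QD_exists_index_two hK2 hcard
  exact hKno H hH

end Cfsg.Agent.Helper55.SCG
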