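import Mathlib
import Cfsg.Prelude.Def_CaseTheorems
import Cfsg.Agent.Helper54.SCG.Defs
import Cfsg.Agent.Helper42.SL2Cent

/-!
# S3921 farm of helper54 (#14142), leaf (RD): centralizers of unipotent (up to sign) elements of `SL₂(q)`

`g = ε + N` with `ε² = 1`, `N² = 0`; `C(g) = {±(1 + b N)}` and `b ↦ 1 + b N` is a homomorphism from `(F, +)`.
-/

set_option autoImplicit false

namespace Cfsg.Agent.Helper55.SCG

open Cfsg.Agent.Helper54.SCG Matrix Cfsg.Agent.Helper42

variable {F : Type*} [Field F]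

/-- `ε` with `2 ε = t`, `ε² = 1` when `t² = 4` -/
theorem RD_exists_eps (t : F) (ht : t ^ 2 = 4) : ∃ ε : F, 2 * ε = t ∧ ε ^ 2 = 1 := by
  by_cases h2 : (2 : F) = 0
  · refine ⟨1, ?_, one_pow 2⟩
    have h4 : (4 : F) = 0 := by
      have : (4 : F) = 2 * 2 := by norm_num
      rw [this, h2, zero_mul]
    rw [h4] at ht
    have ht0 : t = 0 := by
      rcases pow_eq_zero_iff (two_ne_zero) |>.mp ht with h
      exact h
    rw [mul_one, h2, ht0]
  · refine ⟨t / 2, by field_simp, ?_⟩
    field_simp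
    linear_combination ht

/-- the nilpotent part -/
def RD_N (g : Matrix (Fin 2) (Fin 2) F) (ε : F) : Matrix (Fin 2) (Fin 2) F :=
  !![g 0 0 - ε, g 0 1; g 1 0, g 1 1 - ε]

theorem RD_N_sq (g : Matrix (Fin 2) (Fin 2) F) (ε : F) (htr : 2 * ε = g.trace) (hdet : g.det = 1)
    (hε : ε ^ 2 = 1) : RD_N g ε * RD_N g ε = 0 := by
  rw [Matrix.trace_fin_two] at htr
  rw [Matrix.det_fin_two] at hdet
  apply ext2
  · rw [mul00]
    simp only [RD_N, Matrix.of_apply, Matrix.cons_val', Matrix.cons_val_zero, Matrix.cons_val_one,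
      Matrix.zero_apply]
    linear_combination (-(g 0 0)) * htr - hdet + hε
  · rw [mul01]
    simp only [RD_N, Matrix.of_apply, Matrix.cons_val', Matrix.cons_val_zero, Matrix.cons_val_one,
      Matrix.zero_apply]
    linear_combination (-(g 0 1)) * htr
  · rw [mul10]
    simp only [RD_N, Matrix.of_apply, Matrix.cons_val', Matrix.cons_val_zero, Matrix.cons_val_one,
      Matrix.zero_apply]
    linear_combination (-(g 1 0)) * htr
  · rw [mul11]
    simp only [RD_N, Matrix.of_apply, Matrix.cons_val', Matrix.cons_val_zero, Matrix.cons_val_one,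
      Matrix.zero_apply]
    linear_combination (-(g 1 1)) * htr - hdet + hε

theorem RD_det (g : Matrix (Fin 2) (Fin 2) F) (ε : F) (htr : 2 * ε = g.trace) (hdet : g.det = 1)
    (hε : ε ^ 2 = 1) (b : F) : (1 + b • RD_N g ε).det = 1 := by
  rw [Matrix.trace_fin_two] at htr
  rw [Matrix.det_fin_two] at hdet
  rw [Matrix.det_fin_two]
  simp only [RD_N, Matrix.add_apply, Matrix.smul_apply, Matrix.one_apply_eq, Matrix.of_apply, Matrix.cons_val',
    Matrix.cons_val_zero, Matrix.cons_val_one, smul_eq_mul, ne_eq, zero_ne_one, one_ne_zero, not_false_eq_true,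
    Matrix.one_apply_ne, zero_add]
  linear_combination (-b) * htr + b ^ 2 * (hdet + ε * htr - hε)

theorem RD_N_eq (g : Matrix (Fin 2) (Fin 2) F) (ε : F) : RD_N g ε = g - ε • (1 : Matrix (Fin 2) (Fin 2) F) := by
  apply ext2 <;> simp [RD_N]

/-- the unipotent family `b ↦ 1 + b N` as a homomorphism from `(F, +)` -/
def RD_hom (g : Matrix.SpecialLinearGroup (Fin 2) F) (ε : F)
    (htr : 2 * ε = (g : Matrix (Fin 2) (Fin 2) F).trace) (hε : ε ^ 2 = 1) :
    Multiplicative F →* Matrix.SpecialLinearGroup (Fin 2) F where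
  toFun b := ⟨1 + (Multiplicative.toAdd b) • RD_N (g : Matrix (Fin 2) (Fin 2) F) ε, RD_det _ ε htr g.2 hε _⟩
  map_one' := by
    apply Subtype.ext
    show 1 + (0 : F) • RD_N (g : Matrix (Fin 2) (Fin 2) F) ε = 1
    rw [zero_smul, add_zero]
  map_mul' b b' := by
    apply Subtype.ext
    show 1 + (Multiplicative.toAdd b + Multiplicative.toAdd b') • RD_N (g : Matrix (Fin 2) (Fin 2) F) ε =
      (1 + (Multiplicative.toAdd b) • RD_N (g : Matrix (Fin 2) (Fin 2) F) ε) *
        (1 + (Multiplicative.toAdd b') • RD_N (g : Matrix (Fin 2) (Fin 2) F) ε)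
    have hN := RD_N_sq (g : Matrix (Fin 2) (Fin 2) F) ε htr g.2 hε
    rw [mul_add, add_mul, add_mul, one_mul, mul_one, one_mul, smul_mul_smul_comm, hN, smul_zero, add_zero, add_smul,
      add_assoc]

theorem RD_hom_coe (g : Matrix.SpecialLinearGroup (Fin 2) F) (ε : F)
    (htr : 2 * ε = (g : Matrix (Fin 2) (Fin 2) F).trace) (hε : ε ^ 2 = 1) (b : F) :
    ((RD_hom g ε htr hε (Multiplicative.ofAdd b) : Matrix.SpecialLinearGroup (Fin 2) F) :
      Matrix (Fin 2) (Fin 2) F) = 1 + b • RD_N (g : Matrix (Fin 2) (Fin 2) F) ε := rfl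

/-- `g` is not a scalar matrix -/
theorem RD_nonScalar (g : Matrix.SpecialLinearGroup (Fin 2) F)
    (hg : g ∉ Subgroup.center (Matrix.SpecialLinearGroup (Fin 2) F)) :
    IsNonScalarMat (g : Matrix (Fin 2) (Fin 2) F) := by
  rintro ⟨h01, h10, h00⟩
  apply hg
  rw [Matrix.SpecialLinearGroup.mem_center_iff]
  refine ⟨(g : Matrix (Fin 2) (Fin 2) F) 0 0, ?_, ?_⟩
  · have hdet := g.2
    rw [Matrix.det_fin_two, h01, zero_mul, sub_zero, ← h00] at hdet
    rw [Fintype.card_fin, sq]
    exact hdet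
  · apply ext2
    · simp
    · simp [h01]
    · simp [h10]
    · simp [h00]

/-- the central element `-1` -/
def RD_negOne : Matrix.SpecialLinearGroup (Fin 2) F :=
  ⟨-1, by rw [Matrix.det_fin_two]; simp⟩

theorem RD_negOne_mem : (RD_negOne : Matrix.SpecialLinearGroup (Fin 2) F) ∈
    Subgroup.center (Matrix.SpecialLinearGroup (Fin 2) F) := by
  rw [Matrix.SpecialLinearGroup.mem_center_iff]
  refine ⟨-1, by rw [Fintype.card_fin]; ring, ?_⟩
  show Matrix.scalar (Fin 2) (-1 : F) = -1
  apply ext2 <;> simp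

/-- (RD) -/
theorem RD_card_map_centralizer_dvd {F : Type*} [Field F] [Fintype F]
    (g : Matrix.SpecialLinearGroup (Fin 2) F)
    (hd : (Matrix.trace (g : Matrix (Fin 2) (Fin 2) F)) ^ 2 = 4)
    (hg : g ∉ Subgroup.center (Matrix.SpecialLinearGroup (Fin 2) F)) :
    Nat.card ↥((Subgroup.centralizer ({g} : Set (Matrix.SpecialLinearGroup (Fin 2) F))).map
      (QuotientGroup.mk' (Subgroup.center (Matrix.SpecialLinearGroup (Fin 2) F)))) ∣
      Fintype.card F := by
  obtain ⟨ε, htr, hε⟩ := RD_exists_eps _ hd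
  have hns := RD_nonScalar g hg
  set π := QuotientGroup.mk' (Subgroup.center (Matrix.SpecialLinearGroup (Fin 2) F)) with hπ
  set ψ := π.comp (RD_hom g ε htr hε) with hψ
  have hNeq := RD_N_eq (g : Matrix (Fin 2) (Fin 2) F) ε
  have hrange : (Subgroup.centralizer ({g} : Set (Matrix.SpecialLinearGroup (Fin 2) F))).map π = ψ.range := by
    apply le_antisymm
    · rintro _ ⟨h, hh, rfl⟩
      rw [SetLike.mem_coe, Subgroup.mem_centralizer_singleton_iff] at hh
      have hh' : (h : Matrix (Fin 2) (Fin 2) F) * (g : Matrix (Fin 2) (Fin 2) F) =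
          (g : Matrix (Fin 2) (Fin 2) F) * (h : Matrix (Fin 2) (Fin 2) F) := by
        have := congrArg (fun A : Matrix.SpecialLinearGroup (Fin 2) F => (A : Matrix (Fin 2) (Fin 2) F)) hh
        simpa only [Matrix.SpecialLinearGroup.coe_mul] using this
      obtain ⟨x, y, hxy⟩ := exists_lin_of_comm _ _ hns hh'
      have hdet := h.2
      rw [hxy, det_lin, g.2, mul_one, ← htr] at hdet
      have hδ : (x + ε * y) ^ 2 = 1 := by linear_combination hdet + y ^ 2 * hε
      have hlin : lin (g : Matrix (Fin 2) (Fin 2) F) x y =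
          (x + ε * y) • (1 : Matrix (Fin 2) (Fin 2) F) + y • RD_N (g : Matrix (Fin 2) (Fin 2) F) ε := by
        apply ext2 <;> simp [lin, RD_N] <;> ring
      have hcases : x + ε * y = 1 ∨ x + ε * y = -1 := by
        have : (x + ε * y - 1) * (x + ε * y + 1) = 0 := by linear_combination hδ
        rcases mul_eq_zero.mp this with h1 | h1
        · left; linear_combination h1
        · right; linear_combination h1
      rcases hcases with h1 | h1
      · refine ⟨Multiplicative.ofAdd y, ?_⟩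
        rw [hψ, MonoidHom.comp_apply]
        congr 1
        apply Subtype.ext
        rw [RD_hom_coe, hxy, hlin, h1, one_smul]
      · refine ⟨Multiplicative.ofAdd (-y), ?_⟩
        rw [hψ, MonoidHom.comp_apply]
        have hz : h = RD_negOne * RD_hom g ε htr hε (Multiplicative.ofAdd (-y)) := by
          apply Subtype.ext
          rw [Matrix.SpecialLinearGroup.coe_mul, RD_hom_coe, hxy, hlin, h1]
          show (-1 : F) • (1 : Matrix (Fin 2) (Fin 2) F) + y • RD_N (g : Matrix (Fin 2) (Fin 2) F) ε =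
            (-1 : Matrix (Fin 2) (Fin 2) F) * (1 + (-y) • RD_N (g : Matrix (Fin 2) (Fin 2) F) ε)
          rw [neg_one_mul, neg_add, neg_smul, one_smul, neg_smul, neg_neg]
        rw [hz, map_mul]
        have : π (RD_negOne : Matrix.SpecialLinearGroup (Fin 2) F) = 1 :=
          (QuotientGroup.eq_one_iff _).mpr RD_negOne_mem
        rw [this, one_mul]
    · rintro _ ⟨b, rfl⟩
      refine ⟨RD_hom g ε htr hε b, ?_, rfl⟩
      rw [SetLike.mem_coe, Subgroup.mem_centralizer_singleton_iff]
      apply Subtype.ext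
      rw [Matrix.SpecialLinearGroup.coe_mul, Matrix.SpecialLinearGroup.coe_mul]
      show (1 + (Multiplicative.toAdd b) • RD_N (g : Matrix (Fin 2) (Fin 2) F) ε) * (g : Matrix (Fin 2) (Fin 2) F) =
        (g : Matrix (Fin 2) (Fin 2) F) * (1 + (Multiplicative.toAdd b) • RD_N (g : Matrix (Fin 2) (Fin 2) F) ε)
      rw [hNeq]
      noncomm_ring
  rw [hrange]
  have h := Subgroup.card_range_dvd ψ
  have e : Nat.card (Multiplicative F) = Fintype.card F := by
    rw [Nat.card_eq_fintype_card]
    exact Fintype.card_congr Multiplicative.toAdd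
  rw [e] at h
  exact h

end Cfsg.Agent.Helper55.SCG
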