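import Cfsg.Agent.Helper85.A7Defs

/-!
# S0984 sub-tree LOC (helper85): piece (G5a) `fpf_of_order_four`
-/

set_option autoImplicit false

namespace Cfsg.Agent.Helper55.A7

open Cfsg Cfsg.Agent.Helper85.A7
open scoped ComplexConjugate

universe u

variable {G : Type u} [Group G]

/-- no integer squares to `-1` modulo `3` -/
theorem not_three_dvd_sq_add_one (k : ℤ) : ¬ (3 : ℤ) ∣ k * k + 1 := by
  intro h
  have h0 : ((k * k + 1 : ℤ) : ZMod 3) = 0 := (ZMod.intCast_zmod_eq_zero_iff_dvd _ 3).mpr h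
  push_cast at h0
  have key : ∀ x : ZMod 3, x * x + 1 ≠ 0 := by decide
  exact key _ h0

/-- (G5a) the cyclic case: `a ∈ N(R)` of order 4 whose square does not centralize `R` has
`C_R(a^2) = 1` -/
theorem fpf_of_order_four [Finite G] (R : Subgroup G) (hR : Nat.card R = 9) (a : G)
    (ha : orderOf a = 4) (haR : ∀ r ∈ R, a * r * a⁻¹ ∈ R)
    (hnc : ∃ r ∈ R, a ^ 2 * r ≠ r * a ^ 2) :
    ∀ c ∈ R, a ^ 2 * c * (a ^ 2)⁻¹ = c → c = 1 := by
  intro c hcR hc
  by_contra hc1
  obtain ⟨r, hrR, hr⟩ := hnc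
  have : Fact (Nat.Prime 3) := ⟨Nat.prime_three⟩
  have hR' : Nat.card R = 3 ^ 2 := by rw [hR]; norm_num
  have hcomm : ∀ x y : R, x * y = y * x :=
    (IsPGroup.isMulCommutative_of_card_eq_prime_sq hR').is_comm.comm
  have ha4 : a ^ 4 = 1 := by rw [← ha]; exact pow_orderOf_eq_one a
  -- the automorphism
  let φ : R →* R :=
    { toFun := fun x => ⟨a * x * a⁻¹, haR x x.2⟩
      map_one' := by ext; simp
      map_mul' := by intro x y; ext; simp [mul_assoc] }
  have hφ : ∀ x : R, ((φ x : R) : G) = a * x * a⁻¹ := fun x => rfl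
  have hψ : ∀ x : R, ((φ (φ x) : R) : G) = a ^ 2 * x * (a ^ 2)⁻¹ := by
    intro x
    rw [hφ, hφ, pow_two, mul_inv_rev]
    simp only [mul_assoc]
  have hψψ : ∀ x : R, φ (φ (φ (φ x))) = x := by
    intro x
    ext
    rw [hψ, hψ]
    have : a ^ 2 * (a ^ 2 * (x : G) * (a ^ 2)⁻¹) * (a ^ 2)⁻¹ = a ^ 4 * x * (a ^ 4)⁻¹ := by group
    rw [this, ha4]
    simp
  -- the inverted part
  let D : Subgroup R :=
    { carrier := {x | φ (φ x) = x⁻¹}
      mul_mem' := by
        intro x y hx hy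
        simp only [Set.mem_ofPred_eq] at hx hy ⊢
        rw [map_mul, map_mul, hx, hy, mul_inv_rev, hcomm]
      one_mem' := by simp
      inv_mem' := by
        intro x hx
        simp only [Set.mem_ofPred_eq] at hx ⊢
        rw [map_inv, map_inv, hx] }
  have hD : ∀ x : R, x ∈ D ↔ φ (φ x) = x⁻¹ := fun x => Iff.rfl
  -- odd order: no involutions
  have hodd : ∀ x : R, x = x⁻¹ → x = 1 := by
    intro x hx
    have h2 : x ^ 2 = 1 := by rw [pow_two]; nth_rewrite 1 [hx]; exact inv_mul_cancel x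
    have h9 : x ^ 9 = 1 := by rw [← hR]; exact pow_card_eq_one'
    have : x = x ^ 9 * ((x ^ 2) ^ 4)⁻¹ := by group
    rw [this, h9, h2]; simp
  -- c is not in D
  have hcD : (⟨c, hcR⟩ : R) ∉ D := by
    intro h
    rw [hD] at h
    have hfix : φ (φ (⟨c, hcR⟩ : R)) = ⟨c, hcR⟩ := by
      ext
      rw [hψ]
      exact hc
    rw [hfix] at h
    have := hodd _ h
    apply hc1
    exact congrArg Subtype.val this
  -- d := r * ψ(r)⁻¹ is in D, nontrivial
  set r' : R := ⟨r, hrR⟩ with hr'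
  set d : R := r' * (φ (φ r'))⁻¹ with hd
  have hdD : d ∈ D := by
    rw [hD, hd, map_mul, map_mul, map_inv, map_inv, hψψ, mul_inv_rev, inv_inv, hcomm]
  have hd1 : d ≠ 1 := by
    intro h
    rw [hd, mul_inv_eq_one] at h
    apply hr
    have h2 : (r' : G) = a ^ 2 * r' * (a ^ 2)⁻¹ := by
      rw [← hψ]; exact congrArg Subtype.val h
    have h3 : r = a ^ 2 * r * (a ^ 2)⁻¹ := h2
    calc a ^ 2 * r = (a ^ 2 * r * (a ^ 2)⁻¹) * a ^ 2 := by group
      _ = r * a ^ 2 := by rw [← h3]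
  -- |D| = 3
  have hDcard : Nat.card D = 3 := by
    have hdvd : Nat.card D ∣ 3 ^ 2 := by
      rw [← hR']; exact Subgroup.card_subgroup_dvd_card D
    obtain ⟨m, hm, hmc⟩ := (Nat.dvd_prime_pow Nat.prime_three).mp hdvd
    interval_cases m
    · exfalso
      have : D = ⊥ := Subgroup.card_eq_one.mp (by rw [hmc]; norm_num)
      rw [this, Subgroup.mem_bot] at hdD
      exact hd1 hdD
    · rw [hmc]; norm_num
    · exfalso
      have : D = ⊤ := (Subgroup.card_eq_iff_eq_top D).mp (by rw [hmc, hR'])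
      apply hcD
      rw [this]
      exact Subgroup.mem_top _
  -- D is generated by d
  have hzle : Subgroup.zpowers d ≤ D := by
    rw [Subgroup.zpowers_le]; exact hdD
  have hord : orderOf d = 3 := by
    have h1 : orderOf d ∣ 3 := by
      rw [← hDcard, ← Nat.card_zpowers]
      exact Subgroup.card_dvd_of_le hzle
    rcases (Nat.dvd_prime Nat.prime_three).mp h1 with h | h
    · exfalso; exact hd1 (orderOf_eq_one_iff.mp h)
    · exact h
  have hzD : Subgroup.zpowers d = D := by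
    apply Subgroup.eq_of_le_of_card_ge hzle
    rw [hDcard, Nat.card_zpowers, hord]
  -- φ d ∈ D
  have hφd : φ d ∈ D := by
    rw [hD]
    have := (hD d).mp hdD
    rw [this, map_inv]
  rw [← hzD, Subgroup.mem_zpowers_iff] at hφd
  obtain ⟨k, hk⟩ := hφd
  have h1 : φ (φ d) = d ^ (k * k) := by
    rw [← hk, map_zpow, ← hk, ← zpow_mul]
  have h2 : d ^ (k * k + 1) = 1 := by
    rw [zpow_add, zpow_one, ← h1, (hD d).mp hdD, inv_mul_cancel]
  have h3 : ((orderOf d : ℕ) : ℤ) ∣ k * k + 1 := orderOf_dvd_iff_zpow_eq_one.mpr h2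
  rw [hord] at h3
  exact not_three_dvd_sq_add_one k (by exact_mod_cast h3)

end Cfsg.Agent.Helper55.A7
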