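import Cfsg.Agent.Helper85.A7Defs

/-!
# S0984 sub-tree LOC (helper85): piece (G5c) `normalizer_two_part`
-/

set_option autoImplicit false

namespace Cfsg.Agent.Helper55.A7

open Cfsg Cfsg.Agent.Helper85.A7
open scoped ComplexConjugate

universe u

variable {G : Type u} [Group G]

/-- a subgroup of order `9` and a subgroup of order `4` inside a subgroup of order `36` generate
it -/
theorem eq_sup_of_card [Finite G] (N R P : Subgroup G) (hN : Nat.card N = 36)
    (hR : Nat.card R = 9) (hP : Nat.card P = 4) (hRN : R ≤ N) (hPN : P ≤ N) : N = R ⊔ P := by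
  symm
  apply Subgroup.eq_of_le_of_card_ge (sup_le hRN hPN)
  rw [hN]
  have h9 : 9 ∣ Nat.card (R ⊔ P : Subgroup G) := by
    rw [← hR]; exact Subgroup.card_dvd_of_le le_sup_left
  have h4 : 4 ∣ Nat.card (R ⊔ P : Subgroup G) := by
    rw [← hP]; exact Subgroup.card_dvd_of_le le_sup_right
  have h36 : 36 ∣ Nat.card (R ⊔ P : Subgroup G) := by
    have : Nat.Coprime 9 4 := by norm_num
    exact this.mul_dvd_of_dvd_of_dvd h9 h4
  exact Nat.le_of_dvd Nat.card_pos h36

/-- (G5c) the Sylow 2-subgroup of `N(R)` (order 4): cyclic or Klein -/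
theorem normalizer_two_part [Finite G] (R : Sylow 3 G)
    (hN : Nat.card (Subgroup.normalizer ((R : Subgroup G) : Set G)) = 36) :
    (∃ a ∈ Subgroup.normalizer ((R : Subgroup G) : Set G), orderOf a = 4 ∧
      Subgroup.normalizer ((R : Subgroup G) : Set G) = (R : Subgroup G) ⊔ Subgroup.zpowers a) ∨
    (∃ s1 ∈ Subgroup.normalizer ((R : Subgroup G) : Set G),
      ∃ s2 ∈ Subgroup.normalizer ((R : Subgroup G) : Set G),
      orderOf s1 = 2 ∧ orderOf s2 = 2 ∧ s1 * s2 = s2 * s1 ∧ s1 ≠ s2 ∧
      Subgroup.normalizer ((R : Subgroup G) : Set G) =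
        (R : Subgroup G) ⊔ Subgroup.closure {s1, s2}) := by
  have hp3 : Fact (Nat.Prime 3) := ⟨Nat.prime_three⟩
  have hp2 : Fact (Nat.Prime 2) := ⟨Nat.prime_two⟩
  set N : Subgroup G := Subgroup.normalizer ((R : Subgroup G) : Set G) with hNdef
  have hRN : (R : Subgroup G) ≤ N := Subgroup.le_normalizer
  -- |R| = 9
  have hR : Nat.card (R : Subgroup G) = 9 := by
    have h1 : Nat.card (R : Subgroup G) = 3 ^ (Nat.card G).factorization 3 :=
      R.card_eq_multiplicity
    have h36 : 36 ∣ Nat.card G := by rw [← hN]; exact Subgroup.card_subgroup_dvd_card N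
    have h9 : 3 ^ 2 ∣ Nat.card G := Dvd.dvd.trans (by norm_num) h36
    have hk2 : 2 ≤ (Nat.card G).factorization 3 :=
      (Nat.Prime.pow_dvd_iff_le_factorization Nat.prime_three Nat.card_pos.ne').mp h9
    have hdvd : Nat.card (R : Subgroup G) ∣ 36 := by
      rw [← hN]; exact Subgroup.card_dvd_of_le hRN
    have hk3 : (Nat.card G).factorization 3 < 3 := by
      by_contra hcon
      push Not at hcon
      have : 3 ^ 3 ∣ 36 := Dvd.dvd.trans (pow_dvd_pow 3 hcon) (h1 ▸ hdvd)
      norm_num at this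
    have : (Nat.card G).factorization 3 = 2 := by omega
    rw [h1, this]; norm_num
  -- a subgroup of order 4 in N
  obtain ⟨Q0, hQ0⟩ := Sylow.exists_subgroup_card_pow_prime (G := N) 2 (n := 2)
    (by rw [hN]; norm_num)
  set Q : Subgroup G := Q0.map N.subtype with hQdef
  have hQ : Nat.card Q = 4 := by
    rw [hQdef, Subgroup.card_map_of_injective N.subtype_injective, hQ0]; norm_num
  have hQN : Q ≤ N := by
    rw [hQdef]; exact Subgroup.map_subtype_le Q0
  -- orders of elements of Q
  have hord : ∀ x ∈ Q, orderOf x ∣ 4 := by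
    intro x hx
    rw [← hQ, ← Nat.card_zpowers]
    exact Subgroup.card_dvd_of_le (by rw [Subgroup.zpowers_le]; exact hx)
  by_cases hex : ∃ a ∈ Q, orderOf a = 4
  · left
    obtain ⟨a, haQ, ha⟩ := hex
    refine ⟨a, hQN haQ, ha, ?_⟩
    apply eq_sup_of_card N R (Subgroup.zpowers a) hN hR _ hRN
    · rw [Subgroup.zpowers_le]; exact hQN haQ
    · rw [Nat.card_zpowers, ha]
  · right
    push Not at hex
    have hord2 : ∀ x ∈ Q, x ≠ 1 → orderOf x = 2 := by
      intro x hx hx1
      have h4 := hord x hx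
      have hne4 := hex x hx
      have hne1 : orderOf x ≠ 1 := fun h => hx1 (orderOf_eq_one_iff.mp h)
      have hle : orderOf x ≤ 4 := Nat.le_of_dvd (by norm_num) h4
      have hpos : 0 < orderOf x := orderOf_pos x
      interval_cases h : orderOf x
      · exact absurd rfl hne1
      · rfl
      · norm_num at h4
      · exact absurd rfl hne4
    have hsq : ∀ x ∈ Q, x * x = 1 := by
      intro x hx
      by_cases hx1 : x = 1
      · rw [hx1, one_mul]
      · have := hord2 x hx hx1
        rw [← pow_two, ← this]; exact pow_orderOf_eq_one x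
    -- s1
    have hQne : Q ≠ ⊥ := by
      intro h
      rw [h, Subgroup.card_bot] at hQ
      norm_num at hQ
    obtain ⟨s1, hs11⟩ := (Subgroup.ne_bot_iff_exists_ne_one.mp hQne)
    have hs1Q' : (s1 : G) ∈ Q := s1.2
    have hs11' : (s1 : G) ≠ 1 := fun h => hs11 (Subtype.ext h)
    have ho1 : orderOf (s1 : G) = 2 := hord2 _ hs1Q' hs11'
    have hzle : Subgroup.zpowers (s1 : G) ≤ Q := by rw [Subgroup.zpowers_le]; exact hs1Q'
    have hzlt : Subgroup.zpowers (s1 : G) < Q := by
      refine lt_of_le_of_ne hzle ?_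
      intro h
      have : Nat.card (Subgroup.zpowers (s1 : G)) = 4 := by rw [h, hQ]
      rw [Nat.card_zpowers, ho1] at this
      norm_num at this
    obtain ⟨s2, hs2Q, hs2z⟩ := SetLike.exists_of_lt hzlt
    have hs21 : s2 ≠ 1 := fun h => hs2z (h ▸ Subgroup.one_mem _)
    have hs2s1 : (s1 : G) ≠ s2 := fun h => hs2z (h ▸ Subgroup.mem_zpowers _)
    have ho2 : orderOf s2 = 2 := hord2 _ hs2Q hs21
    have hinv : ∀ x ∈ Q, x⁻¹ = x := fun x hx => inv_eq_of_mul_eq_one_left (hsq x hx)
    have hcomm : (s1 : G) * s2 = s2 * s1 := by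
      calc (s1 : G) * s2 = ((s1 : G) * s2)⁻¹ := (hinv _ (Q.mul_mem hs1Q' hs2Q)).symm
        _ = s2⁻¹ * (s1 : G)⁻¹ := mul_inv_rev _ _
        _ = s2 * s1 := by rw [hinv _ hs2Q, hinv _ hs1Q']
    -- the Klein group
    set P : Subgroup G := Subgroup.closure {(s1 : G), s2} with hPdef
    have hPQ : P ≤ Q := by
      rw [hPdef, Subgroup.closure_le]
      intro x hx
      rcases hx with hx | hx
      · rw [hx]; exact hs1Q'
      · rw [Set.mem_singleton_iff] at hx; rw [hx]; exact hs2Q
    have hs1P : (s1 : G) ∈ P := Subgroup.subset_closure (by simp)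
    have hs2P : s2 ∈ P := Subgroup.subset_closure (by simp)
    have hzP : Subgroup.zpowers (s1 : G) ≤ P := by rw [Subgroup.zpowers_le]; exact hs1P
    have hP : Nat.card P = 4 := by
      have hdvd : Nat.card P ∣ 2 ^ 2 := by
        have : Nat.card P ∣ Nat.card Q := Subgroup.card_dvd_of_le hPQ
        rw [hQ] at this
        exact this
      obtain ⟨m, hm, hmc⟩ := (Nat.dvd_prime_pow Nat.prime_two).mp hdvd
      interval_cases m
      · exfalso
        have : P = ⊥ := Subgroup.card_eq_one.mp (by rw [hmc]; norm_num)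
        rw [this, Subgroup.mem_bot] at hs1P
        exact hs11' hs1P
      · exfalso
        have : Subgroup.zpowers (s1 : G) = P := by
          apply Subgroup.eq_of_le_of_card_ge hzP
          rw [hmc, Nat.card_zpowers, ho1]
          norm_num
        apply hs2z
        rw [this]
        exact hs2P
      · rw [hmc]; norm_num
    refine ⟨s1, hQN hs1Q', s2, hQN hs2Q, ho1, ho2, hcomm, hs2s1, ?_⟩
    exact eq_sup_of_card N R P hN hR hP hRN (hPQ.trans hQN)

end Cfsg.Agent.Helper55.A7
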