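import Cfsg.Agent.Helper64.AltPres.GlueDefs

/-!
helper55 for helper64 (S2290 farm 3, piece (GLUEP)): from presentations of `Alt(Pt (α ⊕ β))` and `Alt(Pt (β ⊕ γ))` build a
presentation of `Alt(Pt (α ⊕ β ⊕ γ))` with 14 more relators.  The three dependencies (`exists_two_generators`,
`exists_small_transversal`, `glue_abs`) are taken as explicit hypotheses, with the verbatim statements of the stubs.
-/

set_option autoImplicit false
set_option linter.unusedSectionVars false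

namespace Cfsg.Agent.Helper55.AltGlue

open Equiv Cfsg.Agent.Helper64.AltPres

theorem GLUEP_img {ι F : Type*} [DecidableEq F] (s : Finset ι) (f : ι → F) :
    ∃ R : Finset F, R.card ≤ s.card ∧ (∀ k ∈ s, f k ∈ R) ∧ ∀ r ∈ R, ∃ k ∈ s, f k = r :=
  ⟨s.image f, Finset.card_image_le, fun k hk => Finset.mem_image_of_mem f hk, fun r hr => by
    obtain ⟨k, hk, rfl⟩ := Finset.mem_image.mp hr
    exact ⟨k, hk, rfl⟩⟩

theorem GLUEP_tg_mk {κ : Type*} {G : Type*} [Group G] {f : κ → G} {rels : Set (FreeGroup κ)}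
    (h : ∀ r ∈ rels, FreeGroup.lift f r = 1) (w : FreeGroup κ) :
    PresentedGroup.toGroup h (PresentedGroup.mk rels w) = FreeGroup.lift f w := rfl

/-- two generators as a function on `Fin 2` -/
theorem GLUEP_fin2 {H : Type*} [Group H] (g1 g2 : H) (h : Subgroup.closure {g1, g2} = ⊤) :
    ∃ f : Fin 2 → H, Subgroup.closure (Set.range f) = ⊤ := by
  refine ⟨fun k => if k = 0 then g1 else g2, ?_⟩
  rw [eq_top_iff, ← h]
  apply Subgroup.closure_mono
  rintro x (rfl | rfl)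
  · exact ⟨0, by simp⟩
  · exact ⟨1, by simp⟩

section emb
variable {α β γ : Type} [Fintype α] [DecidableEq α] [Fintype β] [DecidableEq β] [Fintype γ] [DecidableEq γ]

/-- the two embeddings of `Pt β` into `Pt (α ⊕ β ⊕ γ)` agree -/
theorem GLUEP_emb_eq :
    (ptEmb (Function.Embedding.inr : β ↪ α ⊕ β)).trans (ptEmb (embU α β γ)) =
      (ptEmb (Function.Embedding.inl : β ↪ β ⊕ γ)).trans (ptEmb (embV α β γ)) := by
  apply Function.Embedding.ext
  intro x
  rcases Pt.cases x with rfl | rfl | ⟨b, rfl⟩ <;> rfl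

theorem GLUEP_identify (g : alternatingGroup (Pt β)) :
    altEmb (ptEmb (embU α β γ)) (altEmb (ptEmb (Function.Embedding.inr : β ↪ α ⊕ β)) g) =
      altEmb (ptEmb (embV α β γ)) (altEmb (ptEmb (Function.Embedding.inl : β ↪ β ⊕ γ)) g) := by
  rw [← altEmb_trans, ← altEmb_trans, GLUEP_emb_eq]

theorem GLUEP_comm1 (g : alternatingGroup α) (v : alternatingGroup (Pt (β ⊕ γ))) :
    Commute (altEmb (ptEmb (embU α β γ)) (altEmb ((Function.Embedding.inl : α ↪ α ⊕ β).trans ptE) g))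
      (altEmb (ptEmb (embV α β γ)) v) := by
  rw [← altEmb_trans]
  apply altEmb_commute
  intro a x
  rcases Pt.cases x with rfl | rfl | ⟨y, rfl⟩
  · exact pt_ne_inf1 _
  · exact pt_ne_inf2 _
  · intro h
    have h' : (Sum.inl a : α ⊕ β ⊕ γ) = Sum.inr y := pt_inj.mp h
    exact Sum.inl_ne_inr h'

theorem GLUEP_comm2 (u : alternatingGroup (Pt (α ⊕ β))) (h : alternatingGroup γ) :
    Commute (altEmb (ptEmb (embU α β γ)) u)
      (altEmb (ptEmb (embV α β γ)) (altEmb ((Function.Embedding.inr : γ ↪ β ⊕ γ).trans ptE) h)) := by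
  rw [← altEmb_trans]
  apply altEmb_commute
  intro x c
  rcases Pt.cases x with rfl | rfl | ⟨y, rfl⟩
  · exact inf1_ne_pt _
  · exact inf2_ne_pt _
  · intro h
    have h' : embU α β γ y = Sum.inr (Sum.inr c) := pt_inj.mp h
    rcases y with a | b
    · exact Sum.inl_ne_inr h'
    · have h'' : (Sum.inl b : β ⊕ γ) = Sum.inr c := Sum.inr_injective h'
      exact Sum.inl_ne_inr h''

theorem GLUEP_mixed (a : α) (c : γ) :
    (altEmb (ptEmb (embU α β γ)) (cyc3 (Sum.inl a)) * altEmb (ptEmb (embV α β γ)) (cyc3 (Sum.inr c))) ^ 2 = 1 := by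
  rw [altEmb_ptEmb_cyc3, altEmb_ptEmb_cyc3]
  apply Subtype.ext
  have hne : (embU α β γ (Sum.inl a)) ≠ (embV α β γ (Sum.inr c)) := by
    intro h
    exact Sum.inl_ne_inr h
  simpa using cyc3P_mul_sq hne

end emb

/-- (GLUEP) with the three dependencies as explicit hypotheses -/
theorem glue_pres_of
    (h2 : ∀ (X : Type) [Fintype X] [DecidableEq X],
      ∃ g1 g2 : alternatingGroup X, Subgroup.closure {g1, g2} = ⊤)
    (hT : ∀ (X : Type) [Fintype X] [DecidableEq X],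
      ∃ S : Finset X, S.card ≤ 2 ∧ ∀ x, ∃ g : alternatingGroup X, (g : Perm X) x ∈ S)
    {α β γ : Type} [Fintype α] [DecidableEq α] [Fintype β] [DecidableEq β]
    [Fintype γ] [DecidableEq γ]
    (hA : ∀ {G : Type} [Group G]
      (jU : alternatingGroup (Pt (α ⊕ β)) →* G) (jV : alternatingGroup (Pt (β ⊕ γ)) →* G)
      (π : G →* alternatingGroup (Pt (α ⊕ β ⊕ γ)))
      (_ : ∀ u, π (jU u) = altEmb (ptEmb (embU α β γ)) u)
      (_ : ∀ v, π (jV v) = altEmb (ptEmb (embV α β γ)) v)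
      (_ : jU.range ⊔ jV.range = ⊤)
      (gβ : Set (alternatingGroup (Pt β))) (_ : Subgroup.closure gβ = ⊤)
      (_ : ∀ g ∈ gβ, jU (altEmb (ptEmb (Function.Embedding.inr : β ↪ α ⊕ β)) g) =
        jV (altEmb (ptEmb (Function.Embedding.inl : β ↪ β ⊕ γ)) g))
      (gα : Set (alternatingGroup α)) (_ : Subgroup.closure gα = ⊤)
      (gV : Set (alternatingGroup (Pt (β ⊕ γ)))) (_ : Subgroup.closure gV = ⊤)
      (_ : ∀ g ∈ gα, ∀ v ∈ gV,
        Commute (jU (altEmb ((Function.Embedding.inl : α ↪ α ⊕ β).trans ptE) g)) (jV v))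
      (gU : Set (alternatingGroup (Pt (α ⊕ β)))) (_ : Subgroup.closure gU = ⊤)
      (gγ : Set (alternatingGroup γ)) (_ : Subgroup.closure gγ = ⊤)
      (_ : ∀ u ∈ gU, ∀ h ∈ gγ,
        Commute (jU u) (jV (altEmb ((Function.Embedding.inr : γ ↪ β ⊕ γ).trans ptE) h)))
      (S : Finset α) (T : Finset γ)
      (_ : ∀ a, ∃ g : alternatingGroup α, (g : Perm α) a ∈ S)
      (_ : ∀ c, ∃ h : alternatingGroup γ, (h : Perm γ) c ∈ T)
      (_ : ∀ a ∈ S, ∀ c ∈ T, (jU (cyc3 (Sum.inl a)) * jV (cyc3 (Sum.inr c))) ^ 2 = 1),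
      Function.Bijective π)
    {κU κV : Type} [DecidableEq κU] [DecidableEq κV]
    (relsU : Finset (FreeGroup κU))
    (φU : PresentedGroup (↑relsU : Set (FreeGroup κU)) ≃* alternatingGroup (Pt (α ⊕ β)))
    (relsV : Finset (FreeGroup κV))
    (φV : PresentedGroup (↑relsV : Set (FreeGroup κV)) ≃* alternatingGroup (Pt (β ⊕ γ))) :
    ∃ rels : Finset (FreeGroup (κU ⊕ κV)), rels.card ≤ relsU.card + relsV.card + 14 ∧
      Nonempty (PresentedGroup (↑rels : Set (FreeGroup (κU ⊕ κV))) ≃*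
        alternatingGroup (Pt (α ⊕ β ⊕ γ))) := by
  classical
  -- generators and transversals
  obtain ⟨b1, b2, hb⟩ := h2 (Pt β)
  obtain ⟨bb, hbb⟩ := GLUEP_fin2 b1 b2 hb
  obtain ⟨a1, a2, ha⟩ := h2 α
  obtain ⟨aa, haa⟩ := GLUEP_fin2 a1 a2 ha
  obtain ⟨v1, v2, hv⟩ := h2 (Pt (β ⊕ γ))
  obtain ⟨vv, hvv⟩ := GLUEP_fin2 v1 v2 hv
  obtain ⟨u1, u2, hu⟩ := h2 (Pt (α ⊕ β))
  obtain ⟨uu, huu⟩ := GLUEP_fin2 u1 u2 hu
  obtain ⟨c1, c2, hc⟩ := h2 γ
  obtain ⟨cc, hcc⟩ := GLUEP_fin2 c1 c2 hc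
  obtain ⟨S, hScard, hS⟩ := hT α
  obtain ⟨T, hTcard, hTT⟩ := hT γ
  -- sections
  have hsurjU : ∀ u : alternatingGroup (Pt (α ⊕ β)),
      ∃ w : FreeGroup κU, φU (PresentedGroup.mk _ w) = u := by
    intro u
    obtain ⟨x, hx⟩ := φU.surjective u
    obtain ⟨w, rfl⟩ := PresentedGroup.mk_surjective _ x
    exact ⟨w, hx⟩
  choose sU hsU using hsurjU
  have hsurjV : ∀ v : alternatingGroup (Pt (β ⊕ γ)),
      ∃ w : FreeGroup κV, φV (PresentedGroup.mk _ w) = v := by
    intro v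
    obtain ⟨x, hx⟩ := φV.surjective v
    obtain ⟨w, rfl⟩ := PresentedGroup.mk_surjective _ x
    exact ⟨w, hx⟩
  choose sV hsV using hsurjV
  obtain ⟨iU, hiU⟩ : ∃ f : FreeGroup κU →* FreeGroup (κU ⊕ κV), f = FreeGroup.map Sum.inl := ⟨_, rfl⟩
  obtain ⟨iV, hiV⟩ : ∃ f : FreeGroup κV →* FreeGroup (κU ⊕ κV), f = FreeGroup.map Sum.inr := ⟨_, rfl⟩
  have hiU_of : ∀ k, iU (FreeGroup.of k) = FreeGroup.of (Sum.inl k) := fun k => by rw [hiU]; rfl
  have hiV_of : ∀ k, iV (FreeGroup.of k) = FreeGroup.of (Sum.inr k) := fun k => by rw [hiV]; rfl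
  obtain ⟨wU, hwU⟩ : ∃ f : alternatingGroup (Pt (α ⊕ β)) → FreeGroup (κU ⊕ κV),
      ∀ u, f u = iU (sU u) := ⟨fun u => iU (sU u), fun _ => rfl⟩
  obtain ⟨wV, hwV⟩ : ∃ f : alternatingGroup (Pt (β ⊕ γ)) → FreeGroup (κU ⊕ κV),
      ∀ v, f v = iV (sV v) := ⟨fun v => iV (sV v), fun _ => rfl⟩
  -- the relators
  obtain ⟨RU, hRUc, hRUm, hRUr⟩ := GLUEP_img relsU iU
  obtain ⟨RV, hRVc, hRVm, hRVr⟩ := GLUEP_img relsV iV
  obtain ⟨RI, hRIc, hRIm, hRIr⟩ := GLUEP_img (Finset.univ : Finset (Fin 2)) (fun k =>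
    wU (altEmb (ptEmb (Function.Embedding.inr : β ↪ α ⊕ β)) (bb k)) *
      (wV (altEmb (ptEmb (Function.Embedding.inl : β ↪ β ⊕ γ)) (bb k)))⁻¹)
  obtain ⟨RC1, hRC1c, hRC1m, hRC1r⟩ := GLUEP_img (Finset.univ : Finset (Fin 2 × Fin 2)) (fun k =>
    wU (altEmb ((Function.Embedding.inl : α ↪ α ⊕ β).trans ptE) (aa k.1)) * wV (vv k.2) *
      (wU (altEmb ((Function.Embedding.inl : α ↪ α ⊕ β).trans ptE) (aa k.1)))⁻¹ * (wV (vv k.2))⁻¹)
  obtain ⟨RC2, hRC2c, hRC2m, hRC2r⟩ := GLUEP_img (Finset.univ : Finset (Fin 2 × Fin 2)) (fun k =>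
    wU (uu k.1) * wV (altEmb ((Function.Embedding.inr : γ ↪ β ⊕ γ).trans ptE) (cc k.2)) *
      (wU (uu k.1))⁻¹ * (wV (altEmb ((Function.Embedding.inr : γ ↪ β ⊕ γ).trans ptE) (cc k.2)))⁻¹)
  obtain ⟨RM, hRMc, hRMm, hRMr⟩ := GLUEP_img (S ×ˢ T) (fun x : α × γ =>
    (wU (cyc3 (Sum.inl x.1)) * wV (cyc3 (Sum.inr x.2))) ^ 2)
  obtain ⟨rels, hrels⟩ : ∃ R : Finset (FreeGroup (κU ⊕ κV)), R = RU ∪ RV ∪ RI ∪ RC1 ∪ RC2 ∪ RM :=
    ⟨_, rfl⟩
  refine ⟨rels, ?_, ?_⟩
  · -- the number of relators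
    have e2 : (Finset.univ : Finset (Fin 2)).card = 2 := by simp
    have e4 : (Finset.univ : Finset (Fin 2 × Fin 2)).card = 4 := by simp
    have e4' : (S ×ˢ T).card ≤ 4 := by
      rw [Finset.card_product]
      calc S.card * T.card ≤ 2 * 2 := Nat.mul_le_mul hScard hTcard
        _ = 4 := by norm_num
    have c1 := Finset.card_union_le (RU ∪ RV ∪ RI ∪ RC1 ∪ RC2) RM
    have c2 := Finset.card_union_le (RU ∪ RV ∪ RI ∪ RC1) RC2
    have c3 := Finset.card_union_le (RU ∪ RV ∪ RI) RC1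
    have c4 := Finset.card_union_le (RU ∪ RV) RI
    have c5 := Finset.card_union_le RU RV
    rw [hrels]
    omega
  · -- the presented group
    have hsub : ∀ r, (r ∈ RU ∨ r ∈ RV ∨ r ∈ RI ∨ r ∈ RC1 ∨ r ∈ RC2 ∨ r ∈ RM) ↔
        r ∈ (↑rels : Set (FreeGroup (κU ⊕ κV))) := by
      intro r
      rw [hrels, Finset.mem_coe]
      simp only [Finset.mem_union]
      tauto
    -- the maps `jU`, `jV`
    have hliftU : ∀ w : FreeGroup κU,
        FreeGroup.lift (fun k => (PresentedGroup.of (Sum.inl k) :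
          PresentedGroup (↑rels : Set (FreeGroup (κU ⊕ κV))))) w =
          PresentedGroup.mk (↑rels : Set (FreeGroup (κU ⊕ κV))) (iU w) := by
      intro w
      have e : FreeGroup.lift (fun k => (PresentedGroup.of (Sum.inl k) :
          PresentedGroup (↑rels : Set (FreeGroup (κU ⊕ κV))))) =
          (PresentedGroup.mk (↑rels : Set (FreeGroup (κU ⊕ κV)))).comp iU := by
        ext k
        rw [FreeGroup.lift_apply_of, MonoidHom.comp_apply, hiU_of]
        rfl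
      rw [e]; rfl
    have hliftV : ∀ w : FreeGroup κV,
        FreeGroup.lift (fun k => (PresentedGroup.of (Sum.inr k) :
          PresentedGroup (↑rels : Set (FreeGroup (κU ⊕ κV))))) w =
          PresentedGroup.mk (↑rels : Set (FreeGroup (κU ⊕ κV))) (iV w) := by
      intro w
      have e : FreeGroup.lift (fun k => (PresentedGroup.of (Sum.inr k) :
          PresentedGroup (↑rels : Set (FreeGroup (κU ⊕ κV))))) =
          (PresentedGroup.mk (↑rels : Set (FreeGroup (κU ⊕ κV)))).comp iV := by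
        ext k
        rw [FreeGroup.lift_apply_of, MonoidHom.comp_apply, hiV_of]
        rfl
      rw [e]; rfl
    have hrelU : ∀ r ∈ (↑relsU : Set (FreeGroup κU)),
        FreeGroup.lift (fun k => (PresentedGroup.of (Sum.inl k) :
          PresentedGroup (↑rels : Set (FreeGroup (κU ⊕ κV))))) r = 1 := by
      intro r hr
      rw [hliftU]
      exact PresentedGroup.one_of_mem ((hsub _).mp (Or.inl (hRUm r (Finset.mem_coe.mp hr))))
    have hrelV : ∀ r ∈ (↑relsV : Set (FreeGroup κV)),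
        FreeGroup.lift (fun k => (PresentedGroup.of (Sum.inr k) :
          PresentedGroup (↑rels : Set (FreeGroup (κU ⊕ κV))))) r = 1 := by
      intro r hr
      rw [hliftV]
      exact PresentedGroup.one_of_mem ((hsub _).mp (Or.inr (Or.inl (hRVm r (Finset.mem_coe.mp hr)))))
    obtain ⟨jU, hjU, hjU_of⟩ : ∃ j : alternatingGroup (Pt (α ⊕ β)) →*
        PresentedGroup (↑rels : Set (FreeGroup (κU ⊕ κV))),
        (∀ u, j u = PresentedGroup.mk _ (wU u)) ∧
          ∀ k, j (φU (PresentedGroup.of k)) = PresentedGroup.of (Sum.inl k) := by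
      refine ⟨(PresentedGroup.toGroup hrelU).comp φU.symm.toMonoidHom, fun u => ?_, fun k => ?_⟩
      · have e : φU.symm u = PresentedGroup.mk _ (sU u) := φU.symm_apply_eq.mpr (hsU u).symm
        rw [MonoidHom.comp_apply, MulEquiv.coe_toMonoidHom, e, GLUEP_tg_mk, hliftU, hwU]
      · rw [MonoidHom.comp_apply, MulEquiv.coe_toMonoidHom, MulEquiv.symm_apply_apply,
          PresentedGroup.toGroup.of]
    obtain ⟨jV, hjV, hjV_of⟩ : ∃ j : alternatingGroup (Pt (β ⊕ γ)) →*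
        PresentedGroup (↑rels : Set (FreeGroup (κU ⊕ κV))),
        (∀ v, j v = PresentedGroup.mk _ (wV v)) ∧
          ∀ k, j (φV (PresentedGroup.of k)) = PresentedGroup.of (Sum.inr k) := by
      refine ⟨(PresentedGroup.toGroup hrelV).comp φV.symm.toMonoidHom, fun v => ?_, fun k => ?_⟩
      · have e : φV.symm v = PresentedGroup.mk _ (sV v) := φV.symm_apply_eq.mpr (hsV v).symm
        rw [MonoidHom.comp_apply, MulEquiv.coe_toMonoidHom, e, GLUEP_tg_mk, hliftV, hwV]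
      · rw [MonoidHom.comp_apply, MulEquiv.coe_toMonoidHom, MulEquiv.symm_apply_apply,
          PresentedGroup.toGroup.of]
    -- the map `π`
    obtain ⟨fπ, hfπ⟩ : ∃ f : κU ⊕ κV → alternatingGroup (Pt (α ⊕ β ⊕ γ)),
        f = Sum.elim (fun k => altEmb (ptEmb (embU α β γ)) (φU (PresentedGroup.of k)))
          (fun k => altEmb (ptEmb (embV α β γ)) (φV (PresentedGroup.of k))) := ⟨_, rfl⟩
    have hμU : ∀ w : FreeGroup κU, FreeGroup.lift fπ (iU w) =
        altEmb (ptEmb (embU α β γ)) (φU (PresentedGroup.mk _ w)) := by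
      intro w
      have e : (FreeGroup.lift fπ).comp iU =
          (altEmb (ptEmb (embU α β γ))).comp (φU.toMonoidHom.comp (PresentedGroup.mk _)) := by
        ext k
        rw [MonoidHom.comp_apply, hiU_of, FreeGroup.lift_apply_of, hfπ]
        rfl
      exact DFunLike.congr_fun e w
    have hμV : ∀ w : FreeGroup κV, FreeGroup.lift fπ (iV w) =
        altEmb (ptEmb (embV α β γ)) (φV (PresentedGroup.mk _ w)) := by
      intro w
      have e : (FreeGroup.lift fπ).comp iV =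
          (altEmb (ptEmb (embV α β γ))).comp (φV.toMonoidHom.comp (PresentedGroup.mk _)) := by
        ext k
        rw [MonoidHom.comp_apply, hiV_of, FreeGroup.lift_apply_of, hfπ]
        rfl
      exact DFunLike.congr_fun e w
    have hμwU : ∀ u, FreeGroup.lift fπ (wU u) = altEmb (ptEmb (embU α β γ)) u := fun u => by
      rw [hwU, hμU, hsU]
    have hμwV : ∀ v, FreeGroup.lift fπ (wV v) = altEmb (ptEmb (embV α β γ)) v := fun v => by
      rw [hwV, hμV, hsV]
    have hπrel : ∀ r ∈ (↑rels : Set (FreeGroup (κU ⊕ κV))), FreeGroup.lift fπ r = 1 := by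
      intro r hr
      rcases (hsub r).mpr hr with h | h | h | h | h | h
      · obtain ⟨r0, hr0, rfl⟩ := hRUr r h
        rw [hμU, PresentedGroup.one_of_mem (Finset.mem_coe.mpr hr0), map_one, map_one]
      · obtain ⟨r0, hr0, rfl⟩ := hRVr r h
        rw [hμV, PresentedGroup.one_of_mem (Finset.mem_coe.mpr hr0), map_one, map_one]
      · obtain ⟨k, -, rfl⟩ := hRIr r h
        rw [map_mul, map_inv, hμwU, hμwV, GLUEP_identify, mul_inv_cancel]
      · obtain ⟨k, -, rfl⟩ := hRC1r r h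
        rw [map_mul, map_mul, map_mul, map_inv, map_inv, hμwU, hμwV, mul_inv_eq_one,
          mul_inv_eq_iff_eq_mul]
        exact GLUEP_comm1 (aa k.1) (vv k.2)
      · obtain ⟨k, -, rfl⟩ := hRC2r r h
        rw [map_mul, map_mul, map_mul, map_inv, map_inv, hμwU, hμwV, mul_inv_eq_one,
          mul_inv_eq_iff_eq_mul]
        exact GLUEP_comm2 (uu k.1) (cc k.2)
      · obtain ⟨x, -, rfl⟩ := hRMr r h
        rw [map_pow, map_mul, hμwU, hμwV]
        exact GLUEP_mixed x.1 x.2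
    obtain ⟨π, hπ⟩ : ∃ p : PresentedGroup (↑rels : Set (FreeGroup (κU ⊕ κV))) →*
        alternatingGroup (Pt (α ⊕ β ⊕ γ)), ∀ w, p (PresentedGroup.mk _ w) = FreeGroup.lift fπ w :=
      ⟨PresentedGroup.toGroup hπrel, fun w => rfl⟩
    have hπU : ∀ u, π (jU u) = altEmb (ptEmb (embU α β γ)) u := fun u => by rw [hjU, hπ, hμwU]
    have hπV : ∀ v, π (jV v) = altEmb (ptEmb (embV α β γ)) v := fun v => by rw [hjV, hπ, hμwV]
    have hgen : jU.range ⊔ jV.range = ⊤ := by
      rw [eq_top_iff, ← PresentedGroup.closure_range_of, Subgroup.closure_le]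
      rintro _ ⟨k | k, rfl⟩
      · exact Subgroup.mem_sup_left (MonoidHom.mem_range.mpr ⟨_, hjU_of k⟩)
      · exact Subgroup.mem_sup_right (MonoidHom.mem_range.mpr ⟨_, hjV_of k⟩)
    have hI : ∀ g ∈ Set.range bb, jU (altEmb (ptEmb (Function.Embedding.inr : β ↪ α ⊕ β)) g) =
        jV (altEmb (ptEmb (Function.Embedding.inl : β ↪ β ⊕ γ)) g) := by
      rintro _ ⟨k, rfl⟩
      rw [hjU, hjV]
      apply PresentedGroup.mk_eq_mk_of_mul_inv_mem
      exact (hsub _).mp (Or.inr (Or.inr (Or.inl (hRIm k (Finset.mem_univ k)))))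
    have hC1 : ∀ g ∈ Set.range aa, ∀ v ∈ Set.range vv,
        Commute (jU (altEmb ((Function.Embedding.inl : α ↪ α ⊕ β).trans ptE) g)) (jV v) := by
      rintro _ ⟨k, rfl⟩ _ ⟨l, rfl⟩
      rw [hjU, hjV]
      have hmem := (hsub _).mp (Or.inr (Or.inr (Or.inr (Or.inl (hRC1m (k, l) (Finset.mem_univ _))))))
      have h1 := PresentedGroup.one_of_mem hmem
      simp only [map_mul, map_inv] at h1
      rw [mul_inv_eq_one, mul_inv_eq_iff_eq_mul] at h1
      exact h1
    have hC2 : ∀ u ∈ Set.range uu, ∀ h ∈ Set.range cc,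
        Commute (jU u) (jV (altEmb ((Function.Embedding.inr : γ ↪ β ⊕ γ).trans ptE) h)) := by
      rintro _ ⟨k, rfl⟩ _ ⟨l, rfl⟩
      rw [hjU, hjV]
      have hmem := (hsub _).mp (Or.inr (Or.inr (Or.inr (Or.inr (Or.inl
        (hRC2m (k, l) (Finset.mem_univ _)))))))
      have h1 := PresentedGroup.one_of_mem hmem
      simp only [map_mul, map_inv] at h1
      rw [mul_inv_eq_one, mul_inv_eq_iff_eq_mul] at h1
      exact h1
    have hM : ∀ a ∈ S, ∀ c ∈ T, (jU (cyc3 (Sum.inl a)) * jV (cyc3 (Sum.inr c))) ^ 2 = 1 := by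
      intro a ha c hc
      rw [hjU, hjV, ← map_mul, ← map_pow]
      exact PresentedGroup.one_of_mem ((hsub _).mp (Or.inr (Or.inr (Or.inr (Or.inr (Or.inr
        (hRMm (a, c) (Finset.mem_product.mpr ⟨ha, hc⟩))))))))
    exact ⟨MulEquiv.ofBijective π (hA jU jV π hπU hπV hgen (Set.range bb) hbb hI (Set.range aa) haa
      (Set.range vv) hvv hC1 (Set.range uu) huu (Set.range cc) hcc hC2 S T hS hTT hM)⟩

end Cfsg.Agent.Helper55.AltGlue
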