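import Mathlib

set_option autoImplicit false

/-!
# Two abstract lemmas for the nonabelian case of B-G Theorem 12.12 (helper55)

* `exists_compl_of_pow_ne`: in a finite abelian group a subgroup of prime order `p` containing no
  non-identity `p`-th power has a complement.
* `exponent_eq_of_isComplement'`: a complement of a normal subgroup of order `p` has the same
  exponent as the whole group, if the Sylow `p`-subgroup is abelian of order `> p`.
-/

namespace Cfsg.Agent.Helper55.ComplExp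

open scoped Pointwise

/-- In a finite abelian group, a subgroup `A₀` of prime order `p` none of whose non-identity
elements is a `p`-th power has a complement. -/
theorem exists_compl_of_pow_ne {P : Type*} [CommGroup P] [Finite P] {p : ℕ} [hp : Fact p.Prime]
    (A₀ : Subgroup P) (hA₀ : Nat.card A₀ = p) (h : ∀ c : P, c ^ p ∈ A₀ → c ^ p = 1) :
    ∃ H : Subgroup P, A₀ ⊓ H = ⊥ ∧ A₀ ⊔ H = ⊤ := by
  classical
  have hpp : p.Prime := hp.out
  -- a generator of `A₀`
  have hA₀ne : A₀ ≠ ⊥ := by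
    intro hb
    rw [hb, Subgroup.card_bot] at hA₀
    exact hpp.one_lt.ne hA₀
  obtain ⟨⟨a₀, ha₀⟩, ha₀1'⟩ := (Subgroup.ne_bot_iff_exists_ne_one).mp hA₀ne
  have ha₀1 : a₀ ≠ 1 := fun h1 => ha₀1' (Subtype.ext h1)
  -- every non-identity element of `A₀` generates it
  have hgen : ∀ x ∈ A₀, x ≠ 1 → A₀ ≤ Subgroup.zpowers x := by
    intro x hx hx1
    have hle : Subgroup.zpowers x ≤ A₀ := by
      rw [Subgroup.zpowers_le]; exact hx
    have hd : Nat.card (Subgroup.zpowers x) ∣ p := by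
      rw [← hA₀]; exact Subgroup.card_dvd_of_le hle
    rcases (Nat.dvd_prime hpp).mp hd with h1 | h1
    · exfalso
      rw [Nat.card_zpowers, orderOf_eq_one_iff] at h1
      exact hx1 h1
    · exact (Subgroup.eq_of_le_of_card_ge hle (by rw [h1, hA₀])).ge
  set Φ : Subgroup P := (powMonoidHom p : P →* P).range with hΦ
  have hΦmem : ∀ x : P, x ^ p ∈ Φ := fun x => ⟨x, rfl⟩
  have ha₀Φ : a₀ ∉ Φ := by
    rintro ⟨c, hc⟩
    have hc' : c ^ p = a₀ := hc
    have := h c (hc' ▸ ha₀)
    rw [hc'] at this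
    exact ha₀1 this
  obtain ⟨H, hΦH, hHmax⟩ := Set.Finite.exists_le_maximal
    (s := {H : Subgroup P | Φ ≤ H ∧ a₀ ∉ H}) (Set.toFinite _) (a := Φ) ⟨le_rfl, ha₀Φ⟩
  obtain ⟨⟨hH1, hH2⟩, hHmax'⟩ := hHmax
  refine ⟨H, ?_, ?_⟩
  · rw [eq_bot_iff]
    intro x hx
    rw [Subgroup.mem_bot]
    by_contra hx1
    have := hgen x hx.1 hx1 ha₀
    apply hH2
    exact (Subgroup.zpowers_le.mpr hx.2) this
  · rw [eq_top_iff]
    intro x _
    by_contra hxQ
    have hxH : x ∉ H := fun hx => hxQ (Subgroup.mem_sup_right hx)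
    have hlt : H ≤ H ⊔ Subgroup.zpowers x := le_sup_left
    have hnot : ¬ (H ⊔ Subgroup.zpowers x ≤ H) := by
      intro hle
      exact hxH (hle (Subgroup.mem_sup_right (Subgroup.mem_zpowers x)))
    have ha₀H' : a₀ ∈ H ⊔ Subgroup.zpowers x := by
      by_contra hn
      exact hnot (hHmax' (show (H ⊔ Subgroup.zpowers x) ∈ {H : Subgroup P | Φ ≤ H ∧ a₀ ∉ H} from
        ⟨hH1.trans hlt, hn⟩) hlt)
    obtain ⟨y, hy, z, hz, hyz⟩ := Subgroup.mem_sup.mp ha₀H'
    obtain ⟨i, rfl⟩ := Subgroup.mem_zpowers_iff.mp hz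
    -- `x ^ i ∈ A₀ ⊔ H`
    have hxi : x ^ i ∈ A₀ ⊔ H := by
      have : x ^ i = y⁻¹ * a₀ := by rw [← hyz]; group
      rw [this]
      exact Subgroup.mul_mem _ (Subgroup.mem_sup_right (H.inv_mem hy)) (Subgroup.mem_sup_left ha₀)
    have hxp : x ^ (p : ℤ) ∈ H := by
      rw [zpow_natCast]; exact hH1 (hΦmem x)
    by_cases hdvd : (p : ℤ) ∣ i
    · obtain ⟨j, rfl⟩ := hdvd
      apply hH2
      rw [← hyz, zpow_mul]
      exact H.mul_mem hy (H.zpow_mem hxp j)
    · have hcop : IsCoprime i (p : ℤ) := by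
        rw [isCoprime_comm]
        exact (Nat.prime_iff_prime_int.mp hpp).coprime_iff_not_dvd.mpr hdvd
      obtain ⟨u, v, huv⟩ := hcop
      apply hxQ
      have : x = (x ^ i) ^ u * (x ^ (p : ℤ)) ^ v := by
        rw [← zpow_mul, ← zpow_mul, ← zpow_add, mul_comm i u, mul_comm (p : ℤ) v, huv, zpow_one]
      rw [this]
      exact Subgroup.mul_mem _ (Subgroup.zpow_mem _ hxi u)
        (Subgroup.zpow_mem _ (Subgroup.mem_sup_right hxp) v)


/-- A complement `H` of a normal subgroup `K` of prime order `p` inside a group `E` whose Sylow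
`p`-subgroup `U ≥ K` is abelian of order `> p` has the same exponent as `E`. -/
theorem exponent_eq_of_isComplement' {E : Type*} [Group E] [Finite E] {p : ℕ} [hp : Fact p.Prime]
    (K H : Subgroup E) [hKn : K.Normal] (hK : Nat.card K = p) (hKH : K.IsComplement' H)
    (U : Sylow p E)
    (hUc : ∀ a ∈ (U : Subgroup E), ∀ b ∈ (U : Subgroup E), a * b = b * a)
    (hKU : K ≤ (U : Subgroup E)) (hcard : p < Nat.card (U : Subgroup E)) :
    Monoid.exponent H = Monoid.exponent E := by
  classical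
  have hpp : p.Prime := hp.out
  apply Nat.dvd_antisymm (Monoid.exponent_dvd_of_monoidHom H.subtype H.subtype_injective)
  set n := Monoid.exponent H with hn
  -- decomposition
  have hdec : ∀ e : E, ∃ k ∈ K, ∃ h ∈ H, e = k * h := by
    intro e
    obtain ⟨⟨⟨k, hk⟩, ⟨h, hh⟩⟩, hx, -⟩ := (Subgroup.isComplement'_def.mp hKH).existsUnique e
    exact ⟨k, hk, h, hh, hx.symm⟩
  have hHn : ∀ h ∈ H, orderOf h ∣ n := by
    intro h hh
    have := Monoid.order_dvd_exponent (⟨h, hh⟩ : H)
    rwa [Subgroup.orderOf_mk] at this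
  have hKp : ∀ k ∈ K, k ^ p = 1 := by
    intro k hk
    have := pow_card_eq_one' (G := K) (x := ⟨k, hk⟩)
    rw [hK] at this
    simpa using congrArg Subtype.val this
  -- powers
  have hpow : ∀ (k h : E), k ∈ K → ∀ j : ℕ, ∃ k' ∈ K, (k * h) ^ j = k' * h ^ j := by
    intro k h hk j
    induction j with
    | zero => exact ⟨1, K.one_mem, by simp⟩
    | succ j ih =>
      obtain ⟨k', hk', hj⟩ := ih
      refine ⟨k' * (h ^ j * k * (h ^ j)⁻¹), K.mul_mem hk' (hKn.conj_mem k hk _), ?_⟩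
      rw [pow_succ, hj, pow_succ]
      group
  -- every order divides `n * p`
  have hord1 : ∀ e : E, orderOf e ∣ n * p := by
    intro e
    obtain ⟨k, hk, h, hh, rfl⟩ := hdec e
    obtain ⟨k', hk', hj⟩ := hpow k h hk (orderOf h)
    rw [pow_orderOf_eq_one, mul_one] at hj
    have h1 : (k * h) ^ (orderOf h * p) = 1 := by
      rw [pow_mul, hj, hKp k' hk']
    exact (orderOf_dvd_of_pow_eq_one h1).trans (Nat.mul_dvd_mul_right (hHn h hh) p)
  -- an element of order divisible by `p` in `H`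
  have hpn : p ∣ n := by
    obtain ⟨u, huU, huK⟩ : ∃ u ∈ (U : Subgroup E), u ∉ K := by
      by_contra hcon
      push Not at hcon
      have hUK : (U : Subgroup E) ≤ K := hcon
      have := Subgroup.card_le_of_le hUK
      omega
    obtain ⟨k, hk, h, hh, rfl⟩ := hdec u
    have hhU : h ∈ (U : Subgroup E) := by
      have : h = k⁻¹ * (k * h) := by group
      rw [this]
      exact Subgroup.mul_mem _ (Subgroup.inv_mem _ (hKU hk)) huU
    have hh1 : h ≠ 1 := by
      intro h1
      apply huK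
      rw [h1, mul_one]
      exact hk
    obtain ⟨j, hj⟩ := (U.isPGroup' ⟨h, hhU⟩)
    have hj' : h ^ p ^ j = 1 := by simpa using congrArg Subtype.val hj
    obtain ⟨i, -, hi⟩ := (Nat.dvd_prime_pow hpp).mp (orderOf_dvd_of_pow_eq_one hj')
    have hi0 : i ≠ 0 := by
      intro h0
      rw [h0, pow_zero, orderOf_eq_one_iff] at hi
      exact hh1 hi
    have : p ∣ orderOf h := by
      rw [hi]; exact dvd_pow_self p hi0
    exact this.trans (hHn h hh)
  rw [Monoid.exponent_dvd]
  intro e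
  have hN0 : orderOf e ≠ 0 := (orderOf_pos e).ne'
  obtain ⟨k, m, hpm, hN⟩ := Nat.exists_eq_pow_mul_and_not_dvd hN0 p hpp.one_lt.ne'
  rw [hN]
  have hcop : (p ^ k).Coprime m := Nat.Coprime.pow_left k ((Nat.Prime.coprime_iff_not_dvd hpp).mpr hpm)
  apply Nat.Coprime.mul_dvd_of_dvd_of_dvd hcop
  · -- the `p`-part
    rcases Nat.eq_zero_or_pos k with hk0 | hkpos
    · rw [hk0, pow_zero]; exact one_dvd _
    have hm0 : m ≠ 0 := by
      intro h0
      rw [h0, mul_zero] at hN
      exact hN0 hN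
    have hord' : orderOf (e ^ m) = p ^ k := by
      rw [orderOf_pow_of_dvd hm0 (Dvd.intro_left _ hN.symm), hN, Nat.mul_div_cancel _ (Nat.pos_of_ne_zero hm0)]
    -- conjugate into `U`
    have hPG : IsPGroup p (Subgroup.zpowers (e ^ m)) := by
      apply IsPGroup.of_card (n := k)
      rw [Nat.card_zpowers, hord']
    obtain ⟨Q, hQ⟩ := hPG.exists_le_sylow
    obtain ⟨g, hg⟩ := MulAction.exists_smul_eq E Q U
    set c := g * e ^ m * g⁻¹ with hc
    have hcU : c ∈ (U : Subgroup E) := by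
      rw [← hg, Sylow.coe_subgroup_smul]
      have : c = MulAut.conj g • (e ^ m) := by
        rw [MulAut.smul_def, MulAut.conj_apply]
      rw [this]
      exact Subgroup.smul_mem_pointwise_smul _ _ _ (hQ (Subgroup.mem_zpowers _))
    have hcord : orderOf c = p ^ k := by
      have : c = MulAut.conj g (e ^ m) := by rw [MulAut.conj_apply]
      rw [this, MulEquiv.orderOf_eq, hord']
    obtain ⟨k₀, hk₀, h₀, hh₀, hch⟩ := hdec c
    have hh₀U : h₀ ∈ (U : Subgroup E) := by
      have : h₀ = k₀⁻¹ * c := by rw [hch]; group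
      rw [this]
      exact Subgroup.mul_mem _ (Subgroup.inv_mem _ (hKU hk₀)) hcU
    have hcomm : Commute k₀ h₀ := hUc k₀ (hKU hk₀) h₀ hh₀U
    -- `c ^ (p * j) = h₀ ^ (p * j)`
    have hcp : ∀ j : ℕ, c ^ (p * j) = h₀ ^ (p * j) := by
      intro j
      rw [hch, hcomm.mul_pow, pow_mul k₀, hKp k₀ hk₀, one_pow, one_mul]
    rcases Nat.lt_or_ge 1 k with hk2 | hk1
    · -- `k ≥ 2`
      obtain ⟨k', rfl⟩ : ∃ k', k = k' + 2 := ⟨k - 2, by omega⟩
      have h1 : ¬ h₀ ^ p ^ (k' + 1) = 1 := by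
        rw [pow_succ' p k', ← hcp]
        intro hcon
        have := orderOf_dvd_of_pow_eq_one hcon
        rw [hcord, ← pow_succ'] at this
        have := Nat.pow_dvd_pow_iff_le_right hpp.one_lt |>.mp this
        omega
      have h2 : h₀ ^ p ^ (k' + 1 + 1) = 1 := by
        rw [pow_succ' p (k' + 1), ← hcp, ← pow_succ', ← hcord, pow_orderOf_eq_one]
      have := orderOf_eq_prime_pow h1 h2
      rw [show k' + 2 = k' + 1 + 1 by ring, ← this]
      exact hHn h₀ hh₀
    · have : k = 1 := by omega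
      rw [this, pow_one]
      exact hpn
  · have h1 : m ∣ n * p := (Dvd.intro_left _ hN.symm).trans (hord1 e)
    exact (Nat.Coprime.dvd_of_dvd_mul_right ((Nat.Prime.coprime_iff_not_dvd hpp).mpr hpm).symm h1)

end Cfsg.Agent.Helper55.ComplExp
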