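import Mathlib
import Cfsg.Prelude.Def_OddOrderLocal
import Cfsg.Agent.S1403
import Cfsg.Agent.S1408
import Cfsg.Agent.S1412
import Cfsg.Agent.S1414
import Cfsg.Agent.S1416
import Cfsg.Agent.S1417
import Cfsg.Agent.Helper22.BG127g
import Cfsg.Agent.Helper1.GaschutzExist
import Cfsg.Agent.Helper55.Narrow2
import Cfsg.Agent.Helper55.ComplExp
import Cfsg.Agent.Helper55.BGThmB
import Cfsg.Agent.Helper71.BGHall

set_option autoImplicit false
set_option linter.unusedSectionVars false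
set_option linter.unusedVariables false
set_option linter.style.haveILetI false

/-!
# B-G Theorem 12.12 (statement S1421): the case of a nonabelian Sylow `p`-subgroup, `p ∈ τ₂(M)`
(helper55, for helper1's assembly of S1421)

Let `p ∈ τ₂(M)` with nonabelian Sylow `p`-subgroups in `G`, `A ≤ E` elementary abelian of order
`p ^ 2`, `A₀ = C_A(M_σ)` (order `p`, B-G 12.7 = S1419).  Let `P` be a Sylow `p`-subgroup of `E`.

* `(α)`: no `c ∈ P` has `c ^ p ∈ A₀ - 1`.  (Take `y ∈ N_G(P) - M`; `y` moves `A₀`, so otherwise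
  all of `A` consists of `p`-th powers of elements of `P`; but these lie in a cyclic group, by
  S1412 (rank two) or B-G 5.3 (rank at least three).)
* Hence `A₀` has a complement in `P`, and by Gaschütz a complement `E₀` in `E`.
* `E₀` has the exponent of `E` and acts fixed-point-freely on `M_σ`; `A₀` is the abelian normal
  subgroup containing all `C_E(x)`, `x ∈ M_σ - 1`.
-/

namespace Cfsg.Agent.Helper55.BG1212N

open Cfsg Cfsg.Agent.Helper29.BG10 Cfsg.Agent.Helper68.BG12 Cfsg.Agent.Helper22.BG127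
open scoped Pointwise

variable {G : Type*} [Group G] [Finite G]

/-- all Sylow `p`-subgroups are nonabelian as soon as one is -/
theorem forall_not_comm_of_exists {p : ℕ} [Fact p.Prime] (S₀ : Sylow p G)
    (hS₀ : ¬ IsMulCommutative (S₀ : Subgroup G)) :
    ∀ S : Sylow p G, ¬ IsMulCommutative (S : Subgroup G) := by
  intro S hS
  apply hS₀
  obtain ⟨g, hg⟩ := MulAction.exists_smul_eq G S₀ S
  rw [Cfsg.Agent.Helper23.isMulCommutative_subgroup_iff] at hS ⊢
  intro a ha b hb
  have ha' : g * a * g⁻¹ ∈ (S : Subgroup G) := by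
    rw [← hg, Sylow.coe_subgroup_smul]
    have : g * a * g⁻¹ = MulAut.conj g • a := by rw [MulAut.smul_def, MulAut.conj_apply]
    rw [this]
    exact Subgroup.smul_mem_pointwise_smul _ _ _ ha
  have hb' : g * b * g⁻¹ ∈ (S : Subgroup G) := by
    rw [← hg, Sylow.coe_subgroup_smul]
    have : g * b * g⁻¹ = MulAut.conj g • b := by rw [MulAut.smul_def, MulAut.conj_apply]
    rw [this]
    exact Subgroup.smul_mem_pointwise_smul _ _ _ hb
  have h1 := hS _ ha' _ hb'
  have h2 : g * (a * b) * g⁻¹ = g * (b * a) * g⁻¹ := by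
    calc g * (a * b) * g⁻¹ = (g * a * g⁻¹) * (g * b * g⁻¹) := by group
      _ = (g * b * g⁻¹) * (g * a * g⁻¹) := h1
      _ = g * (b * a) * g⁻¹ := by group
  exact mul_left_cancel (mul_right_cancel h2)

/-- **Lemma D.** In a nonabelian Sylow `p`-subgroup `S` of `G` with a maximal elementary abelian
subgroup `A` of order `p ^ 2`, the `p`-th powers of the elements of `C_S(A)` lie in a cyclic
subgroup. -/
theorem exists_cyclic_pow_mem_sylow (hG : Cfsg.IsMinSimpleOddOrder G) {p : ℕ} [hp : Fact p.Prime]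
    (S : Sylow p G) (hS : ¬ IsMulCommutative (S : Subgroup G)) (A : Subgroup G)
    (hAS : A ≤ (S : Subgroup G)) (hAel : Cfsg.IsElementaryAbelian p A)
    (hAc : Nat.card A = p ^ 2)
    (hmax : ∀ B : Subgroup G, Cfsg.IsElementaryAbelian p B → A ≤ B → B = A) :
    ∃ C : Subgroup G, IsCyclic C ∧
      ∀ x ∈ (S : Subgroup G), x ∈ Subgroup.centralizer (A : Set G) → x ^ p ∈ C := by
  classical
  have hpp : p.Prime := hp.out
  have hp2 : p ≠ 2 := by
    intro h2
    have h1 : p ∣ Nat.card G := by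
      have : Nat.card A ∣ Nat.card G := Subgroup.card_subgroup_dvd_card A
      rw [hAc] at this
      exact (dvd_pow_self p (by norm_num)).trans this
    rw [h2] at h1
    exact (Nat.not_even_iff_odd.mpr hG.1) (even_iff_two_dvd.mpr h1)
  by_cases hr : Cfsg.PRankLE p 2 ↥(S : Subgroup G)
  · rcases Cfsg.Agent.S1412.result hG p S hr with hab | ⟨P₁, P₂, hsup, hcomm, -, -, hexp, hcyc, -⟩
    · exact absurd hab hS
    · refine ⟨P₂, hcyc, ?_⟩
      intro x hx _
      rw [← hsup] at hx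
      obtain ⟨a, ha, b, hb, rfl⟩ :=
        (Cfsg.Agent.Helper23.mem_sup_iff_of_le_normalizer
          (Cfsg.Agent.Helper23.le_normalizer_of_commute hcomm)).mp hx
      have hap : a ^ p = 1 := by
        have := Monoid.pow_exponent_eq_one (⟨a, ha⟩ : P₁)
        rw [hexp] at this
        simpa using congrArg Subtype.val this
      rw [(show Commute a b from hcomm a ha b hb).mul_pow, hap, one_mul]
      exact P₂.pow_mem hb p
  · have hAcomm := (Cfsg.Agent.Helper23.isMulCommutative_subgroup_iff A).mp hAel.1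
    have hA' : Cfsg.IsElementaryAbelian p (A.subgroupOf (S : Subgroup G)) := by
      refine ⟨?_, ?_⟩
      · rw [Cfsg.Agent.Helper23.isMulCommutative_subgroup_iff]
        intro a ha b hb
        apply Subtype.ext
        exact hAcomm _ (Subgroup.mem_subgroupOf.mp ha) _ (Subgroup.mem_subgroupOf.mp hb)
      · intro a ha
        apply Subtype.ext
        simpa using hAel.2 _ (Subgroup.mem_subgroupOf.mp ha)
    have hA'c : Nat.card (A.subgroupOf (S : Subgroup G)) = p ^ 2 := by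
      rw [Cfsg.Agent.Helper1.card_subgroupOf_of_le hAS, hAc]
    have hmax' : ∀ B : Subgroup ↥(S : Subgroup G), Cfsg.IsElementaryAbelian p B →
        A.subgroupOf (S : Subgroup G) ≤ B → B = A.subgroupOf (S : Subgroup G) := by
      intro B hB hAB
      have hBcomm := (Cfsg.Agent.Helper23.isMulCommutative_subgroup_iff B).mp hB.1
      have hBm : Cfsg.IsElementaryAbelian p (B.map (S : Subgroup G).subtype) := by
        refine ⟨?_, ?_⟩
        · rw [Cfsg.Agent.Helper23.isMulCommutative_subgroup_iff]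
          rintro _ ⟨a, ha, rfl⟩ _ ⟨b, hb, rfl⟩
          have := hBcomm a ha b hb
          simpa using congrArg Subtype.val this
        · rintro _ ⟨a, ha, rfl⟩
          have := hB.2 a ha
          simpa using congrArg Subtype.val this
      have hle : A ≤ B.map (S : Subgroup G).subtype := by
        intro a ha
        exact ⟨⟨a, hAS ha⟩, hAB (Subgroup.mem_subgroupOf.mpr ha), rfl⟩
      have heq := hmax _ hBm hle
      apply le_antisymm _ hAB
      intro b hb
      rw [Subgroup.mem_subgroupOf, ← heq]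
      exact ⟨b, hb, rfl⟩
    obtain ⟨C', hC', hpow⟩ := Cfsg.Agent.Helper55.Narrow2.exists_cyclic_pow_mem hp2 S.isPGroup' hr
      (A.subgroupOf (S : Subgroup G)) hA' hA'c hmax'
    refine ⟨C'.map (S : Subgroup G).subtype, ?_, ?_⟩
    · haveI := hC'
      exact isCyclic_of_surjective
        (Subgroup.equivMapOfInjective C' (S : Subgroup G).subtype
          (S : Subgroup G).subtype_injective).toMonoidHom
        (Subgroup.equivMapOfInjective C' (S : Subgroup G).subtype
          (S : Subgroup G).subtype_injective).surjective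
    · intro x hx hxc
      have h1 : (⟨x, hx⟩ : ↥(S : Subgroup G)) ∈
          Subgroup.centralizer ((A.subgroupOf (S : Subgroup G) : Subgroup ↥(S : Subgroup G)) :
            Set ↥(S : Subgroup G)) := by
        rw [Subgroup.mem_centralizer_iff]
        intro a ha
        apply Subtype.ext
        exact (Subgroup.mem_centralizer_iff.mp hxc) _ (Subgroup.mem_subgroupOf.mp ha)
      exact ⟨_, hpow _ h1, rfl⟩

/-- a subgroup of prime order is generated by each of its non-identity elements -/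
theorem eq_zpowers_of_card_prime {p : ℕ} [hp : Fact p.Prime] {X : Subgroup G}
    (hX : Nat.card X = p) {a : G} (ha : a ∈ X) (ha1 : a ≠ 1) : Subgroup.zpowers a = X := by
  have hpp : p.Prime := hp.out
  have hle : Subgroup.zpowers a ≤ X := by
    rw [Subgroup.zpowers_le]; exact ha
  have hd : Nat.card (Subgroup.zpowers a) ∣ p := by
    rw [← hX]; exact Subgroup.card_dvd_of_le hle
  rcases (Nat.dvd_prime hpp).mp hd with h1 | h1
  · exfalso
    rw [Nat.card_zpowers, orderOf_eq_one_iff] at h1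
    exact ha1 h1
  · exact Subgroup.eq_of_le_of_card_ge hle (by rw [h1, hX])

section ctx

variable {M E : Subgroup G} {p : ℕ} [hp : Fact p.Prime] {A : Subgroup G}

/-- **(α)**: no element `c` of a Sylow `p`-subgroup `P ≥ A` of `M` has `c ^ p ∈ A₀ - 1`. -/
theorem pow_eq_one_of_pow_mem_A0 (h : Ctx M E p A) (P' : Sylow p M)
    (hAP : A ≤ (P' : Subgroup M).map M.subtype) :
    ∀ c ∈ (P' : Subgroup M).map M.subtype,
      c ^ p ∈ A ⊓ Subgroup.centralizer (Cfsg.sigmaCore M : Set G) → c ^ p = 1 := by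
  classical
  have hpp : p.Prime := hp.out
  set P : Subgroup G := (P' : Subgroup M).map M.subtype with hP
  set A0 : Subgroup G := A ⊓ Subgroup.centralizer (Cfsg.sigmaCore M : Set G) with hA0
  obtain ⟨hA0c, hA0b, hA0u⟩ := h.A0_spec
  obtain ⟨hPc', hPrest⟩ := h.c125.2.1 P'
  obtain ⟨hΩ, hN⟩ := hPrest hAP
  have hPcomm : ∀ a ∈ P, ∀ b ∈ P, a * b = b * a := by
    rintro _ ⟨a, ha, rfl⟩ _ ⟨b, hb, rfl⟩
    have := (Cfsg.Agent.Helper23.isMulCommutative_subgroup_iff (P' : Subgroup M)).mp hPc' a ha b hb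
    simpa using congrArg Subtype.val this
  obtain ⟨y, hyN, hyM⟩ := SetLike.not_le_iff_exists.mp hN
  intro c hcP hcA0
  by_contra hc1
  set a₀ := c ^ p with ha₀
  have ha₀A : a₀ ∈ A := hcA0.1
  have hA0z : Subgroup.zpowers a₀ = A0 := eq_zpowers_of_card_prime hA0c hcA0 hc1
  -- the conjugates
  have hc'P : y * c * y⁻¹ ∈ P := (Subgroup.mem_normalizer_iff.mp hyN c).mp hcP
  set b := (y * c * y⁻¹) ^ p with hb
  have hbconj : b = y * a₀ * y⁻¹ := by rw [hb, conj_pow]
  have hbP : b ∈ P := P.pow_mem hc'P p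
  have hbA : b ∈ A := by
    apply (hΩ b hbP).mp
    rw [hbconj, conj_pow, h.hAel.2 a₀ ha₀A, mul_one, mul_inv_cancel]
  have hb1 : b ≠ 1 := by
    intro hb1
    apply hc1
    rw [hbconj] at hb1
    have : a₀ = y⁻¹ * (y * a₀ * y⁻¹) * y := by group
    rw [this, hb1]; group
  -- `b ∉ A0`
  have hbA0 : b ∉ A0 := by
    intro hbA0
    apply hyM
    have hcjle : cj y A0 ≤ A0 := by
      intro x hx
      rw [mem_cj, ← hA0z] at hx
      obtain ⟨i, hi⟩ := Subgroup.mem_zpowers_iff.mp hx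
      have hx' : x = b ^ i := by
        rw [hbconj, conj_zpow, hi]; group
      rw [hx']
      exact A0.zpow_mem hbA0 i
    have hcjeq : cj y A0 = A0 :=
      Subgroup.eq_of_le_of_card_ge hcjle (by rw [card_cj])
    exact h.mem_of_bad_cj inf_le_left hA0c hA0b (by rw [hcjeq]; exact inf_le_left)
      (by rw [hcjeq]; exact hA0b)
  -- a Sylow `p`-subgroup of `G` over `P`
  have hPp : IsPGroup p P := P'.isPGroup'.map _
  obtain ⟨S, hPS⟩ := hPp.exists_le_sylow
  have hmax := (Cfsg.Agent.S1408.result h.hG M h.hM p h.hp.2.1 h.hp.2.2.1 h.hp.2.2.2).2 A h.hAM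
    h.hAel h.hAcard
  obtain ⟨C, hC, hpow⟩ := exists_cyclic_pow_mem_sylow h.hG S (h.hS S) A (hAP.trans hPS) h.hAel
    h.hAcard hmax
  have hPcent : ∀ x ∈ P, x ∈ Subgroup.centralizer (A : Set G) := by
    intro x hx
    rw [Subgroup.mem_centralizer_iff]
    intro a ha
    exact hPcomm a (hAP ha) x hx
  have ha₀C : a₀ ∈ C := hpow c (hPS hcP) (hPcent c hcP)
  have hbC : b ∈ C := hpow _ (hPS hc'P) (hPcent _ hc'P)
  set X : Subgroup G := Subgroup.zpowers a₀ ⊔ Subgroup.zpowers b with hX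
  have hXA : X ≤ A := sup_le (Subgroup.zpowers_le.mpr ha₀A) (Subgroup.zpowers_le.mpr hbA)
  have hXC : X ≤ C := sup_le (Subgroup.zpowers_le.mpr ha₀C) (Subgroup.zpowers_le.mpr hbC)
  have hXcard : p < Nat.card X := by
    by_contra hle
    push Not at hle
    have : Subgroup.zpowers a₀ = X :=
      Subgroup.eq_of_le_of_card_ge le_sup_left (by rw [hA0z, hA0c]; exact hle)
    apply hbA0
    rw [← hA0z, this]
    exact Subgroup.mem_sup_right (Subgroup.mem_zpowers b)
  exact Cfsg.Agent.Helper54.BGU.not_isCyclic_of_exp_le hXC (fun a ha => h.hAel.2 a (hXA ha))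
    hXcard hC

/-- **The complement `E₀` of `A₀` in `E`** (Gaschütz), with the exponent of `E`. -/
theorem exists_compl_A0 (h : Ctx M E p A) :
    ∃ E₀ : Subgroup G, E₀ ≤ E ∧
      (A ⊓ Subgroup.centralizer (Cfsg.sigmaCore M : Set G)) ⊓ E₀ = ⊥ ∧
      (∀ e ∈ E, ∃ a ∈ A ⊓ Subgroup.centralizer (Cfsg.sigmaCore M : Set G), ∃ b ∈ E₀, e = a * b) ∧
      Monoid.exponent E₀ = Monoid.exponent E := by
  classical
  have hpp : p.Prime := hp.out
  set A0 : Subgroup G := A ⊓ Subgroup.centralizer (Cfsg.sigmaCore M : Set G) with hA0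
  obtain ⟨hA0c, hA0b, hA0u⟩ := h.A0_spec
  have hEM : E ≤ M := h.hE.1
  have hA0A : A0 ≤ A := inf_le_left
  have hA0E : A0 ≤ E := hA0A.trans h.hAE
  -- a Sylow `p`-subgroup of `E` over `A`
  obtain ⟨PE, hAPE⟩ := (h.hAp.comap_subtype (K := E)).exists_le_sylow
  set P : Subgroup G := (PE : Subgroup E).map E.subtype with hP
  have hPE : P ≤ E := by
    rintro _ ⟨x, -, rfl⟩
    exact x.2
  have hAP : A ≤ P := by
    intro a ha
    exact ⟨⟨a, h.hAE ha⟩, hAPE (Subgroup.mem_subgroupOf.mpr ha), rfl⟩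
  have hPcard : Nat.card P = p ^ (Nat.card E).factorization p := by
    rw [hP, Subgroup.card_map_of_injective E.subtype_injective]
    exact PE.card_eq_multiplicity
  -- it is a Sylow `p`-subgroup of `M`
  have hcardM : Nat.card E * Nat.card (Cfsg.sigmaCore M) = Nat.card M :=
    card_mul_card_of_isComplIn h.hE
  have hfac : (Nat.card M).factorization p = (Nat.card E).factorization p := by
    rw [← hcardM, Nat.factorization_mul Nat.card_pos.ne' Nat.card_pos.ne', Finsupp.add_apply,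
      Nat.factorization_eq_zero_of_not_dvd h.not_dvd_sigmaCore, add_zero]
  have hPMcard : Nat.card (P.subgroupOf M) = p ^ (Nat.card M).factorization p := by
    rw [Cfsg.Agent.Helper1.card_subgroupOf_of_le (hPE.trans hEM), hPcard, hfac]
  set P' : Sylow p M := Sylow.ofCard (P.subgroupOf M) hPMcard with hP'
  have hP'map : (P' : Subgroup M).map M.subtype = P := by
    rw [hP', Sylow.coe_ofCard]
    exact Subgroup.map_subgroupOf_eq_of_le (hPE.trans hEM)
  have hAP' : A ≤ (P' : Subgroup M).map M.subtype := by rw [hP'map]; exact hAP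
  -- `(α)` and commutativity
  have hα : ∀ c ∈ P, c ^ p ∈ A0 → c ^ p = 1 := by
    have := pow_eq_one_of_pow_mem_A0 h P' hAP'
    rw [hP'map] at this
    exact this
  have hPcomm : ∀ a ∈ P, ∀ b ∈ P, a * b = b * a := by
    obtain ⟨hPc', -⟩ := h.c125.2.1 P'
    have h1 : ∀ a ∈ (P' : Subgroup M).map M.subtype, ∀ b ∈ (P' : Subgroup M).map M.subtype,
        a * b = b * a := by
      rintro _ ⟨a, ha, rfl⟩ _ ⟨b, hb, rfl⟩
      have := (Cfsg.Agent.Helper23.isMulCommutative_subgroup_iff (P' : Subgroup M)).mp hPc' a ha b hb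
      simpa using congrArg Subtype.val this
    rw [hP'map] at h1
    exact h1
  -- a complement of `A0` in `P`
  obtain ⟨P₂, hP₂P, hP₂inf, hP₂sup⟩ : ∃ P₂ : Subgroup G, P₂ ≤ P ∧ A0 ⊓ P₂ = ⊥ ∧
      ∀ x ∈ P, ∃ a ∈ A0, ∃ b ∈ P₂, x = a * b := by
    letI : CommGroup ↥P :=
      { (inferInstance : Group ↥P) with
        mul_comm := fun a b => Subtype.ext (hPcomm a a.2 b b.2) }
    have hA0P : A0 ≤ P := hA0A.trans hAP
    have hc1 : Nat.card (A0.subgroupOf P) = p := by
      rw [Cfsg.Agent.Helper1.card_subgroupOf_of_le hA0P, hA0c]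
    have hc2 : ∀ c : ↥P, c ^ p ∈ A0.subgroupOf P → c ^ p = 1 := by
      intro c hc
      apply Subtype.ext
      have h1 : ((c ^ p : ↥P) : G) = (c : G) ^ p := rfl
      rw [h1]
      apply hα c c.2
      rw [← h1]
      exact Subgroup.mem_subgroupOf.mp hc
    obtain ⟨H', hH'1, hH'2⟩ := Cfsg.Agent.Helper55.ComplExp.exists_compl_of_pow_ne
      (A0.subgroupOf P) hc1 hc2
    refine ⟨H'.map P.subtype, ?_, ?_, ?_⟩
    · rintro _ ⟨x, -, rfl⟩
      exact x.2
    · rw [eq_bot_iff]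
      rintro _ ⟨hx1, ⟨y, hy, rfl⟩⟩
      have : y ∈ A0.subgroupOf P ⊓ H' := ⟨Subgroup.mem_subgroupOf.mpr hx1, hy⟩
      rw [hH'1, Subgroup.mem_bot] at this
      rw [this]
      exact Subgroup.one_mem _
    · intro x hx
      have h1 : (⟨x, hx⟩ : ↥P) ∈ A0.subgroupOf P ⊔ H' := by rw [hH'2]; exact Subgroup.mem_top _
      obtain ⟨a, ha, b, hb, hab⟩ := Subgroup.mem_sup.mp h1
      refine ⟨a, Subgroup.mem_subgroupOf.mp ha, b, ⟨b, hb, rfl⟩, ?_⟩
      have := congrArg Subtype.val hab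
      exact this.symm
  -- Gaschütz inside `E`
  have hEN : E ≤ Subgroup.normalizer (A0 : Set G) := hEM.trans h.A0_normal
  haveI hKn : (A0.subgroupOf E).Normal := by
    constructor
    intro n hn g
    rw [Subgroup.mem_subgroupOf] at hn ⊢
    exact (Subgroup.mem_normalizer_iff.mp (hEN g.2) n).mp hn
  have hAcomm := (Cfsg.Agent.Helper23.isMulCommutative_subgroup_iff A).mp h.hAel.1
  haveI hKc : IsMulCommutative (A0.subgroupOf E) := by
    rw [Cfsg.Agent.Helper23.isMulCommutative_subgroup_iff]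
    intro a ha b hb
    apply Subtype.ext
    exact hAcomm _ (hA0A (Subgroup.mem_subgroupOf.mp ha)) _ (hA0A (Subgroup.mem_subgroupOf.mp hb))
  have hKcard : Nat.card (A0.subgroupOf E) = p := by
    rw [Cfsg.Agent.Helper1.card_subgroupOf_of_le hA0E, hA0c]
  have hKU : A0.subgroupOf E ≤ (PE : Subgroup E) := by
    intro x hx
    exact hAPE (Subgroup.mem_subgroupOf.mpr (hA0A (Subgroup.mem_subgroupOf.mp hx)))
  have hmemPE : ∀ x : ↥E, x ∈ (PE : Subgroup E) ↔ (x : G) ∈ P := by
    intro x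
    constructor
    · intro hx; exact ⟨x, hx, rfl⟩
    · rintro ⟨y, hy, hyx⟩
      have : y = x := Subtype.ext hyx
      rwa [← this]
  have hcop : (Nat.card (A0.subgroupOf E)).Coprime (PE : Subgroup E).index := by
    rw [hKcard]
    exact (Nat.Prime.coprime_iff_not_dvd hpp).mpr PE.not_dvd_index
  have hAK : P₂.subgroupOf E ⊓ A0.subgroupOf E = ⊥ := by
    rw [eq_bot_iff]
    rintro x ⟨hx1, hx2⟩
    have : (x : G) ∈ A0 ⊓ P₂ := ⟨Subgroup.mem_subgroupOf.mp hx2, Subgroup.mem_subgroupOf.mp hx1⟩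
    rw [hP₂inf, Subgroup.mem_bot] at this
    rw [Subgroup.mem_bot]
    exact Subtype.ext this
  have hKA : A0.subgroupOf E ⊔ P₂.subgroupOf E = (PE : Subgroup E) := by
    apply le_antisymm
    · apply sup_le hKU
      intro x hx
      exact (hmemPE x).mpr (hP₂P (Subgroup.mem_subgroupOf.mp hx))
    · intro x hx
      obtain ⟨a, ha, b, hb, hab⟩ := hP₂sup _ ((hmemPE x).mp hx)
      have hx' : x = (⟨a, hA0E ha⟩ : ↥E) * (⟨b, hPE (hP₂P hb)⟩ : ↥E) := Subtype.ext hab
      rw [hx']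
      exact Subgroup.mul_mem _ (Subgroup.mem_sup_left (Subgroup.mem_subgroupOf.mpr ha))
        (Subgroup.mem_sup_right (Subgroup.mem_subgroupOf.mpr hb))
  obtain ⟨HE, hHE⟩ := Cfsg.Agent.Helper1.gaschutz_exists (A0.subgroupOf E) (PE : Subgroup E) hKU hcop
    (P₂.subgroupOf E) hAK hKA
  refine ⟨HE.map E.subtype, ?_, ?_, ?_, ?_⟩
  · rintro _ ⟨x, -, rfl⟩
    exact x.2
  · rw [eq_bot_iff]
    rintro _ ⟨hx1, ⟨y, hy, rfl⟩⟩
    have : y ∈ A0.subgroupOf E ⊓ HE := ⟨Subgroup.mem_subgroupOf.mpr hx1, hy⟩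
    rw [hHE.disjoint.eq_bot, Subgroup.mem_bot] at this
    rw [this]
    exact Subgroup.one_mem _
  · intro e he
    obtain ⟨⟨⟨k, hk⟩, ⟨h', hh'⟩⟩, hx, -⟩ :=
      (Subgroup.isComplement'_def.mp hHE).existsUnique (⟨e, he⟩ : ↥E)
    refine ⟨k, Subgroup.mem_subgroupOf.mp hk, h', ⟨h', hh', rfl⟩, ?_⟩
    have := congrArg Subtype.val hx
    exact this.symm
  · have hUc : ∀ a ∈ (PE : Subgroup E), ∀ b ∈ (PE : Subgroup E), a * b = b * a := by
      intro a ha b hb
      apply Subtype.ext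
      exact hPcomm _ ((hmemPE a).mp ha) _ ((hmemPE b).mp hb)
    have hcard : p < Nat.card (PE : Subgroup E) := by
      have h1 : Nat.card (A.subgroupOf E) ≤ Nat.card (PE : Subgroup E) :=
        Subgroup.card_le_of_le hAPE
      rw [Cfsg.Agent.Helper1.card_subgroupOf_of_le h.hAE, h.hAcard] at h1
      have : p < p ^ 2 := by
        have := hpp.one_lt
        nlinarith
      omega
    have h1 := Cfsg.Agent.Helper55.ComplExp.exponent_eq_of_isComplement' (A0.subgroupOf E) HE hKcard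
      hHE PE hUc hKU hcard
    rw [← h1]
    exact (Monoid.exponent_eq_of_mulEquiv
      (Subgroup.equivMapOfInjective HE E.subtype E.subtype_injective)).symm

/-- prime divisors of `|E|` lie in `τ₁(M) ∪ τ₂(M) ∪ τ₃(M)` -/
theorem mem_tau_of_dvd_card (hctx : ECtx M E) {q : ℕ} (hq : q.Prime) (hqE : q ∣ Nat.card E) :
    q ∈ Cfsg.tau1 M ∪ Cfsg.tau3 M ∨ q ∈ Cfsg.tau2 M := by
  have hqσ : q ∉ Cfsg.sigma M := hctx.not_sigma_of_dvd q hq hqE
  have hr2 : Cfsg.PRankLE q 2 ↥M := by
    by_contra hr2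
    exact hqσ (hctx.alpha_sub ⟨hq, hr2⟩)
  have hqM : q ∣ Nat.card M := hqE.trans (Subgroup.card_dvd_of_le hctx.compl.1)
  by_cases hr1 : Cfsg.PRankLE q 1 ↥M
  · left
    by_cases hd : q ∣ Nat.card ↥⁅M, M⁆
    · exact Or.inr ⟨hq, hqσ, hd, hr1⟩
    · exact Or.inl ⟨hq, hqσ, hqM, hd, hr1⟩
  · exact Or.inr ⟨hq, hqσ, hr2, hr1⟩

/-- a subgroup `E₀ ≤ E` meeting `A₀` trivially acts fixed-point-freely on `M_σ` -/
theorem fpf_of_inf_A0_eq_bot (h : Ctx M E p A) (htau : Cfsg.tau2 M = {p})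
    (h12 : ∀ e ∈ E, e ≠ 1 →
      (∀ q : ℕ, q.Prime → q ∣ orderOf e → q ∈ Cfsg.tau1 M ∪ Cfsg.tau3 M) →
      Cfsg.sigmaCore M ⊓ Subgroup.centralizer ({e} : Set G) = ⊥)
    {E₀ : Subgroup G} (hE₀ : E₀ ≤ E)
    (hinf : (A ⊓ Subgroup.centralizer (Cfsg.sigmaCore M : Set G)) ⊓ E₀ = ⊥) :
    ∀ e ∈ E₀, e ≠ 1 → Cfsg.sigmaCore M ⊓ Subgroup.centralizer ({e} : Set G) = ⊥ := by
  classical
  have hpp : p.Prime := hp.out
  have hctx : ECtx M E := eCtx_of h.hG h.hU h.hM h.hE
  intro e he he1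
  by_contra hne
  obtain ⟨x, hx1⟩ := (Subgroup.ne_bot_iff_exists_ne_one).mp hne
  have hx1' : (x : G) ≠ 1 := fun h1 => hx1 (Subtype.ext h1)
  obtain ⟨hxS, hxC⟩ := x.2
  have hxe : e * (x : G) = (x : G) * e := (Subgroup.mem_centralizer_iff.mp hxC) e rfl
  have hoe : orderOf e ≠ 1 := fun h1 => he1 (orderOf_eq_one_iff.mp h1)
  obtain ⟨q, hq, hqe⟩ := Nat.exists_prime_and_dvd hoe
  set e' := e ^ (orderOf e / q) with he'
  have hord : orderOf e' = q := orderOf_pow_orderOf_div (orderOf_pos e).ne' hqe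
  have he'E₀ : e' ∈ E₀ := E₀.pow_mem he _
  have he'1 : e' ≠ 1 := by
    intro h1
    rw [h1, orderOf_one] at hord
    exact hq.one_lt.ne hord
  have hxe' : e' * (x : G) = (x : G) * e' := ((show Commute e (x : G) from hxe).pow_left _).eq
  have hxC'' : (x : G) ∈ Subgroup.centralizer ({e'} : Set G) := by
    rw [Subgroup.mem_centralizer_iff]
    intro y hy
    rw [Set.mem_singleton_iff] at hy
    rw [hy]
    exact hxe'
  have hxC' : (x : G) ∈ Cfsg.sigmaCore M ⊓ Subgroup.centralizer ({e'} : Set G) := ⟨hxS, hxC''⟩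
  have hqE : q ∣ Nat.card E := by
    have := orderOf_dvd_natCard (⟨e', hE₀ he'E₀⟩ : ↥E)
    rwa [Subgroup.orderOf_mk, hord] at this
  rcases mem_tau_of_dvd_card hctx hq hqE with h13 | h2
  · have := h12 e' (hE₀ he'E₀) he'1 (by
      intro r hr hrd
      rw [hord] at hrd
      rw [(Nat.prime_dvd_prime_iff_eq hr hq).mp hrd]
      exact h13)
    rw [this, Subgroup.mem_bot] at hxC'
    exact hx1' hxC'
  · rw [htau, Set.mem_singleton_iff] at h2
    subst h2
    have hXE : Subgroup.zpowers e' ≤ E := by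
      rw [Subgroup.zpowers_le]; exact hE₀ he'E₀
    have hXc : Nat.card (Subgroup.zpowers e') = q := by rw [Nat.card_zpowers, hord]
    have hXne : Subgroup.zpowers e' ≠ A ⊓ Subgroup.centralizer (Cfsg.sigmaCore M : Set G) := by
      intro heq
      have : e' ∈ (A ⊓ Subgroup.centralizer (Cfsg.sigmaCore M : Set G)) ⊓ E₀ :=
        ⟨heq ▸ Subgroup.mem_zpowers e', he'E₀⟩
      rw [hinf, Subgroup.mem_bot] at this
      exact he'1 this
    have := (h.part_c _ hXE hXc hXne).1
    rw [Cfsg.Agent.Helper55.BGThmB.centralizer_zpowers] at this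
    rw [this, Subgroup.mem_bot] at hxC'
    exact hx1' hxC'

end ctx

/-- **B-G Theorem 12.12 (S1421), nonabelian case**: if some `p ∈ τ₂(M)` has nonabelian Sylow
`p`-subgroups in `G`, the conclusion of S1421 holds. -/
theorem nonabelian_case (hG : Cfsg.IsMinSimpleOddOrder G)
    (M : Subgroup G) (hM : IsCoatom M) (E : Subgroup G)
    (hE : Cfsg.IsComplIn E (Cfsg.sigmaCore M) M)
    (h : ∀ e ∈ E, e ≠ 1 → (∀ p : ℕ, p.Prime → p ∣ orderOf e → p ∈ Cfsg.tau1 M ∪ Cfsg.tau3 M) →
      Cfsg.sigmaCore M ⊓ Subgroup.centralizer ({e} : Set G) = ⊥)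
    (p : ℕ) [hp : Fact p.Prime] (hpτ : p ∈ Cfsg.tau2 M) (S : Sylow p G)
    (hS : ¬ IsMulCommutative (S : Subgroup G)) :
    (∃ A₀ : Subgroup G, A₀ ≤ E ∧ E ≤ Subgroup.normalizer (A₀ : Set G) ∧ IsMulCommutative A₀ ∧
        ∀ x ∈ Cfsg.sigmaCore M, x ≠ 1 → E ⊓ Subgroup.centralizer ({x} : Set G) ≤ A₀) ∧
      ∃ E₀ : Subgroup G, E₀ ≤ E ∧ Monoid.exponent E₀ = Monoid.exponent E ∧
        ∀ e ∈ E₀, e ≠ 1 → Cfsg.sigmaCore M ⊓ Subgroup.centralizer ({e} : Set G) = ⊥ := by
  classical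
  have hU : UniquenessThm G := fun K hK hK2 hK3 => Cfsg.Agent.S1403.result hG K hK hK2 hK3
  have h124 : Hyp124 G := fun L hL q _ B hBL hBel hBc =>
    (Cfsg.Agent.S1416.result hG L hL q B ⟨hBL, hBel, hBc⟩).1
  have h125 : Hyp125 G := fun L hL q _ hq B hBL hBel hBc =>
    Cfsg.Agent.S1417.result hG L hL q hq B ⟨hBL, hBel, hBc⟩
  have h108 : Hyp108 G := fun H hH q hq hqH hqβ =>
    ((Cfsg.Agent.S1414.result hG H hH).2.2.2.2 q hq hqH hqβ).2.1
  have hctx : ECtx M E := eCtx_of hG hU hM hE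
  obtain ⟨A, hAE, hAel, hAc⟩ := Cfsg.Agent.Helper71.BGHall.exists_elementaryAbelian_sq_le_compl hctx
    hpτ.2.1 hpτ.2.2.1 hpτ.2.2.2
  have hc : Ctx M E p A :=
    ⟨hG, hU, hM, hE, hpτ, forall_not_comm_of_exists S hS, hAE, hAel, hAc, h124, h125⟩
  have htau : Cfsg.tau2 M = {p} := hc.tau2_eq h108
  obtain ⟨E₀, hE₀E, hinf, hdec, hexp⟩ := exists_compl_A0 hc
  have hfpf := fpf_of_inf_A0_eq_bot hc htau h hE₀E hinf
  set A0 : Subgroup G := A ⊓ Subgroup.centralizer (Cfsg.sigmaCore M : Set G) with hA0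
  have hAcomm := (Cfsg.Agent.Helper23.isMulCommutative_subgroup_iff A).mp hAel.1
  refine ⟨⟨A0, inf_le_left.trans hAE, hE.1.trans hc.A0_normal, ?_, ?_⟩, E₀, hE₀E, hexp, hfpf⟩
  · rw [Cfsg.Agent.Helper23.isMulCommutative_subgroup_iff]
    intro a ha b hb
    exact hAcomm a ha.1 b hb.1
  · intro x hxS hx1 e ⟨heE, heC⟩
    obtain ⟨a, ha, b, hb, rfl⟩ := hdec e heE
    have hax : a * x = x * a := ((Subgroup.mem_centralizer_iff.mp ha.2) x hxS).symm
    have habx : x * (a * b) = a * b * x := (Subgroup.mem_centralizer_iff.mp heC) x rfl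
    have hbx : b * x = x * b := by
      have h1 : a * (b * x) = a * (x * b) := by
        calc a * (b * x) = a * b * x := by group
          _ = x * (a * b) := habx.symm
          _ = (x * a) * b := by group
          _ = (a * x) * b := by rw [hax]
          _ = a * (x * b) := by group
      exact mul_left_cancel h1
    have hb1 : b = 1 := by
      by_contra hb1
      have h0 := hfpf b hb hb1
      have hxc : x ∈ Subgroup.centralizer ({b} : Set G) := by
        rw [Subgroup.mem_centralizer_iff]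
        intro y hy
        rw [Set.mem_singleton_iff] at hy
        rw [hy]
        exact hbx
      have hxin : x ∈ Cfsg.sigmaCore M ⊓ Subgroup.centralizer ({b} : Set G) := ⟨hxS, hxc⟩
      rw [h0, Subgroup.mem_bot] at hxin
      exact hx1 hxin
    rw [hb1, mul_one]
    exact ha

end Cfsg.Agent.Helper55.BG1212N
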