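import Mathlib
import Cfsg.Prelude.Def_OddOrderLocal
import Cfsg.Agent.S1404
import Cfsg.Agent.S1425
import Cfsg.Agent.Helper23.BG14G
import Cfsg.Agent.Helper31.BGTrans
import Cfsg.Agent.Helper67.CyclicSub
import Cfsg.Agent.Helper68.BG12A

set_option autoImplicit false
set_option linter.unusedSectionVars false
set_option linter.unusedVariables false
set_option linter.style.haveILetI false

/-!
# B-G Theorem 14.2, statement S1431 in CASE A (`K` cyclic, `κ(M) ⊆ τ₁(M)`)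

`s1431_of_cyclic`: the four conclusions of S1431 from

* `K ≤ M` cyclic,
* `N_M(X) = K K*` for the subgroups `X ≤ K` of prime order (part of S1430(3)),
* (Z5): `M` is the only maximal subgroup over `N_G(X)` for `X ≤ K*` of prime order,
* (T6) for the primes of `|K*|`.

`s1431_caseA`: the same from S1430(1), S1430(3), `K` cyclic with `π(K) ⊆ τ₁(M)`, via
helper23's unconditional `step_I` and `t6`.
-/

namespace Cfsg.Agent.Helper55.BG14CaseA

open Cfsg Cfsg.Agent.Helper29 Cfsg.Agent.Helper29.BG10 Cfsg.Agent.Helper29.BG11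

variable {G : Type*} [Group G] [Finite G]

/-- a subgroup of prime order inside a nontrivial subgroup -/
theorem exists_prime_card_le {W : Subgroup G} (hW : W ≠ ⊥) :
    ∃ X : Subgroup G, X ≤ W ∧ (Nat.card X).Prime := by
  obtain ⟨⟨w, hw⟩, hw1'⟩ := (Subgroup.ne_bot_iff_exists_ne_one).mp hW
  have hw1 : w ≠ 1 := fun h1 => hw1' (Subtype.ext h1)
  have hoe : orderOf w ≠ 1 := fun h1 => hw1 (orderOf_eq_one_iff.mp h1)
  obtain ⟨q, hq, hqe⟩ := Nat.exists_prime_and_dvd hoe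
  refine ⟨Subgroup.zpowers (w ^ (orderOf w / q)), ?_, ?_⟩
  · rw [Subgroup.zpowers_le]; exact W.pow_mem hw _
  · rw [Nat.card_zpowers, orderOf_pow_orderOf_div (orderOf_pos w).ne' hqe]; exact hq

/-- **S1431 from S1430(3) for a cyclic `K`, (Z5) and (T6)** -/
theorem s1431_of_cyclic (hG : Cfsg.IsMinSimpleOddOrder G) {M : Subgroup G} (hM : IsCoatom M)
    {K : Subgroup G} (hKM : K ≤ M) (hKc : IsCyclic ↥K)
    (h3 : ∀ X : Subgroup G, X ≤ K → (Nat.card X).Prime →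
      M ⊓ Subgroup.normalizer (X : Set G) =
        K ⊔ (Cfsg.sigmaCore M ⊓ Subgroup.centralizer (K : Set G)))
    (z5 : ∀ X : Subgroup G, X ≤ Cfsg.sigmaCore M ⊓ Subgroup.centralizer (K : Set G) →
      (Nat.card X).Prime → ∀ L : Subgroup G, IsCoatom L → Subgroup.normalizer (X : Set G) ≤ L →
        L = M)
    (t6 : ∀ p : ℕ, p.Prime →
      p ∣ Nat.card ↥(Cfsg.sigmaCore M ⊓ Subgroup.centralizer (K : Set G)) →
      ∀ S : Sylow p ↥(Cfsg.sigmaCore M),
        Cfsg.InUniqueMaximal ((S : Subgroup ↥(Cfsg.sigmaCore M)).map (Cfsg.sigmaCore M).subtype) ∧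
        ¬ (S : Subgroup ↥(Cfsg.sigmaCore M)).map (Cfsg.sigmaCore M).subtype ≤
          (Cfsg.sigmaCore M ⊓ Subgroup.centralizer (K : Set G))) :
    (∀ g : G, g ∉ M → (Cfsg.sigmaCore M ⊓ Subgroup.centralizer (K : Set G)) ⊓
        M.map (MulAut.conj g).toMonoidHom = ⊥) ∧
      (∀ g ∈ M, g ∉ K ⊔ (Cfsg.sigmaCore M ⊓ Subgroup.centralizer (K : Set G)) →
        K ⊓ K.map (MulAut.conj g).toMonoidHom = ⊥) ∧
      (∀ (p : ℕ), p.Prime →
        p ∣ Nat.card ↥(Cfsg.sigmaCore M ⊓ Subgroup.centralizer (K : Set G)) →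
        ∀ S : Sylow p ↥(Cfsg.sigmaCore M),
        Cfsg.InUniqueMaximal
          ((S : Subgroup ↥(Cfsg.sigmaCore M)).map (Cfsg.sigmaCore M).subtype) ∧
        (S : Subgroup ↥(Cfsg.sigmaCore M)).map (Cfsg.sigmaCore M).subtype ≤ M ∧
        ¬ (S : Subgroup ↥(Cfsg.sigmaCore M)).map (Cfsg.sigmaCore M).subtype ≤
          (Cfsg.sigmaCore M ⊓ Subgroup.centralizer (K : Set G))) ∧
      ∀ Y : Subgroup G, (∀ p : ℕ, p.Prime → p ∣ Nat.card Y → p ∈ Cfsg.sigma M) →
        Y ⊓ (Cfsg.sigmaCore M ⊓ Subgroup.centralizer (K : Set G)) ≠ ⊥ →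
        Y ≤ Cfsg.sigmaCore M := by
  classical
  haveI : IsSimpleGroup G := hG.2.1
  have hSM : Cfsg.sigmaCore M ≤ M := sigmaCore_le M
  set C : Subgroup G := Cfsg.sigmaCore M ⊓ Subgroup.centralizer (K : Set G) with hC
  -- for `X ≤ C` of prime order, `N_G(X) ≤ M`
  have hNle : ∀ X : Subgroup G, X ≤ C → (Nat.card X).Prime →
      Subgroup.normalizer (X : Set G) ≤ M := by
    intro X hX hXp
    have hX1 : X ≠ ⊥ := by
      intro hb
      rw [hb, Subgroup.card_bot] at hXp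
      exact Nat.not_prime_one hXp
    have hXtop : X ≠ ⊤ := by
      intro ht
      have : (⊤ : Subgroup G) ≤ M := ht ▸ (hX.trans inf_le_left).trans hSM
      exact hM.1 (top_le_iff.mp this)
    have hN := Cfsg.Agent.Helper31.bgt_normalizer_ne_top_of_simple hX1 hXtop
    obtain ⟨L, hL, hNL⟩ := (eq_top_or_exists_le_coatom _).resolve_left hN
    rw [← z5 X hX hXp L hL hNL]
    exact hNL
  -- the key step: `g X g⁻¹ ≤ M` for `X ≤ C` of prime order forces `g ∈ M`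
  have hkey : ∀ X : Subgroup G, X ≤ C → (Nat.card X).Prime → ∀ g : G,
      X.map (MulAut.conj g).toMonoidHom ≤ M → g ∈ M := by
    intro X hXC hXp g hg
    haveI : Fact (Nat.card X).Prime := ⟨hXp⟩
    have hXσ : Nat.card X ∈ Cfsg.sigma M := by
      apply primes_sigmaCore M _ hXp
      exact Subgroup.card_dvd_of_le (hXC.trans inf_le_left)
    have hX1 : X ≠ ⊥ := by
      intro hb
      rw [hb, Subgroup.card_bot] at hXp
      exact Nat.not_prime_one hXp
    have hXM : X ≤ M := (hXC.trans inf_le_left).trans hSM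
    obtain ⟨m, hm, c, hc, rfl⟩ := (Cfsg.Agent.S1404.result hG M hM (Nat.card X) hXσ X
      (IsPGroup.of_card (n := 1) (by rw [pow_one])) hX1 hXM).1 g hg
    have hcN : c ∈ Subgroup.normalizer (X : Set G) :=
      Subgroup.centralizer_le_normalizer _ hc
    exact M.mul_mem hm (hNle X hXC hXp hcN)
  refine ⟨?_, ?_, ?_, ?_⟩
  · -- (1)
    intro g hg
    by_contra hne
    obtain ⟨X, hXle, hXp⟩ := exists_prime_card_le hne
    apply hg
    have hXg : X.map (MulAut.conj g⁻¹).toMonoidHom ≤ M := by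
      rintro _ ⟨x, hx, rfl⟩
      obtain ⟨m, hm, hmx⟩ := (hXle hx).2
      have : (MulAut.conj g⁻¹).toMonoidHom x = m := by
        rw [← hmx]
        simp [MulAut.conj_apply, mul_assoc]
      rw [this]; exact hm
    have := hkey X (hXle.trans inf_le_left) hXp g⁻¹ hXg
    simpa using M.inv_mem this
  · -- (2): `K` is cyclic
    intro g hgM hgKC
    by_contra hne
    obtain ⟨X, hXle, hXp⟩ := exists_prime_card_le hne
    have hXK : X ≤ K := hXle.trans inf_le_left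
    have hXKg : X ≤ K.map (MulAut.conj g).toMonoidHom := hXle.trans inf_le_right
    -- `g⁻¹ X g ≤ K` has the order of `X`, so equals `X`
    have hX'K : cj g⁻¹ X ≤ K := by
      have h1 : cj g⁻¹ X ≤ cj g⁻¹ (cj g K) := cj_mono hXKg
      rwa [cj_inv_cj] at h1
    have heq : cj g⁻¹ X = X :=
      Cfsg.Agent.Helper67.eq_of_card_eq_of_le_cyclic K _ _ hX'K hXK (card_cj g⁻¹ X)
    have hgN : g ∈ Subgroup.normalizer (X : Set G) := by
      have h1 : g⁻¹ ∈ Subgroup.normalizer (X : Set G) := mem_normalizer_of_cj_eq heq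
      simpa using Subgroup.inv_mem _ h1
    have : g ∈ M ⊓ Subgroup.normalizer (X : Set G) := ⟨hgM, hgN⟩
    rw [h3 X hXK hXp] at this
    exact hgKC this
  · -- (3)
    intro p hp hd S
    obtain ⟨h1, h2⟩ := t6 p hp hd S
    refine ⟨h1, ?_, h2⟩
    rintro _ ⟨x, -, rfl⟩
    exact hSM x.2
  · -- (4)
    intro Y hYσ hYC
    have hY1 : Y ≠ ⊥ := by
      intro hb
      apply hYC
      rw [hb]; exact bot_inf_eq _
    obtain ⟨g, hg⟩ := Cfsg.Agent.S1425.result hG M hM Y hY1 hYσ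
    obtain ⟨X, hXle, hXp⟩ := exists_prime_card_le hYC
    have hXg : X.map (MulAut.conj g).toMonoidHom ≤ M :=
      ((Subgroup.map_mono (hXle.trans inf_le_left)).trans hg).trans hSM
    have hgM := hkey X (hXle.trans inf_le_right) hXp g hXg
    intro y hy
    have h1 : g * y * g⁻¹ ∈ Cfsg.sigmaCore M := hg ⟨y, hy, by simp [MulAut.conj_apply]⟩
    have h2 := Cfsg.Agent.Helper68.BG12.conj_mem_sigmaCore (M.inv_mem hgM) h1
    have : g⁻¹ * (g * y * g⁻¹) * g⁻¹⁻¹ = y := by group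
    rwa [this] at h2

/-- **S1431 in CASE A**: from S1430(1), S1430(3) and `K ≠ 1` cyclic with `π(K) ⊆ τ₁(M)`. -/
theorem s1431_caseA (hG : Cfsg.IsMinSimpleOddOrder G) {M : Subgroup G} (hM : IsCoatom M)
    {K : Subgroup G} (hKM : K ≤ M) (hK1 : K ≠ ⊥) (hKc : IsCyclic ↥K)
    (hτ1 : ∀ p : ℕ, p.Prime → p ∣ Nat.card ↥K → p ∈ Cfsg.tau1 M)
    (h1 : ∀ k ∈ K, k ≠ 1 → Cfsg.sigmaCore M ⊓ Subgroup.centralizer ({k} : Set G) =
      Cfsg.sigmaCore M ⊓ Subgroup.centralizer (K : Set G))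
    (h3 : ∀ X : Subgroup G, X ≤ K → (Nat.card X).Prime →
      M ⊓ Subgroup.normalizer (X : Set G) =
        K ⊔ (Cfsg.sigmaCore M ⊓ Subgroup.centralizer (K : Set G))) :
    (∀ g : G, g ∉ M → (Cfsg.sigmaCore M ⊓ Subgroup.centralizer (K : Set G)) ⊓
        M.map (MulAut.conj g).toMonoidHom = ⊥) ∧
      (∀ g ∈ M, g ∉ K ⊔ (Cfsg.sigmaCore M ⊓ Subgroup.centralizer (K : Set G)) →
        K ⊓ K.map (MulAut.conj g).toMonoidHom = ⊥) ∧
      (∀ (p : ℕ), p.Prime →
        p ∣ Nat.card ↥(Cfsg.sigmaCore M ⊓ Subgroup.centralizer (K : Set G)) →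
        ∀ S : Sylow p ↥(Cfsg.sigmaCore M),
        Cfsg.InUniqueMaximal
          ((S : Subgroup ↥(Cfsg.sigmaCore M)).map (Cfsg.sigmaCore M).subtype) ∧
        (S : Subgroup ↥(Cfsg.sigmaCore M)).map (Cfsg.sigmaCore M).subtype ≤ M ∧
        ¬ (S : Subgroup ↥(Cfsg.sigmaCore M)).map (Cfsg.sigmaCore M).subtype ≤
          (Cfsg.sigmaCore M ⊓ Subgroup.centralizer (K : Set G))) ∧
      ∀ Y : Subgroup G, (∀ p : ℕ, p.Prime → p ∣ Nat.card Y → p ∈ Cfsg.sigma M) →
        Y ⊓ (Cfsg.sigmaCore M ⊓ Subgroup.centralizer (K : Set G)) ≠ ⊥ →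
        Y ≤ Cfsg.sigmaCore M := by
  classical
  -- a subgroup `P = ⟨x⟩` of prime order `p ∈ τ₁(M)` of `K`
  obtain ⟨⟨w, hw⟩, hw1'⟩ := (Subgroup.ne_bot_iff_exists_ne_one).mp hK1
  have hw1 : w ≠ 1 := fun h1 => hw1' (Subtype.ext h1)
  have hoe : orderOf w ≠ 1 := fun h1 => hw1 (orderOf_eq_one_iff.mp h1)
  obtain ⟨p, hp, hpe⟩ := Nat.exists_prime_and_dvd hoe
  set x : G := w ^ (orderOf w / p) with hx
  have hxK : x ∈ K := K.pow_mem hw _
  have hxo : orderOf x = p := orderOf_pow_orderOf_div (orderOf_pos w).ne' hpe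
  have hx1 : x ≠ 1 := by
    intro h1
    rw [h1, orderOf_one] at hxo
    exact hp.one_lt.ne hxo
  set P : Subgroup G := Subgroup.zpowers x with hP
  have hPK : P ≤ K := by rw [hP, Subgroup.zpowers_le]; exact hxK
  have hPc : Nat.card ↥P = p := by rw [hP, Nat.card_zpowers, hxo]
  have hpK : p ∣ Nat.card ↥K := by
    rw [← hPc]; exact Subgroup.card_dvd_of_le hPK
  have hp1 : p ∈ Cfsg.tau1 M := hτ1 p hp hpK
  haveI : Fact p.Prime := ⟨hp⟩
  -- `C_{M_σ}(P) = K*`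
  have hD : Cfsg.sigmaCore M ⊓ Subgroup.centralizer (P : Set G) =
      Cfsg.sigmaCore M ⊓ Subgroup.centralizer (K : Set G) := by
    rw [← h1 x hxK hx1, hP, Subgroup.zpowers_eq_closure, Subgroup.centralizer_closure]
  have hPM : P ≤ M := hPK.trans hKM
  apply s1431_of_cyclic hG hM hKM hKc h3
  · intro X hX hXp L hL hNL
    rw [← hD] at hX
    exact (Cfsg.Agent.Helper23.BG14.step_I hG hM hp1 hPM hPc hX hXp).2 L hL hNL
  · intro q hq hqd S
    haveI : Fact q.Prime := ⟨hq⟩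
    rw [← hD] at hqd ⊢
    exact Cfsg.Agent.Helper23.BG14.t6 hG hM hp1 hPM hPc hqd (isSylowIn_map_sylow S)

end Cfsg.Agent.Helper55.BG14CaseA
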