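import Mathlib
import Cfsg.Prelude.Def_OddOrderLocal
import Cfsg.Agent.Helper64.BG1218
import Cfsg.Agent.Helper10.Card
import Cfsg.Agent.Helper23.Sup
import Cfsg.Agent.Helper1.BG1217

set_option autoImplicit false
set_option linter.unusedSectionVars false
set_option linter.unusedVariables false
set_option linter.style.haveILetI false

/-!
# Piece (R1) of helper32's Lemma Sigma plan (#3503): a complement inside `M ∩ L` (helper55)

`Ms` a normal Hall subgroup of `M`, `S` a Sylow `q`-subgroup of `Ms` with `N_M(S) ≤ L`: then `Ms`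
has a complement `E` in `M` with `E ≤ M ∩ L`.  (Frattini: `M = Ms N_M(S)`; Schur-Zassenhaus in
`N_M(S)` for the normal Hall subgroup `Ms ∩ N_M(S)`.)
-/

namespace Cfsg.Agent.Helper55.BGSigmaR1

open Cfsg Cfsg.Agent.Helper29 Cfsg.Agent.Helper29.BG10

variable {G : Type*} [Group G] [Finite G]

theorem exists_compl_le {q : ℕ} [Fact q.Prime] (M L Ms S : Subgroup G) (hMsM : Ms ≤ M)
    (hn : M ≤ Subgroup.normalizer (Ms : Set G))
    (hcop : (Nat.card Ms).Coprime (Ms.relIndex M)) (hSMs : S ≤ Ms) (hSq : IsPGroup q S)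
    (hSyl : ¬ q ∣ S.relIndex Ms) (hNS : M ⊓ Subgroup.normalizer (S : Set G) ≤ L) :
    ∃ E : Subgroup G, E ≤ M ⊓ L ∧ Cfsg.IsComplIn E Ms M := by
  classical
  set N : Subgroup G := M ⊓ Subgroup.normalizer (S : Set G) with hN
  have hNM : N ≤ M := inf_le_left
  have hNn : N ≤ Subgroup.normalizer (Ms : Set G) := hNM.trans hn
  -- Frattini
  have hfr : Ms ⊔ N = M :=
    Cfsg.Agent.Helper64.BG1218.frattini_sup_eq hMsM hn ⟨hSMs, hSq, hSyl⟩
  -- the normal Hall subgroup `Ms ∩ N` of `N`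
  haveI hKn : (Ms.subgroupOf N).Normal := by
    constructor
    intro x hx g
    rw [Subgroup.mem_subgroupOf] at hx ⊢
    exact (Subgroup.mem_normalizer_iff.mp (hNn g.2) x).mp hx
  have hcard1 : Nat.card (N ⊔ Ms : Subgroup G) * Nat.card (N ⊓ Ms : Subgroup G) =
      Nat.card N * Nat.card Ms := Cfsg.Agent.Helper10.card_sup_mul_card_inf N Ms hNn
  rw [sup_comm, hfr] at hcard1
  have hcard2 : Ms.relIndex M * Nat.card Ms = Nat.card M := by
    have := Subgroup.relIndex_mul_relIndex ⊥ Ms M bot_le hMsM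
    rw [Subgroup.relIndex_bot_left, Subgroup.relIndex_bot_left] at this
    rw [mul_comm]; exact this
  have hKcard : Nat.card (Ms.subgroupOf N) = Nat.card (N ⊓ Ms : Subgroup G) := by
    rw [← Subgroup.inf_subgroupOf_left, Cfsg.Agent.Helper1.card_subgroupOf_of_le inf_le_left]
  have hidx : (Ms.subgroupOf N).index = Ms.relIndex M := by
    have h1 : (Ms.subgroupOf N).index * Nat.card (Ms.subgroupOf N) = Nat.card N := by
      rw [mul_comm]; exact Subgroup.card_mul_index _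
    have hpos : 0 < Nat.card (N ⊓ Ms : Subgroup G) * Nat.card Ms :=
      Nat.mul_pos Nat.card_pos Nat.card_pos
    apply Nat.eq_of_mul_eq_mul_right hpos
    calc (Ms.subgroupOf N).index * (Nat.card (N ⊓ Ms : Subgroup G) * Nat.card Ms)
        = ((Ms.subgroupOf N).index * Nat.card (Ms.subgroupOf N)) * Nat.card Ms := by
          rw [hKcard]; ring
      _ = Nat.card N * Nat.card Ms := by rw [h1]
      _ = Nat.card M * Nat.card (N ⊓ Ms : Subgroup G) := hcard1.symm
      _ = Ms.relIndex M * (Nat.card (N ⊓ Ms : Subgroup G) * Nat.card Ms) := by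
          rw [← hcard2]; ring
  have hcop' : (Nat.card (Ms.subgroupOf N)).Coprime (Ms.subgroupOf N).index := by
    rw [hidx, hKcard]
    exact Nat.Coprime.coprime_dvd_left (Subgroup.card_dvd_of_le inf_le_right) hcop
  obtain ⟨H, hH⟩ := Subgroup.exists_right_complement'_of_coprime hcop'
  refine ⟨H.map N.subtype, ?_, ?_, hMsM, ?_, ?_⟩
  · rintro _ ⟨x, -, rfl⟩
    exact ⟨hNM x.2, hNS x.2⟩
  · rintro _ ⟨x, -, rfl⟩
    exact hNM x.2
  · rw [eq_bot_iff]
    rintro _ ⟨⟨y, hy, rfl⟩, hx2⟩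
    have : y ∈ Ms.subgroupOf N ⊓ H := ⟨Subgroup.mem_subgroupOf.mpr hx2, hy⟩
    rw [hH.disjoint.eq_bot, Subgroup.mem_bot] at this
    rw [this]
    exact Subgroup.one_mem _
  · intro m hm
    rw [← hfr] at hm
    obtain ⟨s, hs, n, hnN, rfl⟩ :=
      (Cfsg.Agent.Helper23.mem_sup_iff_of_le_normalizer hNn).mp hm
    obtain ⟨⟨⟨k, hk⟩, ⟨h', hh'⟩⟩, hx, -⟩ :=
      (Subgroup.isComplement'_def.mp hH).existsUnique (⟨n, hnN⟩ : ↥N)
    have hx' : (k : G) * (h' : G) = n := congrArg Subtype.val hx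
    have hkMs : (k : G) ∈ Ms := Subgroup.mem_subgroupOf.mp hk
    refine ⟨(h' : G), ⟨h', hh', rfl⟩, (h' : G)⁻¹ * (s * (k : G)) * (h' : G), ?_, ?_⟩
    · have h1 : (h' : G)⁻¹ ∈ Subgroup.normalizer (Ms : Set G) :=
        Subgroup.inv_mem _ (hNn h'.2)
      have := (Subgroup.mem_normalizer_iff.mp h1 (s * (k : G))).mp (Ms.mul_mem hs hkMs)
      rwa [inv_inv] at this
    · rw [← hx']; group

end Cfsg.Agent.Helper55.BGSigmaR1
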