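import Cfsg.Agent.Helper57.BH.Defs

/-!
# Piece (AM) of S4503 (helper57, board #6661): the restriction to `C_G(P)` in terms of the
multiplicities, and the multiplicities are nonnegative.
-/

set_option autoImplicit false

namespace Cfsg.Agent.Helper55.BH

open Cfsg Cfsg.Agent.Helper16 Cfsg.Agent.Helper16.DefOne Cfsg.Agent.Helper82.DefOne
  Cfsg.Agent.Helper77.DefOne Cfsg.Agent.Helper57.BH
open scoped ComplexConjugate

universe u

variable {G : Type u} [Group G] [Fintype G] {p : ℕ} [Fact p.Prime] (P : Sylow p G)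

theorem restrict_eq_finsum_mult (ψ : IrrCharacter G) (c : cen P) :
    (ψ : G → ℂ) (c : G) =
      ∑ᶠ φ : IrrCharacter (cen P), (mult P ψ φ : ℂ) * (φ : cen P → ℂ) c := by
  classical
  haveI : Fintype (cen P) := Fintype.ofFinite _
  haveI : Finite (IrrCharacter (cen P)) := Helper79.irr_finite'
  haveI : Fintype (IrrCharacter (cen P)) := Fintype.ofFinite _
  have hψ : IsCharacter G (ψ : G → ℂ) := by
    obtain ⟨n, ρ, -, h⟩ := ψ.2
    exact ⟨n, ρ, h⟩
  have hres := Helper74.isCharacter_eq_sum_irr (Helper74.isCharacter_restrict (cen P) hψ)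
  have h1 := congrFun hres c
  rw [finsum_eq_sum_of_fintype]
  simp only [Finset.sum_apply, Pi.smul_apply, smul_eq_mul] at h1
  rw [h1]
  refine Finset.sum_congr rfl (fun φ _ => ?_)
  rw [mult_cast]

theorem mult_nonneg (ψ : IrrCharacter G) (φ : IrrCharacter (cen P)) : 0 ≤ mult P ψ φ := by
  classical
  haveI : Fintype (cen P) := Fintype.ofFinite _
  have hψ : IsCharacter G (ψ : G → ℂ) := by
    obtain ⟨n, ρ, -, h⟩ := ψ.2
    exact ⟨n, ρ, h⟩
  obtain ⟨m, hm⟩ := Helper74.isCharacter_inner_irr_nat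
    (Helper74.isCharacter_restrict (cen P) hψ) φ
  have h1 := mult_cast P ψ φ
  rw [hm] at h1
  have h2 : mult P ψ φ = (m : ℤ) := by exact_mod_cast h1
  rw [h2]
  exact Int.natCast_nonneg m

end Cfsg.Agent.Helper55.BH
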