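import Cfsg.Agent.Helper57.BH.Defs

/-!
# Piece (W1) of S4503 (helper57, board #6661): `SameP` is an equivalence relation, is
`N`-equivariant, and `SameP φ 1 ↔ IsCanon φ`.
-/

set_option autoImplicit false

namespace Cfsg.Agent.Helper55.BH

open Cfsg Cfsg.Agent.Helper16 Cfsg.Agent.Helper16.DefOne Cfsg.Agent.Helper82.DefOne
  Cfsg.Agent.Helper77.DefOne Cfsg.Agent.Helper57.BH
open scoped ComplexConjugate

universe u

variable {G : Type u} [Group G] [Fintype G] {p : ℕ} [Fact p.Prime] (P : Sylow p G)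

theorem sameP_refl (φ : IrrCharacter (cen P)) : SameP P φ φ := fun _ _ => rfl

theorem sameP_symm {φ φ' : IrrCharacter (cen P)} (h : SameP P φ φ') : SameP P φ' φ :=
  fun x hx => (h x hx).symm

theorem sameP_trans {φ φ' φ'' : IrrCharacter (cen P)} (h : SameP P φ φ')
    (h' : SameP P φ' φ'') : SameP P φ φ'' := by
  intro x hx
  have h1 := h x hx
  have h2 := h' x hx
  have hne : (φ' : cen P → ℂ) 1 ≠ 0 := by
    haveI : Fintype (cen P) := Fintype.ofFinite _
    exact irr_one_ne_zero φ'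
  apply mul_right_cancel₀ hne
  calc (φ : cen P → ℂ) x * (φ'' : cen P → ℂ) 1 * (φ' : cen P → ℂ) 1
      = ((φ : cen P → ℂ) x * (φ' : cen P → ℂ) 1) * (φ'' : cen P → ℂ) 1 := by ring
    _ = ((φ' : cen P → ℂ) x * (φ : cen P → ℂ) 1) * (φ'' : cen P → ℂ) 1 := by rw [h1]
    _ = ((φ' : cen P → ℂ) x * (φ'' : cen P → ℂ) 1) * (φ : cen P → ℂ) 1 := by ring
    _ = ((φ'' : cen P → ℂ) x * (φ' : cen P → ℂ) 1) * (φ : cen P → ℂ) 1 := by rw [h2]
    _ = (φ'' : cen P → ℂ) x * (φ : cen P → ℂ) 1 * (φ' : cen P → ℂ) 1 := by ring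

theorem sameP_smul (hP : Nat.card P = p) (n : nor P) {φ φ' : IrrCharacter (cen P)}
    (h : SameP P φ φ') : SameP P (n • φ) (n • φ') := by
  intro x hx
  have hone : (normConj (cen P) n).symm 1 = 1 := map_one _
  have hmem : (((normConj (cen P) n).symm x : cen P) : G) ∈ (P : Subgroup G) := by
    rw [coe_normConj_symm]
    have hn : (n : G) ∈ Subgroup.normalizer ((P : Subgroup G) : Set G) := by
      rw [← nor_eq_normalizer P hP]
      exact n.2
    have hn' : ((n : G)⁻¹) ∈ Subgroup.normalizer ((P : Subgroup G) : Set G) := inv_mem hn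
    have := (Subgroup.mem_normalizer_iff.mp hn' (x : G)).mp hx
    simpa using this
  rw [smul_irr_apply, smul_irr_apply, smul_irr_apply, smul_irr_apply, hone]
  exact h _ hmem

theorem sameP_oneIrr_iff (φ : IrrCharacter (cen P)) : SameP P φ (oneIrr P) ↔ IsCanon P φ := by
  have hone : ∀ y : cen P, ((oneIrr P : IrrCharacter (cen P)) : cen P → ℂ) y = 1 := fun _ => rfl
  constructor
  · intro h x hx
    have := h x hx
    rw [hone, hone, mul_one, one_mul] at this
    exact this
  · intro h x hx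
    rw [hone, hone, mul_one, one_mul]
    exact h x hx

end Cfsg.Agent.Helper55.BH
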