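import Cfsg.Agent.Helper19.CT.Simple
import Cfsg.Agent.Helper40.StMono

/-!
helper55 for helper19's Curtis–Tits farm (S1164), leaf (HREL): Steinberg's relations (C) for all the roots, by
induction on the level of the root.
-/

set_option autoImplicit false
set_option linter.unusedSectionVars false
set_option linter.unusedVariables false

namespace Cfsg.Agent.Helper55.CT

open Cfsg Cfsg.Lie Cfsg.Agent.Helper18 Cfsg.Agent.Helper40.St Cfsg.Agent.Helper40.ChevAdd Cfsg.Agent.Helper40.UProd
  Cfsg.Agent.Helper40.SL2Hom Cfsg.Agent.Helper40.NMono Cfsg.Agent.Helper19.CT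

universe u v

/-- pure group theory: if `h t = n t * n (-1)` is multiplicative on the nonzero elements and `n (-t) = (n t)⁻¹`,
then the twisted function `t ↦ n (-t)` has the same property -/
theorem HREL_twist {K : Type u} [Field K] {Γ : Type v} [Group Γ] (n : K → Γ)
    (hneg : ∀ t : K, n (-t) = (n t)⁻¹)
    (hmul : ∀ t u : K, t ≠ 0 → u ≠ 0 → (n t * n (-1)) * (n u * n (-1)) = n (t * u) * n (-1))
    (t u : K) (ht : t ≠ 0) (hu : u ≠ 0) :
    (n (-t) * n (- -1)) * (n (-u) * n (- -1)) = n (-(t * u)) * n (- -1) := by
  have h1 : ∀ s : K, s ≠ 0 → n (-s) * n (- -1) = n s * n (-1) := by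
    intro s hs
    have e := hmul s (-1) hs (by simp)
    rw [mul_neg_one] at e
    -- e : n s * n (-1) * (n (-1) * n (-1)) = n (-s) * n (-1)
    have e' : n (-s) = n s * n (-1) * n (-1) := by
      have e2 : n (-s) = n (-s) * n (-1) * (n (-1))⁻¹ := by group
      rw [e2, ← e]
      group
    rw [hneg (-1), e']
    group
  rw [h1 t ht, h1 u hu, h1 (t * u) (mul_ne_zero ht hu)]
  exact hmul t u ht hu

section CT
variable {D : ChevalleyDatum} (hD : D ∈ [chevD4, chevF4, chevE6, chevE7, chevE8]) (K : Type u) [Field K]

omit [Field K] in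
include hD in
theorem HREL_rank_pos : 0 < D.rank := by
  simp only [List.mem_cons, List.not_mem_nil, or_false] at hD
  rcases hD with rfl | rfl | rfl | rfl | rfl <;> decide

/-- `n̄_r(-t) = n̄_r(t)⁻¹` for the root elements of a parametrization -/
theorem HREL_nbar_neg (xh : ℕ → K → D.CurtisTitsGroup K) (hX : Param K hD xh) (r : ℕ) (hr : r < D.nroots) (t : K) :
    nbar D xh r (-t) = (nbar D xh r t)⁻¹ := by
  unfold nbar
  exact w_neg_of_add _ _ (hX.add r hr) (hX.add _ (Cfsg.Agent.Helper19.CT.neg_lt hD hr)) t

/-! ## (HREL) Steinberg's relations (C) for all roots -/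

theorem hrel_of (hC : CombS D) (xh : ℕ → K → D.CurtisTitsGroup K) (hX : Param K hD xh) :
    ∀ r < D.nroots, ∀ t u : K, t ≠ 0 → u ≠ 0 →
      (nbar D xh r t * nbar D xh r (-1)) * (nbar D xh r u * nbar D xh r (-1)) =
        nbar D xh r (t * u) * nbar D xh r (-1) := by
  have key : ∀ n : ℕ, ∀ r < D.nroots, Cfsg.Agent.Helper19.CT.lvl D r = n → ∀ t u : K, t ≠ 0 → u ≠ 0 →
      (nbar D xh r t * nbar D xh r (-1)) * (nbar D xh r u * nbar D xh r (-1)) =
        nbar D xh r (t * u) * nbar D xh r (-1) := by
    intro n
    induction n using Nat.strong_induction_on with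
    | _ n ih =>
      intro r hr hn t u ht hu
      by_cases hlv : Cfsg.Agent.Helper19.CT.lvl D r ≤ 1
      · -- base: `r` lies in a standard subsystem of rank at most two
        obtain ⟨k, hk⟩ := hC.base r hr hlv 0 (HREL_rank_pos hD)
        have hR : R2 D r := ⟨0, k, hk⟩
        have hRn : R2 D (D.neg r) := ⟨0, k, inRankTwoSub_neg hD hk⟩
        have e : ∀ s : K, nbar D xh r s = nbar D (gen D K) r s := by
          intro s
          unfold nbar w
          rw [hX.eq_gen r hR, hX.eq_gen _ hRn]
        rw [e, e, e, e]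
        exact hhat_mul K r hR t u ht hu
      · -- step: conjugate by `n̂_d`
        have h2 : 2 ≤ Cfsg.Agent.Helper19.CT.lvl D r := by omega
        obtain ⟨d, hd, hlt, -⟩ := hC.desc r hr h2
        have hr' : D.reflectRoot d r < D.nroots := hC.σ_lt d hd r hr
        have hinv : D.reflectRoot d (D.reflectRoot d r) = r := hC.σ_invol d hd r hr
        obtain ⟨e, he, hc1, hc2⟩ := hX.conj d hd (D.reflectRoot d r) hr'
        rw [hinv] at hc1 hc2
        have ee : e * e = 1 := by
          rcases he with rfl | rfl <;> simp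
        have einv : e⁻¹ = e := by
          rcases he with rfl | rfl <;> simp
        have IH := ih (Cfsg.Agent.Helper19.CT.lvl D (D.reflectRoot d r)) (by omega) (D.reflectRoot d r) hr' rfl
        -- `n̄_r(e s) = n̂_d n̄_{r'}(s) n̂_d⁻¹`
        have hn1 : ∀ s : K, nbar D xh r (e * s) =
            nhat D K d * nbar D xh (D.reflectRoot d r) s * (nhat D K d)⁻¹ := by
          intro s
          unfold nbar w
          have e1 : -(e * s)⁻¹ = e * (-s⁻¹) := by
            rw [_root_.mul_inv, einv]; ring
          rw [e1, ← hc1, ← hc2]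
          group
        have hn2 : ∀ s : K, nbar D xh r s =
            nhat D K d * nbar D xh (D.reflectRoot d r) (e * s) * (nhat D K d)⁻¹ := by
          intro s
          rw [← hn1, ← mul_assoc, ee, one_mul]
        rw [hn2 t, hn2 (-1), hn2 u, hn2 (t * u)]
        have goal' : (nbar D xh (D.reflectRoot d r) (e * t) * nbar D xh (D.reflectRoot d r) (e * -1)) *
            (nbar D xh (D.reflectRoot d r) (e * u) * nbar D xh (D.reflectRoot d r) (e * -1)) =
            nbar D xh (D.reflectRoot d r) (e * (t * u)) * nbar D xh (D.reflectRoot d r) (e * -1) := by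
          rcases he with rfl | rfl
          · simp only [one_mul]
            exact IH t u ht hu
          · simp only [neg_one_mul]
            exact HREL_twist (nbar D xh (D.reflectRoot d r)) (HREL_nbar_neg hD K xh hX _ hr') IH t u ht hu
        calc nhat D K d * nbar D xh (D.reflectRoot d r) (e * t) * (nhat D K d)⁻¹ *
              (nhat D K d * nbar D xh (D.reflectRoot d r) (e * -1) * (nhat D K d)⁻¹) *
              (nhat D K d * nbar D xh (D.reflectRoot d r) (e * u) * (nhat D K d)⁻¹ *
              (nhat D K d * nbar D xh (D.reflectRoot d r) (e * -1) * (nhat D K d)⁻¹))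
            = nhat D K d * ((nbar D xh (D.reflectRoot d r) (e * t) * nbar D xh (D.reflectRoot d r) (e * -1)) *
              (nbar D xh (D.reflectRoot d r) (e * u) * nbar D xh (D.reflectRoot d r) (e * -1))) *
              (nhat D K d)⁻¹ := by group
          _ = nhat D K d * (nbar D xh (D.reflectRoot d r) (e * (t * u)) *
              nbar D xh (D.reflectRoot d r) (e * -1)) * (nhat D K d)⁻¹ := by rw [goal']
          _ = _ := by group
  intro r hr t u ht hu
  exact key (Cfsg.Agent.Helper19.CT.lvl D r) r hr rfl t u ht hu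

end CT

end Cfsg.Agent.Helper55.CT
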