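import Mathlib
import Cfsg.Agent.Helper44.CT.Defs

/-!
# S3351 CT farm (helper44), leaf (P4i): `θ ∘ ul` and `θ ∘ lr` are injective
-/

set_option autoImplicit false

namespace Cfsg.Agent.Helper55.CT

open Cfsg.Agent.Helper44.CT Cfsg.Agent.Helper96.StN Cfsg.Agent.Helper34.StNF
open scoped commutatorElement

universe u v

variable {F : Type u} [Field F] {G : Type v} [Group G]

/-- a central `ul x` is trivial -/
theorem P4i_ul_center {x : SL2 F} (h : ul x ∈ Subgroup.center (SL3 F)) : x = 1 := by
  obtain ⟨r, -, hr⟩ := Matrix.SpecialLinearGroup.mem_center_iff.1 h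
  have e : ∀ i j, (Matrix.scalar (Fin 3) r) i j = ulMat x.1 i j := by
    intro i j
    have := congrFun (congrFun hr i) j
    rw [coe_ul] at this
    exact this
  have e22 := e 2 2
  have e00 := e 0 0
  have e01 := e 0 1
  have e10 := e 1 0
  have e11 := e 1 1
  simp [ulMat, Matrix.scalar_apply] at e22 e00 e01 e10 e11
  apply Subtype.ext
  ext i j
  fin_cases i <;> fin_cases j
  · show x.1 0 0 = 1
    rw [← e00, e22]
  · show x.1 0 1 = 0
    exact e01.symm
  · show x.1 1 0 = 0
    exact e10.symm
  · show x.1 1 1 = 1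
    rw [← e11, e22]

/-- a central `lr x` is trivial -/
theorem P4i_lr_center {x : SL2 F} (h : lr x ∈ Subgroup.center (SL3 F)) : x = 1 := by
  obtain ⟨r, -, hr⟩ := Matrix.SpecialLinearGroup.mem_center_iff.1 h
  have e : ∀ i j, (Matrix.scalar (Fin 3) r) i j = lrMat x.1 i j := by
    intro i j
    have := congrFun (congrFun hr i) j
    rw [coe_lr] at this
    exact this
  have e00 := e 0 0
  have e11 := e 1 1
  have e12 := e 1 2
  have e21 := e 2 1
  have e22 := e 2 2
  simp [lrMat, Matrix.scalar_apply] at e00 e11 e12 e21 e22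
  apply Subtype.ext
  ext i j
  fin_cases i <;> fin_cases j
  · show x.1 0 0 = 1
    rw [← e11, e00]
  · show x.1 0 1 = 0
    exact e12.symm
  · show x.1 1 0 = 0
    exact e21.symm
  · show x.1 1 1 = 1
    rw [← e22, e00]

/-- (P4i) -/
theorem injective_comp_ul (θ : SL3 F →* G) (hker : θ.ker ≤ Subgroup.center (SL3 F)) :
    Function.Injective (θ.comp ul) := by
  rw [injective_iff_map_eq_one]
  intro x hx
  exact P4i_ul_center (hker (θ.mem_ker.2 hx))

/-- (P4i') as (P4i) with the entry `(0,0)`. -/
theorem injective_comp_lr (θ : SL3 F →* G) (hker : θ.ker ≤ Subgroup.center (SL3 F)) :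
    Function.Injective (θ.comp lr) := by
  rw [injective_iff_map_eq_one]
  intro x hx
  exact P4i_lr_center (hker (θ.mem_ker.2 hx))

end Cfsg.Agent.Helper55.CT
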