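import Mathlib.GroupTheory.Sylow
import Mathlib.GroupTheory.SpecificGroups.Cyclic
import Mathlib.GroupTheory.QuotientGroup.Basic

set_option autoImplicit false

namespace Cfsg.Agent.Helper55

open Function

/-- A Sylow `p`-subgroup of a `p`-group is everything. -/
theorem sylow_eq_top_of_isPGroup {p : ℕ} {G : Type*} [Group G] (hG : IsPGroup p G) (P : Sylow p G) :
    (P : Subgroup G) = ⊤ :=
  (P.is_maximal' (Q := ⊤) (hG.to_subgroup ⊤) le_top).symm

/-- Lifting `p`-subgroups along a surjective homomorphism from a finite group. -/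
theorem exists_pgroup_map_eq {p : ℕ} [Fact p.Prime] {G G' : Type*} [Group G] [Finite G] [Group G']
    (f : G →* G') (hf : Surjective f) (D : Subgroup G') (hD : IsPGroup p D) :
    ∃ Q : Subgroup G, IsPGroup p Q ∧ Q.map f = D := by
  have hsurj : Surjective (f.subgroupComap D) := f.subgroupComap_surjective_of_surjective D hf
  let Q₀ : Sylow p (D.comap f) := Sylow.nonempty.some
  have htop : ((Q₀.mapSurjective hsurj : Sylow p D) : Subgroup D) = ⊤ :=
    sylow_eq_top_of_isPGroup hD _
  refine ⟨(Q₀ : Subgroup (D.comap f)).map (D.comap f).subtype, Q₀.2.map _, ?_⟩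
  apply le_antisymm
  · exact Subgroup.map_le_iff_le_comap.mpr (Subgroup.map_subtype_le _)
  · intro d hd
    have hmem : (⟨d, hd⟩ : D) ∈ ((Q₀.mapSurjective hsurj : Sylow p D) : Subgroup D) := by
      rw [htop]; exact Subgroup.mem_top _
    rw [Sylow.coe_mapSurjective, Subgroup.mem_map] at hmem
    obtain ⟨x, hx, hxd⟩ := hmem
    rw [Subgroup.mem_map]
    refine ⟨(x : G), ?_, ?_⟩
    · rw [Subgroup.mem_map]
      exact ⟨x, hx, rfl⟩
    · have := congrArg Subtype.val hxd
      exact this

/-- Given a Sylow `p`-subgroup `S` of `G`, a surjection `f`, and a `p`-subgroup `Q` whose image lies in the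
image of `S`, there is a Sylow `p`-subgroup `S'` containing `Q` with the same image as `S`. -/
theorem exists_sylow_ge_map_eq {p : ℕ} [Fact p.Prime] {G G' : Type*} [Group G] [Finite G] [Group G']
    (f : G →* G') (hf : Surjective f) (S : Sylow p G) (Q : Subgroup G) (hQ : IsPGroup p Q)
    (hQS : Q.map f ≤ (S : Subgroup G).map f) :
    ∃ S' : Sylow p G, Q ≤ S' ∧ (S' : Subgroup G).map f = (S : Subgroup G).map f := by
  set M : Subgroup G := ((S : Subgroup G).map f).comap f with hM
  have hSM : (S : Subgroup G) ≤ M := Subgroup.le_comap_map f _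
  have hQM : Q ≤ M := Subgroup.map_le_iff_le_comap.mp hQS
  -- work inside M
  have hQ' : IsPGroup p (Q.subgroupOf M) := by
    have : IsPGroup p (Q.comap M.subtype) :=
      hQ.comap_of_injective M.subtype M.subtype_injective
    exact this
  obtain ⟨R, hR⟩ := hQ'.exists_le_sylow
  obtain ⟨m, hm⟩ := MulAction.exists_smul_eq M (S.subtype hSM) R
  refine ⟨m • S, ?_, ?_⟩
  · intro q hq
    have h1 : (⟨q, hQM hq⟩ : M) ∈ Q.subgroupOf M := by
      rw [Subgroup.mem_subgroupOf]; exact hq
    have h2 := hR h1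
    rw [← hm, Sylow.smul_subtype hSM m] at h2
    have h3 : (⟨q, hQM hq⟩ : M) ∈ ((m • S : Sylow p G) : Subgroup G).subgroupOf M := by
      have := Sylow.coe_subtype (P := (m • S : Sylow p G)) (N := M) (Sylow.smul_le hSM m)
      rw [← this]
      exact h2
    rw [Subgroup.mem_subgroupOf] at h3
    exact h3
  · -- images agree: both are Sylow in G' and one contains the other
    have hle : ((m • S : Sylow p G) : Subgroup G).map f ≤ (S : Subgroup G).map f := by
      have hsm : ((m • S : Sylow p G) : Subgroup G) ≤ M := Sylow.smul_le hSM m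
      intro y hy
      rw [Subgroup.mem_map] at hy
      obtain ⟨x, hx, rfl⟩ := hy
      exact hsm hx
    have := ((m • S : Sylow p G).mapSurjective hf).is_maximal'
      (Q := (S : Subgroup G).map f) (S.mapSurjective hf).isPGroup' hle
    exact this.symm

/-- **Cyclic Sylow intersections pass to quotients** (general prime, general surjection). -/
theorem isCyclic_sylow_inf_of_surjective {p : ℕ} [Fact p.Prime] {G G' : Type*} [Group G] [Finite G] [Group G']
    (f : G →* G') (hf : Surjective f)
    (hC : ∀ S T : Sylow p G, S ≠ T → IsCyclic ↥((S : Subgroup G) ⊓ (T : Subgroup G)))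
    (S' T' : Sylow p G') (hne : S' ≠ T') :
    IsCyclic ↥((S' : Subgroup G') ⊓ (T' : Subgroup G')) := by
  obtain ⟨S, rfl⟩ := Sylow.mapSurjective_surjective hf p S'
  obtain ⟨T, rfl⟩ := Sylow.mapSurjective_surjective hf p T'
  set D : Subgroup G' := ((S.mapSurjective hf : Sylow p G') : Subgroup G') ⊓
    ((T.mapSurjective hf : Sylow p G') : Subgroup G') with hD
  have hDp : IsPGroup p D := (S.mapSurjective hf).isPGroup'.to_le inf_le_left
  obtain ⟨Q, hQp, hQD⟩ := exists_pgroup_map_eq f hf D hDp
  have hQS : Q.map f ≤ (S : Subgroup G).map f := by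
    rw [hQD]; exact inf_le_left
  have hQT : Q.map f ≤ (T : Subgroup G).map f := by
    rw [hQD]; exact inf_le_right
  obtain ⟨S₁, hQS₁, hS₁⟩ := exists_sylow_ge_map_eq f hf S Q hQp hQS
  obtain ⟨T₁, hQT₁, hT₁⟩ := exists_sylow_ge_map_eq f hf T Q hQp hQT
  have hne₁ : S₁ ≠ T₁ := by
    intro h
    apply hne
    apply Sylow.ext
    rw [Sylow.coe_mapSurjective, Sylow.coe_mapSurjective, ← hS₁, ← hT₁, h]
  have hcyc := hC S₁ T₁ hne₁
  have hEq : ((S₁ : Subgroup G) ⊓ (T₁ : Subgroup G)).map f = D := by
    apply le_antisymm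
    · rw [hD, Sylow.coe_mapSurjective, Sylow.coe_mapSurjective, ← hS₁, ← hT₁]
      exact Subgroup.map_inf_le _ _ f
    · rw [← hQD]
      exact Subgroup.map_mono (le_inf hQS₁ hQT₁)
  have hcyc' : IsCyclic ↥(((S₁ : Subgroup G) ⊓ (T₁ : Subgroup G)).map f) :=
    isCyclic_of_surjective (f.subgroupMap _) (f.subgroupMap_surjective _)
  rw [hEq] at hcyc'
  exact hcyc'

end Cfsg.Agent.Helper55
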