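import Mathlib
import Cfsg.Prelude.Def_Solvable
import Cfsg.Prelude.Def_CaseTheorems
import Cfsg.Agent.Lib.Cores
import Cfsg.Agent.Helper55.SolvCore
import Cfsg.Agent.Helper55.SylowQuot

set_option autoImplicit false

namespace Cfsg.Agent.Helper55

open Cfsg.Agent.Lib

variable {G : Type*} [Group G]

/-- The `p'`-core of `G / O_{p'}(G)` is trivial. -/
theorem pPrimeCore_quotient_pPrimeCore [Finite G] (p : ℕ) :
    Cfsg.pPrimeCore p (G ⧸ Cfsg.pPrimeCore p G) = ⊥ := by
  set O := Cfsg.pPrimeCore p G with hO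
  have hOco : (Nat.card O).Coprime p := card_pPrimeCore_coprime p
  rw [eq_bot_iff]
  change sSup {N : Subgroup (G ⧸ O) | N.Normal ∧ (Nat.card N).Coprime p} ≤ ⊥
  refine sSup_le ?_
  rintro N ⟨hNn, hNco⟩
  set M := N.comap (QuotientGroup.mk' O) with hM
  have hMn : M.Normal := hNn.comap _
  have hMcard : Nat.card M = Nat.card O * Nat.card N := by
    have := QuotientGroup.card_preimage_mk O (N : Set (G ⧸ O))
    exact this
  have hMco : (Nat.card M).Coprime p := by
    rw [hMcard]; exact Nat.Coprime.mul_left hOco hNco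
  have hMO : M ≤ O := le_pPrimeCore hMn hMco
  have hNeq : N = M.map (QuotientGroup.mk' O) := by
    rw [hM, Subgroup.map_comap_eq_self_of_surjective (QuotientGroup.mk'_surjective O)]
  rw [hNeq]
  calc M.map (QuotientGroup.mk' O) ≤ O.map (QuotientGroup.mk' O) := Subgroup.map_mono hMO
    _ = ⊥ := QuotientGroup.map_mk'_self O
    _ ≤ ⊥ := le_rfl

/-- An element of odd order normalizing (here: in a group where `Q` is normal) a cyclic `2`-group `Q`
centralizes it. -/
theorem mem_centralizer_of_odd_of_cyclic_two_group [Finite G] (Q : Subgroup G) [hQn : Q.Normal]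
    (hQc : IsCyclic Q) (hQ2 : IsPGroup 2 Q) (a : G) (ha : (orderOf a).Coprime 2) :
    a ∈ Subgroup.centralizer (Q : Set G) := by
  set φ : MulAut Q := MulAut.conjNormal a with hφ
  have h1 : φ ^ orderOf a = 1 := by
    rw [hφ, ← map_pow, pow_orderOf_eq_one, map_one]
  have h2 : φ ^ Nat.card (MulAut Q) = 1 := pow_card_eq_one'
  obtain ⟨k, hk⟩ := IsPGroup.iff_card.mp hQ2
  have hcard : Nat.card (MulAut Q) = (2 ^ k).totient := by
    rw [IsCyclic.card_mulAut, hk]
  have htot : ∃ j, (2 ^ k).totient = 2 ^ j := by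
    rcases Nat.eq_zero_or_pos k with hk0 | hk0
    · exact ⟨0, by rw [hk0]; simp⟩
    · exact ⟨k - 1, by rw [Nat.totient_prime_pow Nat.prime_two hk0]; simp⟩
  obtain ⟨j, hj⟩ := htot
  rw [hcard, hj] at h2
  have hd1 : orderOf φ ∣ orderOf a := orderOf_dvd_of_pow_eq_one h1
  have hd2 : orderOf φ ∣ 2 ^ j := orderOf_dvd_of_pow_eq_one h2
  have hco : (orderOf a).Coprime (2 ^ j) := Nat.Coprime.pow_right j ha
  have hone : orderOf φ = 1 := Nat.eq_one_of_dvd_coprimes hco hd1 hd2
  have hφ1 : φ = 1 := orderOf_eq_one_iff.mp hone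
  rw [Subgroup.mem_centralizer_iff]
  intro q hq
  have : (φ ⟨q, hq⟩ : G) = q := by rw [hφ1]; rfl
  rw [hφ, MulAut.conjNormal_apply] at this
  -- a * q * a⁻¹ = q
  calc q * a = (a * q * a⁻¹) * a := by rw [this]
    _ = a * q := by group

/-- A finite solvable group with `O(K) = 1` in which distinct Sylow 2-subgroups meet in cyclic groups has a
normal Sylow 2-subgroup. -/
theorem exists_normal_sylow_two_of_cyclic_inf [Finite G] [Group.IsSolvable G]
    (hcore : Cfsg.pPrimeCore 2 G = ⊥)
    (hC : ∀ S T : Sylow 2 G, S ≠ T → IsCyclic ↥((S : Subgroup G) ⊓ (T : Subgroup G))) :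
    ∃ P : Sylow 2 G, (P : Subgroup G).Normal := by
  have : Fact (Nat.Prime 2) := ⟨Nat.prime_two⟩
  by_cases hsub : Subsingleton (Sylow 2 G)
  · exact ⟨default, Sylow.normal_of_subsingleton _⟩
  · exfalso
    rw [not_subsingleton_iff_nontrivial] at hsub
    obtain ⟨S, T, hST⟩ := exists_pair_ne (Sylow 2 G)
    have hcyc := hC S T hST
    set Q := Cfsg.pCore 2 G with hQ
    have hQn : Q.Normal := Cfsg.pCore_normal 2 G
    have hQ2 : IsPGroup 2 Q := isPGroup_pCore 2
    have hQle : Q ≤ (S : Subgroup G) ⊓ (T : Subgroup G) := le_inf (pCore_le_sylow S) (pCore_le_sylow T)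
    have hQc : IsCyclic Q := by
      have h1 : IsCyclic ↥(Q.subgroupOf ((S : Subgroup G) ⊓ (T : Subgroup G))) := inferInstance
      exact isCyclic_of_surjective (Subgroup.subgroupOfEquivOfLe hQle).toMonoidHom
        (Subgroup.subgroupOfEquivOfLe hQle).surjective
    have hG2 : IsPGroup 2 G := by
      apply isPGroup_of_forall_coprime_eq_one
      intro a ha
      have hmem := mem_centralizer_of_odd_of_cyclic_two_group Q hQc hQ2 a ha
      have haQ : a ∈ Q := centralizer_pCore_le 2 hcore hmem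
      obtain ⟨j, hj⟩ := (IsPGroup.iff_orderOf.mp hQ2) ⟨a, haQ⟩
      rw [Subgroup.orderOf_mk] at hj
      rw [hj] at ha
      have hj0 : j = 0 := by
        by_contra h0
        have := (Nat.coprime_pow_left_iff (Nat.pos_of_ne_zero h0) 2 2).mp ha
        norm_num at this
      rw [hj0, pow_zero] at hj
      exact orderOf_eq_one_iff.mp hj
    apply hST
    apply Sylow.ext
    rw [sylow_eq_top_of_isPGroup hG2 S, sylow_eq_top_of_isPGroup hG2 T]

end Cfsg.Agent.Helper55
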