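import Mathlib
import Cfsg.Prelude.Def_Characters

/-!
# S3716 (helper62), piece (C4): in a perfect group every involution has determinant one, hence
`χ(1) ≡ χ(t) mod 4`
-/

set_option autoImplicit false
set_option linter.unusedSectionVars false

namespace Cfsg.Agent.Helper55.D8

open Cfsg

section linear

variable {F : Type*} [Field F] {V : Type*} [AddCommGroup V] [Module F V]

/-- the eigenspaces of an involution are complementary -/
theorem isCompl_ker_involution (h2 : (2 : F) ≠ 0) (T : V →ₗ[F] V) (hT : ∀ v, T (T v) = v) :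
    IsCompl (LinearMap.ker (T - LinearMap.id)) (LinearMap.ker (T + LinearMap.id)) := by
  constructor
  · rw [Submodule.disjoint_def]
    intro v hp hm
    rw [LinearMap.mem_ker, LinearMap.sub_apply, LinearMap.id_apply, sub_eq_zero] at hp
    rw [LinearMap.mem_ker, LinearMap.add_apply, LinearMap.id_apply, hp] at hm
    have h : (2 : F) • v = 0 := by rw [two_smul]; exact hm
    rcases smul_eq_zero.mp h with h | h
    · exact absurd h h2
    · exact h
  · rw [codisjoint_iff, eq_top_iff]
    intro v _
    rw [Submodule.mem_sup]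
    refine ⟨(2 : F)⁻¹ • (v + T v), ?_, (2 : F)⁻¹ • (v - T v), ?_, ?_⟩
    · rw [LinearMap.mem_ker, LinearMap.sub_apply, LinearMap.id_apply, map_smul, map_add, hT,
        add_comm, sub_self]
    · rw [LinearMap.mem_ker, LinearMap.add_apply, LinearMap.id_apply, map_smul, map_sub, hT,
        ← smul_add]
      have : T v - v + (v - T v) = 0 := by abel
      rw [this, smul_zero]
    · rw [← smul_add]
      have : v + T v + (v - T v) = (2 : F) • v := by rw [two_smul]; abel
      rw [this, smul_smul, inv_mul_cancel₀ h2, one_smul]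

/-- determinant, trace and dimension of an involution in terms of its eigenspaces -/
theorem involution_det_trace [FiniteDimensional F V] (h2 : (2 : F) ≠ 0) (T : V →ₗ[F] V)
    (hT : ∀ v, T (T v) = v) :
    ∃ a b : ℕ, a + b = Module.finrank F V ∧ LinearMap.det T = (-1) ^ b ∧
      LinearMap.trace F V T = (a : F) - (b : F) := by
  set P := LinearMap.ker (T - LinearMap.id) with hP
  set M := LinearMap.ker (T + LinearMap.id) with hM
  have hc : IsCompl P M := isCompl_ker_involution h2 T hT
  set e := Submodule.prodEquivOfIsCompl P M hc with he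
  set D : (P × M) →ₗ[F] (P × M) :=
    LinearMap.prodMap (LinearMap.id : P →ₗ[F] P) (-(LinearMap.id : M →ₗ[F] M)) with hD
  have hconj : T = (e : _ →ₗ[F] V) ∘ₗ D ∘ₗ (e.symm : V →ₗ[F] _) := by
    apply LinearMap.ext
    intro v
    obtain ⟨p, rfl⟩ := e.surjective v
    have hp1 : T (p.1 : V) = p.1 := by
      have : (p.1 : V) ∈ LinearMap.ker (T - LinearMap.id) := p.1.2
      rw [LinearMap.mem_ker, LinearMap.sub_apply, LinearMap.id_apply, sub_eq_zero] at this
      exact this
    have hp2 : T (p.2 : V) = -p.2 := by
      have : (p.2 : V) ∈ LinearMap.ker (T + LinearMap.id) := p.2.2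
      rw [LinearMap.mem_ker, LinearMap.add_apply, LinearMap.id_apply,
        add_eq_zero_iff_eq_neg] at this
      exact this
    simp only [LinearMap.comp_apply, LinearEquiv.coe_coe, LinearEquiv.symm_apply_apply, hD,
      LinearMap.prodMap_apply, LinearMap.id_apply, LinearMap.neg_apply]
    rw [he, Submodule.coe_prodEquivOfIsCompl', Submodule.coe_prodEquivOfIsCompl', map_add, hp1,
      hp2]
    rfl
  have hneg : (-(LinearMap.id : M →ₗ[F] M)) = (-1 : F) • (LinearMap.id : M →ₗ[F] M) := by
    apply LinearMap.ext
    intro x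
    rw [LinearMap.neg_apply, LinearMap.smul_apply, LinearMap.id_apply, neg_smul, one_smul]
  refine ⟨Module.finrank F P, Module.finrank F M, Submodule.finrank_add_eq_of_isCompl hc, ?_, ?_⟩
  · calc LinearMap.det T = LinearMap.det ((e : _ →ₗ[F] V) ∘ₗ D ∘ₗ (e.symm : V →ₗ[F] _)) :=
          congrArg _ hconj
      _ = (-1) ^ Module.finrank F M := by
        rw [LinearMap.det_conj, hD, LinearMap.det_prodMap, LinearMap.det_id, one_mul, hneg,
          LinearMap.det_smul, LinearMap.det_id, mul_one]
  · have hconj' : T = e.conj D := by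
      rw [hconj, LinearEquiv.conj_apply, LinearMap.comp_assoc]
    rw [hconj', LinearMap.trace_conj', hD, LinearMap.trace_prodMap', LinearMap.trace_id, map_neg,
      LinearMap.trace_id, sub_eq_add_neg]

end linear

universe u

variable {G : Type u} [Group G] [Finite G]

/-- in a perfect group every representation has determinant one -/
theorem det_eq_one_of_perfect {H : Type*} [Group H] (hperf : commutator H = ⊤) {V : Type*}
    [AddCommGroup V] [Module ℂ V] (ρ : Representation ℂ H V) (g : H) :
    LinearMap.det (ρ g) = 1 := by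
  set φ : H →* ℂ := (LinearMap.det : (V →ₗ[ℂ] V) →* ℂ).comp ρ with hφ
  have hker : commutator H ≤ φ.toHomUnits.ker := Abelianization.commutator_subset_ker _
  rw [hperf] at hker
  have hg : g ∈ φ.toHomUnits.ker := hker (Subgroup.mem_top g)
  rw [MonoidHom.mem_ker] at hg
  have := congrArg Units.val hg
  rw [MonoidHom.coe_toHomUnits, Units.val_one] at this
  exact this

/-- (C4) in a perfect group every involution has determinant one. -/
theorem perfect_involution_mod_four (hperf : commutator G = ⊤) (χ : G → ℂ) (hχ : IsCharacter G χ)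
    (t : G) (ht : t ^ 2 = 1) (d T : ℤ) (hd : χ 1 = (d : ℂ)) (hT : χ t = (T : ℂ)) :
    (4 : ℤ) ∣ d - T := by
  obtain ⟨n, ρ, rfl⟩ := hχ
  have hinv : ∀ v, ρ t (ρ t v) = v := by
    intro v
    rw [← Module.End.mul_apply, ← map_mul, ← pow_two, ht, map_one, Module.End.one_apply]
  obtain ⟨a, b, hab, hdet, htr⟩ := involution_det_trace (two_ne_zero) (ρ t) hinv
  rw [det_eq_one_of_perfect hperf ρ t] at hdet
  have hbe : Even b := by
    rw [← neg_one_pow_eq_one_iff_even (R := ℂ) (by norm_num)]
    exact hdet.symm
  obtain ⟨c, hc⟩ := hbe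
  -- `d = a + b`, `T = a - b`
  have hd' : ((a + b : ℕ) : ℂ) = (d : ℂ) := by
    rw [← hd, hab]
    simp only [Representation.character, map_one]
    rw [Module.End.one_eq_id, LinearMap.trace_id]
  have hT' : ((a : ℤ) - (b : ℤ) : ℂ) = (T : ℂ) := by
    rw [← hT]
    simp only [Representation.character]
    rw [htr]
    push_cast
    ring
  have hdz : ((a + b : ℕ) : ℤ) = d := by exact_mod_cast hd'
  have hTz : (a : ℤ) - (b : ℤ) = T := by exact_mod_cast hT'
  refine ⟨(c : ℤ), ?_⟩
  rw [← hdz, ← hTz, hc]
  push_cast
  ring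

end Cfsg.Agent.Helper55.D8
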