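import Cfsg.Agent.Helper55.DT_E5BCore
import Cfsg.Agent.Helper55.DT_E4C

/-!
# DT farm of helper16 (#13881), leaf (E5B)
-/

set_option autoImplicit false
set_option linter.unusedSectionVars false
set_option linter.unusedVariables false

namespace Cfsg.Agent.Helper55.DT

open Cfsg Cfsg.Agent.Helper16 Cfsg.Agent.Helper16.DT Polynomial Matrix

universe u v w

variable {p : ℕ} [Fact p.Prime] {M : Ideal AlgInt} [M.IsMaximal] {G : Type u} [Group G]

/-- (E5B) the function `g ↦ β(g_{p'})` attached to a matrix representation over the residue field restricts to a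
character on every elementary subgroup. -/
theorem isCharacter_theta_restrict (hpM : (p : AlgInt) ∈ M) [Fintype G] {n : ℕ}
    (ρ : G →* Matrix (Fin n) (Fin n) (AlgInt ⧸ M)) (E : Subgroup G) (q : ℕ) (hq : q.Prime)
    (hE : IsElementary q E) :
    IsCharacter E (fun e : E => brauerFull p M ρ ((pPartOf p (e : G))⁻¹ * (e : G))) :=
  isCharacter_theta_restrict_of
    (fun τ hτ => isCharacter_brauerFull_of_pPrime_image hpM τ hτ) ρ E q hq hE

end Cfsg.Agent.Helper55.DT
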