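import Cfsg.Agent.Helper16.DT.Defs
import Cfsg.Agent.S0901

/-!
# DT farm of helper16 (#13881), leaf (INb), core: the Brauer lift of a matrix is a local integer with residue the trace

`resC_bfull_of` is (INb) with the leaf (AC) (`IsAlgClosed (AlgInt ⧸ M)`) as an explicit hypothesis; the verbatim
leaf `resC_bfull` is in `DT_INb.lean`.
-/

set_option autoImplicit false
set_option linter.unusedSectionVars false
set_option linter.unusedVariables false

namespace Cfsg.Agent.Helper55.DT

open Cfsg Cfsg.Agent.Helper16 Cfsg.Agent.Helper16.DT Polynomial Matrix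

universe u v w

variable {p : ℕ} [Fact p.Prime] {M : Ideal AlgInt} [M.IsMaximal]

/-- the Teichmüller lift of a residue is a local integer with that residue -/
theorem INb_teich (hpM : (p : AlgInt) ∈ M) (y : AlgInt ⧸ M) :
    MemLocalRing M (teich p M y) ∧ resC M (teich p M y) = y := by
  classical
  by_cases hy : y = 0
  · subst hy
    have h0 : teich p M (0 : AlgInt ⧸ M) = 0 := by
      unfold teich
      rw [dif_neg]
      rintro ⟨x, ⟨m, hpm, hxm⟩, hx0⟩
      have hxM : x ∈ M := Ideal.Quotient.eq_zero_iff_mem.mp hx0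
      have hx1 : x ^ m = 1 := Subtype.ext (by push_cast; exact hxm)
      have hm0 : m ≠ 0 := by rintro rfl; exact hpm (dvd_zero p)
      have h1 : (1 : AlgInt) ∈ M := by
        rw [← hx1]
        exact Ideal.pow_mem_of_mem M hxM m (Nat.pos_of_ne_zero hm0)
      exact one_not_mem h1
    rw [h0]
    exact ⟨memLocalRing_zero, resC_zero⟩
  · have hex : ∃ x : AlgInt, IsPPrimeRoot p (x : ℂ) ∧ Ideal.Quotient.mk M x = y := by
      obtain ⟨a, rfl⟩ := Ideal.Quotient.mk_surjective y
      have haM : a ∉ M := fun h => hy (Ideal.Quotient.eq_zero_iff_mem.mpr h)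
      obtain ⟨ε, hε, hmem⟩ := (Cfsg.Agent.S0901.result p M ⟨Fact.out, inferInstance, hpM⟩).2 a haM
      exact ⟨ε, hε, (Ideal.Quotient.eq.mpr hmem).symm⟩
    unfold teich
    rw [dif_pos hex]
    obtain ⟨-, hmk⟩ := hex.choose_spec
    exact ⟨memLocalRing_algInt _, by rw [resC_algInt, hmk]⟩

/-- sums of Teichmüller lifts -/
theorem INb_sum (hpM : (p : AlgInt) ∈ M) (s : Multiset (AlgInt ⧸ M)) :
    MemLocalRing M ((s.map (teich p M)).sum) ∧ resC M ((s.map (teich p M)).sum) = s.sum := by
  induction s using Multiset.induction_on with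
  | empty =>
    rw [Multiset.map_zero, Multiset.sum_zero, Multiset.sum_zero]
    exact ⟨memLocalRing_zero, resC_zero⟩
  | cons a s ih =>
    rw [Multiset.map_cons, Multiset.sum_cons, Multiset.sum_cons]
    obtain ⟨h1, h2⟩ := INb_teich (p := p) hpM a
    exact ⟨memLocalRing_add h1 ih.1, by rw [resC_add h1 ih.1, h2, ih.2]⟩

/-- (INb), given that the residue field is algebraically closed (leaf (AC)) -/
theorem resC_bfull_of (hAC : IsAlgClosed (AlgInt ⧸ M)) (hpM : (p : AlgInt) ∈ M) {ι : Type w} [Fintype ι]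
    [DecidableEq ι] (A : Matrix ι ι (AlgInt ⧸ M)) :
    MemLocalRing M (bfull p M A) ∧ resC M (bfull p M A) = A.trace := by
  unfold bfull
  rw [Matrix.trace_eq_sum_roots_charpoly_of_splits (IsAlgClosed.splits A.charpoly)]
  exact INb_sum (p := p) hpM A.charpoly.roots

end Cfsg.Agent.Helper55.DT
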