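import Cfsg.Agent.Helper61.DihDefs

/-!
# S3616 (helper61), piece (FR2): powers in a "rank three" ring
-/

set_option autoImplicit false

namespace Cfsg.Agent.Helper55.Dih

open Cfsg.Agent.Helper61.Dih DihedralGroup Finset

theorem luc_zero (α β : ℤ) : luc α β 0 = (0, 1) := rfl

theorem luc_succ_fst (α β : ℤ) (n : ℕ) :
    (luc α β (n + 1)).1 = β * (luc α β n).1 + (luc α β n).2 := rfl

theorem luc_succ_snd (α β : ℤ) (n : ℕ) : (luc α β (n + 1)).2 = α * (luc α β n).1 := rfl

/-- (FR2) powers in a "rank three" ring -/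
theorem pow_eq_luc {R : Type*} [Ring R] (t J : R) (α β μ k : ℤ)
    (h1 : t * t = α • (1 : R) + β • t + μ • J) (h2 : t * J = k • J) (n : ℕ) :
    ∃ κ : ℤ, t ^ n = (luc α β n).1 • t + (luc α β n).2 • (1 : R) + κ • J := by
  induction n with
  | zero =>
    refine ⟨0, ?_⟩
    rw [luc_zero, pow_zero]
    simp
  | succ n ih =>
    obtain ⟨κ, hκ⟩ := ih
    refine ⟨(luc α β n).1 * μ + κ * k, ?_⟩
    rw [pow_succ', hκ, luc_succ_fst, luc_succ_snd]
    simp only [mul_add, mul_smul_comm, mul_one, h1, h2]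
    module

end Cfsg.Agent.Helper55.Dih
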