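import Cfsg.Agent.Helper61.DihDefs
import Cfsg.Agent.Helper55.DihFR2

/-!
# S3616 (helper61), piece (FR2b): the Lucas sequence at a prime
-/

set_option autoImplicit false

namespace Cfsg.Agent.Helper55.Dih

open Cfsg.Agent.Helper61.Dih DihedralGroup Finset

/-- evaluation at the two roots -/
theorem luc_root (s s' : ℤ) (n : ℕ) :
    (luc (-(s * s')) (s + s') n).1 * s + (luc (-(s * s')) (s + s') n).2 = s ^ n ∧
      (luc (-(s * s')) (s + s') n).1 * s' + (luc (-(s * s')) (s + s') n).2 = s' ^ n := by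
  induction n with
  | zero => simp [luc_zero]
  | succ n ih =>
    obtain ⟨h1, h2⟩ := ih
    rw [luc_succ_fst, luc_succ_snd]
    constructor
    · rw [pow_succ, ← h1]; ring
    · rw [pow_succ, ← h2]; ring

theorem luc_mul_sub (s s' : ℤ) (n : ℕ) :
    (luc (-(s * s')) (s + s') n).1 * (s - s') = s ^ n - s' ^ n := by
  obtain ⟨h1, h2⟩ := luc_root s s' n
  rw [← h1, ← h2]; ring

/-- the degenerate case, in any commutative ring -/
theorem luc_double {R : Type*} [CommRing R] (s s' : ℤ) (h : (s : R) = (s' : R)) (n : ℕ) :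
    (((luc (-(s * s')) (s + s') (n + 1)).1 : ℤ) : R) = ((n : R) + 1) * (s : R) ^ n ∧
      (((luc (-(s * s')) (s + s') (n + 1)).2 : ℤ) : R) = -((n : R) * (s : R) ^ (n + 1)) := by
  induction n with
  | zero =>
    rw [luc_succ_fst, luc_succ_snd, luc_zero]
    simp
  | succ n ih =>
    obtain ⟨h1, h2⟩ := ih
    constructor
    · rw [luc_succ_fst]
      push_cast
      rw [h1, h2, ← h]
      ring
    · rw [luc_succ_snd]
      push_cast
      rw [h1, ← h]
      ring

/-- (FR2b) the Lucas sequence at a prime -/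
theorem luc_fst_prime (s s' : ℤ) (q : ℕ) [Fact q.Prime] :
    (((luc (-(s * s')) (s + s') q).1 : ℤ) : ZMod q) = ((s - s' : ℤ) : ZMod q) ^ (q - 1) := by
  have hq : q.Prime := Fact.out
  have hq1 : q = (q - 1) + 1 := by have := hq.one_lt; omega
  by_cases h : ((s - s' : ℤ) : ZMod q) = 0
  · -- degenerate case
    have hss : ((s : ℤ) : ZMod q) = ((s' : ℤ) : ZMod q) := by
      push_cast at h
      exact sub_eq_zero.mp h
    rw [h, zero_pow (by have := hq.one_lt; omega)]
    have := (luc_double (R := ZMod q) s s' hss (q - 1)).1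
    rw [← hq1] at this
    rw [this]
    have hz : ((q - 1 : ℕ) : ZMod q) + 1 = 0 := by
      have : (((q - 1 : ℕ) + 1 : ℕ) : ZMod q) = 0 := by rw [← hq1]; exact ZMod.natCast_self q
      push_cast at this
      exact this
    rw [hz, zero_mul]
  · rw [ZMod.pow_card_sub_one_eq_one h]
    have h1 : (((luc (-(s * s')) (s + s') q).1 * (s - s') : ℤ) : ZMod q) =
        ((s ^ q - s' ^ q : ℤ) : ZMod q) := by rw [luc_mul_sub]
    push_cast at h1
    rw [ZMod.pow_card, ZMod.pow_card] at h1
    push_cast at h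
    have h2 : (((luc (-(s * s')) (s + s') q).1 : ℤ) : ZMod q) * ((s : ZMod q) - (s' : ZMod q)) =
        1 * ((s : ZMod q) - (s' : ZMod q)) := by rw [h1, one_mul]
    exact mul_right_cancel₀ h h2

end Cfsg.Agent.Helper55.Dih
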