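import Mathlib
import Cfsg.Agent.S0111
import Cfsg.Agent.Helper55.IsolatedDih

/-!
# Groups with a dihedral Sylow 2-subgroup: elementary fusion facts (helper55)

* facts on `DihedralGroup m` (`m` even): the central rotation `dz m`, involutions, the rotation `da m` of order 4;
* `isConj_of_three_dvd_relIndex`: if `3 ∣ |N(U):C(U)|` for a four-group `U`, its involutions are conjugate;
* for `φ : DihedralGroup m →* X` injective with range a Sylow 2-subgroup: involutions of `S`, Thompson transfer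
  consequences, the isolated-involution criterion.
-/

set_option autoImplicit false
set_option linter.unusedSectionVars false

namespace Cfsg.Agent.Helper55

section DihFacts

open DihedralGroup

variable {m : ℕ}

/-- the central rotation of `DihedralGroup m` (for even `m`) -/
def dz (m : ℕ) : DihedralGroup m := DihedralGroup.r ((m / 2 : ℕ) : ZMod m)

/-- the rotation of order four (for `4 ∣ m`) -/
def da (m : ℕ) : DihedralGroup m := DihedralGroup.r ((m / 4 : ℕ) : ZMod m)

theorem half_add_half (h2 : 2 ∣ m) : (((m / 2 : ℕ) : ZMod m)) + ((m / 2 : ℕ) : ZMod m) = 0 := by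
  rw [← Nat.cast_add]
  have : m / 2 + m / 2 = m := by omega
  rw [this, ZMod.natCast_self]

theorem quarter_add_quarter (h4 : 4 ∣ m) :
    (((m / 4 : ℕ) : ZMod m)) + ((m / 4 : ℕ) : ZMod m) = ((m / 2 : ℕ) : ZMod m) := by
  rw [← Nat.cast_add]
  have : m / 4 + m / 4 = m / 2 := by omega
  rw [this]

theorem half_ne_zero (hm : 2 ≤ m) : ((m / 2 : ℕ) : ZMod m) ≠ 0 := by
  intro h
  rw [ZMod.natCast_eq_zero_iff] at h
  have h1 : m / 2 < m := by omega
  have h2 : 0 < m / 2 := by omega
  exact absurd (Nat.le_of_dvd h2 h) (by omega)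

theorem dz_mul_self (h2 : 2 ∣ m) : dz m * dz m = 1 := by
  rw [dz, r_mul_r, half_add_half h2]; rfl

theorem dz_ne_one (hm : 2 ≤ m) : dz m ≠ 1 := by
  intro h
  rw [dz, one_def] at h
  exact half_ne_zero hm (r.inj h)

theorem orderOf_dz (hm : 2 ≤ m) (h2 : 2 ∣ m) : orderOf (dz m) = 2 :=
  orderOf_eq_prime (by rw [pow_two]; exact dz_mul_self h2) (dz_ne_one hm)

theorem dz_comm (h2 : 2 ∣ m) (d : DihedralGroup m) : d * dz m = dz m * d := by
  have h := half_add_half h2
  rcases d with i | i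
  · rw [dz, r_mul_r, r_mul_r, add_comm]
  · rw [dz, sr_mul_r, r_mul_sr]
    congr 1
    have : ((m / 2 : ℕ) : ZMod m) = -((m / 2 : ℕ) : ZMod m) := eq_neg_of_add_eq_zero_left h
    rw [sub_eq_add_neg, ← this]

theorem r_eq_dz_of_invol (hm : 2 ≤ m) (h2 : 2 ∣ m) (i : ZMod m) (h : r i * r i = 1) (h1 : r i ≠ (1 : DihedralGroup m)) :
    r i = dz m := by
  have : NeZero m := ⟨by omega⟩
  rw [r_mul_r, one_def] at h
  have hi : i + i = 0 := r.inj h
  have hi0 : i ≠ 0 := by
    intro h0; apply h1; rw [h0]; rfl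
  have hv : ((i.val + i.val : ℕ) : ZMod m) = 0 := by
    rw [Nat.cast_add, ZMod.natCast_zmod_val, hi]
  rw [ZMod.natCast_eq_zero_iff] at hv
  have hlt : i.val < m := ZMod.val_lt i
  have hv0 : i.val ≠ 0 := by
    intro h0; exact hi0 ((ZMod.val_eq_zero i).1 h0)
  obtain ⟨c, hc⟩ := hv
  have hc1 : c = 1 := by
    rcases c with _ | _ | c
    · omega
    · rfl
    · exfalso
      have : m * (c + 1 + 1) ≥ m * 2 := Nat.mul_le_mul_left m (by omega)
      omega
  rw [hc1, mul_one] at hc
  have hval : i.val = m / 2 := by omega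
  rw [dz, ← hval, ZMod.natCast_zmod_val]

theorem invol_cases (hm : 2 ≤ m) (h2 : 2 ∣ m) (d : DihedralGroup m) (h : d * d = 1) (h1 : d ≠ 1) :
    d = dz m ∨ ∃ j, d = sr j := by
  rcases d with i | i
  · exact Or.inl (r_eq_dz_of_invol hm h2 i h h1)
  · exact Or.inr ⟨i, rfl⟩

theorem sr_mul_dz (j : ZMod m) : sr j * dz m = sr (j + ((m / 2 : ℕ) : ZMod m)) := by
  rw [dz, sr_mul_r]

theorem da_conj_sr (h4 : 4 ∣ m) (j : ZMod m) : da m * sr j * (da m)⁻¹ = sr j * dz m := by
  have h2 : 2 ∣ m := Dvd.dvd.trans (by norm_num) h4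
  have hh := half_add_half h2
  have hq := quarter_add_quarter h4
  rw [sr_mul_dz, da, inv_r, r_mul_sr, sr_mul_r]
  congr 1
  have e1 : ((m / 2 : ℕ) : ZMod m) = -((m / 2 : ℕ) : ZMod m) := eq_neg_of_add_eq_zero_left hh
  rw [e1, ← hq]
  ring

theorem da_conj_dz (h2 : 2 ∣ m) : da m * dz m * (da m)⁻¹ = dz m := by
  rw [dz_comm h2 (da m), mul_assoc, mul_inv_cancel, mul_one]

theorem sr_ne_dz (j : ZMod m) : sr j ≠ dz m := by
  intro h; rw [dz] at h; cases h

theorem sr_mul_self' (j : ZMod m) : sr j * sr j = (1 : DihedralGroup m) := by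
  rw [sr_mul_sr, sub_self]; rfl

theorem sr_ne_one' (j : ZMod m) : sr j ≠ (1 : DihedralGroup m) := by
  intro h; rw [one_def] at h; cases h

/-- the rotation subgroup has index two -/
theorem index_zpowers_r_one (hm : 1 ≤ m) : (Subgroup.zpowers (r (1 : ZMod m))).index = 2 := by
  have : NeZero m := ⟨by omega⟩
  have h1 := Subgroup.card_mul_index (Subgroup.zpowers (r (1 : ZMod m)))
  rw [Nat.card_zpowers, orderOf_r_one, DihedralGroup.nat_card] at h1
  have hm0 : 0 < m := by omega
  have : m * (Subgroup.zpowers (r (1 : ZMod m))).index = m * 2 := by rw [h1]; ring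
  exact Nat.eq_of_mul_eq_mul_left hm0 this

end DihFacts

section KleinFourConj

variable {X : Type*} [Group X]

theorem conj_pow_fix {x a : X} (n : ℕ) (h : x * a * x⁻¹ = a) : x ^ n * a * (x ^ n)⁻¹ = a := by
  induction n with
  | zero => simp
  | succ k ih =>
    have e : x ^ (k + 1) * a * (x ^ (k + 1))⁻¹ = x ^ k * (x * a * x⁻¹) * (x ^ k)⁻¹ := by
      rw [pow_succ]; group
    rw [e, h, ih]

/-- If `3` divides `|N(U) : C(U)|` for a four-group `U`, the involutions of `U` are conjugate. -/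
theorem isConj_of_three_dvd_relIndex [Finite X] (U : Subgroup X) (hU : IsKleinFour U)
    (h3 : 3 ∣ (Subgroup.centralizer (U : Set X)).relIndex (Subgroup.normalizer (U : Set X))) :
    ∀ u ∈ U, ∀ v ∈ U, u ≠ 1 → v ≠ 1 → IsConj u v := by
  have hp3 : Fact (Nat.Prime 3) := ⟨Nat.prime_three⟩
  have hcard : Nat.card (Subgroup.normalizer (U : Set X) ⧸
      (Subgroup.centralizer (U : Set X)).subgroupOf (Subgroup.normalizer (U : Set X))) =
      (Subgroup.centralizer (U : Set X)).relIndex (Subgroup.normalizer (U : Set X)) := rfl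
  rw [← hcard] at h3
  obtain ⟨q, hq⟩ := exists_prime_orderOf_dvd_card' 3 h3
  obtain ⟨x', rfl⟩ := QuotientGroup.mk_surjective q
  obtain ⟨x, hxN'⟩ := x'
  have hx1 : x ∉ Subgroup.centralizer (U : Set X) := by
    intro hx
    have : (QuotientGroup.mk (⟨x, hxN'⟩ : Subgroup.normalizer (U : Set X)) :
        Subgroup.normalizer (U : Set X) ⧸
      (Subgroup.centralizer (U : Set X)).subgroupOf (Subgroup.normalizer (U : Set X))) = 1 := by
      rw [QuotientGroup.eq_one_iff, Subgroup.mem_subgroupOf]; exact hx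
    rw [this, orderOf_one] at hq
    omega
  have hx3 : x ^ 3 ∈ Subgroup.centralizer (U : Set X) := by
    have h := pow_orderOf_eq_one (QuotientGroup.mk (⟨x, hxN'⟩ : Subgroup.normalizer (U : Set X)) :
        Subgroup.normalizer (U : Set X) ⧸
      (Subgroup.centralizer (U : Set X)).subgroupOf (Subgroup.normalizer (U : Set X)))
    rw [hq, ← QuotientGroup.mk_pow, QuotientGroup.eq_one_iff, Subgroup.mem_subgroupOf] at h
    simpa using h
  have hxN : ∀ u, u ∈ U ↔ x * u * x⁻¹ ∈ U := fun u =>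
    Subgroup.mem_normalizer_iff.1 hxN' u
  have hinj : ∀ u v : X, x * u * x⁻¹ = x * v * x⁻¹ → u = v := fun u v h => by simpa using h
  -- an element moved by x
  have hmove : ∃ a ∈ U, x * a * x⁻¹ ≠ a := by
    by_contra hcon
    push Not at hcon
    apply hx1
    rw [Subgroup.mem_centralizer_iff]
    intro u hu
    exact (mul_inv_eq_iff_eq_mul.1 (hcon u hu)).symm
  obtain ⟨a, haU, hab⟩ := hmove
  obtain ⟨b, hb⟩ : ∃ b, b = x * a * x⁻¹ := ⟨_, rfl⟩
  obtain ⟨c, hc⟩ : ∃ c, c = x * b * x⁻¹ := ⟨_, rfl⟩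
  rw [← hb] at hab
  have hbU : b ∈ U := hb ▸ (hxN a).1 haU
  have hcU : c ∈ U := hc ▸ (hxN b).1 hbU
  have ha1 : a ≠ 1 := by
    intro h; apply hab; rw [hb, h]; simp
  have hb1 : b ≠ 1 := by
    intro h; apply ha1
    apply hinj
    rw [← hb, h]; simp
  have hc1 : c ≠ 1 := by
    intro h; apply hb1
    apply hinj
    rw [← hc, h]; simp
  have hcb : c ≠ b := by
    intro h; apply hab
    apply hinj
    rw [← hc, ← hb, h]
  have hca : c ≠ a := by
    intro h
    -- x^2 fixes a, x^3 fixes a, so x fixes a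
    have h2 : x ^ 2 * a * (x ^ 2)⁻¹ = a := by
      have : x ^ 2 * a * (x ^ 2)⁻¹ = x * (x * a * x⁻¹) * x⁻¹ := by
        rw [pow_two, mul_inv_rev]; simp only [mul_assoc]
      rw [this, ← hb, ← hc, h]
    have h3' : x ^ 3 * a * (x ^ 3)⁻¹ = a := by
      rw [Subgroup.mem_centralizer_iff] at hx3
      exact mul_inv_eq_iff_eq_mul.2 (hx3 a haU).symm
    apply hab
    have h2' : (x ^ 2)⁻¹ * a * (x ^ 2) = a := by
      nth_rewrite 1 [← h2]; simp only [mul_assoc, inv_mul_cancel_left, inv_mul_cancel, mul_one]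
    rw [hb]
    calc x * a * x⁻¹
        = (x ^ 2)⁻¹ * (x ^ 3 * a * (x ^ 3)⁻¹) * (x ^ 2) := by
          rw [pow_succ x 2, mul_inv_rev]
          simp only [mul_assoc, inv_mul_cancel_left, inv_mul_cancel, mul_one]
      _ = a := by rw [h3', h2']
  have hUab : ∀ u ∈ U, u ≠ 1 → u = a ∨ u = b ∨ u = c := by
    intro u hu hu1
    by_contra hcon
    push Not at hcon
    obtain ⟨hua, hub, huc⟩ := hcon
    have e1 : (⟨u, hu⟩ : U) = ⟨a, haU⟩ * ⟨b, hbU⟩ :=
      IsKleinFour.eq_mul_of_ne_all (x := (⟨a, haU⟩ : U)) (y := ⟨b, hbU⟩) (z := ⟨u, hu⟩)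
        (fun h => ha1 (Subtype.ext_iff.1 h)) (fun h => hb1 (Subtype.ext_iff.1 h))
        (fun h => hab (Subtype.ext_iff.1 h).symm) (fun h => hu1 (Subtype.ext_iff.1 h))
        (fun h => hua (Subtype.ext_iff.1 h)) (fun h => hub (Subtype.ext_iff.1 h))
    have e2 : (⟨c, hcU⟩ : U) = ⟨a, haU⟩ * ⟨b, hbU⟩ :=
      IsKleinFour.eq_mul_of_ne_all (x := (⟨a, haU⟩ : U)) (y := ⟨b, hbU⟩) (z := ⟨c, hcU⟩)
        (fun h => ha1 (Subtype.ext_iff.1 h)) (fun h => hb1 (Subtype.ext_iff.1 h))
        (fun h => hab (Subtype.ext_iff.1 h).symm) (fun h => hc1 (Subtype.ext_iff.1 h))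
        (fun h => hca (Subtype.ext_iff.1 h)) (fun h => hcb (Subtype.ext_iff.1 h))
    apply huc
    have := e1.trans e2.symm
    exact Subtype.ext_iff.1 this
  have hab' : IsConj a b := isConj_iff.2 ⟨x, hb.symm⟩
  have hbc' : IsConj b c := isConj_iff.2 ⟨x, hc.symm⟩
  have hall : ∀ u ∈ U, u ≠ 1 → IsConj a u := by
    intro u hu hu1
    rcases hUab u hu hu1 with rfl | rfl | rfl
    · exact IsConj.refl _
    · exact hab'
    · exact hab'.trans hbc'
  intro u hu v hv hu1 hv1
  exact (hall u hu hu1).symm.trans (hall v hv hv1)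

end KleinFourConj


section FourSub

variable {G : Type*} [Group G]

theorem card_subtype_eq_four' {α : Type*} (p : α → Prop) (a b c d : α) (hab : a ≠ b) (hac : a ≠ c)
    (had : a ≠ d) (hbc : b ≠ c) (hbd : b ≠ d) (hcd : c ≠ d)
    (h : ∀ e, p e ↔ e = a ∨ e = b ∨ e = c ∨ e = d) : Nat.card {e // p e} = 4 := by
  have : {e | p e} = ({a, b, c, d} : Set α) := by
    ext e
    simp only [Set.mem_ofPred_eq, Set.mem_insert_iff, Set.mem_singleton_iff]
    exact h e
  have h2 : Nat.card {e // p e} = Set.ncard {e | p e} := rfl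
  rw [h2, this, Set.ncard_insert_of_notMem, Set.ncard_eq_three.mpr ⟨b, c, d, hbc, hbd, hcd, rfl⟩]
  simp only [Set.mem_insert_iff, Set.mem_singleton_iff, not_or]
  exact ⟨hab, hac, had⟩

/-- `{1, a, c, ac}` for commuting involutions `a`, `c` (same construction as `Helper20.fourSub`). -/
def kSub (a c : G) (ha : a * a = 1) (hc : c * c = 1) (hac : a * c = c * a) : Subgroup G where
  carrier := {s | s = 1 ∨ s = a ∨ s = c ∨ s = a * c}
  one_mem' := Or.inl rfl
  mul_mem' := by
    rintro s t (rfl | rfl | rfl | rfl) (rfl | rfl | rfl | rfl)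
    · left; rw [one_mul]
    · right; left; rw [one_mul]
    · right; right; left; rw [one_mul]
    · right; right; right; rw [one_mul]
    · right; left; rw [mul_one]
    · left; exact ha
    · right; right; right; rfl
    · right; right; left; rw [← mul_assoc, ha, one_mul]
    · right; right; left; rw [mul_one]
    · right; right; right; exact hac.symm
    · left; exact hc
    · right; left; rw [← mul_assoc, ← hac, mul_assoc, hc, mul_one]
    · right; right; right; rw [mul_one]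
    · right; right; left; rw [hac, mul_assoc, ha, mul_one]
    · right; left; rw [mul_assoc, hc, mul_one]
    · left; rw [mul_assoc, ← mul_assoc c, ← hac, mul_assoc, hc, mul_one, ha]
  inv_mem' := by
    rintro s (rfl | rfl | rfl | rfl)
    · left; exact inv_one
    · right; left; exact inv_eq_of_mul_eq_one_right ha
    · right; right; left; exact inv_eq_of_mul_eq_one_right hc
    · right; right; right
      apply inv_eq_of_mul_eq_one_right
      rw [mul_assoc, ← mul_assoc c, ← hac, mul_assoc, hc, mul_one, ha]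

theorem mem_kSub (a c : G) (ha : a * a = 1) (hc : c * c = 1) (hac : a * c = c * a) (s : G) :
    s ∈ kSub a c ha hc hac ↔ s = 1 ∨ s = a ∨ s = c ∨ s = a * c := Iff.rfl

theorem card_kSub (a c : G) (ha : a * a = 1) (hc : c * c = 1) (hac : a * c = c * a)
    (ha1 : a ≠ 1) (hc1 : c ≠ 1) (hne : a ≠ c) : Nat.card (kSub a c ha hc hac) = 4 := by
  have hci : c⁻¹ = c := inv_eq_of_mul_eq_one_right hc
  apply card_subtype_eq_four' (fun s => s ∈ kSub a c ha hc hac) 1 a c (a * c) ha1.symm hc1.symm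
  · intro h
    apply hne
    rw [eq_inv_of_mul_eq_one_left h.symm, hci]
  · exact hne
  · intro h
    exact hc1 (mul_eq_left.mp h.symm)
  · intro h
    exact ha1 (mul_eq_right.mp h.symm)
  · intro s; rfl

theorem isKleinFour_kSub (a c : G) (ha : a * a = 1) (hc : c * c = 1) (hac : a * c = c * a)
    (ha1 : a ≠ 1) (hc1 : c ≠ 1) (hne : a ≠ c) : IsKleinFour (kSub a c ha hc hac) := by
  refine ⟨card_kSub a c ha hc hac ha1 hc1 hne, ?_⟩
  have hsq : ∀ t : kSub a c ha hc hac, t * t = 1 := by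
    rintro ⟨s, hs⟩
    apply Subtype.ext
    show s * s = 1
    rcases hs with rfl | rfl | rfl | rfl
    · rw [one_mul]
    · exact ha
    · exact hc
    · rw [mul_assoc, ← mul_assoc c, ← hac, mul_assoc, hc, mul_one, ha]
  have hdvd : Monoid.exponent (kSub a c ha hc hac) ∣ 2 :=
    Monoid.exponent_dvd_of_forall_pow_eq_one (fun t => by rw [pow_two]; exact hsq t)
  have hne1 : Monoid.exponent (kSub a c ha hc hac) ≠ 1 := by
    intro h
    have h1 := Monoid.exp_eq_one_iff.mp h
    have h2 : Nat.card (kSub a c ha hc hac) = 1 := Nat.card_eq_one_iff_unique.mpr ⟨h1, ⟨1⟩⟩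
    have := card_kSub a c ha hc hac ha1 hc1 hne
    omega
  rcases (Nat.dvd_prime Nat.prime_two).mp hdvd with h | h
  · exact absurd h hne1
  · exact h

theorem kSub_le (a c : G) (ha : a * a = 1) (hc : c * c = 1) (hac : a * c = c * a) (T : Subgroup G)
    (haT : a ∈ T) (hcT : c ∈ T) : kSub a c ha hc hac ≤ T := by
  rintro s (rfl | rfl | rfl | rfl)
  · exact T.one_mem
  · exact haT
  · exact hcT
  · exact T.mul_mem haT hcT

end FourSub

section XSide

open DihedralGroup

variable {X : Type*} [Group X] [Finite X] (S : Sylow 2 X) {m : ℕ} (φ : DihedralGroup m →* X)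

/-- The embedding of `DihedralGroup m` attached to an isomorphism with a Sylow subgroup. -/
def sylowEmb (e : (S : Subgroup X) ≃* DihedralGroup m) : DihedralGroup m →* X :=
  (S : Subgroup X).subtype.comp e.symm.toMonoidHom

theorem sylowEmb_injective (e : (S : Subgroup X) ≃* DihedralGroup m) :
    Function.Injective (sylowEmb S e) := by
  intro a b hab
  have : (e.symm a : X) = (e.symm b : X) := hab
  exact e.symm.injective (Subtype.ext this)

theorem sylowEmb_range (e : (S : Subgroup X) ≃* DihedralGroup m) :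
    (sylowEmb S e).range = (S : Subgroup X) := by
  ext x
  constructor
  · rintro ⟨a, rfl⟩
    exact (e.symm a).2
  · intro hx
    refine ⟨e ⟨x, hx⟩, ?_⟩
    show ((e.symm (e ⟨x, hx⟩) : S) : X) = x
    rw [MulEquiv.symm_apply_apply]

variable {S φ}

theorem mem_sylow_iff_exists (hr : φ.range = (S : Subgroup X)) (x : X) :
    x ∈ (S : Subgroup X) ↔ ∃ d, φ d = x := by
  rw [← hr]; exact MonoidHom.mem_range

theorem card_sylow_eq (hm : 1 ≤ m) (hφ : Function.Injective φ) (hr : φ.range = (S : Subgroup X)) :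
    Nat.card (S : Subgroup X) = 2 * m := by
  have : NeZero m := ⟨by omega⟩
  rw [← hr, ← DihedralGroup.nat_card (n := m)]
  exact (Nat.card_congr (MonoidHom.ofInjective hφ).toEquiv).symm

/-- `m = 2` or `4 ∣ m`. -/
theorem two_or_four_dvd (hm : 2 ≤ m) (hφ : Function.Injective φ)
    (hr : φ.range = (S : Subgroup X)) : m = 2 ∨ 4 ∣ m := by
  have hp2 : Fact (Nat.Prime 2) := ⟨Nat.prime_two⟩
  obtain ⟨k, hk⟩ := S.2.exists_card_eq
  rw [card_sylow_eq (by omega) hφ hr] at hk
  rcases k with _ | _ | _ | k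
  · omega
  · omega
  · left; omega
  · right
    refine ⟨2 ^ k, ?_⟩
    have : 2 ^ (k + 1 + 1 + 1) = 2 * (4 * 2 ^ k) := by ring
    omega

theorem two_dvd_of_sylow (hm : 2 ≤ m) (hφ : Function.Injective φ)
    (hr : φ.range = (S : Subgroup X)) : 2 ∣ m := by
  rcases two_or_four_dvd hm hφ hr with h | h
  · rw [h]
  · exact Dvd.dvd.trans (by norm_num) h

theorem orderOf_phi_dz (hm : 2 ≤ m) (h2 : 2 ∣ m) (hφ : Function.Injective φ) :
    orderOf (φ (dz m)) = 2 := by
  rw [orderOf_injective φ hφ, orderOf_dz hm h2]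

theorem orderOf_phi_sr (hφ : Function.Injective φ) (j : ZMod m) :
    orderOf (φ (sr j)) = 2 := by
  rw [orderOf_injective φ hφ, DihedralGroup.orderOf_sr]

theorem phi_dz_mem (hr : φ.range = (S : Subgroup X)) : φ (dz m) ∈ (S : Subgroup X) :=
  (mem_sylow_iff_exists hr _).2 ⟨_, rfl⟩

theorem phi_dz_comm (h2 : 2 ∣ m) (hr : φ.range = (S : Subgroup X)) (s : X)
    (hs : s ∈ (S : Subgroup X)) : s * φ (dz m) = φ (dz m) * s := by
  obtain ⟨d, rfl⟩ := (mem_sylow_iff_exists hr s).1 hs
  rw [← map_mul, ← map_mul, dz_comm h2]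

theorem invol_in_sylow (hm : 2 ≤ m) (h2 : 2 ∣ m) (hφ : Function.Injective φ)
    (hr : φ.range = (S : Subgroup X)) (t : X) (htS : t ∈ (S : Subgroup X)) (ht : orderOf t = 2) :
    t = φ (dz m) ∨ ∃ j, t = φ (sr j) := by
  obtain ⟨d, rfl⟩ := (mem_sylow_iff_exists hr t).1 htS
  rw [orderOf_injective φ hφ] at ht
  have hd1 : d ≠ 1 := by
    intro h; rw [h, orderOf_one] at ht; omega
  have hdd : d * d = 1 := by
    rw [← pow_two, ← ht]; exact pow_orderOf_eq_one d
  rcases invol_cases hm h2 d hdd hd1 with h | ⟨j, h⟩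
  · left; rw [h]
  · right; exact ⟨j, by rw [h]⟩

/-- Every involution is conjugate into the Sylow 2-subgroup. -/
theorem exists_conj_mem_sylow_of_orderOf_two (S : Sylow 2 X) (t : X) (ht : orderOf t = 2) :
    ∃ g : X, g * t * g⁻¹ ∈ (S : Subgroup X) := by
  have hp2 : Fact (Nat.Prime 2) := ⟨Nat.prime_two⟩
  have hzp : IsPGroup 2 (Subgroup.zpowers t) :=
    IsPGroup.of_card (n := 1) (by rw [Nat.card_zpowers, ht, pow_one])
  obtain ⟨Q, hQ⟩ := hzp.exists_le_sylow
  obtain ⟨g, hg⟩ := MulAction.exists_smul_eq X Q S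
  refine ⟨g, ?_⟩
  have h1 : t ∈ (Q : Subgroup X) := hQ (Subgroup.mem_zpowers t)
  have h2 : g * t * g⁻¹ ∈ ((g • Q : Sylow 2 X) : Subgroup X) := by
    rw [Sylow.coe_subgroup_smul]
    exact ⟨t, h1, rfl⟩
  rwa [hg] at h2

/-- **Thompson transfer for a dihedral Sylow 2-subgroup**: if `X` has no subgroup of index 2, every
reflection is conjugate to the central rotation. -/
theorem isConj_sr_dz_of_no_index_two (hm : 2 ≤ m) (h2 : 2 ∣ m) (hφ : Function.Injective φ)
    (hr : φ.range = (S : Subgroup X)) (hno : ∀ H : Subgroup X, H.index ≠ 2) (j : ZMod m) :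
    IsConj (φ (sr j)) (φ (dz m)) := by
  obtain ⟨Q, hQ⟩ : ∃ Q : Subgroup X, Q = (Subgroup.zpowers (r (1 : ZMod m))).map φ := ⟨_, rfl⟩
  have hQS : Q ≤ (S : Subgroup X) := by
    rw [← hr, hQ]; exact Subgroup.map_le_range φ _
  have hidx : Q.relIndex (S : Subgroup X) = 2 := by
    rw [← hr, MonoidHom.range_eq_map, hQ, Subgroup.relIndex_map_map_of_injective _ _ hφ,
      Subgroup.relIndex_top_right, index_zpowers_r_one (by omega)]
  have huQ : φ (sr j) ∉ Q := by
    intro hmem
    rw [hQ, Subgroup.mem_map] at hmem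
    obtain ⟨k, hk, hkm⟩ := hmem
    rw [hφ hkm] at hk
    exact sr_notMem_zpowers_r_one j hk
  rcases Cfsg.Agent.S0111.result S Q hQS hidx (φ (sr j)) (orderOf_phi_sr hφ j)
    ((mem_sylow_iff_exists hr _).2 ⟨_, rfl⟩) huQ with ⟨N, -, hNi, -⟩ | ⟨g, hg⟩
  · exact absurd hNi (hno N)
  · rw [hQ, Subgroup.mem_map] at hg
    obtain ⟨d, hd, hdg⟩ := hg
    have ho : orderOf (g * φ (sr j) * g⁻¹) = 2 := by
      rw [orderOf_conj_eq, orderOf_phi_sr hφ j]
    rw [← hdg, orderOf_injective φ hφ] at ho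
    obtain ⟨k, rfl⟩ := Subgroup.mem_zpowers_iff.1 hd
    rw [r_zpow, one_mul] at ho hdg
    have hd1 : r (k : ZMod m) ≠ (1 : DihedralGroup m) := by
      intro h; rw [h, orderOf_one] at ho; omega
    have hdd : r (k : ZMod m) * r (k : ZMod m) = (1 : DihedralGroup m) := by
      rw [← pow_two, ← ho]; exact pow_orderOf_eq_one _
    have := r_eq_dz_of_invol hm h2 _ hdd hd1
    rw [this] at hdg
    exact isConj_iff.2 ⟨g, hdg.symm⟩

end XSide

end Cfsg.Agent.Helper55
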