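import Mathlib
import Cfsg.Agent.Helper55.DihSylow
import Cfsg.Prelude.Def_Transfer

/-!
# Dihedral Sylow 2-subgroups: four-group normalizers and isolation (helper55)

* `exists_conj_mem_of_le'`: Sylow's theorem inside a subgroup containing a Sylow subgroup;
* `hasNormalPComplement_two_of_odd_of_index`;
* `isolated_of_four_group_normalizers`: if `N(U) = C(U)(S ∩ N(U))` for all four-groups `U ≤ S`
  (`S` dihedral of order at least 8), the central involution of `S` is isolated.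
-/

set_option autoImplicit false
set_option linter.unusedSectionVars false

namespace Cfsg.Agent.Helper55

section More

open DihedralGroup
open scoped Pointwise

variable {X : Type*} [Group X] [Finite X]

/-- Sylow's theorem inside a subgroup `C` containing the Sylow subgroup `S`. -/
theorem exists_conj_mem_of_le' {p : ℕ} [Fact p.Prime] (S : Sylow p X) (C P : Subgroup X)
    (hSC : (S : Subgroup X) ≤ C) (hPC : P ≤ C) (hP : IsPGroup p P) :
    ∃ c ∈ C, ∀ x ∈ P, c⁻¹ * x * c ∈ (S : Subgroup X) := by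
  have hP' : IsPGroup p (P.subgroupOf C) :=
    hP.comap_of_injective C.subtype C.subtype_injective
  obtain ⟨Q, hQ⟩ := hP'.exists_le_sylow
  obtain ⟨c, hc⟩ := MulAction.exists_smul_eq C (S.subtype hSC) Q
  refine ⟨c, c.2, ?_⟩
  intro x hx
  have h1 : (⟨x, hPC hx⟩ : C) ∈ P.subgroupOf C := by
    rw [Subgroup.mem_subgroupOf]; exact hx
  have h2 := hQ h1
  rw [← hc, Sylow.smul_subtype hSC c] at h2
  have h3 : (⟨x, hPC hx⟩ : C) ∈ ((c • S : Sylow p X) : Subgroup X).subgroupOf C := by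
    have := Sylow.coe_subtype (P := (c • S : Sylow p X)) (N := C) (Sylow.smul_le hSC c)
    rw [← this]
    exact h2
  rw [Subgroup.mem_subgroupOf] at h3
  have h4 : x ∈ MulAut.conj (c : X) • (S : Subgroup X) := h3
  rw [Subgroup.mem_pointwise_smul_iff_inv_smul_mem] at h4
  simpa [MulAut.smul_def, mul_assoc] using h4

theorem mem_smul_sylow_iff {p : ℕ} (g : X) (S : Sylow p X) (y : X) :
    y ∈ ((g • S : Sylow p X) : Subgroup X) ↔ g⁻¹ * y * g ∈ (S : Subgroup X) := by
  have h4 : y ∈ ((g • S : Sylow p X) : Subgroup X) ↔ y ∈ MulAut.conj g • (S : Subgroup X) := Iff.rfl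
  rw [h4, Subgroup.mem_pointwise_smul_iff_inv_smul_mem]
  simp [MulAut.smul_def, mul_assoc]

/-- From a normal subgroup of odd order and 2-power index to `HasNormalPComplement 2`. -/
theorem hasNormalPComplement_two_of_odd_of_index {K : Subgroup X} (hK : K.Normal)
    (hodd : Odd (Nat.card K)) (hidx : ∃ k : ℕ, K.index = 2 ^ k) : Cfsg.HasNormalPComplement 2 X := by
  have hp2 : Fact (Nat.Prime 2) := ⟨Nat.prime_two⟩
  obtain ⟨k, hk⟩ := hidx
  obtain ⟨P⟩ : Nonempty (Sylow 2 X) := inferInstance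
  refine ⟨P, K, hK, ?_⟩
  have hcop : Nat.Coprime (Nat.card K) (2 ^ k) := by
    apply Nat.Coprime.pow_right
    exact (Nat.coprime_two_right.2 hodd)
  have hcard : Nat.card K * 2 ^ k = Nat.card X := by rw [← hk]; exact K.card_mul_index
  have hP : Nat.card (P : Subgroup X) = 2 ^ k := by
    rw [Sylow.card_eq_multiplicity, ← hcard]
    congr 1
    rw [Nat.factorization_mul (Nat.card_pos.ne') (by positivity)]
    have h1 : (Nat.card K).factorization 2 = 0 := by
      apply Nat.factorization_eq_zero_of_not_dvd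
      rw [← even_iff_two_dvd, Nat.not_even_iff_odd]; exact hodd
    simp [h1, Nat.Prime.factorization_self Nat.prime_two]
  apply Subgroup.isComplement'_of_coprime
  · rw [hP]; exact hcard
  · rw [hP]; exact hcop

variable {S : Sylow 2 X} {m : ℕ} {φ : DihedralGroup m →* X}

theorem kSub_isPGroup {a c : X} (ha : a * a = 1) (hc : c * c = 1) (hac : a * c = c * a)
    (ha1 : a ≠ 1) (hc1 : c ≠ 1) (hne : a ≠ c) : IsPGroup 2 (kSub a c ha hc hac) :=
  IsPGroup.of_card (n := 2) (by rw [card_kSub a c ha hc hac ha1 hc1 hne]; norm_num)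

/-- Step B: under the four-group normalizer hypothesis, no conjugate of the central involution `z`
lies in `S` except `z` itself. -/
theorem no_conj_in_sylow (hm : 2 ≤ m) (h4 : 4 ∣ m) (hφ : Function.Injective φ)
    (hr : φ.range = (S : Subgroup X))
    (hyp : ∀ U : Subgroup X, U ≤ S → IsKleinFour U → Subgroup.normalizer (U : Set X) =
      Subgroup.centralizer (U : Set X) ⊔ ((S : Subgroup X) ⊓ Subgroup.normalizer (U : Set X)))
    (g₁ : X) (htS : g₁ * φ (dz m) * g₁⁻¹ ∈ (S : Subgroup X)) :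
    g₁ * φ (dz m) * g₁⁻¹ = φ (dz m) := by
  have hp2 : Fact (Nat.Prime 2) := ⟨Nat.prime_two⟩
  have h2 : 2 ∣ m := Dvd.dvd.trans (by norm_num) h4
  by_contra hne
  obtain ⟨z, hz⟩ : ∃ z, z = φ (dz m) := ⟨_, rfl⟩
  obtain ⟨t, ht⟩ : ∃ t, t = g₁ * z * g₁⁻¹ := ⟨_, rfl⟩
  rw [← hz] at htS hne
  rw [← ht] at htS hne
  have hzo : orderOf z = 2 := hz ▸ orderOf_phi_dz hm h2 hφ
  have hzS : z ∈ (S : Subgroup X) := hz ▸ phi_dz_mem hr
  have hzc : ∀ s ∈ (S : Subgroup X), s * z = z * s := fun s hs => hz ▸ phi_dz_comm h2 hr s hs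
  have hto : orderOf t = 2 := by rw [ht, orderOf_conj_eq, hzo]
  have hzz : z * z = 1 := by rw [← pow_two, ← hzo]; exact pow_orderOf_eq_one z
  have htt : t * t = 1 := by rw [← pow_two, ← hto]; exact pow_orderOf_eq_one t
  have hz1 : z ≠ 1 := by intro h; rw [h, orderOf_one] at hzo; omega
  have ht1 : t ≠ 1 := by intro h; rw [h, orderOf_one] at hto; omega
  have hzt : z * t = t * z := (hzc t htS).symm
  have hnezt : z ≠ t := fun h => hne h.symm
  -- the four-group U = {1, z, t, zt}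
  have hK := isKleinFour_kSub z t hzz htt hzt hz1 ht1 hnezt
  have hUS : kSub z t hzz htt hzt ≤ (S : Subgroup X) := kSub_le _ _ _ _ _ _ hzS htS
  -- S₁ = g₁ • S is a Sylow 2-subgroup of C(t)
  have hS1 : ((g₁ • S : Sylow 2 X) : Subgroup X) ≤ Subgroup.centralizer ({t} : Set X) := by
    intro y hy
    rw [mem_smul_sylow_iff] at hy
    rw [mem_centralizer_iff_conj, ht]
    have := hzc _ hy
    have e : y * (g₁ * z * g₁⁻¹) * y⁻¹ = g₁ * ((g₁⁻¹ * y * g₁) * z * (g₁⁻¹ * y * g₁)⁻¹) * g₁⁻¹ := by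
      group
    rw [e, this]; group
  have hUC : kSub z t hzz htt hzt ≤ Subgroup.centralizer ({t} : Set X) := by
    apply kSub_le
    · rw [mem_centralizer_iff_conj, hzt]; group
    · exact Subgroup.mem_centralizer_singleton_iff.2 rfl
  obtain ⟨c₁, hc₁C, hc₁⟩ := exists_conj_mem_of_le' (g₁ • S) _ _ hS1 hUC
    (kSub_isPGroup hzz htt hzt hz1 ht1 hnezt)
  -- h = g₁⁻¹ c₁⁻¹ maps U into S, t to z
  obtain ⟨h, hh⟩ : ∃ h, h = g₁⁻¹ * c₁⁻¹ := ⟨_, rfl⟩
  have hmap : ∀ x ∈ kSub z t hzz htt hzt, h * x * h⁻¹ ∈ (S : Subgroup X) := by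
    intro x hx
    have := hc₁ x hx
    rw [mem_smul_sylow_iff] at this
    have e : h * x * h⁻¹ = g₁⁻¹ * (c₁⁻¹ * x * c₁) * g₁ := by rw [hh]; group
    rw [e]; exact this
  have hht : h * t * h⁻¹ = z := by
    have hct : c₁ * t * c₁⁻¹ = t := mem_centralizer_iff_conj.1 hc₁C
    have hct' : c₁⁻¹ * t * c₁ = t := by
      nth_rewrite 1 [← hct]; group
    have e : h * t * h⁻¹ = g₁⁻¹ * (c₁⁻¹ * t * c₁) * g₁ := by rw [hh]; group
    rw [e, hct', ht]; group
  obtain ⟨t', ht'⟩ : ∃ t', t' = h * z * h⁻¹ := ⟨_, rfl⟩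
  have ht'S : t' ∈ (S : Subgroup X) := ht' ▸ hmap z (Or.inr (Or.inl rfl))
  have ht'o : orderOf t' = 2 := by rw [ht', orderOf_conj_eq, hzo]
  have ht'z : t' ≠ z := by
    intro hcon
    have e : h * z * h⁻¹ = h * t * h⁻¹ := by rw [← ht', hcon, hht]
    have : z = t := by simpa using e
    exact hnezt this
  obtain ⟨j, hj⟩ : ∃ j, t' = φ (sr j) := by
    rcases invol_in_sylow hm h2 hφ hr t' ht'S ht'o with h | h
    · exact absurd (h.trans hz.symm) ht'z
    · exact h
  obtain ⟨a', ha'⟩ : ∃ a', a' = φ (da m) := ⟨_, rfl⟩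
  have ha't : a' * t' * a'⁻¹ = t' * z := by
    rw [ha', hj, hz, ← map_inv, ← map_mul, ← map_mul, ← map_mul, da_conj_sr h4]
  have ha'z : a' * z * a'⁻¹ = z := by
    rw [ha', hz, ← map_inv, ← map_mul, ← map_mul, da_conj_dz h2]
  obtain ⟨n, hn⟩ : ∃ n, n = h⁻¹ * a' * h := ⟨_, rfl⟩
  have hinv1 : h⁻¹ * t' * h = z := by rw [ht']; group
  have hinv2 : h⁻¹ * z * h = t := by
    have : h⁻¹ * (h * t * h⁻¹) * h = t := by group
    rwa [hht] at this
  have hnz : n * z * n⁻¹ = z * t := by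
    have e : n * z * n⁻¹ = h⁻¹ * (a' * (h * z * h⁻¹) * a'⁻¹) * h := by rw [hn]; group
    have e2 : h⁻¹ * (t' * z) * h = (h⁻¹ * t' * h) * (h⁻¹ * z * h) := by group
    rw [e, ← ht', ha't, e2, hinv1, hinv2]
  have hnt : n * t * n⁻¹ = t := by
    have e : n * t * n⁻¹ = h⁻¹ * (a' * (h * t * h⁻¹) * a'⁻¹) * h := by rw [hn]; group
    rw [e, hht, ha'z, hinv2]
  have hnN : n ∈ Subgroup.normalizer ((kSub z t hzz htt hzt : Subgroup X) : Set X) := by
    apply Subgroup.mem_normalizer_fintype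
    rintro x (rfl | rfl | rfl | rfl)
    · left; group
    · right; right; right; exact hnz
    · right; right; left; exact hnt
    · right; left
      have e : n * (z * t) * n⁻¹ = (n * z * n⁻¹) * (n * t * n⁻¹) := by group
      rw [e, hnz, hnt, mul_assoc, htt, mul_one]
  rw [hyp _ hUS hK] at hnN
  have hle : Subgroup.centralizer ((kSub z t hzz htt hzt : Subgroup X) : Set X) ⊔
      ((S : Subgroup X) ⊓ Subgroup.normalizer ((kSub z t hzz htt hzt : Subgroup X) : Set X)) ≤
      Subgroup.centralizer ({z} : Set X) := by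
    apply sup_le
    · apply Subgroup.centralizer_le
      intro x hx
      rw [Set.mem_singleton_iff] at hx
      rw [hx]; exact Or.inr (Or.inl rfl)
    · intro s hs
      rw [mem_centralizer_iff_conj, hzc s hs.1]; group
  have := mem_centralizer_iff_conj.1 (hle hnN)
  rw [hnz] at this
  exact ht1 (mul_eq_left.1 this)

/-- Step A: under the four-group normalizer hypothesis the central involution of `S` is isolated. -/
theorem isolated_of_four_group_normalizers (hm : 2 ≤ m) (h4 : 4 ∣ m) (hφ : Function.Injective φ)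
    (hr : φ.range = (S : Subgroup X))
    (hyp : ∀ U : Subgroup X, U ≤ S → IsKleinFour U → Subgroup.normalizer (U : Set X) =
      Subgroup.centralizer (U : Set X) ⊔ ((S : Subgroup X) ⊓ Subgroup.normalizer (U : Set X)))
    (g : X) (hcomm : Commute (φ (dz m)) (g * φ (dz m) * g⁻¹)) :
    g * φ (dz m) * g⁻¹ = φ (dz m) := by
  have hp2 : Fact (Nat.Prime 2) := ⟨Nat.prime_two⟩
  have h2 : 2 ∣ m := Dvd.dvd.trans (by norm_num) h4
  by_contra hne
  have hzo : orderOf (φ (dz m)) = 2 := orderOf_phi_dz hm h2 hφ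
  have hto : orderOf (g * φ (dz m) * g⁻¹) = 2 := by rw [orderOf_conj_eq, hzo]
  have hzz : φ (dz m) * φ (dz m) = 1 := by rw [← pow_two, ← hzo]; exact pow_orderOf_eq_one _
  have htt : (g * φ (dz m) * g⁻¹) * (g * φ (dz m) * g⁻¹) = 1 := by
    rw [← pow_two, ← hto]; exact pow_orderOf_eq_one _
  have hz1 : φ (dz m) ≠ 1 := by intro h; rw [h, orderOf_one] at hzo; omega
  have ht1 : g * φ (dz m) * g⁻¹ ≠ 1 := by intro h; rw [h, orderOf_one] at hto; omega
  have hnezt : φ (dz m) ≠ g * φ (dz m) * g⁻¹ := fun h => hne h.symm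
  have hSC : (S : Subgroup X) ≤ Subgroup.centralizer ({φ (dz m)} : Set X) := by
    intro s hs
    rw [mem_centralizer_iff_conj, phi_dz_comm h2 hr s hs]; group
  have hVC : kSub _ _ hzz htt hcomm.eq ≤ Subgroup.centralizer ({φ (dz m)} : Set X) := by
    apply kSub_le
    · exact Subgroup.mem_centralizer_singleton_iff.2 rfl
    · rw [mem_centralizer_iff_conj, ← hcomm.eq]; group
  obtain ⟨c, hcC, hc⟩ := exists_conj_mem_of_le' S _ _ hSC hVC
    (kSub_isPGroup hzz htt hcomm.eq hz1 ht1 hnezt)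
  have h1 := hc _ (Or.inr (Or.inr (Or.inl rfl)))
  have e : c⁻¹ * (g * φ (dz m) * g⁻¹) * c = (c⁻¹ * g) * φ (dz m) * (c⁻¹ * g)⁻¹ := by group
  rw [e] at h1
  have h3 := no_conj_in_sylow hm h4 hφ hr hyp _ h1
  rw [← e] at h3
  have hcz : c * φ (dz m) * c⁻¹ = φ (dz m) := mem_centralizer_iff_conj.1 hcC
  apply hne
  have e2 : g * φ (dz m) * g⁻¹ = c * (c⁻¹ * (g * φ (dz m) * g⁻¹) * c) * c⁻¹ := by group
  rw [e2, h3, hcz]

end More

end Cfsg.Agent.Helper55
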