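import Mathlib
import Cfsg.Agent.Helper55.DihFourNorm
import Cfsg.Agent.S0514

/-!
# Dihedral Sylow 2-subgroups: classes of four-groups (helper55)

* `kSub_eq_of_mem`, `map_conj_kSub`: bookkeeping for the four-groups `kSub a c = {1, a, c, ac}`;
* `exists_normalizer_swap`: if the central involution `z` of `S` (dihedral of order at least 8) is conjugate
  to another involution `t ∈ S`, some element of `N({1,z,t,zt})` fixes `t` and moves `z` to `zt`;
* `centralizer_fusion_in_sylow`: `C(z)` induces only `S`-fusion on `S`.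
-/

set_option autoImplicit false
set_option linter.unusedSectionVars false

namespace Cfsg.Agent.Helper55

section KSubMore

variable {G : Type*} [Group G]

theorem kSub_eq_of_mem {a c a' c' : G} (ha : a * a = 1) (hc : c * c = 1) (hac : a * c = c * a)
    (ha' : a' * a' = 1) (hc' : c' * c' = 1) (hac' : a' * c' = c' * a')
    (ha1 : a ≠ 1) (hc1 : c ≠ 1) (hne : a ≠ c) (ha'1 : a' ≠ 1) (hc'1 : c' ≠ 1) (hne' : a' ≠ c')
    (h1 : a ∈ kSub a' c' ha' hc' hac') (h2 : c ∈ kSub a' c' ha' hc' hac') :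
    kSub a c ha hc hac = kSub a' c' ha' hc' hac' := by
  have hfin : Finite (kSub a' c' ha' hc' hac') :=
    Nat.finite_of_card_ne_zero (by rw [card_kSub a' c' ha' hc' hac' ha'1 hc'1 hne']; norm_num)
  apply Subgroup.eq_of_le_of_card_ge (kSub_le a c ha hc hac _ h1 h2)
  rw [card_kSub a c ha hc hac ha1 hc1 hne, card_kSub a' c' ha' hc' hac' ha'1 hc'1 hne']

theorem conj_sq_eq_one {a : G} (ha : a * a = 1) (g : G) : (g * a * g⁻¹) * (g * a * g⁻¹) = 1 := by
  have : (g * a * g⁻¹) * (g * a * g⁻¹) = g * (a * a) * g⁻¹ := by group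
  rw [this, ha]; group

theorem conj_comm_of_comm {a c : G} (hac : a * c = c * a) (g : G) :
    (g * a * g⁻¹) * (g * c * g⁻¹) = (g * c * g⁻¹) * (g * a * g⁻¹) := by
  have e1 : (g * a * g⁻¹) * (g * c * g⁻¹) = g * (a * c) * g⁻¹ := by group
  have e2 : (g * c * g⁻¹) * (g * a * g⁻¹) = g * (c * a) * g⁻¹ := by group
  rw [e1, e2, hac]

theorem map_conj_kSub (a c : G) (ha : a * a = 1) (hc : c * c = 1) (hac : a * c = c * a) (g : G) :
    (kSub a c ha hc hac).map (MulAut.conj g).toMonoidHom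
      = kSub (g * a * g⁻¹) (g * c * g⁻¹) (conj_sq_eq_one ha g) (conj_sq_eq_one hc g)
        (conj_comm_of_comm hac g) := by
  ext t
  simp only [Subgroup.mem_map, MulEquiv.coe_toMonoidHom, MulAut.conj_apply, mem_kSub]
  constructor
  · rintro ⟨s, (rfl | rfl | rfl | rfl), rfl⟩
    · left; group
    · right; left; rfl
    · right; right; left; rfl
    · right; right; right; group
  · rintro (rfl | rfl | rfl | rfl)
    · exact ⟨1, Or.inl rfl, by group⟩
    · exact ⟨a, Or.inr (Or.inl rfl), rfl⟩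
    · exact ⟨c, Or.inr (Or.inr (Or.inl rfl)), rfl⟩
    · exact ⟨a * c, Or.inr (Or.inr (Or.inr rfl)), by group⟩

theorem map_conj_inv_of_map_conj {A B : Subgroup G} {g : G}
    (h : A.map (MulAut.conj g).toMonoidHom = B) : B.map (MulAut.conj g⁻¹).toMonoidHom = A := by
  rw [← h, Subgroup.map_map]
  ext t
  simp only [Subgroup.mem_map, MonoidHom.coe_comp, MulEquiv.coe_toMonoidHom, Function.comp_apply,
    MulAut.conj_apply]
  constructor
  · rintro ⟨s, hs, rfl⟩
    have : g⁻¹ * (g * s * g⁻¹) * g⁻¹⁻¹ = s := by group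
    rw [this]; exact hs
  · intro ht
    exact ⟨t, ht, by group⟩

/-- Two distinct non-identity elements of a four-group. -/
theorem exists_two_of_isKleinFour (V : Subgroup G) (hV : IsKleinFour V) :
    ∃ a ∈ V, ∃ b ∈ V, a ≠ 1 ∧ b ≠ 1 ∧ a ≠ b := by
  classical
  have hfin : Finite V := Nat.finite_of_card_ne_zero (by rw [IsKleinFour.card_four]; norm_num)
  have : Fintype V := Fintype.ofFinite V
  have h2 : 2 < Fintype.card V := by
    rw [← Nat.card_eq_fintype_card, IsKleinFour.card_four]; norm_num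
  obtain ⟨a, b, c, hab, hac, hbc⟩ := Fintype.two_lt_card_iff.1 h2
  have hcoe : ∀ x y : V, x ≠ y → (x : G) ≠ (y : G) := fun x y h h' => h (Subtype.ext h')
  by_cases ha : a = 1
  · refine ⟨b, b.2, c, c.2, ?_, ?_, hcoe _ _ hbc⟩
    · intro h; exact hab (ha.trans (Subtype.ext h).symm)
    · intro h; exact hac (ha.trans (Subtype.ext h).symm)
  · by_cases hb : b = 1
    · refine ⟨a, a.2, c, c.2, ?_, ?_, hcoe _ _ hac⟩
      · intro h; exact ha (Subtype.ext h)
      · intro h; exact hbc (hb.trans (Subtype.ext h).symm)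
    · refine ⟨a, a.2, b, b.2, ?_, ?_, hcoe _ _ hab⟩
      · intro h; exact ha (Subtype.ext h)
      · intro h; exact hb (Subtype.ext h)

/-- A four-group is `kSub a b` for any two distinct non-identity elements. -/
theorem eq_kSub_of_isKleinFour (V : Subgroup G) (hV : IsKleinFour V) {a b : G} (haV : a ∈ V)
    (hbV : b ∈ V) (ha1 : a ≠ 1) (hb1 : b ≠ 1) (hab : a ≠ b) :
    ∃ (ha : a * a = 1) (hb : b * b = 1) (hc : a * b = b * a), V = kSub a b ha hb hc := by
  have ha : a * a = 1 := by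
    have := IsKleinFour.mul_self (⟨a, haV⟩ : V)
    exact Subtype.ext_iff.1 this
  have hb : b * b = 1 := by
    have := IsKleinFour.mul_self (⟨b, hbV⟩ : V)
    exact Subtype.ext_iff.1 this
  have hc : a * b = b * a := by
    have hcm : IsMulCommutative V := IsKleinFour.isMulCommutative
    have := mul_comm' (⟨a, haV⟩ : V) ⟨b, hbV⟩
    exact Subtype.ext_iff.1 this
  refine ⟨ha, hb, hc, ?_⟩
  have hfin : Finite V := Nat.finite_of_card_ne_zero (by rw [IsKleinFour.card_four]; norm_num)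
  symm
  apply Subgroup.eq_of_le_of_card_ge (kSub_le a b ha hb hc _ haV hbV)
  rw [card_kSub a b ha hb hc ha1 hb1 hab, IsKleinFour.card_four]

end KSubMore

section Swap

open DihedralGroup
open scoped Pointwise

variable {X : Type*} [Group X] [Finite X] {S : Sylow 2 X} {m : ℕ} {φ : DihedralGroup m →* X}

/-- If the central involution `z` of `S` is conjugate to another involution `t` of `S`, some element
fixes `t` and maps `z` to `z * t` (so it normalizes `{1, z, t, zt}`). -/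
theorem exists_normalizer_swap (hm : 2 ≤ m) (h4 : 4 ∣ m) (hφ : Function.Injective φ)
    (hr : φ.range = (S : Subgroup X)) (g₁ : X)
    (htS : g₁ * φ (dz m) * g₁⁻¹ ∈ (S : Subgroup X)) (hne : g₁ * φ (dz m) * g₁⁻¹ ≠ φ (dz m)) :
    ∃ n : X, n * φ (dz m) * n⁻¹ = φ (dz m) * (g₁ * φ (dz m) * g₁⁻¹) ∧
      n * (g₁ * φ (dz m) * g₁⁻¹) * n⁻¹ = g₁ * φ (dz m) * g₁⁻¹ := by
  have hp2 : Fact (Nat.Prime 2) := ⟨Nat.prime_two⟩
  have h2 : 2 ∣ m := Dvd.dvd.trans (by norm_num) h4
  obtain ⟨z, hz⟩ : ∃ z, z = φ (dz m) := ⟨_, rfl⟩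
  obtain ⟨t, ht⟩ : ∃ t, t = g₁ * z * g₁⁻¹ := ⟨_, rfl⟩
  rw [← hz] at htS hne ⊢
  rw [← ht] at htS hne ⊢
  have hzo : orderOf z = 2 := hz ▸ orderOf_phi_dz hm h2 hφ
  have hzS : z ∈ (S : Subgroup X) := hz ▸ phi_dz_mem hr
  have hzc : ∀ s ∈ (S : Subgroup X), s * z = z * s := fun s hs => hz ▸ phi_dz_comm h2 hr s hs
  have hto : orderOf t = 2 := by rw [ht, orderOf_conj_eq, hzo]
  have hzz : z * z = 1 := by rw [← pow_two, ← hzo]; exact pow_orderOf_eq_one z
  have htt : t * t = 1 := by rw [← pow_two, ← hto]; exact pow_orderOf_eq_one t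
  have hz1 : z ≠ 1 := by intro h; rw [h, orderOf_one] at hzo; omega
  have ht1 : t ≠ 1 := by intro h; rw [h, orderOf_one] at hto; omega
  have hzt : z * t = t * z := (hzc t htS).symm
  have hnezt : z ≠ t := fun h => hne h.symm
  -- S₁ = g₁ • S is a Sylow 2-subgroup of C(t)
  have hS1 : ((g₁ • S : Sylow 2 X) : Subgroup X) ≤ Subgroup.centralizer ({t} : Set X) := by
    intro y hy
    rw [mem_smul_sylow_iff] at hy
    rw [mem_centralizer_iff_conj, ht]
    have := hzc _ hy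
    have e : y * (g₁ * z * g₁⁻¹) * y⁻¹ = g₁ * ((g₁⁻¹ * y * g₁) * z * (g₁⁻¹ * y * g₁)⁻¹) * g₁⁻¹ := by
      group
    rw [e, this]; group
  have hUC : kSub z t hzz htt hzt ≤ Subgroup.centralizer ({t} : Set X) := by
    apply kSub_le
    · rw [mem_centralizer_iff_conj, hzt]; group
    · exact Subgroup.mem_centralizer_singleton_iff.2 rfl
  obtain ⟨c₁, hc₁C, hc₁⟩ := exists_conj_mem_of_le' (g₁ • S) _ _ hS1 hUC
    (kSub_isPGroup hzz htt hzt hz1 ht1 hnezt)
  obtain ⟨h, hh⟩ : ∃ h, h = g₁⁻¹ * c₁⁻¹ := ⟨_, rfl⟩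
  have hmap : ∀ x ∈ kSub z t hzz htt hzt, h * x * h⁻¹ ∈ (S : Subgroup X) := by
    intro x hx
    have := hc₁ x hx
    rw [mem_smul_sylow_iff] at this
    have e : h * x * h⁻¹ = g₁⁻¹ * (c₁⁻¹ * x * c₁) * g₁ := by rw [hh]; group
    rw [e]; exact this
  have hht : h * t * h⁻¹ = z := by
    have hct : c₁ * t * c₁⁻¹ = t := mem_centralizer_iff_conj.1 hc₁C
    have hct' : c₁⁻¹ * t * c₁ = t := by
      nth_rewrite 1 [← hct]; group
    have e : h * t * h⁻¹ = g₁⁻¹ * (c₁⁻¹ * t * c₁) * g₁ := by rw [hh]; group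
    rw [e, hct', ht]; group
  obtain ⟨t', ht'⟩ : ∃ t', t' = h * z * h⁻¹ := ⟨_, rfl⟩
  have ht'S : t' ∈ (S : Subgroup X) := ht' ▸ hmap z (Or.inr (Or.inl rfl))
  have ht'o : orderOf t' = 2 := by rw [ht', orderOf_conj_eq, hzo]
  have ht'z : t' ≠ z := by
    intro hcon
    have e : h * z * h⁻¹ = h * t * h⁻¹ := by rw [← ht', hcon, hht]
    have : z = t := by simpa using e
    exact hnezt this
  obtain ⟨j, hj⟩ : ∃ j, t' = φ (sr j) := by
    rcases invol_in_sylow hm h2 hφ hr t' ht'S ht'o with h | h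
    · exact absurd (h.trans hz.symm) ht'z
    · exact h
  obtain ⟨a', ha'⟩ : ∃ a', a' = φ (da m) := ⟨_, rfl⟩
  have ha't : a' * t' * a'⁻¹ = t' * z := by
    rw [ha', hj, hz, ← map_inv, ← map_mul, ← map_mul, ← map_mul, da_conj_sr h4]
  have ha'z : a' * z * a'⁻¹ = z := by
    rw [ha', hz, ← map_inv, ← map_mul, ← map_mul, da_conj_dz h2]
  refine ⟨h⁻¹ * a' * h, ?_, ?_⟩
  · have hinv1 : h⁻¹ * t' * h = z := by rw [ht']; group
    have hinv2 : h⁻¹ * z * h = t := by
      have : h⁻¹ * (h * t * h⁻¹) * h = t := by group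
      rwa [hht] at this
    have e : (h⁻¹ * a' * h) * z * (h⁻¹ * a' * h)⁻¹ = h⁻¹ * (a' * (h * z * h⁻¹) * a'⁻¹) * h := by group
    have e2 : h⁻¹ * (t' * z) * h = (h⁻¹ * t' * h) * (h⁻¹ * z * h) := by group
    rw [e, ← ht', ha't, e2, hinv1, hinv2]
  · have hinv2 : h⁻¹ * z * h = t := by
      have : h⁻¹ * (h * t * h⁻¹) * h = t := by group
      rwa [hht] at this
    have e : (h⁻¹ * a' * h) * t * (h⁻¹ * a' * h)⁻¹ = h⁻¹ * (a' * (h * t * h⁻¹) * a'⁻¹) * h := by group
    rw [e, hht, ha'z, hinv2]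

/-- A normal subgroup of odd order and 2-power index is a complement of every Sylow 2-subgroup. -/
theorem isComplement'_sylow_of_odd_of_index {H : Type*} [Group H] [Finite H] {K : Subgroup H}
    (hodd : Odd (Nat.card K)) (hidx : ∃ k : ℕ, K.index = 2 ^ k) (P : Sylow 2 H) :
    K.IsComplement' (P : Subgroup H) := by
  have hp2 : Fact (Nat.Prime 2) := ⟨Nat.prime_two⟩
  obtain ⟨k, hk⟩ := hidx
  have hcop : Nat.Coprime (Nat.card K) (2 ^ k) := by
    apply Nat.Coprime.pow_right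
    exact (Nat.coprime_two_right.2 hodd)
  have hcard : Nat.card K * 2 ^ k = Nat.card H := by rw [← hk]; exact K.card_mul_index
  have hP : Nat.card (P : Subgroup H) = 2 ^ k := by
    rw [Sylow.card_eq_multiplicity, ← hcard]
    congr 1
    rw [Nat.factorization_mul (Nat.card_pos.ne') (by positivity)]
    have h1 : (Nat.card K).factorization 2 = 0 := by
      apply Nat.factorization_eq_zero_of_not_dvd
      rw [← even_iff_two_dvd, Nat.not_even_iff_odd]; exact hodd
    simp [h1, Nat.Prime.factorization_self Nat.prime_two]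
  apply Subgroup.isComplement'_of_coprime
  · rw [hP]; exact hcard
  · rw [hP]; exact hcop

/-- The centralizer of the central involution of `S` induces only `S`-fusion in `S`. -/
theorem centralizer_fusion_in_sylow (hm : 2 ≤ m) (h2 : 2 ∣ m) (hφ : Function.Injective φ)
    (hr : φ.range = (S : Subgroup X)) (hS : Nonempty ((S : Subgroup X) ≃* DihedralGroup m))
    (y : X) (hy : y * φ (dz m) * y⁻¹ = φ (dz m)) (u : X) (hu : u ∈ (S : Subgroup X))
    (hyu : y * u * y⁻¹ ∈ (S : Subgroup X)) :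
    ∃ s₀ ∈ (S : Subgroup X), s₀ * u * s₀⁻¹ = y * u * y⁻¹ := by
  have hp2 : Fact (Nat.Prime 2) := ⟨Nat.prime_two⟩
  obtain ⟨z, hz⟩ : ∃ z, z = φ (dz m) := ⟨_, rfl⟩
  rw [← hz] at hy
  have hzo : orderOf z = 2 := hz ▸ orderOf_phi_dz hm h2 hφ
  obtain ⟨K, hKn, hodd, hidx⟩ := Cfsg.Agent.S0514.result S m hm hS z hzo
  have hSH : (S : Subgroup X) ≤ Subgroup.centralizer ({z} : Set X) := by
    intro s hs
    rw [mem_centralizer_iff_conj, hz, phi_dz_comm h2 hr s hs]; group
  have hcomp := isComplement'_sylow_of_odd_of_index hodd hidx (S.subtype hSH)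
  have hyH : y ∈ Subgroup.centralizer ({z} : Set X) := mem_centralizer_iff_conj.2 hy
  obtain ⟨⟨⟨k, hk⟩, ⟨s, hs⟩⟩, hks, -⟩ :=
    (Subgroup.isComplement_iff_existsUnique.1 hcomp) ⟨y, hyH⟩
  have hks : k * s = ⟨y, hyH⟩ := hks
  have hsS : (s : X) ∈ (S : Subgroup X) := by
    have : s ∈ ((S : Subgroup X).subgroupOf (Subgroup.centralizer ({z} : Set X))) := by
      rw [← Sylow.coe_subtype (P := S) hSH]; exact hs
    exact Subgroup.mem_subgroupOf.1 this
  have hks' : (k : X) * (s : X) = y := congrArg Subtype.val hks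
  refine ⟨(s : X), hsS, ?_⟩
  obtain ⟨v, hv⟩ : ∃ v, v = (s : X) * u * (s : X)⁻¹ := ⟨_, rfl⟩
  have hvS : v ∈ (S : Subgroup X) :=
    hv ▸ (S : Subgroup X).mul_mem ((S : Subgroup X).mul_mem hsS hu) ((S : Subgroup X).inv_mem hsS)
  have e : y * u * y⁻¹ = (k : X) * v * (k : X)⁻¹ := by rw [← hks', hv]; group
  rw [← hv, e]
  rw [e] at hyu
  -- the commutator [k, v] lies in K ∩ S = 1
  have hvH : v ∈ Subgroup.centralizer ({z} : Set X) := hSH hvS
  have h1 : k * (⟨v, hvH⟩ * k⁻¹ * (⟨v, hvH⟩ : Subgroup.centralizer ({z} : Set X))⁻¹) ∈ K :=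
    K.mul_mem hk (hKn.conj_mem _ (K.inv_mem hk) _)
  have h2' : k * (⟨v, hvH⟩ * k⁻¹ * (⟨v, hvH⟩ : Subgroup.centralizer ({z} : Set X))⁻¹) ∈
      ((S.subtype hSH : Sylow 2 (Subgroup.centralizer ({z} : Set X))) :
        Subgroup (Subgroup.centralizer ({z} : Set X))) := by
    rw [Sylow.coe_subtype, Subgroup.mem_subgroupOf]
    have : ((k * (⟨v, hvH⟩ * k⁻¹ * (⟨v, hvH⟩ : Subgroup.centralizer ({z} : Set X))⁻¹) :
        Subgroup.centralizer ({z} : Set X)) : X) = ((k : X) * v * (k : X)⁻¹) * v⁻¹ := by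
      push_cast; group
    rw [this]
    exact (S : Subgroup X).mul_mem hyu ((S : Subgroup X).inv_mem hvS)
  have h3 := hcomp.disjoint
  rw [Subgroup.disjoint_def] at h3
  have h4 := h3 h1 h2'
  have h5 : ((k : X) * v * (k : X)⁻¹) * v⁻¹ = 1 := by
    have h6 := congrArg Subtype.val h4
    have h7 : ((k * (⟨v, hvH⟩ * k⁻¹ * (⟨v, hvH⟩ : Subgroup.centralizer ({z} : Set X))⁻¹) :
        Subgroup.centralizer ({z} : Set X)) : X) = ((k : X) * v * (k : X)⁻¹) * v⁻¹ := by
      push_cast; group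
    rw [h7] at h6
    exact h6
  exact (mul_inv_eq_one.1 h5).symm

end Swap

end Cfsg.Agent.Helper55
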