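import Mathlib
import Cfsg.Agent.Helper3.E27Defs
import Cfsg.Agent.Helper3.S3S3Main
import Cfsg.Agent.Helper48.S3S3G5d

/-!
helper55 (for helper3, WANTED #6444 (A6)): the class multiplication counts for
`x₁ = τ(1,0,0)`, `x₃ = τ(0,0,1)` in the `3³ : 2²` configuration (S3701).
`pair_counts'` takes (A2), (A3), (A4), (A5) as hypotheses.
-/

set_option autoImplicit false

namespace Cfsg.Agent.Helper55.E27A6

open Cfsg Finset Cfsg.Agent.Helper3.E27 Cfsg.Agent.Helper3.S3S3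

universe u

/-! ### finite facts about `Vec` and `Vs` -/

theorem vec_add3 : ∀ u : Vec, u + u + u = 0 := by decide

theorem p0_ne : p 0 ≠ 0 := by decide
theorem p2_ne : p 2 ≠ 0 := by decide
theorem neg_p0_ne : -p 0 ≠ 0 := by decide

theorem not_fuse_p0_p2 : ¬ ∃ σ ∈ Vs, σ * p 0 = p 2 := by decide
theorem not_fuse_neg_p0_p2 : ¬ ∃ σ ∈ Vs, σ * (-p 0) = p 2 := by decide

theorem card_stab_p0 : (Vs.filter (fun σ => σ * p 0 = p 0)).card = 2 := by decide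
theorem card_stab_p2 : (Vs.filter (fun σ => σ * p 2 = p 2)).card = 2 := by decide

theorem good_exists : ∀ v : Vec, (v 1 = 0 ∧ v 0 ≠ 0 ∧ v 2 ≠ 0) →
    ∃ σ ∈ Vs, ∃ σ' ∈ Vs, σ * p 0 + σ' * p 2 = v := by decide

theorem bad_not : ∀ v : Vec, ¬ (v 1 = 0 ∧ v 0 ≠ 0 ∧ v 2 ≠ 0) →
    ∀ σ ∈ Vs, ∀ σ' ∈ Vs, σ * p 0 + σ' * p 2 ≠ v := by decide

theorem comp_unique : ∀ σ ∈ Vs, ∀ σ' ∈ Vs, ∀ ρ ∈ Vs, ∀ ρ' ∈ Vs,
    σ * p 0 + σ' * p 2 = ρ * p 0 + ρ' * p 2 → σ * p 0 = ρ * p 0 ∧ σ' * p 2 = ρ' * p 2 := by decide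

theorem vs_cases : ∀ σ ∈ Vs, σ = 1 ∨ σ = sa ∨ σ = sb ∨ σ = sa * sb := by decide

section grp

variable {G : Type u} [Group G] {T : Subgroup G} {τ : Vec → G} {a b : G}

theorem τ_zero (h : HCfg T τ a b) : τ 0 = 1 := by
  have := h.τ_add 0 0
  rw [add_zero] at this
  exact (mul_eq_left.mp this.symm)

theorem τ_neg (h : HCfg T τ a b) (u : Vec) : τ (-u) = (τ u)⁻¹ := by
  rw [eq_inv_iff_mul_eq_one, ← h.τ_add, neg_add_cancel, τ_zero h]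

theorem commT (h : HCfg T τ a b) : ∀ s ∈ T, ∀ t ∈ T, s * t = t * s := by
  intro s hs t ht
  obtain ⟨u, rfl⟩ := h.memT s hs
  obtain ⟨w, rfl⟩ := h.memT t ht
  rw [← h.τ_add, ← h.τ_add, add_comm]

theorem expT (h : HCfg T τ a b) : ∀ t ∈ T, t ^ 3 = 1 := by
  intro t ht
  obtain ⟨u, rfl⟩ := h.memT t ht
  rw [pow_succ, pow_two, ← h.τ_add, ← h.τ_add, vec_add3, τ_zero h]

theorem τ_ne_one (h : HCfg T τ a b) {u : Vec} (hu : u ≠ 0) : τ u ≠ 1 := by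
  intro hc
  rw [← τ_zero h] at hc
  exact hu (h.τ_inj hc)

/-- every sign vector is realized by an element of `G`. -/
theorem exists_realize (h : HCfg T τ a b) : ∀ σ ∈ Vs, ∃ n : G, ∀ u, n * τ u * n⁻¹ = τ (σ * u) := by
  intro σ hσ
  rcases vs_cases σ hσ with rfl | rfl | rfl | rfl
  · exact ⟨1, fun u => by simp⟩
  · exact ⟨a, h.τ_a⟩
  · exact ⟨b, h.τ_b⟩
  · refine ⟨a * b, fun u => ?_⟩
    have e : a * b * τ u * (a * b)⁻¹ = a * (b * τ u * b⁻¹) * a⁻¹ := by group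
    rw [e, h.τ_b, h.τ_a, mul_assoc]

/-- (A6) with (A2), (A3), (A4), (A5) as hypotheses. -/
theorem pair_counts' [Fintype G] [DecidableEq G] (h : HCfg T τ a b)
    (hloc : ∀ t ∈ T, t ≠ 1 →
      Subgroup.centralizer ({t} : Set G) ≤ Subgroup.normalizer (T : Set G))
    (hA2 : ∃ P : Sylow 3 G, (P : Subgroup G) = T)
    (hA3 : ∀ n ∈ Subgroup.normalizer (T : Set G), ∃ σ ∈ Vs, ∀ v, n * τ v * n⁻¹ = τ (σ * v))
    (hA4 : ∀ v v' : Vec, v ≠ 0 → (IsConj (τ v) (τ v') ↔ ∃ σ ∈ Vs, σ * v = v'))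
    (hA5 : ∀ v : Vec, v ≠ 0 →
      Nat.card (Subgroup.centralizer ({τ v} : Set G)) = 27 * (Vs.filter (fun σ => σ * v = v)).card)
    (v : Vec) :
    pairCount (τ (p 0)) (τ (p 2)) (τ v) =
      if v 1 = 0 ∧ v 0 ≠ 0 ∧ v 2 ≠ 0 then 54 * 54 else 0 := by
  obtain ⟨P, rfl⟩ := hA2
  have hnc : ¬ IsConj (τ (p 0)) (τ (p 2)) := fun hc => not_fuse_p0_p2 ((hA4 _ _ p0_ne).1 hc)
  -- pairs with product in `T ∖ 1` are local
  have hlocal : ∀ w : Vec, w ≠ 0 → ∀ g k : G, g * τ (p 0) * g⁻¹ * (k * τ (p 2) * k⁻¹) = τ w →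
      ∃ σ ∈ Vs, ∃ σ' ∈ Vs, g * τ (p 0) * g⁻¹ = τ (σ * p 0) ∧ k * τ (p 2) * k⁻¹ = τ (σ' * p 2) := by
    intro w hw g k hgk
    obtain ⟨hg, hk⟩ := local_pair P (commT h) (expT h) hloc (τ (p 0)) (τ (p 2)) (τ w)
      (h.τ_mem _) (h.τ_mem _) (h.τ_mem _) (τ_ne_one h p0_ne) (τ_ne_one h p2_ne) (τ_ne_one h hw)
      hnc g k hgk
    obtain ⟨σ, hσ, hσx⟩ := hA3 g hg
    obtain ⟨σ', hσ', hσ'x⟩ := hA3 k hk
    exact ⟨σ, hσ, σ', hσ', hσx _, hσ'x _⟩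
  split_ifs with hv
  · -- the good case
    obtain ⟨σ₀, hσ₀, σ₀', hσ₀', hsum⟩ := good_exists v hv
    obtain ⟨g₀, hg₀⟩ := exists_realize h σ₀ hσ₀
    obtain ⟨k₀, hk₀⟩ := exists_realize h σ₀' hσ₀'
    have hv0 : v ≠ 0 := by
      rintro rfl
      exact hv.2.1 rfl
    have hk := Cfsg.Agent.Helper48.S3S3.card_conj_pair (τ (p 0)) (τ (p 2)) g₀ k₀
    rw [hA5 _ p0_ne, hA5 _ p2_ne, card_stab_p0, card_stab_p2] at hk
    unfold pairCount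
    rw [show (54 * 54 : ℕ) = 27 * 2 * (27 * 2) from rfl, ← hk]
    congr 1
    apply Finset.filter_congr
    rintro ⟨g, k⟩ -
    simp only
    rw [hg₀, hk₀]
    constructor
    · intro hgk
      obtain ⟨σ, hσ, σ', hσ', h1, h2⟩ := hlocal v hv0 g k hgk
      rw [h1, h2, ← h.τ_add] at hgk
      have h3 := h.τ_inj hgk
      rw [← hsum] at h3
      obtain ⟨h4, h5⟩ := comp_unique σ hσ σ' hσ' σ₀ hσ₀ σ₀' hσ₀' h3
      rw [h1, h2, h4, h5]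
      exact ⟨rfl, rfl⟩
    · rintro ⟨h1, h2⟩
      rw [h1, h2, ← h.τ_add, hsum]
  · -- the bad case
    unfold pairCount
    rw [Finset.card_eq_zero, Finset.filter_eq_empty_iff]
    rintro ⟨g, k⟩ - hgk
    simp only at hgk
    by_cases hv0 : v = 0
    · subst hv0
      rw [τ_zero h] at hgk
      -- `k x₃ k⁻¹ = g x₁⁻¹ g⁻¹`
      have h1 : k * τ (p 2) * k⁻¹ = g * τ (-p 0) * g⁻¹ := by
        rw [τ_neg h]
        have : k * τ (p 2) * k⁻¹ = (g * τ (p 0) * g⁻¹)⁻¹ := by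
          rw [eq_inv_iff_mul_eq_one, mul_eq_one_iff_eq_inv] at *
          rw [hgk]; group
        rw [this]; group
      have hc : IsConj (τ (-p 0)) (τ (p 2)) := by
        rw [isConj_iff]
        refine ⟨k⁻¹ * g, ?_⟩
        have : k⁻¹ * g * τ (-p 0) * (k⁻¹ * g)⁻¹ = k⁻¹ * (g * τ (-p 0) * g⁻¹) * k := by group
        rw [this, ← h1]; group
      exact not_fuse_neg_p0_p2 ((hA4 _ _ neg_p0_ne).1 hc)
    · obtain ⟨σ, hσ, σ', hσ', h1, h2⟩ := hlocal v hv0 g k hgk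
      rw [h1, h2, ← h.τ_add] at hgk
      exact bad_not v hv σ hσ σ' hσ' (h.τ_inj hgk)

end grp

end Cfsg.Agent.Helper55.E27A6
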