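import Cfsg.Agent.Helper55.E6Tor_WMUL

/-!
# helper40 S2373 (E₆ Coxeter torus), piece (WLEAF): soundness of the leaf test
-/

set_option autoImplicit false

namespace Cfsg.Agent.Helper55.E6Tor

open Cfsg.Agent.Helper40.E6Tor

theorem wl_zip_row (f : ℤ → ℤ → ℤ) (hf : f 0 0 = 0) (r s : List ℤ) (hr : r.length = 6)
    (hs : s.length = 6) :
    (List.zipWith f r s).length = 6 ∧
      ∀ j : ℕ, (List.zipWith f r s).getD j 0 = f (r.getD j 0) (s.getD j 0) := by
  obtain ⟨a, b, c, d, e, g, rfl⟩ := wm_len6 r hr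
  obtain ⟨a', b', c', d', e', g', rfl⟩ := wm_len6 s hs
  refine ⟨rfl, fun j => ?_⟩
  match j with
  | 0 => rfl
  | 1 => rfl
  | 2 => rfl
  | 3 => rfl
  | 4 => rfl
  | 5 => rfl
  | (k + 6) => simp [hf]

theorem wl_zip (f : ℤ → ℤ → ℤ) (hf : f 0 0 = 0) (X Y : LL) (hX : WF X) (hY : WF Y) :
    WF (List.zipWith (List.zipWith f) X Y) ∧
      ∀ i j : Fin 6, toMat (List.zipWith (List.zipWith f) X Y) i j = f (toMat X i j) (toMat Y i j) := by
  obtain ⟨r0, r1, r2, r3, r4, r5, rfl⟩ := wm_len6 X hX.1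
  obtain ⟨s0, s1, s2, s3, s4, s5, rfl⟩ := wm_len6 Y hY.1
  have hr : ∀ r ∈ [r0, r1, r2, r3, r4, r5], r.length = 6 := hX.2
  have hs : ∀ s ∈ [s0, s1, s2, s3, s4, s5], s.length = 6 := hY.2
  have k0 := wl_zip_row f hf r0 s0 (hr r0 (by simp)) (hs s0 (by simp))
  have k1 := wl_zip_row f hf r1 s1 (hr r1 (by simp)) (hs s1 (by simp))
  have k2 := wl_zip_row f hf r2 s2 (hr r2 (by simp)) (hs s2 (by simp))
  have k3 := wl_zip_row f hf r3 s3 (hr r3 (by simp)) (hs s3 (by simp))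
  have k4 := wl_zip_row f hf r4 s4 (hr r4 (by simp)) (hs s4 (by simp))
  have k5 := wl_zip_row f hf r5 s5 (hr r5 (by simp)) (hs s5 (by simp))
  have e : List.zipWith (List.zipWith f) [r0, r1, r2, r3, r4, r5] [s0, s1, s2, s3, s4, s5]
      = [List.zipWith f r0 s0, List.zipWith f r1 s1, List.zipWith f r2 s2, List.zipWith f r3 s3,
        List.zipWith f r4 s4, List.zipWith f r5 s5] := rfl
  rw [e]
  refine ⟨⟨rfl, ?_⟩, ?_⟩
  · intro r hr'
    simp only [List.mem_cons, List.not_mem_nil, or_false] at hr'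
    rcases hr' with rfl | rfl | rfl | rfl | rfl | rfl
    · exact k0.1
    · exact k1.1
    · exact k2.1
    · exact k3.1
    · exact k4.1
    · exact k5.1
  · intro i j
    fin_cases i
    · exact k0.2 j.val
    · exact k1.2 j.val
    · exact k2.2 j.val
    · exact k3.2 j.val
    · exact k4.2 j.val
    · exact k5.2 j.val

theorem wl_madd (X Y : LL) (hX : WF X) (hY : WF Y) :
    WF (madd X Y) ∧ toMat (madd X Y) = toMat X + toMat Y := by
  obtain ⟨h1, h2⟩ := wl_zip (· + ·) (by simp) X Y hX hY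
  refine ⟨h1, ?_⟩
  ext i j
  exact h2 i j

theorem wl_msub (X Y : LL) (hX : WF X) (hY : WF Y) :
    WF (msub X Y) ∧ toMat (msub X Y) = toMat X - toMat Y := by
  obtain ⟨h1, h2⟩ := wl_zip (· - ·) (by simp) X Y hX hY
  refine ⟨h1, ?_⟩
  ext i j
  exact h2 i j

theorem wl_WF_I6 : WF I6 := by
  refine ⟨rfl, ?_⟩
  intro r hr
  simp only [I6, List.mem_cons, List.not_mem_nil, or_false] at hr
  rcases hr with rfl | rfl | rfl | rfl | rfl | rfl <;> rfl

theorem wl_toMat_I6 : toMat I6 = 1 := by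
  ext i j
  fin_cases i <;> fin_cases j <;> rfl

theorem wl_toMat_Z6 : toMat Z6 = 0 := by
  ext i j
  fin_cases i <;> fin_cases j <;> rfl

theorem wl_ofMat_zero : ofMat (0 : Matrix (Fin 6) (Fin 6) ℤ) = Z6 := by
  rw [ofMat_eq]
  simp [List.ofFn_succ, Z6]

/-- a well-formed table with zero matrix is `Z6` -/
theorem wl_eq_Z6 (T : LL) (hT : WF T) (h : toMat T = 0) : T = Z6 := by
  rw [← ofMat_toMat T hT, h, wl_ofMat_zero]

/-- (WLEAF) soundness of the leaf test -/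
theorem leafOK_sound (L : LL) (hL : WF L) (h : leafOK L = true) : WeylAlt (toMat L) := by
  obtain ⟨w2, e2⟩ := toMat_mmul L L hL hL
  obtain ⟨w4, e4⟩ := toMat_mmul _ _ w2 w2
  obtain ⟨w8, e8⟩ := toMat_mmul _ _ w4 w4
  obtain ⟨w10, e10⟩ := toMat_mmul _ _ w8 w2
  obtain ⟨w6, e6⟩ := toMat_mmul _ _ w4 w2
  obtain ⟨w9, e9⟩ := toMat_mmul _ _ w8 hL
  obtain ⟨w3, e3⟩ := toMat_mmul _ _ w2 hL
  obtain ⟨w5, e5⟩ := toMat_mmul _ _ w4 hL
  have p2 : toMat (mmul L L) = toMat L ^ 2 := by rw [e2, pow_two]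
  have p4 : toMat (mmul (mmul L L) (mmul L L)) = toMat L ^ 4 := by rw [e4, p2, ← pow_add]
  have p8 : toMat (mmul (mmul (mmul L L) (mmul L L)) (mmul (mmul L L) (mmul L L))) = toMat L ^ 8 := by
    rw [e8, p4, ← pow_add]
  have p10 : toMat (mmul (mmul (mmul (mmul L L) (mmul L L)) (mmul (mmul L L) (mmul L L))) (mmul L L))
      = toMat L ^ 10 := by rw [e10, p8, p2, ← pow_add]
  have p6 : toMat (mmul (mmul (mmul L L) (mmul L L)) (mmul L L)) = toMat L ^ 6 := by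
    rw [e6, p4, p2, ← pow_add]
  have p9 : toMat (mmul (mmul (mmul (mmul L L) (mmul L L)) (mmul (mmul L L) (mmul L L))) L)
      = toMat L ^ 9 := by rw [e9, p8, ← pow_succ]
  have p3 : toMat (mmul (mmul L L) L) = toMat L ^ 3 := by rw [e3, p2, ← pow_succ]
  have p5 : toMat (mmul (mmul (mmul L L) (mmul L L)) L) = toMat L ^ 5 := by rw [e5, p4, ← pow_succ]
  unfold leafOK at h
  dsimp only at h
  split_ifs at h with c1 c2 c3 c4
  · left
    rw [← p8, c1, wl_toMat_I6]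
  · right; right; left
    rw [← p10, c2, wl_toMat_I6]
  · right; right; right; left
    obtain ⟨wa, ea⟩ := wl_msub _ _ w10 w6
    obtain ⟨wb, eb⟩ := wl_msub _ _ wa w4
    obtain ⟨wc, ec⟩ := wl_madd _ _ wb wl_WF_I6
    have := congrArg toMat c3
    rw [ec, eb, ea, p10, p6, p4, wl_toMat_I6, wl_toMat_Z6] at this
    exact this
  · right; left
    rw [← p9, c4, wl_toMat_I6]
  · right; right; right; right
    simp only [Bool.and_eq_true, decide_eq_true_eq, bne_iff_ne, ne_eq] at h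
    obtain ⟨⟨hA, hB⟩, hC⟩ := h
    refine ⟨?_, ?_, ?_⟩
    · obtain ⟨wa, ea⟩ := wl_madd _ _ w6 w5
      obtain ⟨wb, eb⟩ := wl_msub _ _ wa w3
      obtain ⟨wc, ec⟩ := wl_madd _ _ wb hL
      obtain ⟨wd, ed⟩ := wl_madd _ _ wc wl_WF_I6
      have := congrArg toMat hA
      rw [ed, ec, eb, ea, p6, p5, p3, wl_toMat_I6, wl_toMat_Z6] at this
      exact this
    · obtain ⟨wa, ea⟩ := wl_msub _ _ w4 w2
      obtain ⟨wb, eb⟩ := wl_madd _ _ wa wl_WF_I6
      intro h0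
      apply hB
      apply wl_eq_Z6 _ wb
      rw [eb, ea, p4, p2, wl_toMat_I6]
      exact h0
    · obtain ⟨wa, ea⟩ := wl_madd _ _ w2 hL
      obtain ⟨wb, eb⟩ := wl_madd _ _ wa wl_WF_I6
      intro h0
      apply hC
      apply wl_eq_Z6 _ wb
      rw [eb, ea, p2, wl_toMat_I6]
      exact h0

end Cfsg.Agent.Helper55.E6Tor
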