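import Cfsg.Agent.Helper40.E6Tor.Defs

/-!
# helper40 S2373 (E₆ Coxeter torus), piece (WMUL): soundness of the fast product of tables
-/

set_option autoImplicit false

namespace Cfsg.Agent.Helper55.E6Tor

open Cfsg.Agent.Helper40.E6Tor

/-- a list of length six, written out -/
theorem wm_len6 {α : Type*} (r : List α) (h : r.length = 6) :
    ∃ a b c d e f, r = [a, b, c, d, e, f] := by
  match r, h with
  | [a, b, c, d, e, f], _ => exact ⟨a, b, c, d, e, f, rfl⟩

theorem wm_axpy_length (x : ℤ) (r acc : List ℤ) (hr : r.length = 6) (ha : acc.length = 6) :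
    (axpy x r acc).length = 6 := by
  simp [axpy, hr, ha]

theorem wm_axpy_getD (x : ℤ) (r acc : List ℤ) (hr : r.length = 6) (ha : acc.length = 6) (j : ℕ) :
    (axpy x r acc).getD j 0 = acc.getD j 0 + x * r.getD j 0 := by
  obtain ⟨a, b, c, d, e, f, rfl⟩ := wm_len6 r hr
  obtain ⟨a', b', c', d', e', f', rfl⟩ := wm_len6 acc ha
  match j with
  | 0 => rfl
  | 1 => rfl
  | 2 => rfl
  | 3 => rfl
  | 4 => rfl
  | 5 => rfl
  | (k + 6) => simp [axpy]

theorem wm_axpy_zero (r acc : List ℤ) (hr : r.length = 6) (ha : acc.length = 6) :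
    axpy 0 r acc = acc := by
  obtain ⟨a, b, c, d, e, f, rfl⟩ := wm_len6 r hr
  obtain ⟨a', b', c', d', e', f', rfl⟩ := wm_len6 acc ha
  simp [axpy]

/-- the fold in `vecM`: length and entries -/
theorem wm_foldl (l : List (ℤ × List ℤ)) (hl : ∀ p ∈ l, p.2.length = 6) (acc : List ℤ)
    (ha : acc.length = 6) :
    (l.foldl (fun acc p => if p.1 = 0 then acc else axpy p.1 p.2 acc) acc).length = 6 ∧
    ∀ j : ℕ, (l.foldl (fun acc p => if p.1 = 0 then acc else axpy p.1 p.2 acc) acc).getD j 0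
      = acc.getD j 0 + (l.map fun p => p.1 * p.2.getD j 0).sum := by
  induction l generalizing acc with
  | nil => simp [ha]
  | cons p l ih =>
    have hp : p.2.length = 6 := hl p List.mem_cons_self
    have hl' : ∀ p' ∈ l, p'.2.length = 6 := fun p' hp' => hl p' (List.mem_cons_of_mem _ hp')
    have hstep : (if p.1 = 0 then acc else axpy p.1 p.2 acc) = axpy p.1 p.2 acc := by
      by_cases h0 : p.1 = 0
      · rw [if_pos h0, h0, wm_axpy_zero _ _ hp ha]
      · rw [if_neg h0]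
    rw [List.foldl_cons, hstep]
    obtain ⟨h1, h2⟩ := ih hl' (axpy p.1 p.2 acc) (wm_axpy_length _ _ _ hp ha)
    refine ⟨h1, fun j => ?_⟩
    rw [h2 j, wm_axpy_getD _ _ _ hp ha, List.map_cons, List.sum_cons]
    ring

theorem wm_vecM (v : List ℤ) (B : LL) (hv : v.length = 6) (hB : WF B) :
    (vecM v B).length = 6 ∧ ∀ j : ℕ, (vecM v B).getD j 0
      = v.getD 0 0 * (B.getD 0 []).getD j 0 + v.getD 1 0 * (B.getD 1 []).getD j 0
        + v.getD 2 0 * (B.getD 2 []).getD j 0 + v.getD 3 0 * (B.getD 3 []).getD j 0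
        + v.getD 4 0 * (B.getD 4 []).getD j 0 + v.getD 5 0 * (B.getD 5 []).getD j 0 := by
  obtain ⟨v0, v1, v2, v3, v4, v5, rfl⟩ := wm_len6 v hv
  obtain ⟨s0, s1, s2, s3, s4, s5, rfl⟩ := wm_len6 B hB.1
  have hrows : ∀ p ∈ List.zip [v0, v1, v2, v3, v4, v5] [s0, s1, s2, s3, s4, s5], p.2.length = 6 := by
    intro p hp
    exact hB.2 p.2 (List.of_mem_zip hp).2
  obtain ⟨h1, h2⟩ := wm_foldl _ hrows zero6 rfl
  refine ⟨h1, fun j => ?_⟩
  unfold vecM
  rw [h2 j]
  have hz : zero6.getD j 0 = 0 := by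
    unfold zero6
    match j with
    | 0 => rfl
    | 1 => rfl
    | 2 => rfl
    | 3 => rfl
    | 4 => rfl
    | 5 => rfl
    | (k + 6) => simp
  rw [hz]
  simp
  ring

/-- (WMUL) soundness of the fast product of tables -/
theorem toMat_mmul (X Y : LL) (hX : WF X) (hY : WF Y) :
    WF (mmul X Y) ∧ toMat (mmul X Y) = toMat X * toMat Y := by
  constructor
  · refine ⟨by simp [mmul, hX.1], ?_⟩
    intro r hr
    unfold mmul at hr
    rw [List.mem_map] at hr
    obtain ⟨r', hr', rfl⟩ := hr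
    exact (wm_vecM r' Y (hX.2 r' hr') hY).1
  · obtain ⟨r0, r1, r2, r3, r4, r5, rfl⟩ := wm_len6 X hX.1
    have key : ∀ (r : List ℤ), r ∈ [r0, r1, r2, r3, r4, r5] → ∀ j : Fin 6,
        (vecM r Y).getD j.val 0 = ∑ k : Fin 6, r.getD k.val 0 * toMat Y k j := by
      intro r hr j
      rw [(wm_vecM r Y (hX.2 r hr) hY).2 j.val, Fin.sum_univ_six]
      rfl
    ext i j
    rw [Matrix.mul_apply]
    fin_cases i
    · exact key r0 (by simp) j
    · exact key r1 (by simp) j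
    · exact key r2 (by simp) j
    · exact key r3 (by simp) j
    · exact key r4 (by simp) j
    · exact key r5 (by simp) j

/-- (WMUL) the table of a matrix, written out -/
theorem ofMat_eq (M : Matrix (Fin 6) (Fin 6) ℤ) :
    ofMat M = [List.ofFn (M 0), List.ofFn (M 1), List.ofFn (M 2), List.ofFn (M 3), List.ofFn (M 4),
      List.ofFn (M 5)] := by
  unfold ofMat
  simp [List.ofFn_succ]

/-- (WMUL) `toMat` and `ofMat` -/
theorem toMat_ofMat (M : Matrix (Fin 6) (Fin 6) ℤ) : WF (ofMat M) ∧ toMat (ofMat M) = M := by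
  constructor
  · refine ⟨by simp [ofMat], ?_⟩
    intro r hr
    unfold ofMat at hr
    rw [List.mem_ofFn] at hr
    obtain ⟨i, rfl⟩ := hr
    simp
  · ext i j
    rw [ofMat_eq]
    fin_cases i <;> fin_cases j <;> simp [toMat, List.ofFn_succ]

/-- (WMUL) a well-formed table is the table of its matrix -/
theorem ofMat_toMat (L : LL) (hL : WF L) : ofMat (toMat L) = L := by
  obtain ⟨r0, r1, r2, r3, r4, r5, rfl⟩ := wm_len6 L hL.1
  obtain ⟨a0, a1, a2, a3, a4, a5, rfl⟩ := wm_len6 r0 (hL.2 r0 (by simp))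
  obtain ⟨b0, b1, b2, b3, b4, b5, rfl⟩ := wm_len6 r1 (hL.2 r1 (by simp))
  obtain ⟨c0, c1, c2, c3, c4, c5, rfl⟩ := wm_len6 r2 (hL.2 r2 (by simp))
  obtain ⟨d0, d1, d2, d3, d4, d5, rfl⟩ := wm_len6 r3 (hL.2 r3 (by simp))
  obtain ⟨e0, e1, e2, e3, e4, e5, rfl⟩ := wm_len6 r4 (hL.2 r4 (by simp))
  obtain ⟨f0, f1, f2, f3, f4, f5, rfl⟩ := wm_len6 r5 (hL.2 r5 (by simp))
  rw [ofMat_eq]
  simp [toMat, List.ofFn_succ]

end Cfsg.Agent.Helper55.E6Tor
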