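import Cfsg.Agent.Helper36.F4Odd.Defs
import Cfsg.Agent.Helper60.F4OddSG
import Cfsg.Agent.Helper50.F4OddFL
import Cfsg.Agent.Helper89.G2InvFF2

/-!
helper55 for helper36 (S4280, batch I, piece (AL), hedge): an involution `k n_w` of `F₄(F)`, `|F|` odd, with
`w p₃ = -p₃`, `w p₂ = -p₂` is conjugate to an involution `k' n_w` which is a square at `p₃` or at `p₂`.
-/

set_option autoImplicit false
set_option maxRecDepth 100000

namespace Cfsg.Agent.Helper55.F4Odd

open Cfsg Cfsg.Lie Cfsg.Agent.Helper18 Cfsg.Agent.Helper36.F4Odd Cfsg.Agent.Helper40.SL2Hom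

variable {F : Type*} [Field F]

theorem al_sgW_pm (w : List ℕ) (s : ℕ) : sgW w s = 1 ∨ sgW w s = -1 := by
  induction w with
  | nil => left; rfl
  | cons i w ih =>
    have e : sgW (i :: w) s = Cfsg.Agent.Helper36.etaAt (epF4 i) (aW w s) * sgW w s := rfl
    rw [e]
    unfold Cfsg.Agent.Helper36.etaAt
    split_ifs <;> rcases ih with h | h <;> rw [h] <;> simp

/-- the sign as a field element is a square when `-1` is -/
theorem al_sg_sq (h : IsSquare (-1 : F)) (w : List ℕ) (s : ℕ) : IsSquare (((sgW w s : ℤ) : F)) := by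
  rcases al_sgW_pm w s with e | e
  · rw [e]; exact ⟨1, by simp⟩
  · rw [e]; simpa using h

theorem al_sg_ne (w : List ℕ) (s : ℕ) : (((sgW w s : ℤ) : F)) * (((sgW w s : ℤ) : F)) = 1 := by
  rcases al_sgW_pm w s with e | e <;> rw [e] <;> simp

theorem al_chr19 (c : Fin chevF4.rank → Fˣ) : chr 19 c = chr 22 c * chr 20 c := by
  unfold chr
  rw [← Finset.prod_mul_distrib]
  apply Finset.prod_congr rfl
  intro i _
  rw [← zpow_add]
  congr 1
  revert i
  decide

theorem al_sq_ne_zero {a e : F} (ha : a ≠ 0) (he : a = e * e) : e ≠ 0 := by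
  rintro rfl
  rw [mul_zero] at he
  exact ha he

theorem al_nW2_sq : nW (F := F) [2] * nW [2] ∈ chevF4.diagonalSubgroup F := by
  rw [nW_cons, nW_nil, mul_one]
  exact nGL_sq_mem chevF4 hF4 _ (simple_lt48 2 (by norm_num))

/-- the action of `m = tor c * nW w` on `X_s` -/
theorem al_conj (c : Fin chevF4.rank → Fˣ) (w : List ℕ) (hw : ∀ i ∈ w, i < 4) (s s' : ℕ) (hs : s < 48)
    (h : aW w s = s') (t : F) :
    (tor c * nW w) * X s t * (tor c * nW w)⁻¹ = X s' (((chr s' c : Fˣ) : F) * ((sgW w s : ℤ) : F) * t) := by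
  rw [Cfsg.Agent.Helper60.F4Odd.monomial_conj_sg c w hw s hs t, h]

theorem al_sg_ne_zero (w : List ℕ) (s : ℕ) : (((sgW w s : ℤ) : F)) ≠ 0 := by
  intro h0
  have := al_sg_ne (F := F) w s
  rw [h0, mul_zero] at this
  exact zero_ne_one this

/-- (AL) an involution `m = k n_w` with `w p₃ = -p₃`, `w p₂ = -p₂` is conjugate to an involution `k' n_w` which is a
square at `p₃` or at `p₂`. -/
theorem adj_square [Fintype F] (hF : Odd (Fintype.card F)) (w : List ℕ) (hw : ∀ i ∈ w, i < 4)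
    (h1 : aW w 25 = 22) (h2 : aW w 27 = 20) (h3 : aW w 28 = 19)
    (hcomm : ∀ x < 48, aW (2 :: (w ++ [2])) x = aW w x)
    (c : Fin chevF4.rank → Fˣ) (hmm : (tor c * nW w) * (tor c * nW w) = 1) :
    ∃ c' : Fin chevF4.rank → Fˣ, ConjG (tor c * nW w) (tor c' * nW w) ∧
      (SqAt (tor c' * nW w) 25 ∨ SqAt (tor c' * nW w) 27) := by
  have e22 : (47 - 25 : ℕ) = 22 := rfl
  have e20 : (47 - 27 : ℕ) = 20 := rfl
  set m : GL chevF4.Idx F := tor c * nW w with hm
  set c25 : F := ((chr 22 c : Fˣ) : F) * ((sgW w 25 : ℤ) : F) with hc25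
  set c27 : F := ((chr 20 c : Fˣ) : F) * ((sgW w 27 : ℤ) : F) with hc27
  set c28 : F := ((chr 19 c : Fˣ) : F) * ((sgW w 28 : ℤ) : F) with hc28
  have H25 : ∀ t : F, m * X 25 t * m⁻¹ = X 22 (c25 * t) := fun t => al_conj c w hw 25 22 (by norm_num) h1 t
  have H27 : ∀ t : F, m * X 27 t * m⁻¹ = X 20 (c27 * t) := fun t => al_conj c w hw 27 20 (by norm_num) h2 t
  have H28 : ∀ t : F, m * X 28 t * m⁻¹ = X 19 (c28 * t) := fun t => al_conj c w hw 28 19 (by norm_num) h3 t
  have hc250 : c25 ≠ 0 := mul_ne_zero (Units.ne_zero _) (al_sg_ne_zero w 25)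
  have hc270 : c27 ≠ 0 := mul_ne_zero (Units.ne_zero _) (al_sg_ne_zero w 27)
  have hc280 : c28 ≠ 0 := mul_ne_zero (Units.ne_zero _) (al_sg_ne_zero w 28)
  -- the easy cases
  by_cases hs25 : IsSquare c25
  · obtain ⟨e, he⟩ := hs25
    refine ⟨c, ConjG.refl _, Or.inl ⟨e, al_sq_ne_zero hc250 he, fun t => ?_⟩⟩
    rw [H25 t, he, e22]
  by_cases hs27 : IsSquare c27
  · obtain ⟨e, he⟩ := hs27
    refine ⟨c, ConjG.refl _, Or.inr ⟨e, al_sq_ne_zero hc270 he, fun t => ?_⟩⟩
    rw [H27 t, he, e20]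
  by_cases hneg1 : IsSquare (-1 : F)
  · -- `-1` is a square: conjugate by `n_{p₃}`
    have hc28sq : IsSquare c28 := by
      have hprod : IsSquare (c25 * c27) :=
        Cfsg.Agent.Helper89.G2Inv.isSquare_mul_of_not_isSquare hF hs25 hs27
      have e : c28 = (c25 * c27) *
          (((sgW w 25 : ℤ) : F) * ((sgW w 27 : ℤ) : F) * ((sgW w 28 : ℤ) : F)) := by
        rw [hc28, hc25, hc27, al_chr19 c]
        rcases al_sgW_pm w 25 with e25 | e25 <;> rcases al_sgW_pm w 27 with e27 | e27 <;>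
          rw [e25, e27] <;> push_cast <;> ring
      rw [e]
      exact IsSquare.mul hprod
        (IsSquare.mul (IsSquare.mul (al_sg_sq hneg1 w 25) (al_sg_sq hneg1 w 27)) (al_sg_sq hneg1 w 28))
    have hw2 : ∀ i ∈ [2], i < 4 := by decide
    have hn2 : nW (F := F) [2] ∈ chevF4.monomialSubgroup F := nW_mem [2] hw2
    have hw' : ∀ i ∈ (2 :: (w ++ [2])), i < 4 := by
      intro i hi
      rcases List.mem_cons.mp hi with rfl | hi
      · norm_num
      · rcases List.mem_append.mp hi with hi | hi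
        · exact hw i hi
        · rw [List.mem_singleton.mp hi]; norm_num
    obtain ⟨k₁, hk₁, hk₁eq⟩ := nW_congr (F := F) (2 :: (w ++ [2])) w hw' hw (by
      intro r hr
      rw [← (aW_eq_rho _ hw' r hr).1, ← (aW_eq_rho w hw r hr).1]
      exact hcomm r hr)
    have e1 : nW (F := F) (2 :: (w ++ [2])) = nW [2] * nW w * nW [2] := by
      rw [show (2 :: (w ++ [2])) = [2] ++ w ++ [2] by simp, nW_append, nW_append]
    have hh₂mem : (nW (F := F) [2] * nW [2])⁻¹ ∈ chevF4.diagonalSubgroup F := inv_mem al_nW2_sq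
    have hk' : (nW [2] * tor c * (nW [2])⁻¹) * k₁ * (nW w * (nW (F := F) [2] * nW [2])⁻¹ * (nW w)⁻¹) ∈
        chevF4.diagonalSubgroup F :=
      mul_mem (mul_mem (conj_mem_diagonal _ _ hn2 (tor_mem c)) hk₁)
        (conj_mem_diagonal _ _ (nW_mem w hw) hh₂mem)
    obtain ⟨c', hc'⟩ := (mem_diagonal_iff _).mp hk'
    have hk₁' : k₁ = nW [2] * nW w * nW [2] * (nW w)⁻¹ := by
      rw [← e1, hk₁eq]; group
    have hm₂ : tor c' * nW w = nW [2] * m * (nW [2])⁻¹ := by
      rw [← hc', hm, hk₁']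
      group
    have e28 : aW [2] 28 = 27 := by decide
    have e19 : aW [2] 19 = 20 := by decide
    have hA : ∀ u : F, nW [2] * X 28 u * (nW [2])⁻¹ = X 27 (((sgW [2] 28 : ℤ) : F) * u) := fun u => by
      have := Cfsg.Agent.Helper60.F4Odd.nW_conj_sg (F := F) [2] hw2 28 (by norm_num) u
      rw [e28] at this
      exact this
    have hB : ∀ u : F, nW [2] * X 19 u * (nW [2])⁻¹ = X 20 (((sgW [2] 19 : ℤ) : F) * u) := fun u => by
      have := Cfsg.Agent.Helper60.F4Odd.nW_conj_sg (F := F) [2] hw2 19 (by norm_num) u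
      rw [e19] at this
      exact this
    have hA' : ∀ t : F, (nW [2])⁻¹ * X 27 t * nW [2] = X 28 (((sgW [2] 28 : ℤ) : F) * t) := fun t => by
      have h := hA (((sgW [2] 28 : ℤ) : F) * t)
      rw [← mul_assoc, al_sg_ne, one_mul] at h
      rw [← h]
      group
    have hsq : IsSquare (((sgW [2] 19 : ℤ) : F) * c28 * ((sgW [2] 28 : ℤ) : F)) :=
      IsSquare.mul (IsSquare.mul (al_sg_sq hneg1 [2] 19) hc28sq) (al_sg_sq hneg1 [2] 28)
    obtain ⟨e, he⟩ := hsq
    have he0 : e ≠ 0 :=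
      al_sq_ne_zero (mul_ne_zero (mul_ne_zero (al_sg_ne_zero [2] 19) hc280) (al_sg_ne_zero [2] 28)) he
    refine ⟨c', ⟨nW [2], monomial_le_group hn2, hm₂.symm⟩, Or.inr ⟨e, he0, fun t => ?_⟩⟩
    rw [hm₂, e20]
    calc nW [2] * m * (nW [2])⁻¹ * X 27 t * (nW [2] * m * (nW [2])⁻¹)⁻¹
        = nW [2] * (m * ((nW [2])⁻¹ * X 27 t * nW [2]) * m⁻¹) * (nW [2])⁻¹ := by group
      _ = X 20 (e * e * t) := by
          rw [hA' t, H28, hB, ← he]
          congr 1
          ring
  · -- `-1` is a non-square: flip at `p₃`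
    obtain ⟨j, hj⟩ := Cfsg.Agent.Helper89.G2Inv.isSquare_mul_of_not_isSquare hF hneg1 hs25
    have hj0 : j ≠ 0 := by
      rintro rfl
      rw [mul_zero] at hj
      exact hc250 (by linear_combination -hj)
    have hflip := Cfsg.Agent.Helper50.F4OddFL.flip_reduce hF 25 (by norm_num) m hmm c25 j⁻¹ (inv_ne_zero hj0)
      (by
        field_simp
        linear_combination (-1 : F) * hj) (fun t => by rw [H25 t, e22])
    have hk₂ : tor c * (nW w * hh 25 (-1) * (nW w)⁻¹) ∈ chevF4.diagonalSubgroup F :=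
      mul_mem (tor_mem c) (conj_mem_diagonal _ _ (nW_mem w hw)
        (hh_mem_diagonal 25 (by norm_num) (-1) (neg_ne_zero.2 one_ne_zero)))
    obtain ⟨c', hc'⟩ := (mem_diagonal_iff _).mp hk₂
    have hk₂eq : tor c' * nW w = m * hh 25 (-1 : F) := by
      rw [← hc', hm]; group
    obtain ⟨e, he⟩ := Cfsg.Agent.Helper89.G2Inv.isSquare_mul_of_not_isSquare hF hneg1 hs27
    have he0 : e ≠ 0 := by
      rintro rfl
      rw [mul_zero] at he
      exact hc270 (by linear_combination -he)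
    refine ⟨c', ?_, Or.inr ⟨e, he0, fun t => ?_⟩⟩
    · rw [hk₂eq]; exact hflip
    · rw [hk₂eq, mul_inv_rev, e20]
      have hp : pairing' chevF4 25 27 = -1 := by decide
      calc m * hh 25 (-1 : F) * X 27 t * ((hh 25 (-1 : F))⁻¹ * m⁻¹)
          = m * (hh 25 (-1 : F) * X 27 t * (hh 25 (-1 : F))⁻¹) * m⁻¹ := by group
        _ = X 20 (e * e * t) := by
            rw [hh_conj 25 27 (by norm_num) (by norm_num) (-1) t (neg_ne_zero.2 one_ne_zero), hp, H27]
            congr 1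
            rw [zpow_neg_one, inv_neg_one]
            linear_combination t * he

end Cfsg.Agent.Helper55.F4Odd
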