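import Cfsg.Agent.Helper18.InvOdd.G2B

/-!
# helper18's S4278/S4279, batch B, piece (C): the involutions of `N` in `G₂(F)`
(proof plan of the skeleton docstring / helper42's handover note).
-/

set_option autoImplicit false
set_option maxRecDepth 100000

namespace Cfsg.Agent.Helper55.G2Inv

open Cfsg Cfsg.Lie Cfsg.Agent.Helper18 Cfsg.Agent.Helper18.G2Odd Cfsg.Agent.Helper40.SL2Hom

variable {F : Type*} [Field F]

theorem c_rho_01 : ¬ ∀ s < 12, rho chevG2 ([0, 1] ++ [0, 1]) s = s := by decide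
theorem c_rho_10 : ¬ ∀ s < 12, rho chevG2 ([1, 0] ++ [1, 0]) s = s := by decide
theorem c_rho_0101 : ¬ ∀ s < 12, rho chevG2 ([0, 1, 0, 1] ++ [0, 1, 0, 1]) s = s := by decide
theorem c_rho_1010 : ¬ ∀ s < 12, rho chevG2 ([1, 0, 1, 0] ++ [1, 0, 1, 0]) s = s := by decide

/-- (C) the involutions of `N`: in `H`, or `N`-conjugate into `H n_p` for a fundamental root `p ∈ {6, 7}`, or in
`H n_{w₀}`. -/
theorem invol_N_cases (m : GL chevG2.Idx F) (hm : m ∈ chevG2.monomialSubgroup F) (hmm : m * m = 1) :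
    m ∈ chevG2.diagonalSubgroup F ∨
    (∃ g ∈ chevG2.monomialSubgroup F, ∃ r : ℕ, (r = 6 ∨ r = 7) ∧ ∃ k ∈ chevG2.diagonalSubgroup F,
      g * m * g⁻¹ = k * nn r) ∨
    (∃ k ∈ chevG2.diagonalSubgroup F, m = k * nW [0, 1, 0, 1, 0, 1]) := by
  obtain ⟨k, hk, w, hw, rfl⟩ := monomial_canon m hm
  have hwlt : ∀ i ∈ w, i < 2 := canon_lt w hw
  have hnW : nW (F := F) w ∈ chevG2.monomialSubgroup F := nW_mem w hwlt
  -- `nW (w ++ w) ∈ H`
  have hsq : nW (F := F) (w ++ w) ∈ chevG2.diagonalSubgroup F := by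
    rw [nW_append]
    have e : nW (F := F) w * nW w =
        (nW w * k⁻¹ * (nW w)⁻¹) * k⁻¹ * ((k * nW w) * (k * nW w)) := by group
    rw [e, hmm, mul_one]
    exact mul_mem (conj_mem_diagonal _ _ hnW (inv_mem hk)) (inv_mem hk)
  have hrho : ∀ s < 12, rho chevG2 (w ++ w) s = s := by
    intro s hs
    refine rho_eq_of_mem_diagonalSubgroup chevG2 hG2 (w ++ w) ?_ hsq s hs
    intro i hi
    rcases List.mem_append.mp hi with h | h <;> exact hwlt i h
  -- the two fundamental reflections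
  set a : GL chevG2.Idx F := wordGL chevG2 F (chevG2.nWord (chevG2.simple 0) (1 : F)) with ha_def
  set b : GL chevG2.Idx F := wordGL chevG2 F (chevG2.nWord (chevG2.simple 1) (1 : F)) with hb_def
  have ha : a ∈ chevG2.monomialSubgroup F := n_simple_mem 0 (by norm_num)
  have hb : b ∈ chevG2.monomialSubgroup F := n_simple_mem 1 (by norm_num)
  have haa : a * a ∈ chevG2.diagonalSubgroup F := n_simple_sq 0 (by norm_num)
  have hbb : b * b ∈ chevG2.diagonalSubgroup F := n_simple_sq 1 (by norm_num)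
  have ea : a = nn 7 := by rw [nn_eq 7 (by norm_num)]; rfl
  have eb : b = nn 6 := by rw [nn_eq 6 (by norm_num)]; rfl
  have conj' : ∀ n x : GL chevG2.Idx F, n ∈ chevG2.monomialSubgroup F →
      x ∈ chevG2.diagonalSubgroup F → n⁻¹ * x * n ∈ chevG2.diagonalSubgroup F := by
    intro n x hn hx
    have := conj_mem_diagonal n⁻¹ x (inv_mem hn) hx
    rwa [inv_inv] at this
  simp only [canon12, List.mem_cons, List.not_mem_nil, or_false] at hw
  rcases hw with rfl | rfl | rfl | rfl | rfl | rfl | rfl | rfl | rfl | rfl | rfl | rfl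
  · -- `[]`
    left
    rw [nW_nil, mul_one]
    exact hk
  · -- `[0]`
    right; left
    refine ⟨1, one_mem _, 7, Or.inr rfl, k, hk, ?_⟩
    rw [nW_cons, nW_nil, ← ha_def, ea]
    group
  · -- `[1]`
    right; left
    refine ⟨1, one_mem _, 6, Or.inl rfl, k, hk, ?_⟩
    rw [nW_cons, nW_nil, ← hb_def, eb]
    group
  · exact absurd hrho c_rho_01
  · exact absurd hrho c_rho_10
  · -- `[0, 1, 0]`
    right; left
    refine ⟨a⁻¹, inv_mem ha, 6, Or.inl rfl, (a⁻¹ * k * a) * (b * (a * a) * b⁻¹),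
      mul_mem (conj' a k ha hk) (conj_mem_diagonal b _ hb haa), ?_⟩
    rw [nW_cons, nW_cons, nW_cons, nW_nil, ← ha_def, ← hb_def, ← eb]
    group
  · -- `[1, 0, 1]`
    right; left
    refine ⟨b⁻¹, inv_mem hb, 7, Or.inr rfl, (b⁻¹ * k * b) * (a * (b * b) * a⁻¹),
      mul_mem (conj' b k hb hk) (conj_mem_diagonal a _ ha hbb), ?_⟩
    rw [nW_cons, nW_cons, nW_cons, nW_nil, ← ha_def, ← hb_def, ← ea]
    group
  · exact absurd hrho c_rho_0101
  · exact absurd hrho c_rho_1010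
  · -- `[0, 1, 0, 1, 0]`
    right; left
    refine ⟨(a * b)⁻¹, inv_mem (mul_mem ha hb), 7, Or.inr rfl,
      ((a * b)⁻¹ * k * (a * b)) * (a * ((b * (a * a) * b⁻¹) * (b * b)) * a⁻¹),
      mul_mem (conj' (a * b) k (mul_mem ha hb) hk)
        (conj_mem_diagonal a _ ha (mul_mem (conj_mem_diagonal b _ hb haa) hbb)), ?_⟩
    rw [nW_cons, nW_cons, nW_cons, nW_cons, nW_cons, nW_nil, ← ha_def, ← hb_def, ← ea]
    group
  · -- `[1, 0, 1, 0, 1]`
    right; left
    refine ⟨(b * a)⁻¹, inv_mem (mul_mem hb ha), 6, Or.inl rfl,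
      ((b * a)⁻¹ * k * (b * a)) * (b * ((a * (b * b) * a⁻¹) * (a * a)) * b⁻¹),
      mul_mem (conj' (b * a) k (mul_mem hb ha) hk)
        (conj_mem_diagonal b _ hb (mul_mem (conj_mem_diagonal a _ ha hbb) haa)), ?_⟩
    rw [nW_cons, nW_cons, nW_cons, nW_cons, nW_cons, nW_nil, ← ha_def, ← hb_def, ← eb]
    group
  · -- `[0, 1, 0, 1, 0, 1]`
    right; right
    exact ⟨k, hk, rfl⟩

end Cfsg.Agent.Helper55.G2Inv
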