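import Mathlib
import Cfsg.Agent.Helper64.GrossDefs
import Cfsg.Agent.Helper1.SGW11

set_option autoImplicit false
set_option linter.style.haveILetI false

/-!
# Gross's theorem (S3795), piece (A2): the ambient form of Claim A2 from the linear form
(helper55, for helper64)

For every chief factor `U / V` of `H` below `F(G)` the linear form, applied to the image of `H` in
`MulAut (U / V)`, puts the image of `c = ⁅x ^ (2 ^ n), g⁆` into `F(G / C_G(U / V))`.  The intersection `M` of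
the preimages of these Fitting subgroups is normal in `G`, and `M / (M ∩ F(G))` embeds into a finite product
of nilpotent groups (S3766: the intersection of the `C_G(U / V)` is `F(G)`), so `M F(G) / F(G)` is a normal
nilpotent subgroup of `G / F(G)` and `M ≤ F₂(G)`.
-/

namespace Cfsg.Agent.Helper55.GrossA2

open Subgroup Cfsg.Agent.Helper64.Gross Cfsg.Agent.Helper47.SG Cfsg.Agent.Helper1.SG
open scoped commutatorElement

universe u

/-- the linear form for a group `W` with a commutativity proof instead of a `CommGroup` instance. -/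
theorem lin_apply2 (h : ClaimA2LinStmt.{u}) (W : Type u) [instG : Group W] [Finite W]
    (hcomm : ∀ a b : W, a * b = b * a) (r n : ℕ) (H G : Subgroup (MulAut W)) (x : MulAut W)
    (hr : r.Prime) (hr2 : r ≠ 2) (hexp : ∀ w : W, w ^ r = 1)
    (hGH : G ≤ H) (hHG : H ≤ Subgroup.normalizer (G : Set (MulAut W)))
    (hsol : Group.IsSolvable ↥G) (h2G : ¬ 2 ∣ Nat.card G) (hxH : x ∈ H)
    (hx2 : x ^ (2 ^ (n + 1)) = 1) (hfixG : ∀ a ∈ G, x * a = a * x → a = 1)
    (hfixW : ∀ w : W, x w = w → w = 1)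
    (hirr : ∀ W₀ : Subgroup W, (∀ h ∈ H, ∀ w ∈ W₀, h w ∈ W₀) → W₀ = ⊥ ∨ W₀ = ⊤) :
    ∀ a ∈ G, ⁅x ^ (2 ^ n), a⁆ ∈ (Cfsg.fittingSubgroup ↥G).map G.subtype := by
  letI instC : CommGroup W := { instG with mul_comm := hcomm }
  exact h W r n H G x hr hr2 hexp hGH hHG hsol h2G hxH hx2 hfixG hfixW hirr

section chief

variable {H : Type u} [Group H] [Finite H]

/-- the image of `c = ⁅x ^ (2 ^ n), g⁆` in `MulAut (U / V)` lies in the Fitting subgroup of the image of `G`,
for a chief factor `U / V` of `H` below `G` with `U / V` abelian. -/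
theorem chief_step2 (h : ClaimA2LinStmt.{u}) (G : Subgroup H) [hGn : G.Normal] (x : H) (n : ℕ)
    (hHsol : Group.IsSolvable H)
    (h2G : ¬ 2 ∣ Nat.card G) (hx2 : x ^ (2 ^ (n + 1)) = 1)
    (hfix : ∀ g ∈ G, x * g = g * x → g = 1)
    (U V : Subgroup H) [hU : U.Normal] [hV : V.Normal] (hlt : V < U)
    (hmax : ∀ W : Subgroup H, W.Normal → V ≤ W → W ≤ U → W = V ∨ W = U)
    (hUG : U ≤ G) (hab : ∀ a ∈ U, ∀ b ∈ U, a * b * a⁻¹ * b⁻¹ ∈ V)
    (g : H) (hg : g ∈ G) :
    Cfsg.Agent.Helper54.Quad.secAct U V ⁅x ^ (2 ^ n), g⁆ ∈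
      (Cfsg.fittingSubgroup ↥(G.map (Cfsg.Agent.Helper54.Quad.secAct U V))).map
        (G.map (Cfsg.Agent.Helper54.Quad.secAct U V)).subtype := by
  classical
  haveI := hHsol
  set φ : H →* MulAut (↥U ⧸ V.subgroupOf U) := Cfsg.Agent.Helper54.Quad.secAct U V with hφ
  -- `U / V` is abelian
  have hcomm : ∀ a b : ↥U ⧸ V.subgroupOf U, a * b = b * a := by
    intro a b
    induction a using QuotientGroup.induction_on with
    | H a =>
    induction b using QuotientGroup.induction_on with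
    | H b =>
    rw [← QuotientGroup.mk_mul, ← QuotientGroup.mk_mul, QuotientGroup.eq, mem_subgroupOf]
    have h1 := hab _ (U.inv_mem b.2) _ (U.inv_mem a.2)
    have e : (((a * b)⁻¹ * (b * a) : U) : H) = (b : H)⁻¹ * (a : H)⁻¹ * (b : H)⁻¹⁻¹ * (a : H)⁻¹⁻¹ := by
      push_cast
      group
    rw [e]
    exact h1
  -- a prime dividing the order
  have hW1 : Nat.card (↥U ⧸ V.subgroupOf U) ≠ 1 := by
    intro h1
    have h2 : V.subgroupOf U = ⊤ := by
      have := Subgroup.index_eq_one.mp (by rw [Subgroup.index, h1] : (V.subgroupOf U).index = 1)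
      exact this
    rw [Subgroup.subgroupOf_eq_top] at h2
    exact (not_le_of_gt hlt) h2
  obtain ⟨r, hr, hrd⟩ := Nat.exists_prime_and_dvd hW1
  haveI : Fact r.Prime := ⟨hr⟩
  have hirr := chief_irr U V hlt.le hmax
  -- exponent `r`
  have hexp : ∀ w : ↥U ⧸ V.subgroupOf U, w ^ r = 1 := by
    let Ω : Subgroup (↥U ⧸ V.subgroupOf U) :=
      { carrier := {w | w ^ r = 1}
        mul_mem' := by
          intro a b ha hb
          have hc : Commute a b := hcomm a b
          show (a * b) ^ r = 1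
          rw [hc.mul_pow, ha, hb, one_mul]
        one_mem' := one_pow _
        inv_mem' := by
          intro a ha
          show a⁻¹ ^ r = 1
          rw [inv_pow, ha, inv_one] }
    have hΩinv : ∀ h' : H, ∀ w ∈ Ω, φ h' w ∈ Ω := by
      intro h' w hw
      show (φ h' w) ^ r = 1
      rw [← map_pow, hw, map_one]
    obtain ⟨y, hy⟩ := exists_prime_orderOf_dvd_card' r hrd
    have hyΩ : y ∈ Ω := by
      show y ^ r = 1
      rw [← hy]
      exact pow_orderOf_eq_one y
    rcases hirr Ω hΩinv with hb | ht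
    · exfalso
      rw [hb, mem_bot] at hyΩ
      rw [hyΩ, orderOf_one] at hy
      exact hr.one_lt.ne hy
    · intro w
      have : w ∈ Ω := by rw [ht]; exact mem_top w
      exact this
  have hr2 : r ≠ 2 := by
    rintro rfl
    exact h2G (hrd.trans ((Subgroup.card_quotient_dvd_card _).trans (Subgroup.card_dvd_of_le hUG)))
  -- the linear form
  have hxV : ∀ k ∈ V, x * k * x⁻¹ ∈ V := fun k hk => hV.conj_mem k hk x
  have hlin := lin_apply2 h (↥U ⧸ V.subgroupOf U) hcomm r n φ.range (G.map φ) (φ x) hr hr2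
    hexp (Subgroup.map_le_range φ G)
    (by
      rintro _ ⟨h', rfl⟩
      rw [mem_normalizer_iff]
      intro a
      constructor
      · rintro ⟨g', hg', rfl⟩
        exact ⟨h' * g' * h'⁻¹, hGn.conj_mem g' hg' h', by rw [map_mul, map_mul, map_inv]⟩
      · rintro ⟨g', hg', e⟩
        refine ⟨h'⁻¹ * g' * h', ?_, ?_⟩
        · have := hGn.conj_mem g' hg' h'⁻¹
          rwa [inv_inv] at this
        · rw [map_mul, map_mul, map_inv, e]
          group)
    (Group.isSolvable_of_surjective (φ.subgroupMap_surjective G))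
    (fun hd => h2G (hd.trans (Subgroup.card_dvd_of_surjective _ (φ.subgroupMap_surjective G))))
    ⟨x, rfl⟩ (by rw [← map_pow, hx2, map_one])
    (by
      rintro _ ⟨g', hg', rfl⟩ hc
      have hK : g' ∈ φ.ker ⊓ G := by
        apply mem_of_fpf_mod x G (φ.ker ⊓ G) inf_le_right _ hfix g' hg'
        · refine mem_inf.mpr ⟨?_, G.mul_mem (G.inv_mem hg') (hGn.conj_mem g' hg' x)⟩
          rw [MonoidHom.mem_ker, map_mul, map_mul, map_mul, map_inv, map_inv, hc]
          group
        · intro k hk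
          obtain ⟨hk1, hk2⟩ := mem_inf.mp hk
          refine mem_inf.mpr ⟨?_, hGn.conj_mem k hk2 x⟩
          rw [MonoidHom.mem_ker] at hk1 ⊢
          rw [map_mul, map_mul, hk1, mul_one, map_inv, mul_inv_cancel]
      exact MonoidHom.mem_ker.mp (mem_inf.mp hK).1)
    (by
      intro w hw
      induction w using QuotientGroup.induction_on with
      | H u' =>
      rw [hφ, Cfsg.Agent.Helper54.Quad.secAct_mk, QuotientGroup.eq, mem_subgroupOf] at hw
      have hw' : ((u' : H)⁻¹ * (x * u' * x⁻¹)) ∈ V := by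
        have e : (((MulAut.conjNormal x u' : U)⁻¹ * u' : U) : H) =
            ((u' : H)⁻¹ * (x * u' * x⁻¹))⁻¹ := by
          push_cast
          rw [MulAut.conjNormal_apply]
          group
        rw [e] at hw
        simpa using V.inv_mem hw
      have huV : (u' : H) ∈ V :=
        mem_of_fpf_mod x U V hlt.le hxV (fun g' hg' => hfix g' (hUG hg')) u' u'.2 hw'
      rw [QuotientGroup.eq_one_iff, mem_subgroupOf]
      exact huV)
    (fun W₀ hW₀ => hirr W₀ (fun h' w hw => hW₀ (φ h') ⟨h', rfl⟩ w hw))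
  have h1 := hlin (φ g) ⟨g, hg, rfl⟩
  have e : φ ⁅x ^ (2 ^ n), g⁆ = ⁅φ x ^ (2 ^ n), φ g⁆ := by
    rw [map_commutatorElement, map_pow]
  rw [e]
  exact h1

end chief

/-- the image of a homomorphism `θ` whose kernel contains the kernel of a homomorphism into a nilpotent group
is nilpotent. -/
theorem isNilpotent_range_of_ker_le {A B P : Type*} [Group A] [Group B] [Group P] [Group.IsNilpotent P]
    (Ψ : A →* P) (θ : A →* B) (hker : Ψ.ker ≤ θ.ker) : Group.IsNilpotent θ.range := by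
  haveI h1 : Group.IsNilpotent (A ⧸ Ψ.ker) :=
    Group.nilpotent_of_mulEquiv (QuotientGroup.quotientKerEquivRange Ψ).symm
  have hL : (QuotientGroup.lift Ψ.ker θ hker).range = θ.range := by
    ext b
    constructor
    · rintro ⟨q, rfl⟩
      induction q using QuotientGroup.induction_on with
      | H a => exact ⟨a, rfl⟩
    · rintro ⟨a, rfl⟩
      exact ⟨QuotientGroup.mk a, rfl⟩
  rw [← hL]
  exact Group.nilpotent_of_surjective (QuotientGroup.lift Ψ.ker θ hker).rangeRestrict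
    (QuotientGroup.lift Ψ.ker θ hker).rangeRestrict_surjective

/-- the chief factors of `H` below `F`. -/
structure ChiefBelow {H : Type u} [Group H] (F : Subgroup H) where
  U : Subgroup H
  V : Subgroup H
  hU : U.Normal
  hV : V.Normal
  hlt : V < U
  hmax : ∀ W : Subgroup H, W.Normal → V ≤ W → W ≤ U → W = V ∨ W = U
  hUF : U ≤ F

attribute [instance] ChiefBelow.hU ChiefBelow.hV

instance chiefBelow_finite {H : Type u} [Group H] [Finite H] (F : Subgroup H) : Finite (ChiefBelow F) :=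
  Finite.of_injective (fun i : ChiefBelow F => (i.U, i.V)) (by
    rintro ⟨U, V, _, _, _, _, _⟩ ⟨U', V', _, _, _, _, _⟩ h
    simp only [Prod.mk.injEq] at h
    obtain ⟨rfl, rfl⟩ := h
    rfl)

/-- (A2) -/
theorem claimA2_amb_of (h : ClaimA2LinStmt.{u}) : ClaimA2AmbStmt.{u} := by
  intro H _ _ G hGn x n hHsol h2G hx2 hfix g hg
  classical
  have hcG : ⁅x ^ (2 ^ n), g⁆ ∈ G := by
    rw [commutatorElement_def]
    exact G.mul_mem (hGn.conj_mem g hg _) (G.inv_mem hg)
  have hFn : ((Cfsg.fittingSubgroup ↥G).map G.subtype).Normal :=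
    Cfsg.Agent.Helper97.map_fittingSubgroup_normal G
  have hFnil : Group.IsNilpotent ↥((Cfsg.fittingSubgroup ↥G).map G.subtype) :=
    Cfsg.Agent.Helper97.isNilpotent_map_fittingSubgroup' G
  have hFG : (Cfsg.fittingSubgroup ↥G).map G.subtype ≤ G := by
    rintro _ ⟨y, _, rfl⟩
    exact y.2
  -- the section actions
  let φ : (i : ChiefBelow ((Cfsg.fittingSubgroup ↥G).map G.subtype)) →
      H →* MulAut (↥i.U ⧸ i.V.subgroupOf i.U) := fun i => Cfsg.Agent.Helper54.Quad.secAct i.U i.V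
  let K : ChiefBelow ((Cfsg.fittingSubgroup ↥G).map G.subtype) → Subgroup ↥G := fun i =>
    (Cfsg.fittingSubgroup ↥(G.map (φ i))).comap ((φ i).subgroupMap G)
  have hKn : ∀ i, (K i).Normal := fun i => Subgroup.Normal.comap (Cfsg.Agent.Lib.fittingSubgroup_normal) _
  have hMn : (⨅ i, K i).Normal := Subgroup.normal_iInf_normal hKn
  have hcM : (⟨⁅x ^ (2 ^ n), g⁆, hcG⟩ : ↥G) ∈ ⨅ i, K i := by
    rw [Subgroup.mem_iInf]
    intro i
    have hab : ∀ a ∈ i.U, ∀ b ∈ i.U, a * b * a⁻¹ * b⁻¹ ∈ i.V := by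
      intro a ha b hb
      exact Cfsg.Agent.Helper63.centralizes_chief_of_nilpotent (hM := hFn) hFnil
        ⟨i.hU, i.hV, i.hlt, i.hmax⟩ b (i.hUF hb) a ha
    obtain ⟨y, hy, hyc⟩ := chief_step2 h G x n hHsol h2G hx2 hfix i.U i.V i.hlt i.hmax (i.hUF.trans hFG) hab
      g hg
    have e : (φ i).subgroupMap G ⟨⁅x ^ (2 ^ n), g⁆, hcG⟩ = y := Subtype.ext hyc.symm
    show (φ i).subgroupMap G ⟨⁅x ^ (2 ^ n), g⁆, hcG⟩ ∈ Cfsg.fittingSubgroup ↥(G.map (φ i))
    rw [e]
    exact hy
  -- nilpotent targets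
  have hnilT : ∀ i, Group.IsNilpotent ↥(Cfsg.fittingSubgroup ↥(G.map (φ i))) := by
    intro i
    haveI : Finite (MulAut (↥i.U ⧸ i.V.subgroupOf i.U)) := MulEquiv.finite_left
    exact Cfsg.Agent.Lib.isNilpotent_fittingSubgroup
  let Ψ : ↥(⨅ i, K i) →* ∀ i : ChiefBelow ((Cfsg.fittingSubgroup ↥G).map G.subtype),
      ↥(Cfsg.fittingSubgroup ↥(G.map (φ i))) :=
    MonoidHom.pi (fun i => (((φ i).subgroupMap G).comp (⨅ i, K i).subtype).codRestrict _
      (fun m => Subgroup.mem_iInf.mp m.2 i))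
  let θ : ↥(⨅ i, K i) →* ↥G ⧸ Cfsg.fittingSubgroup ↥G :=
    (QuotientGroup.mk' (Cfsg.fittingSubgroup ↥G)).comp (⨅ i, K i).subtype
  have hker : Ψ.ker ≤ θ.ker := by
    intro m hm
    rw [MonoidHom.mem_ker] at hm ⊢
    show QuotientGroup.mk' (Cfsg.fittingSubgroup ↥G) (m : ↥G) = 1
    rw [QuotientGroup.mk'_apply, QuotientGroup.eq_one_iff]
    have hmF : ((m : ↥G) : H) ∈ (Cfsg.fittingSubgroup ↥G).map G.subtype := by
      rw [(Cfsg.Agent.S3766.result hHsol G ((m : ↥G) : H)).2]
      refine ⟨(m : ↥G).2, ?_⟩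
      rintro U V ⟨hU, hV, hlt, hmax⟩ hUF u hu
      have hi := congrFun hm ⟨U, V, hU, hV, hlt, hmax, hUF⟩
      have hφ1 : Cfsg.Agent.Helper54.Quad.secAct U V ((m : ↥G) : H) = 1 := by
        have := congrArg (fun z => ((z : ↥(G.map (Cfsg.Agent.Helper54.Quad.secAct U V))) :
          MulAut (↥U ⧸ V.subgroupOf U))) (congrArg Subtype.val hi)
        exact this
      have h1 := congrArg (fun σ : MulAut (↥U ⧸ V.subgroupOf U) => σ (QuotientGroup.mk ⟨u, hu⟩)) hφ1
      simp only [MulAut.one_apply] at h1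
      rw [Cfsg.Agent.Helper54.Quad.secAct_mk, QuotientGroup.eq, mem_subgroupOf] at h1
      have e : (((MulAut.conjNormal ((m : ↥G) : H) (⟨u, hu⟩ : U) : U)⁻¹ * ⟨u, hu⟩ : U) : H) =
          ((m : ↥G) : H) * u⁻¹ * ((m : ↥G) : H)⁻¹ * u := by
        push_cast
        rw [MulAut.conjNormal_apply]
        group
      rw [e] at h1
      have h2 := hV.conj_mem _ h1 u
      have e2 : u * (((m : ↥G) : H) * u⁻¹ * ((m : ↥G) : H)⁻¹ * u) * u⁻¹ =
          u * ((m : ↥G) : H) * u⁻¹ * ((m : ↥G) : H)⁻¹ := by group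
      rw [e2] at h2
      exact h2
    obtain ⟨y, hy, hym⟩ := hmF
    have : y = (m : ↥G) := Subtype.ext hym
    rw [← this]
    exact hy
  have hnil : Group.IsNilpotent θ.range := isNilpotent_range_of_ker_le Ψ θ hker
  have hrange : θ.range = (⨅ i, K i).map (QuotientGroup.mk' (Cfsg.fittingSubgroup ↥G)) := by
    rw [MonoidHom.range_comp, Subgroup.range_subtype]
  rw [hrange] at hnil
  have hnormal : ((⨅ i, K i).map (QuotientGroup.mk' (Cfsg.fittingSubgroup ↥G))).Normal :=
    Subgroup.Normal.map hMn _ (QuotientGroup.mk'_surjective _)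
  have hle := Cfsg.Agent.Lib.le_fittingSubgroup hnormal hnil
  refine ⟨⟨⁅x ^ (2 ^ n), g⁆, hcG⟩, ?_, rfl⟩
  show (⟨⁅x ^ (2 ^ n), g⁆, hcG⟩ : ↥G) ∈ fitting2 ↥G
  unfold fitting2
  rw [Subgroup.mem_comap]
  exact hle (Subgroup.mem_map_of_mem _ hcM)

end Cfsg.Agent.Helper55.GrossA2
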