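import Mathlib
import Cfsg.Agent.S0558

set_option autoImplicit false

/-!
Relative (inside a subgroup `C`) form of `Cfsg.Agent.S0558.result`, for helper91's Kegel–Wielandt
formalization (wrapper W3).
-/

namespace Cfsg.Agent.Helper55.KWRel3

/-- In a finite nilpotent group, an element of `p`-power order lies in every Sylow `p`-subgroup. -/
theorem mem_sylow_of_isNilpotent {H : Type*} [Group H] [Finite H] (hnil : Group.IsNilpotent H)
    {p : ℕ} [Fact p.Prime] (P : Sylow p H) (g : H) (hg : ∃ k : ℕ, g ^ (p ^ k) = 1) :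
    g ∈ (P : Subgroup H) := by
  have hPn : (P : Subgroup H).Normal :=
    (Group.isNilpotent_of_finite_tfae.out 0 3 rfl rfl).mp hnil p ‹_› P
  have huniq := Sylow.unique_of_normal P hPn
  have hz : IsPGroup p (Subgroup.zpowers g) := by
    obtain ⟨k, hk⟩ := hg
    rintro ⟨x, hx⟩
    obtain ⟨m, rfl⟩ := Subgroup.mem_zpowers_iff.mp hx
    refine ⟨k, ?_⟩
    apply Subtype.ext
    simp only [Subgroup.coe_pow, Subgroup.coe_one]
    rw [← zpow_natCast, ← zpow_mul, mul_comm, zpow_mul, zpow_natCast, hk, one_zpow]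
  obtain ⟨Q, hQ⟩ := hz.exists_le_sylow
  have : Q = P := Subsingleton.elim _ _
  rw [← this]
  exact hQ (Subgroup.mem_zpowers g)

theorem s0558_rel {G : Type*} [Group G] [Finite G] (C T : Subgroup G) (hT : T ≤ C)
    (hnil : Group.IsNilpotent T)
    (h2 : ∃ p q, p.Prime ∧ q.Prime ∧ p ≠ q ∧ p ∣ Nat.card T ∧ q ∣ Nat.card T)
    (hnorm : ∀ p, p.Prime → p ∣ Nat.card T → ∀ n ∈ C,
      (∀ g ∈ T, (∃ k, g ^ (p ^ k) = 1) → n * g * n⁻¹ ∈ T) → n ∈ T) :
    ∃ W : Subgroup G, W ≤ C ∧ (∀ c ∈ C, ∀ w ∈ W, c * w * c⁻¹ ∈ W) ∧ W ⊓ T = ⊥ ∧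
      Nat.card W * Nat.card T = Nat.card C := by
  classical
  set H : Subgroup C := T.subgroupOf C with hH
  have e : H ≃* T := Subgroup.subgroupOfEquivOfLe hT
  have hcardH : Nat.card H = Nat.card T := Nat.card_congr e.toEquiv
  have hnilH : Group.IsNilpotent H := (Group.isNilpotent_congr e).mpr hnil
  -- first hypothesis
  have hnot : ∀ p : ℕ, p.Prime → ∀ P : Sylow p C, (P : Subgroup C) ≠ H := by
    intro p hp P hPH
    have : Fact p.Prime := ⟨hp⟩
    have hpg : IsPGroup p H := hPH ▸ P.2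
    obtain ⟨k, hk⟩ := IsPGroup.iff_card.mp hpg
    obtain ⟨p1, q1, hp1, hq1, hne, hd1, hd2⟩ := h2
    rw [← hcardH, hk] at hd1 hd2
    have e1 : p1 = p := (Nat.prime_dvd_prime_iff_eq hp1 hp).mp (hp1.dvd_of_dvd_pow hd1)
    have e2 : q1 = p := (Nat.prime_dvd_prime_iff_eq hq1 hp).mp (hq1.dvd_of_dvd_pow hd2)
    exact hne (e1.trans e2.symm)
  -- second hypothesis
  have hnorm' : ∀ p : ℕ, p.Prime → p ∣ Nat.card H → ∀ P : Sylow p H,
      Subgroup.normalizer (((P : Subgroup H).map H.subtype : Subgroup C) : Set C) = H := by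
    intro p hp hpd P
    have : Fact p.Prime := ⟨hp⟩
    have hPn : (P : Subgroup H).Normal :=
      (Group.isNilpotent_of_finite_tfae.out 0 3 rfl rfl).mp hnilH p ‹_› P
    apply le_antisymm
    · intro n hn
      rw [hH, Subgroup.mem_subgroupOf]
      apply hnorm p hp (hcardH ▸ hpd) (n : G) n.2
      intro g hg hgk
      have hgC : g ∈ C := hT hg
      set g' : H := ⟨⟨g, hgC⟩, by rw [hH, Subgroup.mem_subgroupOf]; exact hg⟩ with hg'
      have hg'P : g' ∈ (P : Subgroup H) := by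
        apply mem_sylow_of_isNilpotent hnilH P g'
        obtain ⟨k, hk⟩ := hgk
        refine ⟨k, ?_⟩
        apply Subtype.ext
        apply Subtype.ext
        simp only [Subgroup.coe_pow, Subgroup.coe_one]
        exact hk
      have hmem : (⟨g, hgC⟩ : C) ∈ (P : Subgroup H).map H.subtype :=
        ⟨g', hg'P, rfl⟩
      have hconj := (Subgroup.mem_normalizer_iff.mp hn ⟨g, hgC⟩).mp hmem
      obtain ⟨y, _, hy⟩ := hconj
      have hyT : ((y : C) : G) ∈ T := Subgroup.mem_subgroupOf.mp y.2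
      have : ((y : C) : G) = (n : G) * g * (n : G)⁻¹ := by
        have := congrArg (Subtype.val : C → G) hy
        simpa using this
      rw [← this]
      exact hyT
    · have h1 : (Subgroup.normalizer ((P : Subgroup H) : Set H)).map H.subtype ≤
          Subgroup.normalizer (((P : Subgroup H).map H.subtype : Subgroup C) : Set C) :=
        Subgroup.le_normalizer_map _
      rw [Subgroup.normalizer_eq_top] at h1
      refine le_trans ?_ h1
      intro x hx
      exact ⟨⟨x, hx⟩, Subgroup.mem_top _, rfl⟩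
  obtain ⟨N, hNn, hNc⟩ := Cfsg.Agent.S0558.result H hnot hnorm'
  refine ⟨N.map C.subtype, Subgroup.map_subtype_le N, ?_, ?_, ?_⟩
  · rintro c hc w ⟨n, hn, rfl⟩
    refine ⟨⟨c, hc⟩ * n * ⟨c, hc⟩⁻¹, hNn.conj_mem n hn ⟨c, hc⟩, ?_⟩
    simp
  · rw [eq_bot_iff]
    rintro x ⟨⟨n, hn, rfl⟩, hxT⟩
    have hnH : n ∈ H := by rw [hH, Subgroup.mem_subgroupOf]; exact hxT
    have hdisj := hNc.disjoint
    have : n ∈ N ⊓ H := ⟨hn, hnH⟩
    rw [hdisj.eq_bot] at this
    rw [Subgroup.mem_bot] at this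
    rw [this]
    simp
  · rw [Subgroup.card_map_of_injective C.subtype_injective, ← hcardH]
    exact hNc.card_mul_card
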