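import Cfsg.Agent.Helper79.Mult.Defs

/-!
# S4756 farm of helper79 (#14100), leaf (CD)
-/

set_option autoImplicit false

universe u

namespace Cfsg.Agent.Helper55.Mult

open Cfsg Cfsg.Agent.Helper79.Mult

variable {G : Type u} [Group G] [Finite G]

/-- (CD) counting: `C_G(y) → G/D` is onto with kernel `C_D(y)`. -/
theorem commute_eq_one_of_card (D : Subgroup G) [D.Normal] (y : G)
    (hfix : ∀ g : G, ∃ d ∈ D, y * (g * d) = (g * d) * y)
    (hcard : Nat.card (Subgroup.centralizer ({y} : Set G)) = D.index) :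
    ∀ d ∈ D, y * d = d * y → d = 1 := by
  intro d hd hyd
  set C : Subgroup G := Subgroup.centralizer ({y} : Set G) with hC
  have hmemC : ∀ x : G, y * x = x * y → x ∈ C := by
    intro x hx
    rw [hC, Subgroup.mem_centralizer_iff]
    intro h hh
    rw [Set.mem_singleton_iff.mp hh]
    exact hx
  let φ : C →* G ⧸ D := (QuotientGroup.mk' D).comp C.subtype
  have hsurj : Function.Surjective φ := by
    intro q
    obtain ⟨g, rfl⟩ := QuotientGroup.mk_surjective q
    obtain ⟨e, he, hge⟩ := hfix g
    refine ⟨⟨g * e, hmemC _ hge⟩, ?_⟩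
    show ((g * e : G) : G ⧸ D) = (g : G ⧸ D)
    rw [QuotientGroup.eq]
    simpa using D.inv_mem he
  have hbij : Function.Bijective φ := by
    apply hsurj.bijective_of_nat_card_le
    rw [hcard, Subgroup.index_eq_card]
  have h1 : φ ⟨d, hmemC d hyd⟩ = φ 1 := by
    rw [map_one]
    show ((d : G) : G ⧸ D) = 1
    exact (QuotientGroup.eq_one_iff d).mpr hd
  have h2 := hbij.1 h1
  exact congrArg Subtype.val h2

end Cfsg.Agent.Helper55.Mult
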