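import Cfsg.Agent.Helper88.OMinus.YDefs
import Cfsg.Agent.Helper5.SLn

/-!
# (M-IOTA) for S2415 (helper88): the embedding `io : SL_k →* O⁻_{2k+2}`, `A ↦ diag(A, A⁻ᵀ, 1₂)`
(port of `Cfsg/Agent/Helper40/OOdd/Iota.lean`, helper30 after helper70).
-/

set_option autoImplicit false

namespace Cfsg.Agent.Helper55.OMinus

open Matrix QuadraticMap Cfsg.Agent.Helper44 Cfsg.Agent.Helper45.OmegaParity Cfsg.Agent.Helper5
open Cfsg.Agent.Helper40.Frame Cfsg.Agent.Helper88.OMinus

variable {F : Type*} [Field F] {k : ℕ} {a b : F}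

theorem lin_io_eV (A : Matrix.SpecialLinearGroup (Fin k) F) (j : Fin k) :
    lin (minusForm k F a b) (io A) (eV j) = ∑ i, A.1 i j • (eV i : Idx k → F) := by
  ext c
  rw [lin_apply, io_coe, eV, Matrix.mulVec_single_one, Finset.sum_apply]
  rcases c with (c | c) | c
  · simp only [Matrix.col_apply, Matrix.fromBlocks_apply₁₁, Pi.smul_apply,
      eV_e, smul_eq_mul, mul_ite, mul_one, mul_zero, Finset.sum_ite_eq, Finset.mem_univ, if_true]
  · simp only [Matrix.col_apply, Matrix.fromBlocks_apply₁₁, Matrix.fromBlocks_apply₂₁,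
      Matrix.zero_apply, Pi.smul_apply, eV_f, smul_eq_mul, mul_zero, Finset.sum_const_zero]
  · simp only [Matrix.col_apply, Matrix.fromBlocks_apply₂₁, Matrix.zero_apply,
      Pi.smul_apply, eV_w, smul_eq_mul, mul_zero, Finset.sum_const_zero]

theorem lin_io_fV (A : Matrix.SpecialLinearGroup (Fin k) F) (j : Fin k) :
    lin (minusForm k F a b) (io A) (fV j) = ∑ i, (A⁻¹).1 j i • (fV i : Idx k → F) := by
  ext c
  rw [lin_apply, io_coe, fV, Matrix.mulVec_single_one, Finset.sum_apply]
  rcases c with (c | c) | c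
  · simp only [Matrix.col_apply, Matrix.fromBlocks_apply₁₁, Matrix.fromBlocks_apply₁₂,
      Matrix.zero_apply, Pi.smul_apply, fV_e, smul_eq_mul, mul_zero, Finset.sum_const_zero]
  · simp only [Matrix.col_apply, Matrix.fromBlocks_apply₁₁, Matrix.fromBlocks_apply₂₂,
      Matrix.transpose_apply, Pi.smul_apply,
      fV_f, smul_eq_mul, mul_ite, mul_one, mul_zero, Finset.sum_ite_eq, Finset.mem_univ, if_true]
  · simp only [Matrix.col_apply, Matrix.fromBlocks_apply₂₁, Matrix.zero_apply,
      Pi.smul_apply, fV_w, smul_eq_mul, mul_zero, Finset.sum_const_zero]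

theorem lin_io_w1 (A : Matrix.SpecialLinearGroup (Fin k) F) :
    lin (minusForm k F a b) (io A) w1 = w1 := by
  ext c
  rw [lin_apply, io_coe, w1, Matrix.mulVec_single_one]
  rcases c with (c | c) | c
  · rw [Matrix.col_apply, Matrix.fromBlocks_apply₁₂, Matrix.zero_apply,
      Pi.single_eq_of_ne (by simp)]
  · rw [Matrix.col_apply, Matrix.fromBlocks_apply₁₂, Matrix.zero_apply,
      Pi.single_eq_of_ne (by simp)]
  · rw [Matrix.col_apply, Matrix.fromBlocks_apply₂₂, Matrix.one_apply, Pi.single_apply]
    simp only [Sum.inr.injEq]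

theorem lin_io_w2 (A : Matrix.SpecialLinearGroup (Fin k) F) :
    lin (minusForm k F a b) (io A) w2 = w2 := by
  ext c
  rw [lin_apply, io_coe, w2, Matrix.mulVec_single_one]
  rcases c with (c | c) | c
  · rw [Matrix.col_apply, Matrix.fromBlocks_apply₁₂, Matrix.zero_apply,
      Pi.single_eq_of_ne (by simp)]
  · rw [Matrix.col_apply, Matrix.fromBlocks_apply₁₂, Matrix.zero_apply,
      Pi.single_eq_of_ne (by simp)]
  · rw [Matrix.col_apply, Matrix.fromBlocks_apply₂₂, Matrix.one_apply, Pi.single_apply]
    simp only [Sum.inr.injEq]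

/-- if the `j`-th column of `A` is the `j`-th unit vector then `io A` fixes `e_j` -/
theorem lin_io_eV_fix (A : Matrix.SpecialLinearGroup (Fin k) F) (j : Fin k)
    (h : ∀ i, A.1 i j = if i = j then 1 else 0) :
    lin (minusForm k F a b) (io A) (eV j) = eV j := by
  rw [lin_io_eV]
  simp only [h, ite_smul, one_smul, zero_smul, Finset.sum_ite_eq', Finset.mem_univ, if_true]

/-- the `j`-th row of `A⁻¹` when the `j`-th row of `A` is the `j`-th unit vector -/
theorem io_inv_row (A : Matrix.SpecialLinearGroup (Fin k) F) (j : Fin k)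
    (h : ∀ i, A.1 j i = if i = j then 1 else 0) (i : Fin k) :
    (A⁻¹).1 j i = if i = j then 1 else 0 := by
  have h1 : (A * A⁻¹).1 j i = (1 : Matrix.SpecialLinearGroup (Fin k) F).1 j i := by
    rw [mul_inv_cancel]
  rw [Matrix.SpecialLinearGroup.coe_mul, Matrix.mul_apply, Matrix.SpecialLinearGroup.coe_one,
    Matrix.one_apply] at h1
  simp only [h, ite_mul, one_mul, zero_mul, Finset.sum_ite_eq', Finset.mem_univ, if_true] at h1
  rw [h1]
  by_cases hij : j = i
  · rw [if_pos hij, if_pos hij.symm]
  · rw [if_neg hij, if_neg (fun h' => hij h'.symm)]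

/-- if the `j`-th row of `A` is the `j`-th unit vector then `io A` fixes `f_j` -/
theorem lin_io_fV_fix (A : Matrix.SpecialLinearGroup (Fin k) F) (j : Fin k)
    (h : ∀ i, A.1 j i = if i = j then 1 else 0) :
    lin (minusForm k F a b) (io A) (fV j) = fV j := by
  rw [lin_io_fV]
  simp only [io_inv_row A j h, ite_smul, one_smul, zero_smul, Finset.sum_ite_eq',
    Finset.mem_univ, if_true]

/-- the inverse of a transvection -/
theorem io_transvection_inv {i j : Fin k} (hij : i ≠ j) (t : F) :
    (Matrix.SpecialLinearGroup.transvection hij t)⁻¹ =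
      Matrix.SpecialLinearGroup.transvection hij (-t) := by
  rw [inv_eq_iff_mul_eq_one]
  apply Subtype.ext
  rw [Matrix.SpecialLinearGroup.coe_mul, Matrix.SpecialLinearGroup.coe_one]
  show Matrix.transvection i j t * Matrix.transvection i j (-t) = 1
  rw [Matrix.transvection_mul_transvection_same i j hij, add_neg_cancel, Matrix.transvection_zero]

theorem io_transvection {i j : Fin k} (hij : i ≠ j) (t : F) :
    (io (Matrix.SpecialLinearGroup.transvection hij t) : OG k F a b) = (frame k F a b).xpm i j t := by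
  apply isom_ext_basis
  · rw [lin_io_w1, (frame k F a b).lin_xpm hij, frame_e, frame_f, polar_fV, polar_eV, w1_e, w1_f,
      mul_zero, zero_smul, zero_smul, add_zero, sub_zero]
  · rw [lin_io_w2, (frame k F a b).lin_xpm hij, frame_e, frame_f, polar_fV, polar_eV, w2_e, w2_f,
      mul_zero, zero_smul, zero_smul, add_zero, sub_zero]
  · intro l
    rw [lin_io_eV, (frame k F a b).lin_xpm hij, frame_e, frame_f, polar_fV, polar_eV, eV_e, eV_f,
      mul_zero, zero_smul, sub_zero]
    have h1 : ∀ i' : Fin k, (Matrix.SpecialLinearGroup.transvection hij t).1 i' l =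
        (if i' = l then 1 else 0) + (if i' = i ∧ l = j then t else 0) := by
      intro i'
      rw [Matrix.SpecialLinearGroup.transvection_coe, Matrix.add_apply, Matrix.one_apply,
        Matrix.single_apply]
      congr 1
      by_cases h : i = i' ∧ j = l
      · rw [if_pos h, if_pos ⟨h.1.symm, h.2.symm⟩]
      · rw [if_neg h, if_neg (fun h' => h ⟨h'.1.symm, h'.2.symm⟩)]
    simp only [h1, add_smul, Finset.sum_add_distrib, ite_smul, one_smul, zero_smul,
      Finset.sum_ite_eq', Finset.mem_univ, if_true]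
    congr 1
    by_cases hl : l = j
    · subst hl
      simp only [and_true, Finset.sum_ite_eq', Finset.mem_univ, if_true, mul_one]
    · simp only [hl, and_false, if_false, Finset.sum_const_zero, mul_zero, zero_smul,
        if_neg (fun h' : j = l => hl h'.symm)]
  · intro l
    rw [lin_io_fV, (frame k F a b).lin_xpm hij, frame_e, frame_f, polar_fV, polar_eV, fV_e, fV_f,
      mul_zero, zero_smul, add_zero, io_transvection_inv hij t]
    have h1 : ∀ i' : Fin k, (Matrix.SpecialLinearGroup.transvection hij (-t)).1 l i' =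
        (if i' = l then 1 else 0) + (if l = i ∧ i' = j then -t else 0) := by
      intro i'
      rw [Matrix.SpecialLinearGroup.transvection_coe, Matrix.add_apply, Matrix.one_apply,
        Matrix.single_apply]
      congr 1
      · by_cases h : l = i'
        · rw [if_pos h, if_pos h.symm]
        · rw [if_neg h, if_neg (fun h' => h h'.symm)]
      · by_cases h : i = l ∧ j = i'
        · rw [if_pos h, if_pos ⟨h.1.symm, h.2.symm⟩]
        · rw [if_neg h, if_neg (fun h' => h ⟨h'.1.symm, h'.2.symm⟩)]
    simp only [h1, add_smul, Finset.sum_add_distrib, ite_smul, one_smul, zero_smul,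
      Finset.sum_ite_eq', Finset.mem_univ, if_true]
    rw [sub_eq_add_neg]
    congr 1
    by_cases hl : l = i
    · subst hl
      simp only [true_and, Finset.sum_ite_eq', Finset.mem_univ, if_true, mul_one, neg_smul]
    · simp only [hl, false_and, if_false, Finset.sum_const_zero, mul_zero, zero_smul, neg_zero,
        if_neg (fun h' : i = l => hl h'.symm)]

theorem io_mem_Omega [Fintype F]
    (hab : ∀ z₁ z₂ : F, z₁ ^ 2 + a * z₁ * z₂ + b * z₂ ^ 2 = 0 → z₁ = 0 ∧ z₂ = 0) (hk : 2 ≤ k)
    (A : Matrix.SpecialLinearGroup (Fin k) F) :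
    (io A : OG k F a b) ∈ Cfsg.Omega F ⇑(minusForm k F a b) := by
  have : Nontrivial (Fin k) := Fin.nontrivial_iff_two_le.mpr (by omega)
  have hle : Subgroup.closure {M : Matrix.SpecialLinearGroup (Fin k) F |
      ∃ (i j : Fin k) (hij : i ≠ j) (c : F), M = Matrix.SpecialLinearGroup.transvection hij c} ≤
      (Cfsg.Omega F ⇑(minusForm k F a b)).comap (io (F := F) (k := k) (a := a) (b := b)) := by
    rw [Subgroup.closure_le]
    rintro M ⟨i, j, hij, c, rfl⟩
    show (io (Matrix.SpecialLinearGroup.transvection hij c) : OG k F a b) ∈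
      Cfsg.Omega F ⇑(minusForm k F a b)
    rw [io_transvection hij c]
    exact eichlerO_mem_Omega' hab hk _ _
  rw [Cfsg.Agent.Helper5.closure_transvection_eq_top] at hle
  exact hle (Subgroup.mem_top A)

end Cfsg.Agent.Helper55.OMinus
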