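import Cfsg.Agent.Helper88.OMinus.YDefs
import Cfsg.Agent.S2403

/-!
# (M-Y5) for S2415 (helper88): `yE p w₁ (a w₁ + w₂)` has order dividing `5` when `|F| ≤ 3`.

The element acts on `⟨e_p, f_p, w₁, w₂⟩` by an explicit `4 × 4` matrix `T` (and fixes the other basis vectors);
`|F| ≤ 3` and anisotropy leave the cases `(a, b) = (1, 1)` in characteristic `2` and
`(a, b) ∈ {(0, 1), (1, -1), (-1, -1)}` in characteristic `3`, where `T⁵ = 1` is checked by hand
(`T² ≡ R`, then `T · R · R ≡ 1`).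
-/

set_option autoImplicit false

namespace Cfsg.Agent.Helper55.OMinus

open Matrix QuadraticMap Cfsg.Agent.Helper44 Cfsg.Agent.Helper45.OmegaParity Cfsg.Agent.Helper5
open Cfsg.Agent.Helper40.Frame Cfsg.Agent.Helper88.OMinus

variable {F : Type*} [Field F] {k : ℕ} {a b : F}

/-- the vector `e e_p + f f_p + u₁ w₁ + u₂ w₂` -/
def y5vec (p : Fin k) (v : F × F × F × F) : Idx k → F :=
  v.1 • eV p + v.2.1 • fV p + v.2.2.1 • w1 + v.2.2.2 • w2

theorem y5vec_e (p : Fin k) (v : F × F × F × F) : y5vec p v (Sum.inl (Sum.inl p)) = v.1 := by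
  simp [y5vec, eV_e, fV_e, w1_e, w2_e]

theorem y5vec_f (p : Fin k) (v : F × F × F × F) : y5vec p v (Sum.inl (Sum.inr p)) = v.2.1 := by
  simp [y5vec, eV_f, fV_f, w1_f, w2_f]

theorem y5vec_0 (p : Fin k) (v : F × F × F × F) : y5vec p v (Sum.inr 0) = v.2.2.1 := by
  simp [y5vec, eV_w, fV_w, w1_0, w2_0]

theorem y5vec_1 (p : Fin k) (v : F × F × F × F) : y5vec p v (Sum.inr 1) = v.2.2.2 := by
  simp [y5vec, eV_w, fV_w, w1_1, w2_1]

/-- the action of `E(f_p, a w₁ + w₂)` in coordinates -/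
def y5SF (a b : F) (v : F × F × F × F) : F × F × F × F :=
  (v.1, v.2.1 + 3 * a * v.2.2.1 + (a ^ 2 + 2 * b) * v.2.2.2 - (2 * a ^ 2 + b) * v.1,
    v.2.2.1 - a * v.1, v.2.2.2 - v.1)

/-- the action of `E(e_p, w₁)` in coordinates -/
def y5SE (a : F) (v : F × F × F × F) : F × F × F × F :=
  (v.1 + 2 * v.2.2.1 + a * v.2.2.2 - v.2.1, v.2.1, v.2.2.1 - v.2.1, v.2.2.2)

/-- the action of `yE p w₁ (a w₁ + w₂)` in coordinates -/
def y5T (a b : F) (v : F × F × F × F) : F × F × F × F := y5SE a (y5SF a b v)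

theorem lin_xF_y5vec (p : Fin k) (v : F × F × F × F) :
    lin (minusForm k F a b) (xF p (a • w1 + w2)) (y5vec p v) = y5vec p (y5SF a b v) := by
  have hz : (a • (w1 : Idx k → F) + w2) ∈ (frame k F a b).W := by
    have := comb_mem_W (k := k) (a := a) (b := b) a 1
    rwa [one_smul] at this
  have hQ : minusForm k F a b (a • (w1 : Idx k → F) + w2) = a ^ 2 + a * a * 1 + b * 1 ^ 2 := by
    have := Q_comb (k := k) (a := a) (b := b) a 1
    rwa [one_smul] at this
  unfold xF
  rw [(frame k F a b).lin_xf p hz, frame_f, polar_fV, y5vec_e, hQ, QuadraticMap.polar_add_left,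
    QuadraticMap.polar_smul_left, polar_w1, polar_w2, y5vec_0, y5vec_1]
  unfold y5vec y5SF
  simp only [smul_eq_mul]
  module

theorem lin_xE_y5vec (p : Fin k) (v : F × F × F × F) :
    lin (minusForm k F a b) (xE p w1) (y5vec p v) = y5vec p (y5SE a v) := by
  unfold xE
  rw [(frame k F a b).lin_xe p w1_mem_W, frame_e, polar_eV, y5vec_f, Q_w1, polar_w1, y5vec_0, y5vec_1]
  unfold y5vec y5SE
  module

theorem lin_yE_y5vec (p : Fin k) (v : F × F × F × F) :
    lin (minusForm k F a b) (yE p w1 (a • w1 + w2)) (y5vec p v) = y5vec p (y5T a b v) := by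
  unfold yE y5T
  rw [lin_mul, Module.End.mul_apply, lin_xF_y5vec, lin_xE_y5vec]

theorem lin_yE_eV_ne {i p : Fin k} (hip : i ≠ p) :
    lin (minusForm k F a b) (yE p w1 (a • w1 + w2)) (eV i) = eV i := by
  have hz : (a • (w1 : Idx k → F) + w2) ∈ (frame k F a b).W := by
    have := comb_mem_W (k := k) (a := a) (b := b) a 1
    rwa [one_smul] at this
  have h1 : lin (minusForm k F a b) (xF p (a • w1 + w2)) (eV i) = eV i := by
    unfold xF
    rw [(frame k F a b).lin_xf p hz, frame_f, polar_fV, eV_e, if_neg (fun h => hip h.symm),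
      QuadraticMap.polar_comm, ← frame_e, (frame k F a b).polar_e_W hz]
    simp
  have h2 : lin (minusForm k F a b) (xE p w1) (eV i) = eV i := by
    unfold xE
    rw [(frame k F a b).lin_xe p w1_mem_W, frame_e, polar_eV, eV_f,
      QuadraticMap.polar_comm, ← frame_e, (frame k F a b).polar_e_W w1_mem_W]
    simp
  unfold yE
  rw [lin_mul, Module.End.mul_apply, h1, h2]

theorem lin_yE_fV_ne {i p : Fin k} (hip : i ≠ p) :
    lin (minusForm k F a b) (yE p w1 (a • w1 + w2)) (fV i) = fV i := by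
  have hz : (a • (w1 : Idx k → F) + w2) ∈ (frame k F a b).W := by
    have := comb_mem_W (k := k) (a := a) (b := b) a 1
    rwa [one_smul] at this
  have h1 : lin (minusForm k F a b) (xF p (a • w1 + w2)) (fV i) = fV i := by
    unfold xF
    rw [(frame k F a b).lin_xf p hz, frame_f, polar_fV, fV_e,
      QuadraticMap.polar_comm, ← frame_f, (frame k F a b).polar_f_W hz]
    simp
  have h2 : lin (minusForm k F a b) (xE p w1) (fV i) = fV i := by
    unfold xE
    rw [(frame k F a b).lin_xe p w1_mem_W, frame_e, polar_eV, fV_f, if_neg (fun h => hip h.symm),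
      QuadraticMap.polar_comm, ← frame_f, (frame k F a b).polar_f_W w1_mem_W]
    simp
  unfold yE
  rw [lin_mul, Module.End.mul_apply, h1, h2]

/-- `T² = R` and `R R T = 1` give `g⁵ = 1` -/
theorem y5_main (p : Fin k) (r : F × F × F × F → F × F × F × F)
    (h2 : ∀ v, y5T a b (y5T a b v) = r v) (h5 : ∀ v, r (r (y5T a b v)) = v) :
    (yE p w1 (a • w1 + w2) : OG k F a b) ^ 5 = 1 := by
  set g : OG k F a b := yE p w1 (a • w1 + w2) with hg
  have hfix : ∀ x : Idx k → F, lin (minusForm k F a b) g x = x →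
      lin (minusForm k F a b) (g ^ 5) x = x := by
    intro x hx
    have e5 : g ^ 5 = g * (g * (g * (g * g))) := by
      simp only [pow_succ, pow_zero, one_mul, mul_assoc]
    rw [e5]
    simp only [lin_mul, Module.End.mul_apply, hx]
  have hvec : ∀ v, lin (minusForm k F a b) (g ^ 5) (y5vec p v) = y5vec p v := by
    intro v
    have e5 : g ^ 5 = g * (g * (g * (g * g))) := by
      simp only [pow_succ, pow_zero, one_mul, mul_assoc]
    rw [e5]
    simp only [lin_mul, Module.End.mul_apply]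
    rw [hg, lin_yE_y5vec, lin_yE_y5vec, lin_yE_y5vec, lin_yE_y5vec, lin_yE_y5vec, h2, h2, h5]
  have he : (eV p : Idx k → F) = y5vec p (1, 0, 0, 0) := by simp [y5vec]
  have hf : (fV p : Idx k → F) = y5vec p (0, 1, 0, 0) := by simp [y5vec]
  have hw1 : (w1 : Idx k → F) = y5vec p (0, 0, 1, 0) := by simp [y5vec]
  have hw2 : (w2 : Idx k → F) = y5vec p (0, 0, 0, 1) := by simp [y5vec]
  apply isom_ext_basis
  · rw [lin_one, Module.End.one_apply, hw1, hvec]
  · rw [lin_one, Module.End.one_apply, hw2, hvec]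
  · intro j
    rw [lin_one, Module.End.one_apply]
    by_cases hj : j = p
    · rw [hj, he, hvec]
    · exact hfix _ (lin_yE_eV_ne hj)
  · intro j
    rw [lin_one, Module.End.one_apply]
    by_cases hj : j = p
    · rw [hj, hf, hvec]
    · exact hfix _ (lin_yE_fV_ne hj)

theorem y5_case_1_1 (hc : (2 : F) = 0) (p : Fin k) :
    (yE p w1 ((1 : F) • w1 + w2) : OG k F (1 : F) (1 : F)) ^ 5 = 1 := by
  refine y5_main p (fun v => ((0) * v.1 + (1) * v.2.1 + (0) * v.2.2.1 + (0) * v.2.2.2,
      (1) * v.1 + (1) * v.2.1 + (0) * v.2.2.1 + (1) * v.2.2.2,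
      (0) * v.1 + (1) * v.2.1 + (1) * v.2.2.1 + (0) * v.2.2.2,
      (0) * v.1 + (1) * v.2.1 + (1) * v.2.2.1 + (1) * v.2.2.2)) ?_ ?_
  · rintro ⟨e, f, u1, u2⟩
    simp only [y5T, y5SE, y5SF, Prod.mk.injEq]
    refine ⟨?_, ?_, ?_, ?_⟩
    · linear_combination ((2) * e + (-1) * f + (-1) * u1 + (-2) * u2) * hc
    · linear_combination ((-2) * e + (0) * f + (0) * u1 + (1) * u2) * hc
    · linear_combination ((2) * e + (-1) * f + (-1) * u1 + (-2) * u2) * hc
    · linear_combination ((-1) * e + (0) * f + (0) * u1 + (1) * u2) * hc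
  · rintro ⟨e, f, u1, u2⟩
    simp only [y5T, y5SE, y5SF, Prod.mk.injEq]
    refine ⟨?_, ?_, ?_, ?_⟩
    · linear_combination ((-2) * e + (0) * f + (1) * u1 + (1) * u2) * hc
    · linear_combination ((-4) * e + (0) * f + (3) * u1 + (3) * u2) * hc
    · linear_combination ((-2) * e + (0) * f + (1) * u1 + (1) * u2) * hc
    · linear_combination ((-3) * e + (0) * f + (2) * u1 + (1) * u2) * hc

theorem y5_case_0_1 (hc : (3 : F) = 0) (p : Fin k) :
    (yE p w1 ((0 : F) • w1 + w2) : OG k F (0 : F) (1 : F)) ^ 5 = 1 := by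
  refine y5_main p (fun v => ((0) * v.1 + (1) * v.2.1 + (0) * v.2.2.1 + (0) * v.2.2.2,
      (1) * v.1 + (-1) * v.2.1 + (1) * v.2.2.1 + (0) * v.2.2.2,
      (0) * v.1 + (0) * v.2.1 + (0) * v.2.2.1 + (1) * v.2.2.2,
      (0) * v.1 + (1) * v.2.1 + (1) * v.2.2.1 + (0) * v.2.2.2)) ?_ ?_
  · rintro ⟨e, f, u1, u2⟩
    simp only [y5T, y5SE, y5SF, Prod.mk.injEq]
    refine ⟨?_, ?_, ?_, ?_⟩
    · linear_combination ((3) * e + (-2) * f + (2) * u1 + (-4) * u2) * hc
    · linear_combination ((-2) * e + (1) * f + (-1) * u1 + (2) * u2) * hc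
    · linear_combination ((2) * e + (-1) * f + (1) * u1 + (-3) * u2) * hc
    · linear_combination ((-1) * e + (0) * f + (-1) * u1 + (1) * u2) * hc
  · rintro ⟨e, f, u1, u2⟩
    simp only [y5T, y5SE, y5SF, Prod.mk.injEq]
    refine ⟨?_, ?_, ?_, ?_⟩
    · linear_combination ((1) * e + (-1) * f + (1) * u1 + (-2) * u2) * hc
    · linear_combination ((-2) * e + (1) * f + (-1) * u1 + (3) * u2) * hc
    · linear_combination ((0) * e + (0) * f + (0) * u1 + (0) * u2) * hc
    · linear_combination ((1) * e + (-1) * f + (1) * u1 + (-2) * u2) * hc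

theorem y5_case_1_m1 (hc : (3 : F) = 0) (p : Fin k) :
    (yE p w1 ((1 : F) • w1 + w2) : OG k F (1 : F) (-1 : F)) ^ 5 = 1 := by
  refine y5_main p (fun v => ((0) * v.1 + (1) * v.2.1 + (0) * v.2.2.1 + (0) * v.2.2.2,
      (1) * v.1 + (-1) * v.2.1 + (1) * v.2.2.1 + (-1) * v.2.2.2,
      (0) * v.1 + (1) * v.2.1 + (1) * v.2.2.1 + (0) * v.2.2.2,
      (0) * v.1 + (1) * v.2.1 + (1) * v.2.2.1 + (-1) * v.2.2.2)) ?_ ?_
  · rintro ⟨e, f, u1, u2⟩
    simp only [y5T, y5SE, y5SF, Prod.mk.injEq]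
    refine ⟨?_, ?_, ?_, ?_⟩
    · linear_combination ((0) * e + (0) * f + (0) * u1 + (0) * u2) * hc
    · linear_combination ((0) * e + (0) * f + (-1) * u1 + (0) * u2) * hc
    · linear_combination ((0) * e + (0) * f + (0) * u1 + (0) * u2) * hc
    · linear_combination ((0) * e + (0) * f + (0) * u1 + (0) * u2) * hc
  · rintro ⟨e, f, u1, u2⟩
    simp only [y5T, y5SE, y5SF, Prod.mk.injEq]
    refine ⟨?_, ?_, ?_, ?_⟩
    · linear_combination ((0) * e + (-1) * f + (-2) * u1 + (1) * u2) * hc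
    · linear_combination ((-1) * e + (1) * f + (3) * u1 + (-1) * u2) * hc
    · linear_combination ((0) * e + (-1) * f + (-2) * u1 + (1) * u2) * hc
    · linear_combination ((0) * e + (-1) * f + (-2) * u1 + (1) * u2) * hc

theorem y5_case_m1_m1 (hc : (3 : F) = 0) (p : Fin k) :
    (yE p w1 ((-1 : F) • w1 + w2) : OG k F (-1 : F) (-1 : F)) ^ 5 = 1 := by
  refine y5_main p (fun v => ((0) * v.1 + (1) * v.2.1 + (0) * v.2.2.1 + (0) * v.2.2.2,
      (1) * v.1 + (-1) * v.2.1 + (1) * v.2.2.1 + (1) * v.2.2.2,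
      (0) * v.1 + (-1) * v.2.1 + (-1) * v.2.2.1 + (0) * v.2.2.2,
      (0) * v.1 + (1) * v.2.1 + (1) * v.2.2.1 + (1) * v.2.2.2)) ?_ ?_
  · rintro ⟨e, f, u1, u2⟩
    simp only [y5T, y5SE, y5SF, Prod.mk.injEq]
    refine ⟨?_, ?_, ?_, ?_⟩
    · linear_combination ((12) * e + (-4) * f + (16) * u1 + (2) * u2) * hc
    · linear_combination ((-4) * e + (2) * f + (-7) * u1 + (-2) * u2) * hc
    · linear_combination ((6) * e + (-2) * f + (10) * u1 + (2) * u2) * hc
    · linear_combination ((-2) * e + (0) * f + (-2) * u1 + (0) * u2) * hc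
  · rintro ⟨e, f, u1, u2⟩
    simp only [y5T, y5SE, y5SF, Prod.mk.injEq]
    refine ⟨?_, ?_, ?_, ?_⟩
    · linear_combination ((2) * e + (-1) * f + (4) * u1 + (1) * u2) * hc
    · linear_combination ((-3) * e + (1) * f + (-5) * u1 + (-1) * u2) * hc
    · linear_combination ((-2) * e + (1) * f + (-4) * u1 + (-1) * u2) * hc
    · linear_combination ((2) * e + (-1) * f + (4) * u1 + (1) * u2) * hc

theorem y5_pow_five [Fintype F] (hF : Fintype.card F ≤ 3)
    (hab : ∀ z₁ z₂ : F, z₁ ^ 2 + a * z₁ * z₂ + b * z₂ ^ 2 = 0 → z₁ = 0 ∧ z₂ = 0) (p : Fin k) :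
    (yE p w1 (a • w1 + w2) : OG k F a b) ^ 5 = 1 := by
  have hsm : ∀ t : F, t = 0 ∨ t = 1 ∨ t = -1 := fun t => Cfsg.Agent.S2403.small_field hF t
  have hchar : (2 : F) = 0 ∨ (3 : F) = 0 := by
    rcases hsm 2 with h | h | h
    · exact Or.inl h
    · exfalso
      have : (1 : F) = 0 := by linear_combination h
      exact one_ne_zero this
    · right
      linear_combination h
  have hb0 : b ≠ 0 := by
    intro hb
    have := (hab 0 1 (by rw [hb]; ring)).2
    exact one_ne_zero this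
  rcases hchar with h2 | h3
  · -- characteristic 2: `a = b = 1`
    have hneg : (-1 : F) = 1 := by linear_combination -h2
    have hb1 : b = 1 := by
      rcases hsm b with h | h | h
      · exact absurd h hb0
      · exact h
      · rw [h, hneg]
    have ha1 : a = 1 := by
      rcases hsm a with h | h | h
      · exfalso
        have := (hab 1 1 (by rw [h, hb1]; linear_combination h2)).1
        exact one_ne_zero this
      · exact h
      · rw [h, hneg]
    subst ha1
    subst hb1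
    exact y5_case_1_1 h2 p
  · -- characteristic 3
    rcases hsm b with hb | hb | hb
    · exact absurd hb hb0
    · rcases hsm a with ha | ha | ha
      · subst ha
        subst hb
        exact y5_case_0_1 h3 p
      · exfalso
        have := (hab 1 1 (by rw [ha, hb]; linear_combination h3)).1
        exact one_ne_zero this
      · exfalso
        have := (hab 1 (-1) (by rw [ha, hb]; linear_combination h3)).1
        exact one_ne_zero this
    · rcases hsm a with ha | ha | ha
      · exfalso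
        have := (hab 1 1 (by rw [ha, hb]; ring)).1
        exact one_ne_zero this
      · subst ha
        subst hb
        exact y5_case_1_m1 h3 p
      · subst ha
        subst hb
        exact y5_case_m1_m1 h3 p

end Cfsg.Agent.Helper55.OMinus
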