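import Cfsg.Agent.Helper55.OlssonDUALaux

/-!
# S4539 (helper78 WANTED #7662), piece (DUAL)
-/

set_option autoImplicit false
set_option linter.unusedSectionVars false
set_option linter.unusedVariables false

noncomputable section

namespace Cfsg.Agent.Helper55.Olsson

open Cfsg
open scoped ComplexConjugate
open Cfsg.Agent.S4426 (cut)
open Cfsg.Agent.Helper78.Olsson

section HLevel

variable {H : Type*} [Group H] [Fintype H] {M : Ideal AlgInt} {p : ℕ}

theorem cut_phi {b : Set (IrrCharacter H)} (L : LatData p b) (k : Fin 2) :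
    cut p 1 (L.φ k) = L.φ k := by
  funext h
  unfold cut
  by_cases hh : p ∣ orderOf h
  · rw [if_pos hh, phi_eq_zero_of_dvd L k hh]
  · rw [if_neg hh, one_mul]

/-- `(φ_k, θ) = ∑_l x_θl (φ_k, φ_l)` for every irreducible `θ`. -/
theorem classInner_phi_irr [Fact p.Prime] (hM : IsPModular p M)
    {b : Set (IrrCharacter H)} (hb : IsPBlock M b) (L : LatData p b) (k : Fin 2)
    (θ : IrrCharacter H) :
    classInner (L.φ k) (θ : H → ℂ) = ∑ l : Fin 2, (L.x θ l : ℂ) * classInner (L.φ k) (L.φ l) := by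
  by_cases hθ : θ ∈ b
  · rw [classInner_eq_classInner_cut (fun h hh => phi_eq_zero_of_dvd L k hh),
      cut_eq_sum_smul L hθ, Cfsg.Agent.Helper79.classInner_sum_right]
    refine Finset.sum_congr rfl (fun l _ => ?_)
    rw [Cfsg.Agent.Helper79.classInner_smul_right, map_intCast]
  · rw [classInner_phi_irr_eq_zero hM hb L k hθ, L.hx0 θ hθ]
    simp

/-- the Gram matrix times the Cartan matrix is the identity. -/
theorem gram_mul_cartan [Fact p.Prime] (hM : IsPModular p M) {b : Set (IrrCharacter H)}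
    (hb : IsPBlock M b) (L : LatData p b) (k i : Fin 2) :
    ∑ l : Fin 2, classInner (L.φ k) (L.φ l) * (L.C l i : ℂ) = if k = i then 1 else 0 := by
  classical
  -- expansion of `φ k` along the irreducible characters, then cut
  have hexp := Cfsg.Agent.Helper79.classFunction_expansion (isClassFunction_phi L k)
  have h1 : L.φ k = ∑ θ : IrrCharacter H,
      classInner (L.φ k) (θ : H → ℂ) • cut p 1 (θ : H → ℂ) := by
    conv_lhs => rw [← cut_phi L k, hexp]
    rw [Cfsg.Agent.Helper16.cut_sum_smul]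
  -- each term in the basis `φ`
  have h2 : ∀ θ : IrrCharacter H, classInner (L.φ k) (θ : H → ℂ) • cut p 1 (θ : H → ℂ) =
      ∑ i : Fin 2, ((∑ l : Fin 2, (L.x θ l : ℂ) * classInner (L.φ k) (L.φ l)) * (L.x θ i : ℂ)) •
        L.φ i := by
    intro θ
    by_cases hθ : θ ∈ b
    · rw [classInner_phi_irr hM hb L k θ, cut_eq_sum_smul L hθ, Finset.smul_sum]
      refine Finset.sum_congr rfl (fun i _ => ?_)
      rw [smul_smul]
    · rw [classInner_phi_irr_eq_zero hM hb L k hθ, zero_smul, L.hx0 θ hθ]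
      simp
  have h3 : L.φ k = ∑ i : Fin 2,
      (∑ l : Fin 2, classInner (L.φ k) (L.φ l) * (L.C l i : ℂ)) • L.φ i := by
    conv_lhs => rw [h1]
    rw [Finset.sum_congr rfl (fun θ _ => h2 θ), Finset.sum_comm]
    refine Finset.sum_congr rfl (fun i _ => ?_)
    rw [← Finset.sum_smul]
    congr 1
    unfold LatData.C cartan
    simp only [Int.cast_sum, Int.cast_mul, Finset.mul_sum, Finset.sum_mul]
    rw [Finset.sum_comm]
    refine Finset.sum_congr rfl (fun l _ => ?_)
    refine Finset.sum_congr rfl (fun θ _ => ?_)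
    ring
  -- linear independence
  have h4 : ∑ i : Fin 2, ((∑ l : Fin 2, classInner (L.φ k) (L.φ l) * (L.C l i : ℂ)) -
      (if k = i then 1 else 0)) • L.φ i = 0 := by
    simp only [sub_smul, Finset.sum_sub_distrib]
    rw [← h3]
    simp
  have h5 := (Fintype.linearIndependent_iff.mp L.hli) _ h4 i
  exact sub_eq_zero.mp h5

/-- (CG), local version. -/
theorem cartan_mul_gram' [Fact p.Prime] (hM : IsPModular p M) {b : Set (IrrCharacter H)}
    (hb : IsPBlock M b) (L : LatData p b) (i k : Fin 2) :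
    ∑ j : Fin 2, (L.C i j : ℂ) * classInner (L.φ j) (L.φ k) = if i = k then 1 else 0 := by
  classical
  let Gm : Matrix (Fin 2) (Fin 2) ℂ := fun a c => classInner (L.φ a) (L.φ c)
  let Cm : Matrix (Fin 2) (Fin 2) ℂ := fun a c => (L.C a c : ℂ)
  have hGC : Gm * Cm = 1 := by
    ext a c
    rw [Matrix.mul_apply, Matrix.one_apply]
    exact gram_mul_cartan hM hb L a c
  have hCG : Cm * Gm = 1 := mul_eq_one_comm.mp hGC
  have := congrFun (congrFun hCG i) k
  rw [Matrix.mul_apply, Matrix.one_apply] at this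
  exact this

/-- (DUAL) the dual basis. -/
theorem LatData.dual_props [Fact p.Prime] (hM : IsPModular p M) {b : Set (IrrCharacter H)}
    (hb : IsPBlock M b) (L : LatData p b) :
    (∀ i : Fin 2, IsClassFunction H (L.dual i)) ∧ (∀ i : Fin 2, cut p 1 (L.dual i) = L.dual i) ∧
      (∀ (i : Fin 2) (θ : IrrCharacter H), classInner (L.dual i) (θ : H → ℂ) = (L.x θ i : ℂ)) :=
  dual_props_of_cg hM hb L (cartan_mul_gram' hM hb L)

end HLevel

end Cfsg.Agent.Helper55.Olsson

end
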