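import Cfsg.Agent.Helper78.Olsson.Defs

/-!
# S4539 (helper78 WANTED #7662), piece (DUAL), auxiliary part

The dual basis `f i = ∑ j, C i j • φ j` of a basic set: class function, supported on the
`p`-regular elements, and `(f i, θ) = x θ i`, *given* the relation `C · Gram = 1`
(piece (CG), taken here as a hypothesis).
-/

set_option autoImplicit false
set_option linter.unusedSectionVars false
set_option linter.unusedVariables false

noncomputable section

namespace Cfsg.Agent.Helper55.Olsson

open Cfsg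
open scoped ComplexConjugate
open Cfsg.Agent.S4426 (cut)
open Cfsg.Agent.Helper78.Olsson

section HLevel

variable {H : Type*} [Group H] [Fintype H] {M : Ideal AlgInt} {p : ℕ}

theorem phi_eq_zero_of_dvd {b : Set (IrrCharacter H)} (L : LatData p b) (j : Fin 2) {h : H}
    (hh : p ∣ orderOf h) : L.φ j h = 0 := by
  rw [L.hA]
  refine Finset.sum_eq_zero (fun θ _ => ?_)
  unfold cut
  rw [if_pos hh, mul_zero]

theorem dual_eq_zero_of_dvd {b : Set (IrrCharacter H)} (L : LatData p b) (i : Fin 2) {h : H}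
    (hh : p ∣ orderOf h) : L.dual i h = 0 := by
  unfold LatData.dual
  refine Finset.sum_eq_zero (fun j _ => ?_)
  rw [phi_eq_zero_of_dvd L j hh, mul_zero]

theorem isClassFunction_phi {b : Set (IrrCharacter H)} (L : LatData p b) (j : Fin 2) :
    IsClassFunction H (L.φ j) := by
  intro y t
  rw [L.hA, L.hA]
  refine Finset.sum_congr rfl (fun θ _ => ?_)
  rw [Cfsg.Agent.Helper16.isClassFunction_cut' p 1
    (Cfsg.Agent.Helper16.irr_isClassFunction θ) y t]

theorem isClassFunction_dual {b : Set (IrrCharacter H)} (L : LatData p b) (i : Fin 2) :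
    IsClassFunction H (L.dual i) := by
  intro y t
  unfold LatData.dual
  refine Finset.sum_congr rfl (fun j _ => ?_)
  rw [isClassFunction_phi L j y t]

theorem cut_dual {b : Set (IrrCharacter H)} (L : LatData p b) (i : Fin 2) :
    cut p 1 (L.dual i) = L.dual i := by
  funext h
  unfold cut
  by_cases hh : p ∣ orderOf h
  · rw [if_pos hh, dual_eq_zero_of_dvd L i hh]
  · rw [if_neg hh, one_mul]

theorem dual_eq_sum_smul {b : Set (IrrCharacter H)} (L : LatData p b) (i : Fin 2) :
    L.dual i = ∑ j : Fin 2, (L.C i j : ℂ) • L.φ j := by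
  funext h
  rw [Finset.sum_apply]
  unfold LatData.dual
  refine Finset.sum_congr rfl (fun j _ => ?_)
  rw [Pi.smul_apply, smul_eq_mul]

theorem phi_eq_sum_smul {b : Set (IrrCharacter H)} (L : LatData p b) (j : Fin 2) :
    L.φ j = ∑ θ : IrrCharacter H, (L.A j θ : ℂ) • cut p 1 (θ : H → ℂ) := by
  funext h
  rw [Finset.sum_apply, L.hA]
  refine Finset.sum_congr rfl (fun θ _ => ?_)
  rw [Pi.smul_apply, smul_eq_mul]

theorem cut_eq_sum_smul {b : Set (IrrCharacter H)} (L : LatData p b) {θ : IrrCharacter H}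
    (hθ : θ ∈ b) : cut p 1 (θ : H → ℂ) = ∑ m : Fin 2, (L.x θ m : ℂ) • L.φ m := by
  funext h
  rw [Finset.sum_apply, L.hx θ hθ h, Fin.sum_univ_two]
  simp only [Pi.smul_apply, smul_eq_mul]

/-- a function vanishing on the `p`-singular elements only sees the `p`-regular part. -/
theorem classInner_eq_classInner_cut {F : H → ℂ} (hF : ∀ h : H, p ∣ orderOf h → F h = 0)
    (ψ : H → ℂ) : classInner F ψ = classInner F (cut p 1 ψ) := by
  unfold classInner
  congr 1
  refine Finset.sum_congr rfl (fun h _ => ?_)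
  unfold cut
  by_cases hh : p ∣ orderOf h
  · rw [hF h hh, zero_mul, zero_mul]
  · rw [if_neg hh, one_mul]

theorem classInner_dual_left {b : Set (IrrCharacter H)} (L : LatData p b) (i : Fin 2)
    (ψ : H → ℂ) :
    classInner (L.dual i) ψ = ∑ j : Fin 2, (L.C i j : ℂ) * classInner (L.φ j) ψ := by
  rw [dual_eq_sum_smul, Cfsg.Agent.Helper79.classInner_sum_left]
  refine Finset.sum_congr rfl (fun j _ => ?_)
  rw [Cfsg.Agent.Helper79.classInner_smul_left]

/-- `(φ_j, θ) = 0` for `θ` outside the block. -/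
theorem classInner_phi_irr_eq_zero [Fact p.Prime] (hM : IsPModular p M)
    {b : Set (IrrCharacter H)} (hb : IsPBlock M b) (L : LatData p b) (j : Fin 2)
    {θ : IrrCharacter H} (hθ : θ ∉ b) : classInner (L.φ j) (θ : H → ℂ) = 0 := by
  have hMp : M.IsPrime := Cfsg.Agent.Helper78.isPrime_of_isPModular hM
  rw [phi_eq_sum_smul, Cfsg.Agent.Helper79.classInner_sum_left]
  refine Finset.sum_eq_zero (fun θ' _ => ?_)
  rw [Cfsg.Agent.Helper79.classInner_smul_left]
  by_cases hθ' : θ' ∈ b
  · have hz : classInner (cut p 1 (θ' : H → ℂ)) (θ : H → ℂ) = 0 := by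
      apply Cfsg.Agent.S4431.classInner_cut_eq_zero hM 1 θ' θ
      rw [← Cfsg.Agent.Helper78.isPBlock_eq_blockOf_of_mem hMp hb hθ']
      exact hθ
    rw [hz, mul_zero]
  · rw [L.hA0 j θ' hθ', Int.cast_zero, zero_mul]

/-- (DUAL), with (CG) as a hypothesis. -/
theorem dual_props_of_cg [Fact p.Prime] (hM : IsPModular p M) {b : Set (IrrCharacter H)}
    (hb : IsPBlock M b) (L : LatData p b)
    (hcg : ∀ i k : Fin 2,
      ∑ j : Fin 2, (L.C i j : ℂ) * classInner (L.φ j) (L.φ k) = if i = k then 1 else 0) :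
    (∀ i : Fin 2, IsClassFunction H (L.dual i)) ∧ (∀ i : Fin 2, cut p 1 (L.dual i) = L.dual i) ∧
      (∀ (i : Fin 2) (θ : IrrCharacter H),
        classInner (L.dual i) (θ : H → ℂ) = (L.x θ i : ℂ)) := by
  refine ⟨isClassFunction_dual L, cut_dual L, ?_⟩
  intro i θ
  by_cases hθ : θ ∈ b
  · rw [classInner_eq_classInner_cut (fun h hh => dual_eq_zero_of_dvd L i hh),
      cut_eq_sum_smul L hθ, Cfsg.Agent.Helper79.classInner_sum_right]
    have h1 : ∀ m : Fin 2, classInner (L.dual i) ((L.x θ m : ℂ) • L.φ m) =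
        (L.x θ m : ℂ) * (if i = m then 1 else 0) := by
      intro m
      rw [Cfsg.Agent.Helper79.classInner_smul_right, map_intCast,
        classInner_dual_left, hcg i m]
    rw [Finset.sum_congr rfl (fun m _ => h1 m)]
    simp
  · rw [L.hx0 θ hθ, classInner_dual_left]
    simp only [Pi.zero_apply, Int.cast_zero]
    refine Finset.sum_eq_zero (fun j _ => ?_)
    rw [classInner_phi_irr_eq_zero hM hb L j hθ, mul_zero]

end HLevel

end Cfsg.Agent.Helper55.Olsson

end
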