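import Cfsg.Agent.Helper55.OlssonMAINaux
import Cfsg.Agent.Helper73.Olsson.AVG

/-!
# S4539 (helper78 #7662/#7828), piece (MAIN): `k(B) ≤ c₀₀ + c₁₁ - c₀₁`
-/

set_option autoImplicit false
set_option linter.style.haveILetI false
set_option linter.unusedSectionVars false
set_option linter.unusedVariables false

noncomputable section

namespace Cfsg.Agent.Helper55.Olsson

open Cfsg
open scoped ComplexConjugate
open Cfsg.Agent.S4426 (cut)
open Cfsg.Agent.Helper16 (contribE)
open Cfsg.Agent.Helper78.Olsson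

section GLevel

variable {G : Type*} [Group G] [Fintype G] {M : Ideal AlgInt} {p : ℕ}

/-- (MAIN) `k(B) ≤ c₀₀ + c₁₁ - c₀₁`. -/
theorem card_block_le_cartan [Fact p.Prime] (hM : IsPModular p M) {B : Set (IrrCharacter G)}
    (hB : IsPBlock M B) (H : Subgroup G) [Fintype H] (yH : H)
    (hyc : yH ∈ Subgroup.center H) (hHy : H = Subgroup.centralizer ({(yH : G)} : Set G))
    (n : ℕ) (hn : 1 ≤ n) (hy : orderOf (yH : G) ∣ p ^ n) {b : Set (IrrCharacter H)}
    (hind : IsInducedBlock M H b B) (hdef : blockDefect p b = blockDefect p B)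
    (D : RedData p b) :
    (Nat.card B : ℤ) ≤ D.C 0 0 + D.C 1 1 - D.C 0 1 :=
  card_block_le_cartan_of hM hB H yH hyc hHy n hn hy hind hdef D
    (fun S A μ hμ c horth hnz =>
      Cfsg.Agent.Helper73.Olsson.card_le_of_rows (Fact.out : p.Prime) n S A μ hμ c horth hnz)

end GLevel

end Cfsg.Agent.Helper55.Olsson

end
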