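import Cfsg.Agent.Helper78.Olsson.Defs
import Cfsg.Agent.Helper16.ContribMajor
import Cfsg.Agent.Helper50.OlssonR2
import Cfsg.Agent.Helper10.OlssonR1
import Cfsg.Agent.Helper86.OlssonR3
import Cfsg.Agent.Helper85.OlssonVLEM

/-!
# S4539 (helper78 #7662/#7828), piece (MAIN), primed form

`card_block_le_cartan_of` is the Skel statement `card_block_le_cartan` with the piece (AVG)
taken as an explicit hypothesis (in exactly the Skel form, specialised to `K = IrrCharacter G`,
`ι = IrrCharacter H`).  The pieces (R1), (R2), (R3), (VLEM) are the landed ones.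
-/

set_option autoImplicit false
set_option linter.style.haveILetI false
set_option linter.unusedSectionVars false
set_option linter.unusedVariables false

noncomputable section

namespace Cfsg.Agent.Helper55.Olsson

open Cfsg
open scoped ComplexConjugate
open Cfsg.Agent.S4426 (cut)
open Cfsg.Agent.Helper16 (contribE)
open Cfsg.Agent.Helper78.Olsson

section GLevel

variable {G : Type*} [Group G] [Fintype G] {M : Ideal AlgInt} {p : ℕ}

theorem one_mem_unitsRange' (hp : p.Prime) {n : ℕ} (hn : 1 ≤ n) : 1 ∈ unitsRange p n := by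
  unfold unitsRange
  rw [Finset.mem_filter, Finset.mem_range]
  exact ⟨Nat.one_lt_pow (by omega) hp.one_lt, Nat.coprime_one_right _⟩

/-- (MAIN) `k(B) ≤ c₀₀ + c₁₁ - c₀₁`, with (AVG) as a hypothesis. -/
theorem card_block_le_cartan_of [Fact p.Prime] (hM : IsPModular p M) {B : Set (IrrCharacter G)}
    (hB : IsPBlock M B) (H : Subgroup G) [Fintype H] (yH : H)
    (hyc : yH ∈ Subgroup.center H) (hHy : H = Subgroup.centralizer ({(yH : G)} : Set G))
    (n : ℕ) (hn : 1 ≤ n) (hy : orderOf (yH : G) ∣ p ^ n) {b : Set (IrrCharacter H)}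
    (hind : IsInducedBlock M H b B) (hdef : blockDefect p b = blockDefect p B)
    (D : RedData p b)
    -- (AVG), specialised to `K = IrrCharacter G`, `ι = IrrCharacter H`
    (hAVG : ∀ (S : Finset (IrrCharacter G))
      (A : IrrCharacter G → IrrCharacter H → Fin 2 → ℤ) (μ : IrrCharacter H → ℂ)
      (hμ : ∀ θ, μ θ ^ (p ^ n) = 1) (c : Matrix (Fin 2) (Fin 2) ℤ)
      (horth : ∀ γ ∈ unitsRange p n, ∀ i j : Fin 2,
        ∑ χ : IrrCharacter G, (∑ θ, (A χ θ i : ℂ) * μ θ ^ γ) *
          conj (∑ θ, (A χ θ j : ℂ) * μ θ ^ γ) = (c i j : ℂ))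
      (hnz : ∀ χ ∈ S, ¬ (∑ θ, (A χ θ 0 : ℂ) * μ θ = 0 ∧ ∑ θ, (A χ θ 1 : ℂ) * μ θ = 0)),
      (S.card : ℤ) ≤ c 0 0 + c 1 1 - c 0 1) :
    (Nat.card B : ℤ) ≤ D.C 0 0 + D.C 1 1 - D.C 0 1 := by
  classical
  have hpr : p.Prime := Fact.out
  have hyHpow : yH ^ (p ^ n) = 1 := by
    apply Subtype.ext
    rw [SubmonoidClass.coe_pow]
    exact orderOf_dvd_iff_pow_eq_one.mp hy
  obtain ⟨μ, hμ, hform⟩ := Cfsg.Agent.Helper50.Olsson.exists_rowE_pow_form H yH hyc n hyHpow D
  choose A hA using hform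
  have hV := fun (γ : ℕ) (hγ : γ ∈ unitsRange p n) =>
    Cfsg.Agent.Helper85.Olsson.major_facts hM hB H yH hyc hHy n hy hind hdef γ hγ
  have h1mem : 1 ∈ unitsRange p n := one_mem_unitsRange' hpr hn
  set S : Finset (IrrCharacter G) := (Set.toFinite B).toFinset with hS
  have hmemS : ∀ χ, χ ∈ S ↔ χ ∈ B := fun χ => Set.Finite.mem_toFinset _
  have hcard : Nat.card B = S.card := Nat.card_eq_card_finite_toFinset (Set.toFinite B)
  rw [hcard]
  refine hAVG S A μ hμ D.C ?_ ?_
  · -- horth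
    intro γ hγ i j
    obtain ⟨hH', hxγ, -⟩ := hV γ hγ
    have h := Cfsg.Agent.Helper10.Olsson.sum_rowE_mul_conj ((yH : G) ^ γ) hxγ H hH' D i j
    simp only [hA _ γ] at h
    exact h
  · -- hnz
    intro χ hχ hboth
    obtain ⟨-, -, -, -, hdiag, -⟩ := hV 1 h1mem
    have hne := hdiag χ ((hmemS χ).mp hχ)
    have hk := Cfsg.Agent.Helper86.Olsson.defect_mul_contribE_eq H D ((yH : G) ^ 1)
      (χ : G → ℂ) (χ : G → ℂ)
    simp only [hA χ 1] at hk
    simp only [pow_one] at hk hne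
    rw [Fin.sum_univ_two, Fin.sum_univ_two, Fin.sum_univ_two, hboth.1, hboth.2] at hk
    simp only [mul_zero, map_zero, zero_mul, add_zero] at hk
    rcases mul_eq_zero.mp hk with h | h
    · exact (by exact_mod_cast (pow_pos hpr.pos _).ne' : ((p ^ blockDefect p b : ℕ) : ℂ) ≠ 0) h
    · exact hne h

end GLevel

end Cfsg.Agent.Helper55.Olsson

end
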