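import Cfsg.Agent.Helper86.PG63.Defs

/-!
# S3664 (helper86), piece (CRIT): criterion for the target graph
-/

set_option autoImplicit false

namespace Cfsg.Agent.Helper55.PG63

open Cfsg Cfsg.Agent.Helper86.PG63 Cfsg.Agent.Helper6

/-- (CRIT) criterion for the target graph -/
theorem hasGraph_of {G : Type*} [Group G] [Finite G]
    (hV : ∀ p : ℕ, p.Prime → p ∣ Nat.card G → Vert p) (h13 : 13 ∣ Nat.card G)
    (h6 : ∃ g : G, orderOf g = 6) (h10 : ∃ g : G, orderOf g = 10)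
    (h15 : ∃ g : G, orderOf g = 15) (h14 : ∃ g : G, orderOf g = 14)
    (hno : NoBad G) : HasGraph G := by
  obtain ⟨g6, hg6⟩ := h6
  obtain ⟨g10, hg10⟩ := h10
  obtain ⟨g15, hg15⟩ := h15
  obtain ⟨g14, hg14⟩ := h14
  have d6 : 6 ∣ Nat.card G := hg6 ▸ orderOf_dvd_natCard g6
  have d10 : 10 ∣ Nat.card G := hg10 ▸ orderOf_dvd_natCard g10
  have d14 : 14 ∣ Nat.card G := hg14 ▸ orderOf_dvd_natCard g14
  refine ⟨?_, ?_⟩
  · intro p hp
    constructor
    · exact hV p hp
    · intro h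
      rcases h with rfl | rfl | rfl | rfl | rfl
      · exact Dvd.dvd.trans (by norm_num) d6
      · exact Dvd.dvd.trans (by norm_num) d6
      · exact Dvd.dvd.trans (by norm_num) d10
      · exact Dvd.dvd.trans (by norm_num) d14
      · exact h13
  · intro p q hp hq hpq
    constructor
    · rintro ⟨g, hg⟩
      have hd : p * q ∣ Nat.card G := hg ▸ orderOf_dvd_natCard g
      have hVp : Vert p := hV p hp (Dvd.dvd.trans (Dvd.intro _ rfl) hd)
      have hVq : Vert q := hV q hq (Dvd.dvd.trans (Dvd.intro_left _ rfl) hd)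
      obtain ⟨h21, h35, h26, h39, h65, h91⟩ := hno g
      unfold Edge
      rcases hVp with rfl | rfl | rfl | rfl | rfl <;>
        rcases hVq with rfl | rfl | rfl | rfl | rfl <;>
        first
          | exact absurd rfl hpq
          | (exfalso; omega)
          | decide
    · intro h
      unfold Edge at h
      rcases h with ⟨rfl, rfl⟩ | ⟨rfl, rfl⟩ | ⟨rfl, rfl⟩ | ⟨rfl, rfl⟩ | ⟨rfl, rfl⟩ | ⟨rfl, rfl⟩ |
        ⟨rfl, rfl⟩ | ⟨rfl, rfl⟩
      · exact ⟨g6, hg6⟩
      · exact ⟨g6, hg6⟩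
      · exact ⟨g10, hg10⟩
      · exact ⟨g10, hg10⟩
      · exact ⟨g15, hg15⟩
      · exact ⟨g15, hg15⟩
      · exact ⟨g14, hg14⟩
      · exact ⟨g14, hg14⟩

end Cfsg.Agent.Helper55.PG63
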