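import Cfsg.Agent.Helper86.PG63.Defs

/-!
# S3664 (helper86), piece (POW): the `k`-th power of a module
-/

set_option autoImplicit false

namespace Cfsg.Agent.Helper55.PG63

open Cfsg Cfsg.Agent.Helper86.PG63 Cfsg.Agent.Helper6

/-- the diagonal action on `Fin k → V` -/
def powAct {P V : Type} [Group P] [CommGroup V] (ψ : P →* MulAut V) (k : ℕ) :
    P →* MulAut (Fin k → V) where
  toFun a := MulEquiv.piCongrRight (fun _ => ψ a)
  map_one' := by
    ext w i
    simp
  map_mul' a b := by
    ext w i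
    simp

theorem powAct_apply {P V : Type} [Group P] [CommGroup V] (ψ : P →* MulAut V) (k : ℕ) (a : P)
    (w : Fin k → V) (i : Fin k) : powAct ψ k a w i = ψ a (w i) := rfl

/-- (POW) the `k`-th power of a module -/
theorem exists_pow_module {P V : Type} [Group P] [CommGroup V] [Finite V] (ψ : P →* MulAut V)
    (k : ℕ) (hk : 0 < k) :
    ∃ (W : Type) (_ : CommGroup W) (_ : Finite W) (ψ' : P →* MulAut W),
      Nat.card W = Nat.card V ^ k ∧ ((∀ u : V, u * u = 1) → ∀ w : W, w * w = 1) ∧
      (∀ a : P, (∃ u : V, u ≠ 1 ∧ ψ a u = u) → ∃ w : W, w ≠ 1 ∧ ψ' a w = w) ∧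
      (∀ a : P, (∀ u : V, ψ a u = u → u = 1) → ∀ w : W, ψ' a w = w → w = 1) := by
  refine ⟨Fin k → V, inferInstance, inferInstance, powAct ψ k, ?_, ?_, ?_, ?_⟩
  · rw [Nat.card_fun, Nat.card_eq_fintype_card (α := Fin k), Fintype.card_fin]
  · intro h w
    funext i
    exact h (w i)
  · rintro a ⟨u, hu1, hu⟩
    refine ⟨fun _ => u, ?_, ?_⟩
    · intro h
      exact hu1 (congrFun h ⟨0, hk⟩)
    · funext i
      rw [powAct_apply]
      exact hu
  · intro a h w hw
    funext i
    apply h
    have := congrFun hw i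
    rwa [powAct_apply] at this

end Cfsg.Agent.Helper55.PG63
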