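import Cfsg.Agent.Helper86.PG63.Defs

/-!
# S3664 (helper86), piece (TRANS): the target graph is invariant under isomorphism
-/

set_option autoImplicit false

namespace Cfsg.Agent.Helper55.PG63

open Cfsg Cfsg.Agent.Helper86.PG63 Cfsg.Agent.Helper6

/-- (TRANS) the target graph is invariant under isomorphism -/
theorem hasGraph_of_mulEquiv {G G' : Type*} [Group G] [Group G'] (e : G ≃* G')
    (h : HasGraph G) : HasGraph G' := by
  obtain ⟨h1, h2⟩ := h
  have hcard : Nat.card G' = Nat.card G := (Nat.card_congr e.toEquiv).symm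
  refine ⟨?_, ?_⟩
  · intro p hp
    rw [hcard]
    exact h1 p hp
  · intro p q hp hq hpq
    rw [← h2 p q hp hq hpq]
    constructor
    · rintro ⟨g', hg'⟩
      refine ⟨e.symm g', ?_⟩
      rw [MulEquiv.orderOf_eq]
      exact hg'
    · rintro ⟨g, hg⟩
      refine ⟨e g, ?_⟩
      rw [MulEquiv.orderOf_eq]
      exact hg

end Cfsg.Agent.Helper55.PG63
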