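import Mathlib
import Cfsg.Prelude.Def_Transfer

/-!
Parity form of the (generalized) Thompson transfer lemma, via the sign of the permutation
induced on a coset space.  No normality assumptions.
-/

set_option autoImplicit false

namespace Cfsg.Agent.Helper55.ParityTransfer

open Equiv

/-- A homomorphism to `ℤˣ` kills `O^2`. -/
theorem pResidual_two_le_ker {X : Type*} [Group X] (φ : X →* ℤˣ) :
    Cfsg.pResidual 2 X ≤ φ.ker := by
  unfold Cfsg.pResidual
  rw [Subgroup.closure_le]
  intro g hg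
  have hg' : Nat.Coprime (orderOf g) 2 := hg
  rw [SetLike.mem_coe, MonoidHom.mem_ker]
  have h1 : (φ g) ^ orderOf g = 1 := by rw [← map_pow, pow_orderOf_eq_one, map_one]
  have h2 : (φ g) ^ 2 = 1 := Int.units_sq (φ g)
  have h3 : (φ g) ^ Nat.gcd (orderOf g) 2 = 1 := by
    rw [← orderOf_dvd_iff_pow_eq_one]
    exact Nat.dvd_gcd (orderOf_dvd_of_pow_eq_one h1) (orderOf_dvd_of_pow_eq_one h2)
  rw [Nat.Coprime] at hg'
  rwa [hg', pow_one] at h3

/-- **Parity lemma.** If `c` has order `2^(k+1)`, the index of `T` is `2^(k+1) * m` with `m` odd and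
the involution of `⟨c⟩` has no conjugate in `T`, then some homomorphism to `ℤˣ` maps `c` to `-1`. -/
theorem exists_hom_neg_one {X : Type*} [Group X] [Finite X] (T : Subgroup X) (c : X) (k m : ℕ)
    (hc : orderOf c = 2 ^ (k + 1)) (hidx : T.index = 2 ^ (k + 1) * m) (hm : Odd m)
    (hz : ∀ g : X, g * c ^ (2 ^ k) * g⁻¹ ∉ T) :
    ∃ φ : X →* ℤˣ, φ c = -1 := by
  classical
  haveI : Fintype (X ⧸ T) := Fintype.ofFinite _
  set σ : Perm (X ⧸ T) := MulAction.toPermHom X (X ⧸ T) c with hσ
  refine ⟨Perm.sign.comp (MulAction.toPermHom X (X ⧸ T)), ?_⟩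
  show Perm.sign σ = -1
  -- no fixed points of σ^(2^k)
  have hfix : ∀ q : X ⧸ T, (σ ^ (2 ^ k)) q ≠ q := by
    intro q hq
    obtain ⟨g, rfl⟩ := QuotientGroup.mk_surjective q
    rw [hσ, ← map_pow] at hq
    change (c ^ (2 ^ k)) • (g : X ⧸ T) = (g : X ⧸ T) at hq
    rw [MulAction.Quotient.smul_mk, QuotientGroup.eq] at hq
    apply hz g⁻¹
    have : g⁻¹ * c ^ (2 ^ k) * g⁻¹⁻¹ = ((c ^ 2 ^ k • g)⁻¹ * g)⁻¹ := by
      simp only [smul_eq_mul]; group
    rw [this]
    exact T.inv_mem hq
  have hord : orderOf σ ∣ 2 ^ (k + 1) := by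
    rw [← hc, hσ]; exact orderOf_map_dvd _ _
  -- all cycles have length 2^(k+1)
  have hall : ∀ n ∈ σ.cycleType, n = 2 ^ (k + 1) := by
    intro n hn
    have hnd : n ∣ 2 ^ (k + 1) := (Perm.dvd_of_mem_cycleType hn).trans hord
    obtain ⟨i, hi, rfl⟩ := (Nat.dvd_prime_pow Nat.prime_two).mp hnd
    by_contra hne
    have hik : i ≤ k := by
      rcases Nat.lt_or_ge k i with h | h
      · exfalso; apply hne; congr 1; omega
      · exact h
    obtain ⟨c₀, τ, hστ, hd, hcyc, hcard⟩ := Perm.mem_cycleType_iff.mp hn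
    obtain ⟨x, hx⟩ := hcyc.nonempty_support
    have hx' : c₀ x ≠ x := Perm.mem_support.mp hx
    have hτx : τ x = x := by
      rcases hd x with h | h
      · exact absurd h hx'
      · exact h
    have hc₀ : c₀ ^ (2 ^ k) = 1 := by
      rw [← orderOf_dvd_iff_pow_eq_one, hcyc.orderOf, hcard]
      exact pow_dvd_pow 2 hik
    apply hfix x
    rw [hστ, hd.commute.mul_pow, hc₀, one_mul]
    exact Perm.pow_apply_eq_self_of_apply_eq_self hτx _
  have hrep : σ.cycleType = Multiset.replicate (Multiset.card σ.cycleType) (2 ^ (k + 1)) :=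
    Multiset.eq_replicate.mpr ⟨rfl, hall⟩
  -- support is everything
  have hsupp : σ.support = Finset.univ := by
    ext q
    simp only [Perm.mem_support, Finset.mem_univ, iff_true]
    intro hq
    exact hfix q (Perm.pow_apply_eq_self_of_apply_eq_self hq _)
  have hsum : Multiset.card σ.cycleType * 2 ^ (k + 1) = 2 ^ (k + 1) * m := by
    have h1 : σ.cycleType.sum = Multiset.card σ.cycleType * 2 ^ (k + 1) := by
      conv_lhs => rw [hrep]
      rw [Multiset.sum_replicate, smul_eq_mul]
    rw [← h1, Perm.sum_cycleType, hsupp, Finset.card_univ, ← hidx, Subgroup.index_eq_card,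
      Nat.card_eq_fintype_card]
  have hcardm : Multiset.card σ.cycleType = m := by
    have hpos : 0 < 2 ^ (k + 1) := by positivity
    rw [mul_comm] at hsum
    exact Nat.eq_of_mul_eq_mul_left hpos hsum
  rw [Perm.sign_of_cycleType', hrep, Multiset.map_replicate, Multiset.prod_replicate, hcardm]
  have heven : Even (2 ^ (k + 1)) := by
    rw [pow_succ]; exact even_two.mul_left _
  rw [heven.neg_one_pow, hm.neg_one_pow]

/-- Consequence: under the hypotheses of the parity lemma, `c ∉ O^2(X)`. -/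
theorem not_mem_pResidual {X : Type*} [Group X] [Finite X] (T : Subgroup X) (c : X) (k m : ℕ)
    (hc : orderOf c = 2 ^ (k + 1)) (hidx : T.index = 2 ^ (k + 1) * m) (hm : Odd m)
    (hz : ∀ g : X, g * c ^ (2 ^ k) * g⁻¹ ∉ T) :
    c ∉ Cfsg.pResidual 2 X := by
  obtain ⟨φ, hφ⟩ := exists_hom_neg_one T c k m hc hidx hm hz
  intro hmem
  have := pResidual_two_le_ker φ hmem
  rw [MonoidHom.mem_ker, hφ] at this
  exact absurd this (by decide)

/-- `O^2(O^2(G)) = O^2(G)`: the subgroup `O^2(G)`, as a group, is generated by its elements of odd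
order. -/
theorem pResidual_pResidual_eq_top {G : Type*} [Group G] (p : ℕ) :
    Cfsg.pResidual p ↥(Cfsg.pResidual p G) = ⊤ := by
  apply Subgroup.map_injective (Cfsg.pResidual p G).subtype_injective
  rw [← MonoidHom.range_eq_map, Subgroup.range_subtype]
  apply le_antisymm
  · exact Subgroup.map_subtype_le _
  · conv_lhs => unfold Cfsg.pResidual
    rw [Subgroup.closure_le]
    intro g hg
    have hg' : Nat.Coprime (orderOf g) p := hg
    have hgK : g ∈ Cfsg.pResidual p G := Subgroup.subset_closure hg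
    refine ⟨⟨g, hgK⟩, ?_, rfl⟩
    apply Subgroup.subset_closure
    show Nat.Coprime (orderOf (⟨g, hgK⟩ : ↥(Cfsg.pResidual p G))) p
    rwa [Subgroup.orderOf_mk]

/-- If `L = O^p(L)` then `L ≤ O^p(G)`. -/
theorem le_pResidual_of_pResidual_eq_top {G : Type*} [Group G] (p : ℕ) (L : Subgroup G)
    (hL : Cfsg.pResidual p ↥L = ⊤) : L ≤ Cfsg.pResidual p G := by
  have h1 : (Cfsg.pResidual p ↥L).map L.subtype ≤ Cfsg.pResidual p G := by
    unfold Cfsg.pResidual
    rw [MonoidHom.map_closure]
    apply Subgroup.closure_mono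
    rintro _ ⟨g, hg, rfl⟩
    show Nat.Coprime (orderOf (L.subtype g)) p
    rw [Subgroup.coe_subtype, Subgroup.orderOf_coe]
    exact hg
  rw [hL, ← MonoidHom.range_eq_map, Subgroup.range_subtype] at h1
  exact h1

end Cfsg.Agent.Helper55.ParityTransfer
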