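import Mathlib
import Cfsg.Agent.Helper99.Pron.Defs

/-!
# S2225/S2226 block I (helper99), piece (BM1)
-/

set_option autoImplicit false

namespace Cfsg.Agent.Helper55.Pron

open Matrix Cfsg.Agent.Helper99.Pron

variable {F : Type*} [Field F] {ι : Type*} [Fintype ι] [DecidableEq ι]

omit [DecidableEq ι] in
theorem BM1_aux (h2 : (2 : F) ≠ 0) (A : Matrix ι ι F) (h : -A = A) : A = 0 := by
  have h' : (2 : F) • A = 0 := by
    rw [two_smul]
    nth_rewrite 1 [← h]
    exact neg_add_cancel A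
  exact (smul_eq_zero.1 h').resolve_left h2

/-- (BM1) a matrix commuting with `diag(-1, 1)` is block diagonal (`2 ≠ 0`). -/
theorem BM1 (h2 : (2 : F) ≠ 0) (X : Matrix (ι ⊕ ι) (ι ⊕ ι) F)
    (h : fromBlocks (-1 : Matrix ι ι F) 0 0 1 * X = X * fromBlocks (-1 : Matrix ι ι F) 0 0 1) :
    X.toBlocks₁₂ = 0 ∧ X.toBlocks₂₁ = 0 := by
  have e := fromBlocks_toBlocks X
  rw [← e, fromBlocks_multiply, fromBlocks_multiply, fromBlocks_inj] at h
  simp only [Matrix.neg_mul, Matrix.one_mul, Matrix.zero_mul, add_zero, zero_add, Matrix.mul_neg,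
    Matrix.mul_one, Matrix.mul_zero] at h
  obtain ⟨-, h12, h21, -⟩ := h
  exact ⟨BM1_aux h2 _ h12, BM1_aux h2 _ h21.symm⟩

end Cfsg.Agent.Helper55.Pron
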