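import Mathlib
import Cfsg.Agent.Helper99.Pron.Defs

/-!
# S2225/S2226 block I (helper99), piece (BM3)
-/

set_option autoImplicit false

namespace Cfsg.Agent.Helper55.Pron

open Matrix Cfsg.Agent.Helper99.Pron

variable {F : Type*} [Field F] {ι : Type*} [Fintype ι] [DecidableEq ι]

/-- (BM3) `diag(l, m)` commuting with an antidiagonal invertible block matrix forces `l = m`. -/
theorem BM3 [Nonempty ι] (l m : F) (a b : GL ι F)
    (h : (ad a b : GL (ι ⊕ ι) F).1 * fromBlocks (l • (1 : Matrix ι ι F)) 0 0 (m • 1) =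
      fromBlocks (l • (1 : Matrix ι ι F)) 0 0 (m • 1) * (ad a b : GL (ι ⊕ ι) F).1) : l = m := by
  have hv : (ad a b : GL (ι ⊕ ι) F).1 = fromBlocks 0 a.1 b.1 0 := rfl
  rw [hv, fromBlocks_multiply, fromBlocks_multiply, fromBlocks_inj] at h
  obtain ⟨-, h12, -, -⟩ := h
  simp only [zero_add, Matrix.mul_zero, add_zero, Matrix.mul_smul, Matrix.mul_one,
    Matrix.smul_mul, Matrix.one_mul] at h12
  -- `m • a = l • a`
  have h0 : (m - l) • (a.1 : Matrix ι ι F) = 0 := by rw [sub_smul, h12, sub_self]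
  have ha : (a.1 : Matrix ι ι F) ≠ 0 := by
    intro h'
    have hu : IsUnit (a : Matrix ι ι F) := a.isUnit
    rw [show (a : Matrix ι ι F) = 0 from h'] at hu
    exact not_isUnit_zero hu
  have := (smul_eq_zero.1 h0).resolve_right ha
  exact (sub_eq_zero.1 this).symm

end Cfsg.Agent.Helper55.Pron
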