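import Cfsg.Agent.Helper61.PslDefs
import Cfsg.Agent.Helper61.ZpEmbed
import Cfsg.Agent.Helper5.PSL2
import Cfsg.Agent.Helper5.PSL2Simple

/-!
# S3616, piece (TRANSPORT): identify a faithful even action of degree `p + 1` containing a
transitive copy of `PSL(2,p)` with the projective line `Option (ZMod p)`.
-/

set_option autoImplicit false

namespace Cfsg.Agent.Helper55.Psl

open Equiv MulAction Cfsg.Agent.Helper61.Zp Cfsg.Agent.Helper61.Psl

variable {p : ℕ} [Fact p.Prime]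

/-- arithmetic: from `2 n = p (p² - 1)` with `p` odd, `n = (p + 1) p ((p - 1) / 2)` -/
theorem psl_card_arith {p n : ℕ} (hodd : p % 2 = 1) (h : n * 2 = p * (p ^ 2 - 1)) :
    n = (p + 1) * p * ((p - 1) / 2) := by
  obtain ⟨k, rfl⟩ : ∃ k, p = 2 * k + 1 := ⟨p / 2, by omega⟩
  have h1 : (2 * k + 1) ^ 2 - 1 = 4 * k * (k + 1) := by
    have : (2 * k + 1) ^ 2 = 4 * k * (k + 1) + 1 := by ring
    omega
  have h2 : (2 * k + 1 - 1) / 2 = k := by omega
  rw [h1] at h
  rw [h2]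
  have : n * 2 = ((2 * k + 1 + 1) * (2 * k + 1) * k) * 2 := by rw [h]; ring
  exact Nat.eq_of_mul_eq_mul_right (by norm_num) this

/-- the order of `PSL(2, p)` -/
theorem card_psl_zmod (hp3 : 3 ≤ p) :
    Nat.card (Matrix.ProjectiveSpecialLinearGroup (Fin 2) (ZMod p)) =
      (p + 1) * p * ((p - 1) / 2) := by
  have hp := (Fact.out : p.Prime)
  have hodd : p % 2 = 1 := by
    rcases hp.eq_two_or_odd with h | h
    · omega
    · exact h
  have hoddF : Odd (Fintype.card (ZMod p)) := by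
    rw [ZMod.card]
    exact Nat.odd_iff.mpr hodd
  have hc := Cfsg.Agent.Helper5.card_PSL2_mul (F := ZMod p)
  rw [Cfsg.Agent.Helper5.card_center_SL2_of_two_ne_zero
    (Cfsg.Agent.Helper5.two_ne_zero_of_odd_card hoddF), ZMod.card] at hc
  exact psl_card_arith hodd hc

/-- `(p + 1) p ((p - 1) / 2)` is not prime for `p ≥ 5` -/
theorem psl_card_not_prime {p : ℕ} (hp5 : 5 ≤ p) : ¬ ((p + 1) * p * ((p - 1) / 2)).Prime := by
  intro h
  have h1 : (p + 1) * p * ((p - 1) / 2) = (p + 1) * (p * ((p - 1) / 2)) := by ring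
  rw [h1] at h
  rcases (Nat.prime_mul_iff.mp h) with ⟨_, h2⟩ | ⟨_, h2⟩
  · have : 2 ≤ (p - 1) / 2 := by omega
    have : 5 * 2 ≤ p * ((p - 1) / 2) := Nat.mul_le_mul hp5 this
    omega
  · omega

/-- (TRANSPORT) identify the given action with the projective line `Option (ZMod p)` so that `L`
becomes the standard copy of `PSL(2,p)`. -/
theorem exists_over {X Ω : Type*} [Group X] [Finite X] [MulAction X Ω] [FaithfulSMul X Ω]
    [Fintype Ω] [DecidableEq Ω] (hp5 : 5 ≤ p) (hΩ : Fintype.card Ω = p + 1)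
    (heven : ∀ x : X, Equiv.Perm.sign (MulAction.toPerm x : Equiv.Perm Ω) = 1)
    (L : Subgroup X)
    (hL : Nonempty (↥L ≃* Matrix.ProjectiveSpecialLinearGroup (Fin 2) (ZMod p)))
    (hLt : MulAction.IsPretransitive ↥L Ω) (hLX : L ≠ ⊤) :
    ∃ (f : Ω ≃ Option (ZMod p)) (𝔛 Γ : Subgroup (Perm (Option (ZMod p)))),
      Over 𝔛 Γ ∧ ∀ g ∈ 𝔛, ∃ x : X, ∀ ω : Ω, g (f ω) = f (x • ω) := by
  classical
  have hp := (Fact.out : p.Prime)
  obtain ⟨eL⟩ := hL
  have hcardL : Nat.card L = (p + 1) * p * ((p - 1) / 2) := by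
    rw [Nat.card_congr eL.toEquiv]
    exact card_psl_zmod (by omega)
  have hinj : Function.Injective (MulAction.toPermHom X Ω) := MulAction.toPerm_injective
  -- an element of order `p` in `L`
  obtain ⟨u, hu⟩ := exists_prime_orderOf_dvd_card' (G := L) p
    (by rw [hcardL]; exact Dvd.dvd.mul_right (dvd_mul_left p (p + 1)) _)
  have hcardO : Fintype.card (Option (ZMod p)) = p + 1 := by rw [Fintype.card_option, ZMod.card]
  obtain ⟨e₀⟩ : Nonempty (Ω ≃ Option (ZMod p)) := Fintype.card_eq.mp (hΩ.trans hcardO.symm)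
  set π₀ : Perm (Option (ZMod p)) := e₀.permCongrHom (MulAction.toPermHom X Ω (u : X)) with hπ₀
  have hπ₀ord : orderOf π₀ = p := by
    rw [hπ₀, MulEquiv.orderOf_eq, orderOf_injective _ hinj, Subgroup.orderOf_coe, hu]
  have hct1 : π₀.cycleType = {p} := cycleType_of_orderOf_eq hp hcardO hπ₀ord
  have hct2 : (tr (1 : ZMod p)).cycleType = {p} :=
    cycleType_of_orderOf_eq hp hcardO (orderOf_tr one_ne_zero)
  obtain ⟨c, hc⟩ := isConj_iff.mp (Perm.isConj_iff_cycleType_eq.mpr (hct1.trans hct2.symm))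
  -- the embedding
  set ρ : X →* Perm (Option (ZMod p)) :=
    ((MulAut.conj c).toMonoidHom.comp e₀.permCongrHom.toMonoidHom).comp
      (MulAction.toPermHom X Ω) with hρ
  have hρinj : Function.Injective ρ := by
    rw [hρ]
    exact ((MulAut.conj c).injective.comp e₀.permCongrHom.injective).comp hinj
  have hρapp : ∀ (g : X) (x : Option (ZMod p)),
      ρ g x = c (e₀ (g • e₀.symm (c⁻¹ x))) := by
    intro g x
    rfl
  have hρu : ρ (u : X) = tr 1 := by
    rw [← hc]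
    rfl
  have hρsign : ∀ x : X, Perm.sign (ρ x) = 1 := by
    intro x
    have h1 : ρ x = c * e₀.permCongr (MulAction.toPerm x) * c⁻¹ := rfl
    rw [h1, Perm.sign_mul, Perm.sign_mul, Perm.sign_inv, Perm.sign_permCongr, heven x, mul_one]
    exact Int.units_mul_self _
  -- the isomorphism of the image of `L` with `PSL(2,p)`
  have eΓ : ↥(L.map ρ) ≃* Matrix.ProjectiveSpecialLinearGroup (Fin 2) (ZMod p) :=
    (L.equivMapOfInjective ρ hρinj).symm.trans eL
  have hcardΓ : Nat.card ↥(L.map ρ) = (p + 1) * p * ((p - 1) / 2) := by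
    rw [Nat.card_congr eΓ.toEquiv]
    exact card_psl_zmod (by omega)
  have : IsSimpleGroup (Matrix.ProjectiveSpecialLinearGroup (Fin 2) (ZMod p)) :=
    Cfsg.Agent.Helper5.isSimpleGroup_PSL2_of_card (by rw [ZMod.card]; omega)
  have hΓsimple : IsSimpleGroup ↥(L.map ρ) := eΓ.isSimpleGroup
  refine ⟨e₀.trans c, ρ.range, L.map ρ, ⟨⟨hcardΓ, ?_, ?_⟩, hΓsimple, ?_, ?_, ?_, ?_⟩, ?_⟩
  · exact Subgroup.mem_map.mpr ⟨(u : X), u.2, hρu⟩
  · intro x y
    obtain ⟨l, hl⟩ := hLt.exists_smul_eq (e₀.symm (c⁻¹ x)) (e₀.symm (c⁻¹ y))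
    refine ⟨ρ (l : X), Subgroup.mem_map.mpr ⟨(l : X), l.2, rfl⟩, ?_⟩
    rw [hρapp]
    have : (l : X) • e₀.symm (c⁻¹ x) = e₀.symm (c⁻¹ y) := hl
    rw [this]
    simp
  · apply Cfsg.Agent.Helper17.not_comm_of_simple_of_not_prime
    rw [hcardΓ]
    exact psl_card_not_prime hp5
  · rw [MonoidHom.range_eq_map]
    exact Subgroup.map_mono le_top
  · intro h
    rw [MonoidHom.range_eq_map] at h
    exact hLX (Subgroup.map_injective hρinj h)
  · rintro g ⟨x, rfl⟩
    exact hρsign x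
  · rintro g ⟨x, rfl⟩
    refine ⟨x, fun ω => ?_⟩
    rw [hρapp]
    simp

end Cfsg.Agent.Helper55.Psl
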