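import Cfsg.Agent.Helper78.PsuII.Stmts

/-!
# S2089 block II part A (helper78), piece (AG): consequences of the axioms inside `G`
-/

set_option autoImplicit false

namespace Cfsg.Agent.Helper55.PsuII

open Cfsg.Agent.Helper43.PsuM Cfsg.Agent.Helper78.PsuII

universe u

theorem AG_X_le_L {G : Type u} [Group G] {r : ℕ} (D : RData G r) (i : Fin r) : D.X i ≤ D.L i :=
  le_sup_left

theorem AG_Y_le_L {G : Type u} [Group G] {r : ℕ} (D : RData G r) (i : Fin r) : D.Y i ≤ D.L i :=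
  le_sup_right

theorem AG_mem_Y_iff {G : Type u} [Group G] {r : ℕ} (D : RData G r) (i : Fin r) (a : G) :
    a ∈ D.Y i ↔ (D.s i)⁻¹ * a * D.s i ∈ D.X i :=
  mem_cj_iff (D.s i) (D.X i) a

/-- (AG) consequences of the axioms inside `G`. -/
theorem gFacts {G : Type u} [Group G] {r : ℕ} (D : RData G r) (p : ℕ) [Fact p.Prime]
    (hD : D.IsSplit p) : GFacts D p := by
  have pX : ∀ i, IsPGroup p (D.X i) := fun i => hD.pU.to_le (hD.X_le i)
  have H_Y : ∀ i, ∀ h ∈ D.H, ∀ y ∈ D.Y i, h * y * h⁻¹ ∈ D.Y i := by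
    intro i h hh y hy
    rw [AG_mem_Y_iff] at hy ⊢
    have h1 : (D.s i)⁻¹ * h * D.s i ∈ D.H := hD.s_H' i h hh
    have := hD.H_X i _ h1 _ hy
    have e : (D.s i)⁻¹ * (h * y * h⁻¹) * D.s i
        = ((D.s i)⁻¹ * h * D.s i) * ((D.s i)⁻¹ * y * D.s i) * ((D.s i)⁻¹ * h * D.s i)⁻¹ := by group
    rw [e]; exact this
  have H_le_N : D.H ≤ D.N := le_sup_left
  have s_mem_N : ∀ i, D.s i ∈ D.N := fun i =>
    (le_sup_right : Subgroup.closure (Set.range D.s) ≤ D.N) (Subgroup.subset_closure ⟨i, rfl⟩)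
  have N_le : D.N ≤ Subgroup.normalizer (D.H : Set G) := by
    unfold RData.N
    apply sup_le Subgroup.le_normalizer
    rw [Subgroup.closure_le]
    rintro _ ⟨i, rfl⟩
    rw [SetLike.mem_coe, Subgroup.mem_normalizer_iff]
    intro h
    constructor
    · intro hh; exact hD.s_H i h hh
    · intro hh
      have := hD.s_H' i _ hh
      have e : (D.s i)⁻¹ * (D.s i * h * (D.s i)⁻¹) * D.s i = h := by group
      rw [e] at this; exact this
  have N_H : ∀ ν ∈ D.N, ∀ h ∈ D.H, ν * h * ν⁻¹ ∈ D.H := by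
    intro ν hν h hh
    exact (Subgroup.mem_normalizer_iff.1 (N_le hν) h).1 hh
  have hs_X : ∀ i, ∀ h ∈ D.H, cj (h * D.s i) (D.X i) ≤ D.Y i := by
    intro i h hh a ha
    rw [mem_cj_iff] at ha
    rw [AG_mem_Y_iff]
    have h1 : (D.s i)⁻¹ * h * D.s i ∈ D.H := hD.s_H' i h hh
    have := hD.H_X i _ h1 _ ha
    have e : (D.s i)⁻¹ * a * D.s i
        = ((D.s i)⁻¹ * h * D.s i) * ((h * D.s i)⁻¹ * a * (h * D.s i)) * ((D.s i)⁻¹ * h * D.s i)⁻¹ := by
      group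
    rw [e]; exact this
  have hs_Y : ∀ i, ∀ h ∈ D.H, cj (h * D.s i) (D.Y i) ≤ D.X i := by
    intro i h hh a ha
    rw [mem_cj_iff, AG_mem_Y_iff] at ha
    have h1 : h * (D.s i * D.s i) ∈ D.H := D.H.mul_mem hh (hD.s_sq i)
    have := hD.H_X i _ h1 _ ha
    have e : a = (h * (D.s i * D.s i)) * ((D.s i)⁻¹ * ((h * D.s i)⁻¹ * a * (h * D.s i)) * D.s i)
        * (h * (D.s i * D.s i))⁻¹ := by group
    rw [e]; exact this
  have hs_sq : ∀ i, ∀ h ∈ D.H, h * D.s i * (h * D.s i) ∈ D.H := by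
    intro i h hh
    have e : h * D.s i * (h * D.s i) = h * (D.s i * h * (D.s i)⁻¹) * (D.s i * D.s i) := by group
    rw [e]
    exact D.H.mul_mem (D.H.mul_mem hh (hD.s_H i h hh)) (hD.s_sq i)
  have rank_one_L : ∀ i, ∀ y ∈ D.Y i, y ≠ 1 →
      ∃ x₁ ∈ D.X i, ∃ h ∈ D.H, ∃ x₂ ∈ D.X i, y = x₁ * (h * D.s i) * x₂ ∧ h * D.s i ∈ D.L i := by
    intro i y hy hne
    obtain ⟨x₁, hx₁, h, hh, x₂, hx₂, e⟩ := hD.rank_one i y hy hne
    refine ⟨x₁, hx₁, h, hh, x₂, hx₂, e, ?_⟩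
    have e' : h * D.s i = x₁⁻¹ * y * x₂⁻¹ := by rw [e]; group
    rw [e']
    exact (D.L i).mul_mem ((D.L i).mul_mem ((D.L i).inv_mem (AG_X_le_L D i hx₁)) (AG_Y_le_L D i hy))
      ((D.L i).inv_mem (AG_X_le_L D i hx₂))
  refine
    { pX := pX
      pY := fun i => (pX i).map _
      H_Y := H_Y
      H_le_N := H_le_N
      s_mem_N := s_mem_N
      N_H := N_H
      hs_X := hs_X
      hs_Y := hs_Y
      hs_sq := hs_sq
      rank_one_L := rank_one_L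
      exists_n := ?_ }
  intro i
  obtain ⟨x, hx, hx1⟩ := hD.X_ne i
  have hy : D.s i * x * (D.s i)⁻¹ ∈ D.Y i := conj_mem_cj (D.s i) hx
  have hy1 : D.s i * x * (D.s i)⁻¹ ≠ 1 := by
    intro h
    apply hx1
    have : x = (D.s i)⁻¹ * (D.s i * x * (D.s i)⁻¹) * D.s i := by group
    rw [this, h]; group
  obtain ⟨x₁, _, h, hh, x₂, _, _, hL⟩ := rank_one_L i _ hy hy1
  exact ⟨h, hh, hL⟩

end Cfsg.Agent.Helper55.PsuII
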