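import Cfsg.Agent.Helper78.PsuII.Stmts

/-!
# S2089 block II part A (helper78), piece (AW): `Ñ ∩ τ⁻¹(H) = H̃`
-/

set_option autoImplicit false
set_option linter.unusedSectionVars false
set_option linter.unusedVariables false

namespace Cfsg.Agent.Helper55.PsuII

open Cfsg.Agent.Helper43.PsuM Cfsg.Agent.Helper78.PsuII

universe u

section lift

variable {Γ G : Type u} [Group Γ] [Group G] [Finite Γ] {r : ℕ} (τ : Γ →* G)
  (hτ : Function.Surjective τ) (hc : τ.ker ≤ Subgroup.center Γ) (p : ℕ) [Fact p.Prime]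
  (hcop : (Nat.card τ.ker).Coprime p) (D : RData G r) (hD : D.IsSplit p) (hG : GFacts D p)

include hτ hc hcop hD hG

/-- (AW) `Ñ ∩ τ⁻¹(H) = H̃`: apply `hD.weyl` to `M := ↥(Nt τ p D)`, `φ := τ.comp (Nt τ p D).subtype`,
`K := (Ht τ p D).subgroupOf (Nt τ p D)`, `m i := ⟨a_i, _⟩` with `a_i ∈ Nit τ p D i` chosen by `NFacts.nonempty` -/
theorem nInf (hLF : LFacts τ p D) (hHF : HFacts τ p D) (hNF : NFacts τ p D) : NInf τ p D := by
  classical
  -- the chosen lifts
  choose a ha using hNF.nonempty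
  have hHit_le : ∀ i, Hit τ p D i ≤ Ht τ p D := fun i => le_iSup (fun i => Hit τ p D i) i
  have hHt_le : Ht τ p D ≤ Nt τ p D := le_sup_left
  have hNit_le : ∀ i, ∀ b ∈ Nit τ p D i, b ∈ Nt τ p D := by
    intro i b hb
    apply (le_sup_right : Subgroup.closure (⋃ i, Nit τ p D i) ≤ Nt τ p D)
    exact Subgroup.subset_closure (Set.mem_iUnion.2 ⟨i, hb⟩)
  have haN : ∀ i, a i ∈ Nt τ p D := fun i => hNit_le i (a i) (ha i)
  let m : Fin r → ↥(Nt τ p D) := fun i => ⟨a i, haN i⟩
  let K : Subgroup ↥(Nt τ p D) := (Ht τ p D).subgroupOf (Nt τ p D)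
  let φ : ↥(Nt τ p D) →* G := τ.comp (Nt τ p D).subtype
  have hK : ∀ k : ↥(Nt τ p D), k ∈ K ↔ (k : Γ) ∈ Ht τ p D := fun k => Subgroup.mem_subgroupOf
  -- generation
  have hgen : K ⊔ Subgroup.closure (Set.range m) = ⊤ := by
    rw [eq_top_iff]
    have hS : Nt τ p D ≤ (K ⊔ Subgroup.closure (Set.range m)).map (Nt τ p D).subtype := by
      have hHt : Ht τ p D ≤ (K ⊔ Subgroup.closure (Set.range m)).map (Nt τ p D).subtype := by
        intro h hh
        refine ⟨⟨h, hHt_le hh⟩, ?_, rfl⟩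
        exact (le_sup_left : K ≤ K ⊔ Subgroup.closure (Set.range m)) ((hK _).2 hh)
      have hm : ∀ i, a i ∈ (K ⊔ Subgroup.closure (Set.range m)).map (Nt τ p D).subtype := by
        intro i
        refine ⟨m i, ?_, rfl⟩
        exact (le_sup_right : Subgroup.closure (Set.range m) ≤ K ⊔ Subgroup.closure (Set.range m))
          (Subgroup.subset_closure ⟨i, rfl⟩)
      unfold Nt
      apply sup_le hHt
      rw [Subgroup.closure_le]
      intro b hb
      obtain ⟨i, hbi⟩ := Set.mem_iUnion.1 hb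
      have h1 : b * (a i)⁻¹ ∈ Ht τ p D := hHit_le i (hNF.mul_inv i b hbi (a i) (ha i))
      have e : b = (b * (a i)⁻¹) * a i := by group
      rw [SetLike.mem_coe, e]
      exact Subgroup.mul_mem _ (hHt h1) (hm i)
    intro g _
    obtain ⟨g', hg', e⟩ := hS g.2
    have : g' = g := Subtype.ext e
    rw [← this]; exact hg'
  -- apply the presentation of the Weyl group
  have key := hD.weyl ↥(Nt τ p D) φ K m
    (fun k hk => hHF.map_le _ ((hK k).1 hk))
    (fun i => (ha i).2)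
    hgen
    (fun i k hk => (hK _).2 (hNF.normal _ (haN i) _ ((hK k).1 hk)))
    (fun i k hk => by
      rw [hK]
      have := hNF.normal _ ((Nt τ p D).inv_mem (haN i)) _ ((hK k).1 hk)
      rw [inv_inv] at this
      exact this)
    (fun i => (hK _).2 (hHit_le i (hNF.sq i (a i) (ha i))))
    (fun g i j h => by
      rw [hK]
      have h1 : (g : Γ) * a j * (g : Γ)⁻¹ ∈ Nit τ p D i := hNF.conj_n _ g.2 i j h (a j) (ha j)
      exact hHit_le i (hNF.mul_inv i _ h1 (a i) (ha i)))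
  intro g hg hgH
  exact (hK ⟨g, hg⟩).1 (key ⟨g, hg⟩ hgH)

end lift

end Cfsg.Agent.Helper55.PsuII
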