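import Mathlib
import Cfsg.Agent.Helper99.QSpEllDefs
import Cfsg.Agent.Helper99.QSpGlue
import Cfsg.Agent.Helper94.TnK

/-!
# Piece (MC1a) of S5990 (helper99, board #6873): characteristic two, `x = 1 + N` with `N² = 0`,
`Q ∘ N = 0` and `rank N ≥ d - 1`: invariant nondegenerate subspaces of dimension `2k`, `k` even,
are hyperbolic.
-/

set_option autoImplicit false
set_option linter.unusedSectionVars false
set_option linter.unusedVariables false

namespace Cfsg.Agent.Helper55.QSpM

open Module
open Cfsg.Agent.Helper59.InvChain Cfsg.Agent.Helper59.Elusive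
open Cfsg.Agent.Helper99.SpStruct Cfsg.Agent.Helper99.RDecomp
open Cfsg.Agent.Helper44 Cfsg.Agent.Helper44.QType
open Cfsg.Agent.Helper99.QSp

universe u v

variable {F : Type u} [Field F] [Fintype F]
variable {V : Type v} [AddCommGroup V] [Module F V] [FiniteDimensional F V]

/-- rank-nullity on a subspace -/
theorem finrank_eq_inf_ker_add_map (f : Module.End F V) (W : Submodule F V) :
    finrank F ↥W = finrank F ↥(W ⊓ LinearMap.ker f) + finrank F ↥(W.map f) := by
  have h1 := LinearMap.finrank_range_add_finrank_ker (f.domRestrict W)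
  rw [LinearMap.range_domRestrict, LinearMap.ker_domRestrict] at h1
  have h3 : finrank F ↥((LinearMap.ker f).comap W.subtype) =
      finrank F ↥(W ⊓ LinearMap.ker f) := by
    rw [← Submodule.finrank_map_subtype_eq W ((LinearMap.ker f).comap W.subtype),
      Submodule.map_comap_subtype]
  omega

/-- a general dimension inequality -/
theorem finrank_inf_add_le {W I K : Submodule F V} (hIK : I ≤ K) :
    finrank F ↥(W ⊓ K) + finrank F ↥I ≤ finrank F ↥(W ⊓ I) + finrank F ↥K := by
  have h1 := Submodule.finrank_sup_add_finrank_inf_eq (W ⊓ K) I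
  have h3 : (W ⊓ K) ⊓ I = W ⊓ I := by
    rw [inf_assoc, inf_eq_right.mpr hIK]
  have h4 : finrank F ↥((W ⊓ K) ⊔ I) ≤ finrank F ↥K :=
    Submodule.finrank_mono (sup_le inf_le_right hIK)
  rw [h3] at h1
  omega

/-- the rank of `N` on an invariant nondegenerate subspace is even -/
theorem even_finrank_map_of_sq_zero (h2 : (2 : F) = 0) (Q : QuadraticForm F V)
    (N : Module.End F V) (hNQ : ∀ v, Q (N v) = 0) (hiso : ∀ v, Q (v + N v) = Q v)
    {W : Submodule F V} (hWinv : Inv N W) (hWnd : Nd (pB Q) W) :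
    Even (finrank F ↥(W.map N)) := by
  -- polar identities
  have hpol : ∀ a b : V, pB Q a b = Q (a + b) - Q a - Q b := fun a b => rfl
  have hNN0 : ∀ a b : V, pB Q (N a) (N b) = 0 := by
    intro a b
    rw [hpol, ← map_add, hNQ, hNQ, hNQ]
    ring
  have hself : ∀ u : V, pB Q u (N u) = 0 := by
    intro u
    rw [hpol, hiso, hNQ]
    ring
  have hisoB : ∀ a b : V, pB Q (a + N a) (b + N b) = pB Q a b := by
    intro a b
    rw [hpol, hpol]
    have : a + N a + (b + N b) = (a + b) + N (a + b) := by rw [map_add]; abel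
    rw [this, hiso, hiso, hiso]
  have hadj : ∀ a b : V, pB Q a (N b) = -pB Q (N a) b := by
    intro a b
    have h := hisoB a b
    rw [map_add, map_add, LinearMap.add_apply, LinearMap.add_apply, hNN0] at h
    linear_combination h
  set γ : LinearMap.BilinForm F V := (pB Q).compRight N with hγ
  have hγa : ∀ u v, γ u v = pB Q u (N v) := by
    intro u v
    rw [hγ, LinearMap.BilinForm.compRight_apply]
  have halt : γ.IsAlt := by
    intro u
    rw [hγa]
    exact hself u
  set R := W ⊓ LinearMap.ker N with hR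
  obtain ⟨C₀, hC₀⟩ := Submodule.exists_isCompl R
  set C := W ⊓ C₀ with hC
  have hRW : R ≤ W := inf_le_left
  have hsup : R ⊔ C = W := by
    rw [hC, inf_comm, ← sup_inf_assoc_of_le _ hRW, hC₀.sup_eq_top, top_inf_eq]
  have hdis : Disjoint R C := Disjoint.mono_right inf_le_right hC₀.disjoint
  have hCnd : Nd γ C := by
    rw [nd_iff]
    intro u hu hu'
    have huW : u ∈ W := hu.1
    have h1 : ∀ w ∈ W, pB Q w (N u) = 0 := by
      intro w hw
      rw [← hsup] at hw
      obtain ⟨r', hr', c, hc, rfl⟩ := Submodule.mem_sup.mp hw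
      have hc0 := hu' c hc
      rw [hγa] at hc0
      rw [map_add, LinearMap.add_apply, hc0, add_zero, hadj]
      have hr'k : N r' = 0 := LinearMap.mem_ker.mp hr'.2
      rw [hr'k, map_zero, LinearMap.zero_apply, neg_zero]
    have h3 : N u = 0 := nd_iff.mp hWnd _ (hWinv.apply_mem huW) h1
    have h7 : u ∈ R ⊓ C := ⟨⟨huW, LinearMap.mem_ker.mpr h3⟩, hu⟩
    rw [hdis.eq_bot, Submodule.mem_bot] at h7
    exact h7
  have hev := Cfsg.Agent.Helper99.SpStruct.even_finrank halt hCnd
  have h8 : finrank F ↥W = finrank F ↥R + finrank F ↥(W.map N) :=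
    finrank_eq_inf_ker_add_map N W
  have h9 : finrank F ↥(R ⊔ C) = finrank F ↥R + finrank F ↥C := finrank_sup_of_disjoint hdis
  rw [hsup] at h9
  have : finrank F ↥(W.map N) = finrank F ↥C := by omega
  rw [this]
  exact hev

/-- (MC1a) `x = 1 + N` with `N² = 0`, `Q ∘ N = 0` and `rank N ≥ d - 1`: invariant nondegenerate
subspaces of dimension `2k`, `k` even, are hyperbolic -/
theorem hyp_of_sq_zero_even (h2 : (2 : F) = 0) (Q : QuadraticForm F V)
    (hnd : (pB Q).Nondegenerate) {d : ℕ} (hV : finrank F V = 2 * d) (N : Module.End F V)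
    (hNN : N * N = 0) (hNQ : ∀ v, Q (N v) = 0) (hiso : ∀ v, Q (v + N v) = Q v)
    (hker : finrank F ↥(LinearMap.ker N) ≤ d + 1) {W : Submodule F V} (hWinv : Inv N W)
    (hWnd : Nd (pB Q) W) {k : ℕ} (hWdim : finrank F ↥W = 2 * k) (hk : Even k) : Hyp Q W := by
  have hRK : LinearMap.range N ≤ LinearMap.ker N := by
    rintro _ ⟨v, rfl⟩
    rw [LinearMap.mem_ker, ← Module.End.mul_apply, hNN, LinearMap.zero_apply]
  have hTSR : TS Q (LinearMap.range N) := by
    rintro _ ⟨v, rfl⟩
    exact hNQ v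
  have hTSmap : TS Q (W.map N) := by
    rintro _ ⟨v, -, rfl⟩
    exact hNQ v
  have hTSinf : TS Q (W ⊓ LinearMap.range N) := fun u hu => hTSR u hu.2
  have hmapW : W.map N ≤ W := hWinv
  -- `s ≤ k`
  have hs := Cfsg.Agent.Helper94.Ti.ti_finrank_le (pB_refl Q) hnd hmapW hWnd hTSmap.orth
  have hs' := Cfsg.Agent.Helper94.Ti.ti_finrank_le (pB_refl Q) hnd
    (inf_le_left : W ⊓ LinearMap.range N ≤ W) hWnd hTSinf.orth
  have hev := even_finrank_map_of_sq_zero h2 Q N hNQ hiso hWinv hWnd
  have h8 := finrank_eq_inf_ker_add_map N W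
  by_cases hsk : finrank F ↥(W.map N) = k
  · exact ⟨W.map N, hmapW, hTSmap, by rw [hsk, hWdim]⟩
  · -- `s ≤ k - 2`
    have hlt : finrank F ↥(W.map N) + 2 ≤ k := by
      obtain ⟨a, ha⟩ := hev
      obtain ⟨b, hb⟩ := hk
      omega
    have h4 := finrank_inf_add_le (W := W) hRK
    have h5 := LinearMap.finrank_range_add_finrank_ker N
    refine ⟨W ⊓ LinearMap.range N, inf_le_left, hTSinf, ?_⟩
    omega

end Cfsg.Agent.Helper55.QSpM
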