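import Cfsg.Agent.Helper8.S3ADefs

/-!
# S2858 farm (helper8), leaf (H1): `Hyp M₁ M₂ → IsCharPAmalgamPair 2 M₁ M₂`.
-/

set_option autoImplicit false

namespace Cfsg.Agent.Helper55.S3A

open Cfsg Cfsg.Agent.Helper8.S3A

variable {G : Type*} [Group G] {M₁ M₂ : Subgroup G}

/-- `S₃` is not a 2-group -/
theorem h1_not_two_group_S3 : ¬ IsPGroup 2 (Equiv.Perm (Fin 3)) := by
  have : Fact (Nat.Prime 2) := ⟨Nat.prime_two⟩
  intro h
  obtain ⟨n, hn⟩ := (IsPGroup.iff_card).1 h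
  have h6 : Nat.card (Equiv.Perm (Fin 3)) = 6 := by
    rw [Nat.card_eq_fintype_card, Fintype.card_perm]; rfl
  rw [h6] at hn
  have h3 : 3 ∣ 2 ^ n := ⟨2, by omega⟩
  have := Nat.Prime.dvd_of_dvd_pow Nat.prime_three h3
  omega

/-- a subgroup `P` with `P / O_2(P) ≅ S₃` is not a 2-group -/
theorem h1_not_two_group {P : Subgroup G}
    (hq : Nonempty (↥P ⧸ pCore 2 ↥P ≃* Equiv.Perm (Fin 3))) : ¬ IsPGroup 2 ↥P := by
  intro h
  obtain ⟨e⟩ := hq
  exact h1_not_two_group_S3 ((h.to_quotient (pCore 2 ↥P)).of_equiv e)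

/-- a finite subgroup `P` with `P / O_2(P) ≅ S₃` has even order -/
theorem h1_two_dvd {P : Subgroup G} [Finite ↥P]
    (hq : Nonempty (↥P ⧸ pCore 2 ↥P ≃* Equiv.Perm (Fin 3))) : 2 ∣ Nat.card ↥P := by
  obtain ⟨e⟩ := hq
  have h6 : Nat.card (Equiv.Perm (Fin 3)) = 6 := by
    rw [Nat.card_eq_fintype_card, Fintype.card_perm]; rfl
  have hc : Nat.card (↥P ⧸ pCore 2 ↥P) = 6 := by rw [Nat.card_congr e.toEquiv, h6]
  have := Subgroup.card_eq_card_quotient_mul_card_subgroup (pCore 2 ↥P)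
  rw [this, hc]
  exact Dvd.dvd.mul_right (by norm_num) _

/-- characteristic `2` in the subtype form -/
theorem h1_char {P : Subgroup G}
    (h : P ⊓ Subgroup.centralizer (pCoreOf 2 P : Set G) ≤ pCoreOf 2 P) :
    Subgroup.centralizer (pCore 2 ↥P : Set ↥P) ≤ pCore 2 ↥P := by
  intro x hx
  have hxG : (x : G) ∈ P ⊓ Subgroup.centralizer (pCoreOf 2 P : Set G) := by
    refine Subgroup.mem_inf.2 ⟨x.2, ?_⟩
    rw [Subgroup.mem_centralizer_iff]
    rintro y ⟨y', hy', rfl⟩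
    have := (Subgroup.mem_centralizer_iff.1 hx) y' hy'
    simpa using congrArg Subtype.val this
  obtain ⟨x', hx', hxx⟩ := h hxG
  have : x' = x := Subtype.ext hxx
  rw [← this]; exact hx'

/-- if `(M₁ ⊓ M₂).subgroupOf P` is a Sylow 2-subgroup of `P` (`P = M₁` or `M₂`), the orders agree -/
theorem h1_card {P T : Subgroup G} [Finite ↥P] (hTP : T ≤ P)
    (hs : ∃ S : Sylow 2 ↥P, (S : Subgroup ↥P) = T.subgroupOf P)
    (S : Sylow 2 ↥T) (P₁ : Sylow 2 ↥P) : Nat.card ↥S = Nat.card ↥P₁ := by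
  have : Fact (Nat.Prime 2) := ⟨Nat.prime_two⟩
  obtain ⟨S₁, hS₁⟩ := hs
  have hfinT : Finite ↥T := Finite.of_injective (Subgroup.inclusion hTP)
    (Subgroup.inclusion_injective _)
  -- `T` is a 2-group
  have hT2 : IsPGroup 2 ↥T := by
    have h1 : IsPGroup 2 ↥(T.subgroupOf P) := by rw [← hS₁]; exact S₁.isPGroup'
    exact h1.of_equiv (Subgroup.subgroupOfEquivOfLe hTP)
  have hcT : Nat.card ↥T = Nat.card ↥(S₁ : Subgroup ↥P) := by
    rw [hS₁]; exact (Nat.card_congr (Subgroup.subgroupOfEquivOfLe hTP).toEquiv).symm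
  -- `S = ⊤`
  have eS : Nat.card ↥S = 2 ^ (Nat.card ↥T).factorization 2 := Sylow.card_eq_multiplicity S
  have eS₁ : Nat.card ↥(S₁ : Subgroup ↥P) = 2 ^ (Nat.card ↥P).factorization 2 :=
    Sylow.card_eq_multiplicity S₁
  have eP₁ : Nat.card ↥P₁ = 2 ^ (Nat.card ↥P).factorization 2 := Sylow.card_eq_multiplicity P₁
  have hStop : Nat.card ↥S = Nat.card ↥T := by
    obtain ⟨n, hn⟩ := (IsPGroup.iff_card).1 hT2
    rw [eS, hn]
    simp [Nat.Prime.factorization_pow Nat.prime_two]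
  rw [hStop, hcT, eS₁, eP₁]

/-- (H1) `IsCharPAmalgamPair 2 M₁ M₂`, so that `Cfsg.Agent.Helper46.Amalgam` applies.
(`M_i ≠ ⊤`: else `M₁ ⊓ M₂ = M_j` is a 2-group but `M_j / O_2 ≅ S₃`.) -/
theorem Hyp.charp (h : Hyp M₁ M₂) : IsCharPAmalgamPair 2 M₁ M₂ := by
  have := h.fin₁
  have := h.fin₂
  have hne₁ : M₁ ≠ ⊤ := by
    intro htop
    apply h1_not_two_group h.quot₂
    obtain ⟨S, hS⟩ := h.syl₂
    have : (S : Subgroup ↥M₂) = ⊤ := by
      rw [hS, htop, top_inf_eq]; exact Subgroup.subgroupOf_self M₂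
    have h2 : IsPGroup 2 ↥(⊤ : Subgroup ↥M₂) := by rw [← this]; exact S.isPGroup'
    exact h2.of_equiv Subgroup.topEquiv
  have hne₂ : M₂ ≠ ⊤ := by
    intro htop
    apply h1_not_two_group h.quot₁
    obtain ⟨S, hS⟩ := h.syl₁
    have : (S : Subgroup ↥M₁) = ⊤ := by
      rw [hS, htop, inf_top_eq]; exact Subgroup.subgroupOf_self M₁
    have h2 : IsPGroup 2 ↥(⊤ : Subgroup ↥M₁) := by rw [← this]; exact S.isPGroup'
    exact h2.of_equiv Subgroup.topEquiv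
  refine ⟨⟨h.gen, hne₁, hne₂, fun N hN hn => h.core N hn hN⟩, h.fin₁, h.fin₂,
    h1_two_dvd h.quot₁, h1_two_dvd h.quot₂, ?_, h1_char h.char₁, h1_char h.char₂⟩
  intro S P₁ P₂
  exact ⟨h1_card inf_le_left h.syl₁ S P₁, h1_card inf_le_right h.syl₂ S P₂⟩

end Cfsg.Agent.Helper55.S3A
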