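import Mathlib
import Cfsg.Prelude.Def_Characters
import Cfsg.Agent.Helper25.PSolvLin.Defs

/-!
# S4472 piece (IN) of helper25's farm #13417: two small facts on `indFun`
-/

set_option autoImplicit false

namespace Cfsg.Agent.Helper55.S4472IN

open Cfsg

universe u

theorem extendByZero_of_mem {X : Type u} [Group X] (T : Subgroup X) (η : T → ℂ) (g : X) (hg : g ∈ T) :
    extendByZero T η g = η ⟨g, hg⟩ := by
  unfold extendByZero
  exact Subtype.val_injective.extend_apply η 0 ⟨g, hg⟩

theorem extendByZero_of_not_mem {X : Type u} [Group X] (T : Subgroup X) (η : T → ℂ) (g : X) (hg : g ∉ T) :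
    extendByZero T η g = 0 := by
  unfold extendByZero
  exact Function.extend_apply' _ _ _ (by rintro ⟨t, rfl⟩; exact hg t.2)

/-- **(IN1)** induction preserves the field of values. -/
theorem indFun_mem_field {X : Type u} [Group X] [Fintype X] (T : Subgroup X)
    (F : IntermediateField ℚ ℂ) (η : T → ℂ) (hη : ∀ t : T, η t ∈ F) (x : X) :
    indFun T η x ∈ F := by
  unfold indFun
  apply mul_mem (inv_mem (natCast_mem F _))
  apply sum_mem
  intro y _
  by_cases hg : y⁻¹ * x * y ∈ T
  · rw [extendByZero_of_mem T η _ hg]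
    exact hη _
  · rw [extendByZero_of_not_mem T η _ hg]
    exact zero_mem F

/-- **(IN2)** on a normal subgroup `H ≤ T`, `indFun T η` only depends on `η` restricted to `H`. -/
theorem indFun_congr_on_normal {X : Type u} [Group X] [Fintype X] (H T : Subgroup X) [hn : H.Normal]
    (hHT : H ≤ T) (η η' : T → ℂ) (heq : ∀ t : T, (t : X) ∈ H → η t = η' t) (h : X) (hh : h ∈ H) :
    indFun T η h = indFun T η' h := by
  unfold indFun
  congr 1
  apply Finset.sum_congr rfl
  intro y _
  have hy : y⁻¹ * h * y ∈ H := by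
    have := hn.conj_mem h hh y⁻¹
    rwa [inv_inv] at this
  rw [extendByZero_of_mem T η _ (hHT hy), extendByZero_of_mem T η' _ (hHT hy)]
  exact heq ⟨_, hHT hy⟩ hy

end Cfsg.Agent.Helper55.S4472IN
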