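import Mathlib

/-!
# S3333 (helper62), piece (RB): Burnside transfer for a self-normalizing abelian Sylow 3-subgroup
of order 9 in a simple group.
-/

set_option autoImplicit false

namespace Cfsg.Agent.Helper55.S6

universe u

section abstract
variable {H : Type u} [Group H] [Finite H]

/-- (RB) Burnside: a self-normalizing abelian Sylow 3-subgroup of order 9 in a simple group. -/
theorem burnside_false [IsSimpleGroup H] (P : Sylow 3 H)
    (hcard : Nat.card (P : Subgroup H) = 9)
    (hcomm : ∀ a ∈ (P : Subgroup H), ∀ b ∈ (P : Subgroup H), a * b = b * a)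
    (hN : Subgroup.normalizer ((P : Subgroup H) : Set H) = (P : Subgroup H)) : False := by
  have hp3 : Fact (Nat.Prime 3) := ⟨Nat.prime_three⟩
  have hP : Subgroup.normalizer ((P : Subgroup H) : Set H) ≤ Subgroup.centralizer (P : Set H) := by
    rw [hN]
    intro a ha
    rw [Subgroup.mem_centralizer_iff]
    intro b hb
    exact hcomm b hb a ha
  have hc := MonoidHom.ker_transferSylow_isComplement' P hP
  have hcardmul := hc.card_mul_card
  have hHpos : 0 < Nat.card H := Nat.card_pos
  rcases (MonoidHom.normal_ker (MonoidHom.transferSylow P hP)).eq_bot_or_eq_top with hk | hk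
  · rw [hk, Subgroup.card_bot, one_mul, hcard] at hcardmul
    have hPtop : (P : Subgroup H) = ⊤ :=
      Subgroup.eq_top_of_card_eq _ (by rw [hcard, hcardmul])
    have hcommH : ∀ a b : H, a * b = b * a := fun a b =>
      hcomm a (hPtop ▸ Subgroup.mem_top a) b (hPtop ▸ Subgroup.mem_top b)
    let _ : CommGroup H := { (inferInstance : Group H) with mul_comm := hcommH }
    have hpr := IsSimpleGroup.prime_card (α := H)
    rw [← hcardmul] at hpr
    exact absurd hpr (by norm_num)
  · rw [hk, Subgroup.card_top, hcard] at hcardmul
    omega

end abstract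

end Cfsg.Agent.Helper55.S6
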