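import Mathlib
import Cfsg.Agent.Helper84.SU3P.Defs
import Cfsg.Agent.Helper37.SU3P_UZ

/-!
helper55 for helper84 (S2289, part 2, piece (PU)): `π` maps `Ũ` to upper unitriangular matrices.
-/

set_option autoImplicit false

namespace Cfsg.Agent.Helper55.SU3P

open Matrix Polynomial Cfsg.Agent.Helper84.RU3 Cfsg.Agent.Helper96.SLPres
  Cfsg.Agent.Helper96.StemSLTwo Cfsg.Agent.Helper96.StPres Cfsg.Agent.Helper84.SU3P

section aux

variable {K : Type*} [Field K] (bar : K →+* K)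

theorem PU_uM_mul (a b a' b' : K) :
    uM bar a b * uM bar a' b' = uM bar (a + a') (b + b' - bar a * a') := by
  unfold uM
  ext i j
  fin_cases i <;> fin_cases j <;> simp [Matrix.mul_apply, Fin.sum_univ_three, map_add] <;> ring

theorem PU_uM_zero : uM bar 0 0 = 1 := by
  unfold uM
  ext i j
  fin_cases i <;> fin_cases j <;> simp

theorem PU_eLM_uMat {K₀ : Type*} [Field K₀] (ι : K₀ →+* K) (c₀ : K) (s : K₀) :
    eLM ι c₀ (uMat K₀ s).1 = uM bar 0 (ι s * c₀) := by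
  unfold eLM uM
  rw [uMat_coe]
  ext i j
  fin_cases i <;> fin_cases j <;> simp

end aux

section C

variable {K : Type*} [Field K] (bar : K →+* K) (hb : ∀ x, bar (bar x) = x)
  {K₀ : Type*} [Field K₀] (ι : K₀ →+* K) {D : Type*} [Group D]
include hb

/-- (PU) `π` maps `Ũ` to upper unitriangular matrices -/
theorem pi_Ut (π : D →* SUJ bar) (φ : SL2 K₀ →* D) (h u : D) {a₀ b₀ ζ c₀ : K} (hζ : ζ ≠ 0)
    (hπu : mt bar (π u) = uM bar a₀ b₀) (hπh : mt bar (π h) = hM bar ζ)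
    (hπφ : ∀ g : SL2 K₀, mt bar (π (φ g)) = eLM ι c₀ g.1) :
    ∀ x ∈ Ut φ h u, ∃ a b : K, mt bar (π x) = uM bar a b := by
  intro x hx
  have hU : Ut φ h u = Subgroup.closure (Set.range (uz h u) ∪ (Zt φ : Set D)) := by
    unfold Ut
    rw [Subgroup.closure_union, Subgroup.closure_eq]
  rw [hU] at hx
  induction hx using Subgroup.closure_induction with
  | mem y hy =>
    rcases hy with ⟨i, rfl⟩ | hy
    · have e : π (uz h u i) = uz (π h) (π u) i := by
        unfold uz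
        rw [map_mul, map_mul, map_inv, map_zpow]
      rw [e]
      exact ⟨_, _, Cfsg.Agent.Helper37.SU3P.mt_uz bar hb (π u) (π h) a₀ b₀ ζ hζ hπu hπh i⟩
    · obtain ⟨s, rfl⟩ := mem_Zt.mp hy
      exact ⟨0, ι s * c₀, by rw [hπφ, PU_eLM_uMat bar]⟩
  | one => exact ⟨0, 0, by rw [map_one, mt_one, PU_uM_zero]⟩
  | mul y z _ _ hy hz =>
    obtain ⟨a, b, hy⟩ := hy
    obtain ⟨a', b', hz⟩ := hz
    exact ⟨_, _, by rw [map_mul, mt_mul, hy, hz, PU_uM_mul]⟩
  | inv y _ hy =>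
    obtain ⟨a, b, hy⟩ := hy
    refine ⟨-a, -b - bar a * a, ?_⟩
    rw [map_inv]
    have h1 : mt bar (π y) * mt bar (π y)⁻¹ = 1 := mt_mul_inv bar (π y)
    have h2 : uM bar (-a) (-b - bar a * a) * uM bar a b = 1 := by
      rw [PU_uM_mul, ← PU_uM_zero bar]
      congr 1
      · ring
      · rw [map_neg]; ring
    calc mt bar (π y)⁻¹ = (uM bar (-a) (-b - bar a * a) * uM bar a b) * mt bar (π y)⁻¹ := by
          rw [h2, one_mul]
      _ = uM bar (-a) (-b - bar a * a) * (mt bar (π y) * mt bar (π y)⁻¹) := by rw [hy, mul_assoc]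
      _ = uM bar (-a) (-b - bar a * a) := by rw [h1, mul_one]

end C

end Cfsg.Agent.Helper55.SU3P
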