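import Cfsg.Agent.Helper78.Olsson.Defs
import Cfsg.Agent.Helper16.CycloNorm
import Cfsg.Agent.Helper16.CycloAvg
import Cfsg.Agent.Helper16.ContribMajor
import Cfsg.Agent.Helper79.OlssonDIAGabs
import Cfsg.Agent.Helper37.SambNORM

/-!
# S4540 (helper79 WANTED #8646), piece (COUNTM): the final count on the `M`-side
-/

set_option autoImplicit false
set_option linter.style.haveILetI false
set_option linter.unusedSectionVars false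
set_option linter.unusedVariables false

noncomputable section

namespace Cfsg.Agent.Helper55.Samb

open Cfsg Polynomial
open scoped ComplexConjugate
open Cfsg.Agent.Helper78.Olsson (unitsRange)

theorem card_unitsRange (p n : ℕ) : (unitsRange p n).card = (p ^ n).totient := by
  unfold unitsRange
  exact (Nat.totient_eq_card_coprime (p ^ n)).symm

/-- if all `|F^γ|² / 2^k` are `2`-locally integral and no conjugate vanishes, the Galois average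
of `|F|²` is at least `2^k` -/
theorem sum_normSq_ge_two_pow {M : Ideal AlgInt} (hM : IsPModular 2 M) (n k : ℕ)
    {ι : Type*} [Fintype ι] (a : ι → ℤ) (μ : ι → ℂ) (hμ : ∀ θ, μ θ ^ (2 ^ n) = 1)
    (hnz : ∀ γ ∈ unitsRange 2 n, ∑ θ, (a θ : ℂ) * μ θ ^ γ ≠ 0)
    (hloc : ∀ γ ∈ unitsRange 2 n, MemLocalRing M ((∑ θ, (a θ : ℂ) * μ θ ^ γ) *
      conj (∑ θ, (a θ : ℂ) * μ θ ^ γ) / ((2 ^ k : ℕ) : ℂ))) :
    ((2 ^ n).totient : ℝ) * ((2 ^ k : ℕ) : ℝ) ≤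
      ∑ γ ∈ unitsRange 2 n, Complex.normSq (∑ θ, (a θ : ℂ) * μ θ ^ γ) := by
  classical
  set a' : ι × ι → ℤ := fun q => a q.1 * a q.2 with ha'
  set μ' : ι × ι → ℂ := fun q => μ q.1 * conj (μ q.2) with hμ'
  have hμ'pow : ∀ q ∈ (Finset.univ : Finset (ι × ι)), μ' q ^ (2 ^ n) = 1 := by
    intro q _
    rw [hμ', mul_pow, ← map_pow, hμ, hμ, map_one, mul_one]
  have hform : ∀ γ : ℕ, ∑ q ∈ (Finset.univ : Finset (ι × ι)), (a' q : ℂ) * μ' q ^ γ =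
      (∑ θ, (a θ : ℂ) * μ θ ^ γ) * conj (∑ θ, (a θ : ℂ) * μ θ ^ γ) := by
    intro γ
    rw [map_sum, Finset.sum_mul_sum, ← Fintype.sum_prod_type']
    refine Finset.sum_congr rfl (fun q _ => ?_)
    rw [ha', hμ', map_mul, map_pow, map_intCast, mul_pow]
    push_cast
    ring
  have hr : ∀ γ ∈ (Finset.range (2 ^ n)).filter (fun γ => Nat.Coprime (2 ^ n) γ),
      ∑ q ∈ (Finset.univ : Finset (ι × ι)), (a' q : ℂ) * μ' q ^ γ =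
        ((Complex.normSq (∑ θ, (a θ : ℂ) * μ θ ^ γ) : ℝ) : ℂ) := by
    intro γ _
    rw [hform, Complex.mul_conj]
  have hpos : ∀ γ ∈ (Finset.range (2 ^ n)).filter (fun γ => Nat.Coprime (2 ^ n) γ),
      0 < Complex.normSq (∑ θ, (a θ : ℂ) * μ θ ^ γ) := by
    intro γ hγ
    rw [Complex.normSq_pos]
    exact hnz γ hγ
  have hloc' : ∀ γ ∈ (Finset.range (2 ^ n)).filter (fun γ => Nat.Coprime (2 ^ n) γ),
      MemLocalRing M ((∑ q ∈ (Finset.univ : Finset (ι × ι)), (a' q : ℂ) * μ' q ^ γ) /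
        ((2 ^ k : ℕ) : ℂ)) := by
    intro γ hγ
    rw [hform]
    exact hloc γ hγ
  have h := Cfsg.Agent.Helper16.sum_ge_totient_mul_pow Nat.prime_two hM n k Finset.univ a' μ'
    hμ'pow (fun γ => Complex.normSq (∑ θ, (a θ : ℂ) * μ θ ^ γ)) hr hpos hloc'
  exact h

/-- (COUNTM) the final count on the `M`-side. -/
theorem three_mul_card_le_of_avg {M : Ideal AlgInt} (hM : IsPModular 2 M) (n : ℕ) (hn : 1 ≤ n)
    {K : Type*} [Fintype K] [DecidableEq K]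
    (S T0 : Finset K) (hT0 : T0 ⊆ S) (d l : ℕ) (hl : l ≤ 3) {ι : Type*} [Fintype ι]
    (A : K → K → ι → ℤ) (μ : K → K → ι → ℂ) (hμ : ∀ χ ψ i, μ χ ψ i ^ (2 ^ n) = 1)
    (m : ℕ → K → K → ℂ) (hm : ∀ γ χ ψ, m γ χ ψ = ∑ i, (A χ ψ i : ℂ) * μ χ ψ i ^ γ)
    (r : ℕ → K → ℝ) (hr : ∀ γ χ, m γ χ χ = (r γ χ : ℂ))
    (hrow : ∀ γ ∈ unitsRange 2 n, ∀ χ ∈ S,
      ∑ ψ ∈ S, Complex.normSq (m γ χ ψ) = (2 : ℝ) ^ d * r γ χ)
    (htr : ∀ γ ∈ unitsRange 2 n, ∑ χ ∈ S, r γ χ = (2 : ℝ) ^ d * (l : ℝ))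
    (ht : K → ℕ) (hht0 : ∀ χ ∈ T0, ht χ = 0)
    (hnz : ∀ γ ∈ unitsRange 2 n, ∀ χ ∈ T0, ∀ ψ ∈ S, m γ χ ψ ≠ 0)
    (hoff : ∀ γ ∈ unitsRange 2 n, ∀ χ ∈ T0, ∀ ψ ∈ S,
      MemLocalRing M (m γ χ ψ * conj (m γ χ ψ) / ((2 ^ (2 * ht ψ) : ℕ) : ℂ)))
    (e : K → ℤ)
    (he : ∀ χ ∈ S, ∑ γ ∈ unitsRange 2 n, r γ χ = ((2 ^ n).totient : ℝ) * (e χ : ℝ))
    (he1 : ∀ χ ∈ S, 1 ≤ e χ) (heodd : ∀ χ ∈ T0, Odd (e χ))
    (hege : ∀ χ ∈ S, χ ∉ T0 → (2 : ℤ) ^ (ht χ + 1) ≤ e χ) :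
    3 * T0.card + 2 * ∑ χ ∈ S \ T0, 2 ^ ht χ ≤ 3 * 2 ^ d := by
  set Γ := unitsRange 2 n with hΓ
  set φ : ℝ := ((2 ^ n).totient : ℝ) with hφ
  have hφpos : 0 < φ := by
    rw [hφ]
    exact_mod_cast Nat.totient_pos.mpr (pow_pos (by norm_num : 0 < 2) n)
  have hΓcard : (Γ.card : ℝ) = φ := by rw [hΓ, card_unitsRange]
  -- the sum of the `e χ`
  have hsumE : ∑ χ ∈ S, (e χ : ℝ) = (2 : ℝ) ^ d * (l : ℝ) := by
    have h1 : φ * ∑ χ ∈ S, (e χ : ℝ) = φ * ((2 : ℝ) ^ d * (l : ℝ)) := by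
      rw [Finset.mul_sum]
      calc ∑ χ ∈ S, φ * (e χ : ℝ) = ∑ χ ∈ S, ∑ γ ∈ Γ, r γ χ :=
            Finset.sum_congr rfl (fun χ hχ => (he χ hχ).symm)
        _ = ∑ γ ∈ Γ, ∑ χ ∈ S, r γ χ := Finset.sum_comm
        _ = ∑ γ ∈ Γ, (2 : ℝ) ^ d * (l : ℝ) := Finset.sum_congr rfl (fun γ hγ => htr γ hγ)
        _ = φ * ((2 : ℝ) ^ d * (l : ℝ)) := by
            rw [Finset.sum_const, nsmul_eq_mul, hΓcard]
    exact mul_left_cancel₀ hφpos.ne' h1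
  have hsumEZ : ∑ χ ∈ S, e χ = (2 : ℤ) ^ d * (l : ℤ) := by
    have : ((∑ χ ∈ S, e χ : ℤ) : ℝ) = (((2 : ℤ) ^ d * (l : ℤ) : ℤ) : ℝ) := by
      push_cast
      exact hsumE
    exact_mod_cast this
  have hsplit : ∀ f : K → ℤ, ∑ χ ∈ S, f χ = ∑ χ ∈ S \ T0, f χ + ∑ χ ∈ T0, f χ := fun f =>
    (Finset.sum_sdiff hT0).symm
  have hlZ : (l : ℤ) ≤ 3 := by exact_mod_cast hl
  have h2d : (0 : ℤ) ≤ (2 : ℤ) ^ d := by positivity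
  by_cases hA : ∃ χ ∈ T0, e χ = 1
  · -- Case A
    obtain ⟨χ0, hχ0, hone⟩ := hA
    have hχ0S : χ0 ∈ S := hT0 hχ0
    have hψ : ∀ ψ ∈ S, φ * ((2 ^ (2 * ht ψ) : ℕ) : ℝ) ≤ ∑ γ ∈ Γ, Complex.normSq (m γ χ0 ψ) := by
      intro ψ hψS
      have h := sum_normSq_ge_two_pow hM n (2 * ht ψ) (A χ0 ψ) (μ χ0 ψ) (hμ χ0 ψ)
        (fun γ hγ => by rw [← hm]; exact hnz γ hγ χ0 hχ0 ψ hψS)
        (fun γ hγ => by rw [← hm]; exact hoff γ hγ χ0 hχ0 ψ hψS)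
      simp only [← hm] at h
      exact h
    have htot : φ * ∑ ψ ∈ S, ((2 ^ (2 * ht ψ) : ℕ) : ℝ) ≤ φ * (2 : ℝ) ^ d := by
      rw [Finset.mul_sum]
      calc ∑ ψ ∈ S, φ * ((2 ^ (2 * ht ψ) : ℕ) : ℝ)
          ≤ ∑ ψ ∈ S, ∑ γ ∈ Γ, Complex.normSq (m γ χ0 ψ) := Finset.sum_le_sum hψ
        _ = ∑ γ ∈ Γ, ∑ ψ ∈ S, Complex.normSq (m γ χ0 ψ) := Finset.sum_comm
        _ = ∑ γ ∈ Γ, (2 : ℝ) ^ d * r γ χ0 :=
            Finset.sum_congr rfl (fun γ hγ => hrow γ hγ χ0 hχ0S)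
        _ = (2 : ℝ) ^ d * ∑ γ ∈ Γ, r γ χ0 := by rw [Finset.mul_sum]
        _ = φ * (2 : ℝ) ^ d := by
            rw [he χ0 hχ0S, hone]
            push_cast
            ring
    have htot' : ∑ ψ ∈ S, ((2 ^ (2 * ht ψ) : ℕ) : ℝ) ≤ (2 : ℝ) ^ d :=
      le_of_mul_le_mul_left htot hφpos
    have htotN : ∑ ψ ∈ S, 2 ^ (2 * ht ψ) ≤ 2 ^ d := by
      have : ((∑ ψ ∈ S, 2 ^ (2 * ht ψ) : ℕ) : ℝ) ≤ ((2 ^ d : ℕ) : ℝ) := by
        push_cast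
        push_cast at htot'
        exact htot'
      exact_mod_cast this
    have hsplitN : ∑ ψ ∈ S, 2 ^ (2 * ht ψ) =
        ∑ ψ ∈ S \ T0, 2 ^ (2 * ht ψ) + ∑ ψ ∈ T0, 2 ^ (2 * ht ψ) :=
      (Finset.sum_sdiff hT0).symm
    have hT0sum : ∑ ψ ∈ T0, 2 ^ (2 * ht ψ) = T0.card := by
      rw [Finset.sum_congr rfl (fun ψ hψ => by rw [hht0 ψ hψ, mul_zero, pow_zero]),
        Finset.sum_const, smul_eq_mul, mul_one]
    have hcmp : 2 * ∑ χ ∈ S \ T0, 2 ^ ht χ ≤ 3 * ∑ ψ ∈ S \ T0, 2 ^ (2 * ht ψ) := by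
      rw [Finset.mul_sum, Finset.mul_sum]
      refine Finset.sum_le_sum (fun χ _ => ?_)
      have h1 : 2 ^ ht χ ≤ 2 ^ (2 * ht χ) := Nat.pow_le_pow_right (by norm_num) (by omega)
      omega
    rw [hsplitN, hT0sum] at htotN
    omega
  · -- Case B
    have hge3 : ∀ χ ∈ T0, (3 : ℤ) ≤ e χ := by
      intro χ hχ
      obtain ⟨k, hk⟩ := heodd χ hχ
      have h1 := he1 χ (hT0 hχ)
      have hne : e χ ≠ 1 := fun h => hA ⟨χ, hχ, h⟩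
      omega
    have h1 : (3 : ℤ) * (T0.card : ℤ) ≤ ∑ χ ∈ T0, e χ := by
      have := Finset.card_nsmul_le_sum T0 e 3 hge3
      rw [nsmul_eq_mul] at this
      linarith
    have h2 : (2 : ℤ) * ∑ χ ∈ S \ T0, (2 : ℤ) ^ ht χ ≤ ∑ χ ∈ S \ T0, e χ := by
      rw [Finset.mul_sum]
      refine Finset.sum_le_sum (fun χ hχ => ?_)
      rw [Finset.mem_sdiff] at hχ
      have := hege χ hχ.1 hχ.2
      rw [pow_succ] at this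
      linarith
    have h3 := hsplit e
    have hfin : (3 : ℤ) * (T0.card : ℤ) + 2 * ∑ χ ∈ S \ T0, (2 : ℤ) ^ ht χ ≤ 3 * (2 : ℤ) ^ d := by
      have : (2 : ℤ) ^ d * (l : ℤ) ≤ 3 * (2 : ℤ) ^ d := by nlinarith
      linarith
    have : ((3 * T0.card + 2 * ∑ χ ∈ S \ T0, 2 ^ ht χ : ℕ) : ℤ) ≤ ((3 * 2 ^ d : ℕ) : ℤ) := by
      push_cast
      exact hfin
    exact_mod_cast this

end Cfsg.Agent.Helper55.Samb

end
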