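import Mathlib
import Cfsg.Agent.Helper94.Sg.Defs
import Cfsg.Agent.Helper44.OrthRealizeC

set_option autoImplicit false
set_option linter.unusedSectionVars false

/-!
# S3589 (helper94), pieces (INV), (SMALL): isometries given by `0/1` matrices in characteristic `2`

A matrix `M₀` over `ZMod 2` with `M₀ ^ 2 ^ (n + 1) = 1`, `M₀ ^ 2 ^ n ≠ 1` whose image in `F` preserves `Q` gives an
isometry of order `2 ^ (n + 1)`.
-/

namespace Cfsg.Agent.Helper55.Sg

open QuadraticMap Cfsg.Agent.Helper44.QType Cfsg.Agent.Helper94.Sg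

universe u
variable {F : Type u} [Field F] [Fintype F]

theorem real_of_zmod_two [CharP F 2] {ι : Type} [Fintype ι] [DecidableEq ι]
    (Q : QuadraticForm F (ι → F)) (m : ℕ) (ε : ℤ)
    (hcard : Fintype.card ι = 2 * m) (hnd : ∀ x, (∀ y, polar Q x y = 0) → x = 0)
    (hT : HasType (⇑Q) m ε) (M₀ : Matrix ι ι (ZMod 2)) (n : ℕ)
    (hM : ∀ v : ι → F, Q (Matrix.mulVec ((ZMod.castHom (dvd_refl 2) F).mapMatrix M₀) v) = Q v)
    (hpow : M₀ ^ 2 ^ (n + 1) = 1) (hne : M₀ ^ 2 ^ n ≠ 1) : Real F m ε (2 ^ (n + 1)) := by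
  set φ : ZMod 2 →+* F := ZMod.castHom (dvd_refl 2) F with hφ
  set M : Matrix ι ι F := φ.mapMatrix M₀ with hMdef
  have hMpow : M ^ 2 ^ (n + 1) = 1 := by rw [hMdef, ← map_pow, hpow, map_one]
  have hpos : 1 ≤ 2 ^ (n + 1) := Nat.one_le_two_pow
  let g : GL ι F := ⟨M, M ^ (2 ^ (n + 1) - 1),
    by rw [← pow_succ', Nat.sub_add_cancel hpos, hMpow],
    by rw [← pow_succ, Nat.sub_add_cancel hpos, hMpow]⟩
  have hg : g ∈ Cfsg.isometryGroup F ⇑Q := (Cfsg.Agent.Helper44.mem_isometryGroup_iff _ g).mpr hM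
  refine ⟨ι, inferInstance, inferInstance, Q, hcard, hnd, hT, ⟨g, hg⟩, ?_⟩
  have hcoe : ∀ k : ℕ, (((⟨g, hg⟩ : ↥(Cfsg.isometryGroup F ⇑Q)) ^ k : ↥(Cfsg.isometryGroup F ⇑Q)) :
      GL ι F).1 = M ^ k := by
    intro k
    rw [Subgroup.coe_pow, Units.val_pow_eq_pow_val]
  have : Fact (Nat.Prime 2) := ⟨Nat.prime_two⟩
  apply orderOf_eq_prime_pow
  · intro h1
    have h2 := hcoe (2 ^ n)
    rw [h1] at h2
    have h3 : M ^ 2 ^ n = 1 := h2.symm
    rw [hMdef, ← map_pow] at h3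
    apply hne
    have hinj : Function.Injective (φ.mapMatrix (m := ι)) := by
      intro A B hAB
      simp only [RingHom.mapMatrix_apply] at hAB
      exact Matrix.map_injective φ.injective hAB
    apply hinj
    rw [h3, map_one]
  · apply Subtype.ext
    apply Units.ext
    rw [hcoe, hMpow]
    rfl

end Cfsg.Agent.Helper55.Sg
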