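import Mathlib
import Cfsg.Agent.Helper86.Spec4.Defs

/-!
# S2510 (helper86), piece (A1): three factors.
-/

set_option autoImplicit false

namespace Cfsg.Agent.Helper55.Spec4

open Matrix Cfsg.Agent.Helper86.Spec4

theorem lcm_mul_of_coprime {r m n : ℕ} (h : Nat.Coprime r (Nat.lcm m n)) :
    Nat.lcm (m * r) n = r * Nat.lcm m n := by
  have hm : Nat.Coprime r m := Nat.Coprime.coprime_dvd_right (Nat.dvd_lcm_left m n) h
  calc Nat.lcm (m * r) n = Nat.lcm (Nat.lcm r m) n := by rw [hm.lcm_eq_mul, mul_comm]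
    _ = Nat.lcm r (Nat.lcm m n) := Nat.lcm_assoc r m n
    _ = r * Nat.lcm m n := h.lcm_eq_mul

theorem lcm3_second {r a b c : ℕ} (h : Nat.Coprime r (Nat.lcm a (Nat.lcm b c))) :
    Nat.lcm a (Nat.lcm (b * r) c) = r * Nat.lcm a (Nat.lcm b c) := by
  have h1 : Nat.Coprime r (Nat.lcm b c) := h.coprime_dvd_right (Nat.dvd_lcm_right _ _)
  rw [lcm_mul_of_coprime h1, Nat.lcm_comm a, mul_comm r,
    lcm_mul_of_coprime (by rwa [Nat.lcm_comm]), Nat.lcm_comm]

theorem lcm3_third {r a b c : ℕ} (h : Nat.Coprime r (Nat.lcm a (Nat.lcm b c))) :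
    Nat.lcm a (Nat.lcm b (c * r)) = r * Nat.lcm a (Nat.lcm b c) := by
  rw [Nat.lcm_comm b (c * r), lcm3_second (by rwa [Nat.lcm_comm c b]), Nat.lcm_comm c b]

theorem lcm_pow_mul {p a b k1 k2 : ℕ} (h1 : Nat.Coprime p k1) (h2 : Nat.Coprime p k2) :
    Nat.lcm (p ^ a * k1) (p ^ b * k2) = p ^ (max a b) * Nat.lcm k1 k2 := by
  have e1 : p ^ a * k1 = Nat.lcm (p ^ a) k1 := ((h1.pow_left a).lcm_eq_mul).symm
  have e2 : p ^ b * k2 = Nat.lcm (p ^ b) k2 := ((h2.pow_left b).lcm_eq_mul).symm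
  have e3 : Nat.lcm (p ^ a) (p ^ b) = p ^ max a b := by
    rcases le_total a b with hab | hab
    · rw [max_eq_right hab]
      exact Nat.lcm_eq_right (pow_dvd_pow p hab)
    · rw [max_eq_left hab]
      exact Nat.lcm_eq_left (pow_dvd_pow p hab)
  have e4 : Nat.Coprime (p ^ max a b) (Nat.lcm k1 k2) :=
    ((Nat.Coprime.mul_right h1 h2).coprime_dvd_right (Nat.lcm_dvd_mul k1 k2)).pow_left _
  rw [e1, e2, ← e4.lcm_eq_mul, ← e3]
  ac_rfl

section abstract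

variable {L : Type*} [Group L] [Finite L]

/-- (A1) three factors. -/
theorem part1_core {p r c : ℕ} (hp : p.Prime) (hr : r.Prime) (hpr : p ≠ r) (hpc : Nat.Coprime p c)
    (hBAD : ∀ w : L, Good r w ∨ ∃ t k, orderOf w = p ^ t * k ∧ k ∣ c)
    (hS : ∃ w : L, orderOf w = c) (hR : ∃ ρ : L, orderOf ρ = r)
    (x y z : L) (hxyz : ¬ r ∣ Nat.lcm (orderOf x) (Nat.lcm (orderOf y) (orderOf z))) :
    ∃ x' y' z' : L, Nat.lcm (orderOf x') (Nat.lcm (orderOf y') (orderOf z')) =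
      r * Nat.lcm (orderOf x) (Nat.lcm (orderOf y) (orderOf z)) := by
  have hrT : Nat.Coprime r (Nat.lcm (orderOf x) (Nat.lcm (orderOf y) (orderOf z))) :=
    (Nat.Prime.coprime_iff_not_dvd hr).mpr hxyz
  -- the good cases
  by_cases hgx : Good r x
  · obtain ⟨d, hcd, hd⟩ := hgx
    refine ⟨x * d, y, z, ?_⟩
    have hcop : Nat.Coprime (orderOf x) (orderOf d) := by
      rw [hd]
      exact (hrT.coprime_dvd_right (Nat.dvd_lcm_left _ _)).symm
    rw [hcd.orderOf_mul_eq_mul_orderOf_of_coprime hcop, hd]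
    exact lcm_mul_of_coprime hrT
  by_cases hgy : Good r y
  · obtain ⟨d, hcd, hd⟩ := hgy
    refine ⟨x, y * d, z, ?_⟩
    have hcop : Nat.Coprime (orderOf y) (orderOf d) := by
      rw [hd]
      exact (hrT.coprime_dvd_right
        ((Nat.dvd_lcm_left _ _).trans (Nat.dvd_lcm_right _ _))).symm
    rw [hcd.orderOf_mul_eq_mul_orderOf_of_coprime hcop, hd]
    exact lcm3_second hrT
  by_cases hgz : Good r z
  · obtain ⟨d, hcd, hd⟩ := hgz
    refine ⟨x, y, z * d, ?_⟩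
    have hcop : Nat.Coprime (orderOf z) (orderOf d) := by
      rw [hd]
      exact (hrT.coprime_dvd_right
        ((Nat.dvd_lcm_right _ _).trans (Nat.dvd_lcm_right _ _))).symm
    rw [hcd.orderOf_mul_eq_mul_orderOf_of_coprime hcop, hd]
    exact lcm3_third hrT
  -- all three are bad
  obtain ⟨t1, k1, hx, hk1⟩ := (hBAD x).resolve_left hgx
  obtain ⟨t2, k2, hy, hk2⟩ := (hBAD y).resolve_left hgy
  obtain ⟨t3, k3, hz, hk3⟩ := (hBAD z).resolve_left hgz
  obtain ⟨w, hw⟩ := hS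
  obtain ⟨ρ, hρ⟩ := hR
  have hc0 : c ≠ 0 := by rw [← hw]; exact (orderOf_pos w).ne'
  have hpk : ∀ k, k ∣ c → Nat.Coprime p k := fun k hk => hpc.coprime_dvd_right hk
  obtain ⟨m, hm⟩ : ∃ m, m = Nat.lcm k1 (Nat.lcm k2 k3) := ⟨_, rfl⟩
  have hmc : m ∣ c := hm ▸ Nat.lcm_dvd hk1 (Nat.lcm_dvd hk2 hk3)
  obtain ⟨T, hT⟩ : ∃ T, T = max t1 (max t2 t3) := ⟨_, rfl⟩
  have htot : Nat.lcm (orderOf x) (Nat.lcm (orderOf y) (orderOf z)) = p ^ T * m := by
    rw [hx, hy, hz, lcm_pow_mul (hpk _ hk2) (hpk _ hk3),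
      lcm_pow_mul (hpk _ hk1) (hpk _ (Nat.lcm_dvd hk2 hk3)), hT, hm]
  -- an element of order `p ^ T`
  have key : ∀ (v : L) (t k : ℕ), orderOf v = p ^ t * k → k ∣ c →
      ∃ v' : L, orderOf v' = p ^ t := by
    intro v t k hv hk
    have hk0 : k ≠ 0 := fun h => hc0 (by rw [h] at hk; exact zero_dvd_iff.mp hk)
    refine ⟨v ^ k, ?_⟩
    rw [orderOf_pow_of_dvd hk0 (by rw [hv]; exact dvd_mul_left _ _), hv,
      Nat.mul_div_cancel _ (Nat.pos_of_ne_zero hk0)]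
  have hexP : ∃ v : L, orderOf v = p ^ T := by
    rcases max_choice t1 (max t2 t3) with h | h
    · rw [hT, h]; exact key x t1 k1 hx hk1
    · rcases max_choice t2 t3 with h' | h'
      · rw [hT, h, h']; exact key y t2 k2 hy hk2
      · rw [hT, h, h']; exact key z t3 k3 hz hk3
  obtain ⟨v, hv⟩ := hexP
  -- an element of order `m`
  have hm0 : 0 < m := Nat.pos_of_dvd_of_pos hmc (Nat.pos_of_ne_zero hc0)
  have hwm : orderOf (w ^ (c / m)) = m := by
    have hcm0 : c / m ≠ 0 :=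
      (Nat.div_pos (Nat.le_of_dvd (Nat.pos_of_ne_zero hc0) hmc) hm0).ne'
    rw [orderOf_pow_of_dvd hcm0 (by rw [hw]; exact Nat.div_dvd_of_dvd hmc), hw,
      Nat.div_div_self hmc hc0]
  refine ⟨v, w ^ (c / m), ρ, ?_⟩
  rw [hv, hwm, hρ, htot]
  rw [htot] at hrT
  have hrm : Nat.Coprime m r := (hrT.coprime_dvd_right (dvd_mul_left m _)).symm
  have hpm : Nat.Coprime (p ^ T) m := (hpk m hmc).pow_left T
  have hpr' : Nat.Coprime (p ^ T) r := ((Nat.coprime_primes hp hr).mpr hpr).pow_left T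
  rw [hrm.lcm_eq_mul, (Nat.Coprime.mul_right hpm hpr').lcm_eq_mul]
  ring

end abstract

end Cfsg.Agent.Helper55.Spec4
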