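import Mathlib
import Cfsg.Agent.Helper86.Spec4.DefsU

/-!
# S2511 (helper86), piece (P4): `pstar` preserves irreducibility.
-/

set_option autoImplicit false

namespace Cfsg.Agent.Helper55.Spec4U

open Matrix Polynomial Cfsg.Agent.Helper86.Spec4

/-- a multiplicative involution preserving units preserves irreducibility -/
theorem irreducible_of_involution {M : Type*} [Monoid M] (σ : M → M)
    (hmul : ∀ a b, σ (a * b) = σ a * σ b) (hinv : ∀ a, σ (σ a) = a)
    (hunit : ∀ a, IsUnit a → IsUnit (σ a)) {f : M} (hf : Irreducible f) : Irreducible (σ f) := by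
  refine ⟨fun h => hf.not_isUnit (hinv f ▸ hunit _ h), fun a b hab => ?_⟩
  have h1 : f = σ a * σ b := by rw [← hmul, ← hab, hinv]
  rcases hf.isUnit_or_isUnit h1 with h | h
  · exact Or.inl (hinv a ▸ hunit _ h)
  · exact Or.inr (hinv b ▸ hunit _ h)

variable {F : Type*} [Field F]

/-- (P4) `pstar` preserves irreducibility (nonzero constant term). -/
theorem pstar_irreducible (bar : F →+* F) (hbar2 : ∀ x, bar (bar x) = x) (f : F[X])
    (hf : Irreducible f) (hf0 : f.coeff 0 ≠ 0) : Irreducible (pstar bar f) := by
  have hcomp : bar.comp bar = RingHom.id F := RingHom.ext hbar2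
  -- `map bar` preserves irreducibility
  have h1 : Irreducible (f.map bar) := by
    apply irreducible_of_involution (fun g : F[X] => g.map bar) (fun a b => Polynomial.map_mul bar)
      (fun a => by
        show (a.map bar).map bar = a
        rw [Polynomial.map_map, hcomp, Polynomial.map_id])
      (fun a ha => ha.map (Polynomial.mapRingHom bar)) hf
  -- `mirror` preserves irreducibility
  have h2 : Irreducible (f.map bar).mirror := by
    apply irreducible_of_involution (fun g : F[X] => g.mirror)
      (fun a b => Polynomial.mirror_mul_of_domain a b) (fun a => Polynomial.mirror_mirror a)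
      (fun a ha => by
        obtain ⟨r, hr, rfl⟩ := Polynomial.isUnit_iff.mp ha
        show IsUnit (C r).mirror
        rw [Polynomial.mirror_C]
        exact ha) h1
  have h3 : (f.map bar).natTrailingDegree = 0 := by
    rw [Polynomial.natTrailingDegree_eq_zero]
    right
    rw [Polynomial.coeff_map]
    intro h
    apply hf0
    have := congrArg bar h
    rwa [hbar2, map_zero] at this
  unfold pstar
  have h4 : (f.map bar).mirror = (f.map bar).reverse := by
    rw [Polynomial.mirror, h3, pow_zero, mul_one]
  rw [← h4]
  exact h2

end Cfsg.Agent.Helper55.Spec4U
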