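import Mathlib
import Cfsg.Agent.Helper86.Spec4.DefsU

/-!
# S2511 (helper86), piece (X2): irreducible minimal polynomial, so the characteristic polynomial is a
power of it.
-/

set_option autoImplicit false

namespace Cfsg.Agent.Helper55.Spec4U

open Matrix Polynomial Cfsg.Agent.Helper86.Spec4

/-- (X2) irreducible minimal polynomial: the characteristic polynomial is a power of it. -/
theorem charpoly_eq_pow {K : Type*} [Field K] {n : ℕ} (t : Matrix (Fin n) (Fin n) K)
    (hirr : Irreducible (minpoly K t))
    (H : ∀ h : K[X], Irreducible h → h ∣ t.charpoly → h ∣ minpoly K t) :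
    ∃ k, t.charpoly = minpoly K t ^ k := by
  have hmon : (minpoly K t).Monic := minpoly.monic (Matrix.isIntegral t)
  have hcmon : t.charpoly.Monic := Matrix.charpoly_monic t
  obtain ⟨k, c, hc, hfac⟩ := WfDvdMonoid.max_power_factor hcmon.ne_zero hirr
  refine ⟨k, ?_⟩
  have hcunit : IsUnit c := by
    by_contra hnu
    have hc0 : c ≠ 0 := by
      rintro rfl
      rw [mul_zero] at hfac
      exact hcmon.ne_zero hfac
    obtain ⟨h, hh, hhc⟩ := WfDvdMonoid.exists_irreducible_factor hnu hc0
    have h1 : h ∣ t.charpoly := hfac ▸ Dvd.dvd.mul_left hhc _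
    have h2 := H h hh h1
    have h3 : Associated h (minpoly K t) := hh.associated_of_dvd hirr h2
    exact hc (h3.symm.dvd.trans hhc)
  apply Polynomial.eq_of_monic_of_associated hcmon (hmon.pow k)
  rw [hfac]
  exact associated_mul_unit_left _ _ hcunit

end Cfsg.Agent.Helper55.Spec4U
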