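import Cfsg.Agent.Helper94.Srg77.Facts9

/-!
# S0429 farm (helper94), piece (K): no induced `K_{3,3}` in an srg(77,16,0,4)
-/

set_option autoImplicit false
set_option linter.unusedSectionVars false
set_option linter.unusedVariables false

namespace Cfsg.Agent.Helper55.Srg77

open Finset Cfsg.Agent.Helper94.Srg77

variable {V : Type*} [Fintype V] [DecidableEq V] {G : SimpleGraph V} [DecidableRel G.Adj]

/-- adjacent vertices have no common neighbour -/
theorem K_no_common (h : Hyp G) {s t v : V} (hst : G.Adj s t) (hsv : G.Adj s v) (htv : G.Adj t v) :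
    False := by
  have h0 := h.adj s t hst
  have : v ∈ cn G s t := mem_cn.2 ⟨hsv, htv⟩
  rw [h0] at this
  exact absurd this (Finset.notMem_empty v)

/-- inclusion–exclusion for three sets -/
theorem K_card_union3 (A B C : Finset V) :
    (A ∪ B ∪ C).card + (A ∩ B).card + (A ∩ C).card + (B ∩ C).card
      = A.card + B.card + C.card + (A ∩ B ∩ C).card := by
  have h1 := Finset.card_union_add_card_inter (A ∪ B) C
  have h2 := Finset.card_union_add_card_inter A B
  have h3 := Finset.card_union_add_card_inter (A ∩ C) (B ∩ C)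
  have e1 : (A ∪ B) ∩ C = (A ∩ C) ∪ (B ∩ C) := Finset.union_inter_distrib_right A B C
  have e2 : (A ∩ C) ∩ (B ∩ C) = A ∩ B ∩ C := by
    ext v; simp only [Finset.mem_inter]; tauto
  rw [e1] at h1
  rw [e2] at h3
  omega

/-- three pairwise non-adjacent vertices with at least three common neighbours: the union of the
neighbourhoods has at least 39 elements -/
theorem K_union_ge (h : Hyp G) {a b c : V} (hab : a ≠ b) (hac : a ≠ c) (hbc : b ≠ c)
    (nab : ¬ G.Adj a b) (nac : ¬ G.Adj a c) (nbc : ¬ G.Adj b c)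
    (h3 : 3 ≤ (G.neighborFinset a ∩ G.neighborFinset b ∩ G.neighborFinset c).card) :
    39 ≤ (G.neighborFinset a ∪ G.neighborFinset b ∪ G.neighborFinset c).card := by
  have e := K_card_union3 (G.neighborFinset a) (G.neighborFinset b) (G.neighborFinset c)
  have d1 := h.deg a
  have d2 := h.deg b
  have d3 := h.deg c
  have c1 : (G.neighborFinset a ∩ G.neighborFinset b).card = 4 := h.nadj a b hab nab
  have c2 : (G.neighborFinset a ∩ G.neighborFinset c).card = 4 := h.nadj a c hac nac
  have c3 : (G.neighborFinset b ∩ G.neighborFinset c).card = 4 := h.nadj b c hbc nbc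
  omega

/-- (K) No induced K_{3,3}: three pairwise non-adjacent vertices have at most 2 common neighbours. -/
theorem k33 (h : Hyp G) {x y z : V} (hxy : x ≠ y) (hxz : x ≠ z) (hyz : y ≠ z)
    (nxy : ¬ G.Adj x y) (nxz : ¬ G.Adj x z) (nyz : ¬ G.Adj y z) :
    (cn G x y ∩ G.neighborFinset z).card ≤ 2 := by
  by_contra hcon
  have hcon' : 2 < (cn G x y ∩ G.neighborFinset z).card := not_le.1 hcon
  obtain ⟨c1, c2, c3, m1, m2, m3, h12, h13, h23⟩ := Finset.two_lt_card_iff.1 hcon'
  -- adjacency of the `c`'s to `x, y, z`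
  have adj : ∀ c ∈ cn G x y ∩ G.neighborFinset z, G.Adj x c ∧ G.Adj y c ∧ G.Adj z c := by
    intro c hc
    rw [Finset.mem_inter, mem_cn, SimpleGraph.mem_neighborFinset] at hc
    exact ⟨hc.1.1, hc.1.2, hc.2⟩
  obtain ⟨x1, y1, z1⟩ := adj c1 m1
  obtain ⟨x2, y2, z2⟩ := adj c2 m2
  obtain ⟨x3, y3, z3⟩ := adj c3 m3
  have n12 : ¬ G.Adj c1 c2 := fun hh => K_no_common h hh x1.symm x2.symm
  have n13 : ¬ G.Adj c1 c3 := fun hh => K_no_common h hh x1.symm x3.symm
  have n23 : ¬ G.Adj c2 c3 := fun hh => K_no_common h hh x2.symm x3.symm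
  have hA : 39 ≤ (G.neighborFinset x ∪ G.neighborFinset y ∪ G.neighborFinset z).card := by
    apply K_union_ge h hxy hxz hyz nxy nxz nyz
    have : G.neighborFinset x ∩ G.neighborFinset y ∩ G.neighborFinset z
        = cn G x y ∩ G.neighborFinset z := rfl
    rw [this]; omega
  have hB : 39 ≤ (G.neighborFinset c1 ∪ G.neighborFinset c2 ∪ G.neighborFinset c3).card := by
    apply K_union_ge h h12 h13 h23 n12 n13 n23
    have hsub : ({x, y, z} : Finset V)
        ⊆ G.neighborFinset c1 ∩ G.neighborFinset c2 ∩ G.neighborFinset c3 := by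
      intro v hv
      simp only [Finset.mem_insert, Finset.mem_singleton] at hv
      simp only [Finset.mem_inter, SimpleGraph.mem_neighborFinset]
      rcases hv with rfl | rfl | rfl
      · exact ⟨⟨x1.symm, x2.symm⟩, x3.symm⟩
      · exact ⟨⟨y1.symm, y2.symm⟩, y3.symm⟩
      · exact ⟨⟨z1.symm, z2.symm⟩, z3.symm⟩
    have hc3 : ({x, y, z} : Finset V).card = 3 := Finset.card_eq_three.2 ⟨x, y, z, hxy, hxz, hyz, rfl⟩
    calc 3 = ({x, y, z} : Finset V).card := hc3.symm
      _ ≤ _ := Finset.card_le_card hsub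
  have hdisj : Disjoint (G.neighborFinset x ∪ G.neighborFinset y ∪ G.neighborFinset z)
      (G.neighborFinset c1 ∪ G.neighborFinset c2 ∪ G.neighborFinset c3) := by
    rw [Finset.disjoint_left]
    intro v hv hv'
    simp only [Finset.mem_union, SimpleGraph.mem_neighborFinset] at hv hv'
    rcases hv with (hv | hv) | hv <;> rcases hv' with (hv' | hv') | hv'
    · exact K_no_common h x1 hv hv'
    · exact K_no_common h x2 hv hv'
    · exact K_no_common h x3 hv hv'
    · exact K_no_common h y1 hv hv'
    · exact K_no_common h y2 hv hv'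
    · exact K_no_common h y3 hv hv'
    · exact K_no_common h z1 hv hv'
    · exact K_no_common h z2 hv hv'
    · exact K_no_common h z3 hv hv'
  have hle := Finset.card_le_univ ((G.neighborFinset x ∪ G.neighborFinset y ∪ G.neighborFinset z) ∪
      (G.neighborFinset c1 ∪ G.neighborFinset c2 ∪ G.neighborFinset c3))
  rw [Finset.card_union_of_disjoint hdisj, h.card] at hle
  omega

end Cfsg.Agent.Helper55.Srg77
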