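import Cfsg.Agent.Helper55.Srg77_K

/-!
# S0429 farm (helper94), piece (ZC): the numbers of vertices off a non-adjacent pair `x, y`
by the number of their neighbours among the common neighbours of `x, y`: `3, 32, 12`
-/

set_option autoImplicit false
set_option linter.unusedSectionVars false
set_option linter.unusedVariables false

namespace Cfsg.Agent.Helper55.Srg77

open Finset Cfsg.Agent.Helper94.Srg77

variable {V : Type*} [Fintype V] [DecidableEq V] {G : SimpleGraph V} [DecidableRel G.Adj]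

/-- the vertices off `x, y`, adjacent to neither -/
def ZC_R (G : SimpleGraph V) [DecidableRel G.Adj] (x y : V) : Finset V :=
  univ.filter fun v => v ≠ x ∧ v ≠ y ∧ ¬ G.Adj v x ∧ ¬ G.Adj v y

theorem ZC_mem_R {x y v : V} : v ∈ ZC_R G x y ↔ v ≠ x ∧ v ≠ y ∧ ¬ G.Adj v x ∧ ¬ G.Adj v y := by
  simp [ZC_R]

theorem ZC_touch_eq (x y : V) (k : ℕ) :
    touch G x y k = (ZC_R G x y).filter fun v => (G.neighborFinset v ∩ cn G x y).card = k := by
  ext v
  simp only [mem_touch, ZC_mem_R, mem_filter]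
  tauto

theorem ZC_card_R (h : Hyp G) {x y : V} (hxy : x ≠ y) (nxy : ¬ G.Adj x y) :
    (ZC_R G x y).card = 47 := by
  have hcompl : ZC_R G x y = (insert x (insert y (G.neighborFinset x ∪ G.neighborFinset y)))ᶜ := by
    ext v
    simp only [ZC_mem_R, mem_compl, mem_insert, mem_union, SimpleGraph.mem_neighborFinset, not_or]
    constructor
    · rintro ⟨h1, h2, h3, h4⟩; exact ⟨h1, h2, fun hh => h3 hh.symm, fun hh => h4 hh.symm⟩
    · rintro ⟨h1, h2, h3, h4⟩; exact ⟨h1, h2, fun hh => h3 hh.symm, fun hh => h4 hh.symm⟩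
  have hu : (G.neighborFinset x ∪ G.neighborFinset y).card = 28 := by
    have e := card_union_add_card_inter (G.neighborFinset x) (G.neighborFinset y)
    have c : (G.neighborFinset x ∩ G.neighborFinset y).card = 4 := h.nadj x y hxy nxy
    have d1 := h.deg x
    have d2 := h.deg y
    omega
  have hy : y ∉ G.neighborFinset x ∪ G.neighborFinset y := by
    simp only [mem_union, SimpleGraph.mem_neighborFinset, not_or]
    exact ⟨nxy, G.irrefl⟩
  have hx : x ∉ insert y (G.neighborFinset x ∪ G.neighborFinset y) := by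
    simp only [mem_insert, mem_union, SimpleGraph.mem_neighborFinset, not_or]
    exact ⟨hxy, G.irrefl, fun hh => nxy hh.symm⟩
  rw [hcompl, card_compl, h.card, card_insert_of_notMem hx, card_insert_of_notMem hy, hu]

/-- first moment -/
theorem ZC_sum1 (h : Hyp G) {x y : V} (hxy : x ≠ y) (nxy : ¬ G.Adj x y) :
    ∑ v ∈ ZC_R G x y, (G.neighborFinset v ∩ cn G x y).card = 56 := by
  have e1 : ∀ v, (G.neighborFinset v ∩ cn G x y).card
      = ((cn G x y).bipartiteAbove (fun v t => G.Adj v t) v).card := by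
    intro v
    congr 1
    ext t
    simp only [bipartiteAbove, mem_filter, mem_inter, SimpleGraph.mem_neighborFinset]
    tauto
  rw [sum_congr rfl (fun v _ => e1 v), sum_card_bipartiteAbove_eq_sum_card_bipartiteBelow]
  have e2 : ∀ t ∈ cn G x y, ((ZC_R G x y).bipartiteBelow (fun v t => G.Adj v t) t).card = 14 := by
    intro t ht
    obtain ⟨hxt, hyt⟩ := mem_cn.1 ht
    have e : (ZC_R G x y).bipartiteBelow (fun v t => G.Adj v t) t
        = ((G.neighborFinset t).erase x).erase y := by
      ext v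
      simp only [bipartiteBelow, mem_filter, ZC_mem_R, mem_erase, SimpleGraph.mem_neighborFinset]
      constructor
      · rintro ⟨⟨h1, h2, _, _⟩, h5⟩; exact ⟨h2, h1, h5.symm⟩
      · rintro ⟨h2, h1, h5⟩
        exact ⟨⟨h1, h2, fun hvx => K_no_common h hxt hvx.symm h5,
          fun hvy => K_no_common h hyt hvy.symm h5⟩, h5.symm⟩
    have mx : x ∈ G.neighborFinset t := (G.mem_neighborFinset t x).2 hxt.symm
    have my : y ∈ (G.neighborFinset t).erase x :=
      mem_erase.2 ⟨hxy.symm, (G.mem_neighborFinset t y).2 hyt.symm⟩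
    rw [e, card_erase_of_mem my, card_erase_of_mem mx, h.deg t]
  rw [sum_congr rfl e2, sum_const, h.nadj x y hxy nxy]
  rfl

/-- second moment -/
theorem ZC_sum2 (h : Hyp G) {x y : V} (hxy : x ≠ y) (nxy : ¬ G.Adj x y) :
    ∑ v ∈ ZC_R G x y, ((G.neighborFinset v ∩ cn G x y).card * (G.neighborFinset v ∩ cn G x y).card
      - (G.neighborFinset v ∩ cn G x y).card) = 24 := by
  have e1 : ∀ v, (G.neighborFinset v ∩ cn G x y).card * (G.neighborFinset v ∩ cn G x y).card
      - (G.neighborFinset v ∩ cn G x y).card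
      = (((cn G x y).offDiag).bipartiteAbove (fun v p => G.Adj v p.1 ∧ G.Adj v p.2) v).card := by
    intro v
    rw [← offDiag_card]
    congr 1
    ext ⟨t, t'⟩
    simp only [bipartiteAbove, mem_filter, mem_offDiag, mem_inter, SimpleGraph.mem_neighborFinset]
    tauto
  rw [sum_congr rfl (fun v _ => e1 v), sum_card_bipartiteAbove_eq_sum_card_bipartiteBelow]
  have e2 : ∀ p ∈ (cn G x y).offDiag,
      ((ZC_R G x y).bipartiteBelow (fun v p => G.Adj v p.1 ∧ G.Adj v p.2) p).card = 2 := by
    rintro ⟨t, t'⟩ hp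
    obtain ⟨ht, ht', hne⟩ := mem_offDiag.1 hp
    obtain ⟨hxt, hyt⟩ := mem_cn.1 ht
    obtain ⟨hxt', hyt'⟩ := mem_cn.1 ht'
    have hnadj : ¬ G.Adj t t' := fun hh => K_no_common h hh hxt.symm hxt'.symm
    have hc4 : (cn G t t').card = 4 := h.nadj t t' hne hnadj
    have e : (ZC_R G x y).bipartiteBelow (fun v p => G.Adj v p.1 ∧ G.Adj v p.2) (t, t')
        = ((cn G t t').erase x).erase y := by
      ext v
      simp only [bipartiteBelow, mem_filter, ZC_mem_R, mem_erase, mem_cn]
      constructor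
      · rintro ⟨⟨h1, h2, _, _⟩, h5, h6⟩; exact ⟨h2, h1, h5.symm, h6.symm⟩
      · rintro ⟨h2, h1, h5, h6⟩
        exact ⟨⟨h1, h2, fun hvx => K_no_common h hxt hvx.symm h5,
          fun hvy => K_no_common h hyt hvy.symm h5⟩, h5.symm, h6.symm⟩
    have mx : x ∈ cn G t t' := mem_cn.2 ⟨hxt.symm, hxt'.symm⟩
    have my : y ∈ (cn G t t').erase x := mem_erase.2 ⟨hxy.symm, mem_cn.2 ⟨hyt.symm, hyt'.symm⟩⟩
    rw [e, card_erase_of_mem my, card_erase_of_mem mx, hc4]
  rw [sum_congr rfl e2, sum_const, offDiag_card, h.nadj x y hxy nxy]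
  rfl

/-- the three counts -/
theorem ZC_core (h : Hyp G) (f : F1 G) {x y : V} (hxy : x ≠ y) (nxy : ¬ G.Adj x y) :
    (touch G x y 0).card = 3 ∧ (touch G x y 1).card = 32 ∧ (touch G x y 2).card = 12 := by
  have hk : ∀ v ∈ ZC_R G x y, (G.neighborFinset v ∩ cn G x y).card ≤ 2 := by
    intro v hv
    obtain ⟨h1, h2, h3, h4⟩ := ZC_mem_R.1 hv
    have := f.k33 hxy h1.symm h2.symm nxy (fun hh => h3 hh.symm) (fun hh => h4 hh.symm)
    rw [inter_comm] at this
    exact this
  have s0 := ZC_card_R h hxy nxy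
  have s1 := ZC_sum1 h hxy nxy
  have s2 := ZC_sum2 h hxy nxy
  rw [ZC_touch_eq, ZC_touch_eq, ZC_touch_eq, card_filter, card_filter, card_filter]
  -- rewrite the three sums in terms of indicator sums
  have t0 : (ZC_R G x y).card = ∑ v ∈ ZC_R G x y,
      ((if (G.neighborFinset v ∩ cn G x y).card = 0 then 1 else 0)
        + (if (G.neighborFinset v ∩ cn G x y).card = 1 then 1 else 0)
        + (if (G.neighborFinset v ∩ cn G x y).card = 2 then 1 else 0)) := by
    rw [card_eq_sum_ones]
    apply sum_congr rfl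
    intro v hv
    have := hk v hv
    obtain h0 | h0 | h0 : (G.neighborFinset v ∩ cn G x y).card = 0 ∨
        (G.neighborFinset v ∩ cn G x y).card = 1 ∨ (G.neighborFinset v ∩ cn G x y).card = 2 := by
      omega
    all_goals simp [h0]
  have t1 : ∑ v ∈ ZC_R G x y, (G.neighborFinset v ∩ cn G x y).card = ∑ v ∈ ZC_R G x y,
      ((if (G.neighborFinset v ∩ cn G x y).card = 1 then 1 else 0)
        + 2 * (if (G.neighborFinset v ∩ cn G x y).card = 2 then 1 else 0)) := by
    apply sum_congr rfl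
    intro v hv
    have := hk v hv
    obtain h0 | h0 | h0 : (G.neighborFinset v ∩ cn G x y).card = 0 ∨
        (G.neighborFinset v ∩ cn G x y).card = 1 ∨ (G.neighborFinset v ∩ cn G x y).card = 2 := by
      omega
    all_goals simp [h0]
  have t2 : ∑ v ∈ ZC_R G x y, ((G.neighborFinset v ∩ cn G x y).card *
      (G.neighborFinset v ∩ cn G x y).card - (G.neighborFinset v ∩ cn G x y).card)
      = ∑ v ∈ ZC_R G x y, 2 * (if (G.neighborFinset v ∩ cn G x y).card = 2 then 1 else 0) := by
    apply sum_congr rfl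
    intro v hv
    have := hk v hv
    obtain h0 | h0 | h0 : (G.neighborFinset v ∩ cn G x y).card = 0 ∨
        (G.neighborFinset v ∩ cn G x y).card = 1 ∨ (G.neighborFinset v ∩ cn G x y).card = 2 := by
      omega
    all_goals simp [h0]
  rw [t0, sum_add_distrib, sum_add_distrib] at s0
  rw [t1, sum_add_distrib, ← mul_sum] at s1
  rw [t2, ← mul_sum] at s2
  omega

theorem card_mates (h : Hyp G) (f : F1 G) {x y : V} (hxy : x ≠ y) (nxy : ¬ G.Adj x y) :
    (mates G x y).card = 3 :=
  (ZC_core h f hxy nxy).1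

theorem card_touch1 (h : Hyp G) (f : F1 G) {x y : V} (hxy : x ≠ y) (nxy : ¬ G.Adj x y) :
    (touch G x y 1).card = 32 :=
  (ZC_core h f hxy nxy).2.1

theorem card_touch2 (h : Hyp G) (f : F1 G) {x y : V} (hxy : x ≠ y) (nxy : ¬ G.Adj x y) :
    (touch G x y 2).card = 12 :=
  (ZC_core h f hxy nxy).2.2

end Cfsg.Agent.Helper55.Srg77
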