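import Cfsg.Agent.Helper95.SzOrd.DefsC

/-!
# Suzuki order theorem (helper95), Part C, piece (CRES): restriction of a discrete character to `H`.
-/

set_option autoImplicit false

namespace Cfsg.Agent.Helper55.SzOrd

open Cfsg MulAction Cfsg.Agent.Helper75 Cfsg.Agent.Helper95.SzOrd
open scoped ComplexConjugate

variable {G Ω : Type*} [Group G] [Fintype G] [MulAction G Ω] [Fintype Ω]
variable {a b : Ω} {Q : Subgroup G} {q n : ℕ}

theorem CRES (F : ZTFacts a b Q q n) (hN : Nat.card Q = q ^ 3) [Fintype (HQ Q)] (χ : XQ Q) :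
    (∀ φ : SQ Q, ∃ m : ℕ, mult Q (χ.1 : G → ℂ) (φ.1 : HQ Q → ℂ) = (m : ℂ)) ∧
    (∀ h : HQ Q, (χ.1 : G → ℂ) (h : G)
      = ∑ φ : SQ Q, mult Q (χ.1 : G → ℂ) (φ.1 : HQ Q → ℂ) * (φ.1 : HQ Q → ℂ) h) ∧
    (∃ φ : SQ Q, ¬ TrivZ Q (φ.1 : HQ Q → ℂ) ∧ mult Q (χ.1 : G → ℂ) (φ.1 : HQ Q → ℂ) ≠ 0) := by
  classical
  have hχc : IsCharacter G (χ.1 : G → ℂ) := Helper74.irr_isCharacter χ.1
  have hres : IsCharacter (HQ Q) (resH Q (χ.1 : G → ℂ)) :=
    Helper74.isCharacter_restrict (Subgroup.normalizer (Q : Set G)) hχc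
  have hdisc := χ.2.2
  -- part 2
  have h2 : ∀ h : HQ Q, (χ.1 : G → ℂ) (h : G)
      = ∑ φ : SQ Q, mult Q (χ.1 : G → ℂ) (φ.1 : HQ Q → ℂ) * (φ.1 : HQ Q → ℂ) h := by
    intro h
    let _ := Helper74.irrFintype (HQ Q)
    have e1 := congrFun (Helper74.isCharacter_eq_sum_irr hres) h
    rw [Finset.sum_apply] at e1
    simp only [Pi.smul_apply, smul_eq_mul] at e1
    have e2 : resH Q (χ.1 : G → ℂ) h = (χ.1 : G → ℂ) (h : G) := rfl
    rw [← e2, e1]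
    rw [← Finset.sum_subtype (Finset.univ.filter
      (fun ψ : IrrCharacter (HQ Q) => (ψ : HQ Q → ℂ) ∈ tfS Q)) (by simp)
      (fun ψ : IrrCharacter (HQ Q) => mult Q (χ.1 : G → ℂ) (ψ : HQ Q → ℂ) * (ψ : HQ Q → ℂ) h)]
    rw [Finset.sum_filter]
    refine Finset.sum_congr rfl (fun ψ _ => ?_)
    by_cases hψ : (ψ : HQ Q → ℂ) ∈ tfS Q
    · rw [if_pos hψ]; rfl
    · rw [if_neg hψ, hdisc ψ.1 ψ.2 hψ, zero_mul]
  refine ⟨fun φ => Helper74.isCharacter_inner_irr_nat hres φ.1, h2, ?_⟩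
  by_contra hcon
  push Not at hcon
  -- `χ` is constant on `Z(Q)`
  have hconst : ∀ z : HQ Q, (z : G) ∈ Zs Q → (χ.1 : G → ℂ) (z : G) = (χ.1 : G → ℂ) 1 := by
    intro z hz
    have e1 := h2 1
    rw [Subgroup.coe_one] at e1
    rw [h2 z, e1]
    refine Finset.sum_congr rfl (fun φ _ => ?_)
    by_cases hφ : TrivZ Q (φ.1 : HQ Q → ℂ)
    · rw [hφ z hz]
    · rw [hcon φ hφ, zero_mul, zero_mul]
  -- a non-identity element of `Z(Q)`
  obtain ⟨z, hzZ, hz1⟩ : ∃ z ∈ Zs Q, z ≠ 1 := by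
    by_contra hall
    push Not at hall
    have hbot : Zs Q = ⊥ := (Subgroup.eq_bot_iff_forall _).mpr hall
    have hc := F.card_Zs
    rw [hbot, Subgroup.card_bot, F.hq] at hc
    have h4 : 2 ^ 2 ≤ 2 ^ n := Nat.pow_le_pow_right (by norm_num) F.hn
    omega
  have hzQ : z ∈ Q := (mem_Zs.mp hzZ).1
  have hzN : z ∈ Subgroup.normalizer (Q : Set G) := Subgroup.le_normalizer hzQ
  have hzk : z ∈ Helper80.kerChar (χ.1 : G → ℂ) hχc :=
    (Helper80.mem_kerChar hχc z).mpr (hconst ⟨z, hzN⟩ hzZ)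
  have := F.zt.simple
  have htop : Helper80.kerChar (χ.1 : G → ℂ) hχc = ⊤ := by
    rcases (Helper80.kerChar_normal (χ.1 : G → ℂ) hχc).eq_bot_or_eq_top with h | h
    · rw [h, Subgroup.mem_bot] at hzk
      exact absurd hzk hz1
    · exact h
  have hall : ∀ g : G, (χ.1 : G → ℂ) g = (χ.1 : G → ℂ) 1 := by
    intro g
    rw [← Helper80.mem_kerChar hχc, htop]
    exact Subgroup.mem_top g
  -- the trivial character of `H` is a constituent of the restriction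
  have hμ : (fun _ : HQ Q => (1 : ℂ)) ∉ tfS Q := by
    rintro ⟨-, k, -, hk⟩
    exact hk rfl
  have h0 := hdisc (fun _ : HQ Q => (1 : ℂ)) Helper79.isIrrCharacter_one hμ
  unfold classInner at h0
  have e3 : ∑ h : HQ Q, resH Q (χ.1 : G → ℂ) h * (starRingEnd ℂ) ((fun _ : HQ Q => (1 : ℂ)) h)
      = (Nat.card (HQ Q) : ℂ) * (χ.1 : G → ℂ) 1 := by
    have : ∀ h : HQ Q, resH Q (χ.1 : G → ℂ) h * (starRingEnd ℂ) ((fun _ : HQ Q => (1 : ℂ)) h)
        = (χ.1 : G → ℂ) 1 := by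
      intro h
      simp only [map_one, mul_one]
      exact hall _
    rw [Finset.sum_congr rfl (fun h _ => this h), Finset.sum_const, Finset.card_univ,
      nsmul_eq_mul, Nat.card_eq_fintype_card]
  rw [e3] at h0
  have hcard : (Nat.card (HQ Q) : ℂ) ≠ 0 := by
    have : Nat.card (HQ Q) ≠ 0 := Nat.card_pos.ne'
    exact_mod_cast this
  rw [inv_mul_cancel_left₀ hcard] at h0
  exact Helper79.irr_one_ne_zero χ.1 h0

end Cfsg.Agent.Helper55.SzOrd
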