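import Mathlib

/-!
# Thompson's dihedral lemma (helper55)

An elementary abelian 2-group `B` of order `2 ^ d` acting faithfully on a solvable group `L` of odd order:
there are `b i ∈ B`, `x i ∈ L` (`i : Fin d`) with `b i` inverting `x i`, `b j` centralizing `x i` for `j ≠ i`,
and the `x i` commuting.  The proof is by induction, through a minimal invariant normal subgroup `N` of `L`
(reduced to be central) and lifting of eigenvectors from `L / N`.
-/

set_option autoImplicit false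
set_option linter.unusedSectionVars false

namespace Cfsg.Agent.Helper55

section AbstractLift

variable {R : Type*} [CommGroup R] [Finite R]

theorem mem_of_sq_mem_of_odd_card (hodd : Odd (Nat.card R)) (N : Subgroup R) {y : R}
    (h : y * y ∈ N) : y ∈ N := by
  have hdvd : orderOf y ∣ Nat.card R := orderOf_dvd_natCard y
  have hoy : Odd (orderOf y) := Odd.of_dvd_nat hodd hdvd
  obtain ⟨k, hk⟩ := hoy
  have : y = (y * y) ^ (k + 1) := by
    rw [← pow_two, ← pow_mul]
    have e : 2 * (k + 1) = orderOf y + 1 := by omega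
    rw [e, pow_succ, pow_orderOf_eq_one, one_mul]
  rw [this]
  exact N.pow_mem h _

variable {T : Type*} [Group T] [Fintype T]

/-- Lifting eigenvectors: in an abelian group `R` of odd order acted on by an elementary abelian 2-group
`T`, an element `y` which is an eigenvector modulo a `T`-invariant subgroup `N` is congruent (up to the
power `|T|`) to an honest eigenvector. -/
theorem exists_eigen_lift (hodd : Odd (Nat.card R)) (hT : ∀ t : T, t * t = 1) (c : T → R →* R)
    (hc : ∀ s t r, c (s * t) r = c s (c t r)) (N : Subgroup R) (hN : ∀ t, ∀ n ∈ N, c t n ∈ N)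
    (y : R) (hy : ∀ t, y⁻¹ * c t y ∈ N ∨ y * c t y ∈ N) (hyN : y ∉ N) :
    ∃ x : R, (y ^ (Fintype.card T))⁻¹ * x ∈ N ∧
      ∀ s, (y⁻¹ * c s y ∈ N → c s x = x) ∧ (y * c s y ∈ N → c s x = x⁻¹) := by
  classical
  have excl : ∀ t, y⁻¹ * c t y ∈ N → y * c t y ∈ N → False := by
    intro t h1 h2
    apply hyN
    apply mem_of_sq_mem_of_odd_card hodd
    have : y * y = (y * c t y) * (y⁻¹ * c t y)⁻¹ := by
      rw [mul_inv_rev, inv_inv, mul_assoc, mul_inv_cancel_left]
    rw [this]
    exact N.mul_mem h2 (N.inv_mem h1)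
  obtain ⟨ε, hε⟩ : ∃ ε : T → ℤ, ∀ t, ε t = if y⁻¹ * c t y ∈ N then 1 else -1 := ⟨_, fun t => rfl⟩
  have hεP : ∀ t, y⁻¹ * c t y ∈ N → ε t = 1 := fun t h => by rw [hε, if_pos h]
  have hεM : ∀ t, y * c t y ∈ N → ε t = -1 := fun t h => by
    rw [hε, if_neg (fun h' => excl t h' h)]
  have hεsq : ∀ t, ε t * ε t = 1 := fun t => by
    rw [hε]; split_ifs <;> norm_num
  -- multiplicativity
  have hmul : ∀ s t, ε (s * t) = ε s * ε t := by
    intro s t
    by_cases hPt : y⁻¹ * c t y ∈ N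
    · have e : y⁻¹ * c (s * t) y = (y⁻¹ * c s y) * c s (y⁻¹ * c t y) := by
        rw [hc, map_mul, map_inv]
        calc y⁻¹ * c s (c t y) = y⁻¹ * (c s y * (c s y)⁻¹) * c s (c t y) := by
              rw [mul_inv_cancel, mul_one]
          _ = y⁻¹ * c s y * ((c s y)⁻¹ * c s (c t y)) := by simp only [mul_assoc]
      have hcs := hN s _ hPt
      rw [hεP t hPt, mul_one]
      by_cases hPs : y⁻¹ * c s y ∈ N
      · rw [hεP s hPs]
        apply hεP
        rw [e]; exact N.mul_mem hPs hcs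
      · have hPst : ¬ y⁻¹ * c (s * t) y ∈ N := by
          intro h
          apply hPs
          rw [e] at h
          exact (N.mul_mem_cancel_right hcs).1 h
        rw [hε s, hε (s * t), if_neg hPs, if_neg hPst]
    · have hMt : y * c t y ∈ N := (hy t).resolve_left hPt
      have e : y⁻¹ * c (s * t) y = (y * c s y)⁻¹ * c s (y * c t y) := by
        rw [hc, map_mul, mul_inv, mul_assoc, inv_mul_cancel_left]
      have hcs := hN s _ hMt
      rw [hεM t hMt]
      by_cases hPs : y⁻¹ * c s y ∈ N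
      · rw [hεP s hPs]
        have hPst : ¬ y⁻¹ * c (s * t) y ∈ N := by
          intro h
          rw [e] at h
          have h2 := (N.mul_mem_cancel_right hcs).1 h
          exact excl s hPs (N.inv_mem_iff.1 h2)
        rw [hε (s * t), if_neg hPst]; norm_num
      · have hMs : y * c s y ∈ N := (hy s).resolve_left hPs
        rw [hεM s hMs]
        have : ε (s * t) = 1 := by
          apply hεP
          rw [e]; exact N.mul_mem (N.inv_mem hMs) hcs
        rw [this]; norm_num
  obtain ⟨f, hf⟩ : ∃ f : T → R, ∀ t, f t = c t (y ^ ε t) := ⟨_, fun t => rfl⟩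
  have hfN : ∀ t, y⁻¹ * f t ∈ N := by
    intro t
    rw [hf]
    by_cases hPt : y⁻¹ * c t y ∈ N
    · rw [hεP t hPt, zpow_one]; exact hPt
    · have hMt : y * c t y ∈ N := (hy t).resolve_left hPt
      rw [hεM t hMt, zpow_neg, zpow_one, map_inv, ← mul_inv_rev, mul_comm]
      exact N.inv_mem hMt
  refine ⟨∏ t, f t, ?_, ?_⟩
  · have : (y ^ (Fintype.card T))⁻¹ * ∏ t, f t = ∏ t, (y⁻¹ * f t) := by
      rw [Finset.prod_mul_distrib, Finset.prod_const, Finset.card_univ, inv_pow]
    rw [this]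
    exact N.prod_mem (fun t _ => hfN t)
  · have key : ∀ s, c s (∏ t, f t) = (∏ t, f t) ^ ε s := by
      intro s
      rw [map_prod, ← Finset.prod_zpow]
      have hs_inv : s⁻¹ = s := inv_eq_of_mul_eq_one_right (hT s)
      rw [← Equiv.prod_comp (Equiv.mulLeft s) (fun u => f u ^ ε s)]
      apply Finset.prod_congr rfl
      intro t _
      rw [Equiv.coe_mulLeft, hf, hf, ← hc, ← map_zpow, ← zpow_mul, hmul, mul_assoc, mul_comm (ε t),
        ← mul_assoc, hεsq, one_mul]
    intro s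
    constructor
    · intro h; rw [key, hεP s h, zpow_one]
    · intro h; rw [key, hεM s h, zpow_neg, zpow_one]

end AbstractLift


section Basic

variable {H : Type*} [Group H]

/-- `g` normalizes `N` (one inclusion; enough for finite groups). -/
def ConjInv (T : Set H) (N : Subgroup H) : Prop := ∀ g ∈ T, ∀ n ∈ N, g * n * g⁻¹ ∈ N

theorem comm_of_sq_comm_of_odd {y n : H} (hy : Odd (orderOf y)) (h : (y * y) * n = n * (y * y)) :
    y * n = n * y := by
  obtain ⟨k, hk⟩ := hy
  have e : y = (y * y) ^ (k + 1) := by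
    rw [← pow_two, ← pow_mul]
    have e : 2 * (k + 1) = orderOf y + 1 := by omega
    rw [e, pow_succ, pow_orderOf_eq_one, one_mul]
  have hc : Commute (y * y) n := h
  have := hc.pow_left (k + 1)
  rw [← e] at this
  exact this

theorem eq_one_of_inv_eq_self_of_odd {y : H} (hy : Odd (orderOf y)) (h : y⁻¹ = y) : y = 1 := by
  have h2 : y ^ 2 = 1 := by rw [pow_two]; nth_rewrite 1 [← h]; exact inv_mul_cancel y
  have hd : orderOf y ∣ 2 := orderOf_dvd_of_pow_eq_one h2
  have h1 : orderOf y = 1 := by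
    rcases (Nat.dvd_prime Nat.prime_two).1 hd with h | h
    · exact h
    · rw [h] at hy; exact absurd hy (by decide)
  exact orderOf_eq_one_iff.1 h1

variable [Finite H]

theorem odd_orderOf_of_mem {L : Subgroup H} (hodd : Odd (Nat.card L)) {y : H} (hy : y ∈ L) :
    Odd (orderOf y) := by
  have h1 : orderOf (⟨y, hy⟩ : L) ∣ Nat.card L := orderOf_dvd_natCard _
  rw [Subgroup.orderOf_mk] at h1
  exact Odd.of_dvd_nat hodd h1

/-- An involution `b` acting on the odd-order group `L` and centralizing `C_L(N)` for an abelian normal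
`b`-invariant subgroup `N` of `L` centralizes `L`. -/
theorem centralizes_of_centralizes_centralizer {L N : Subgroup H} (hodd : Odd (Nat.card L))
    (hNL : N ≤ L) (hNab : ∀ n ∈ N, ∀ n' ∈ N, n * n' = n' * n)
    (hLN : ∀ y ∈ L, ∀ n ∈ N, y * n * y⁻¹ ∈ N) {b : H} (hbb : b * b = 1)
    (hbL : ∀ y ∈ L, b * y * b⁻¹ ∈ L)
    (hb : ∀ y ∈ L, (∀ n ∈ N, y * n = n * y) → b * y * b⁻¹ = y) :
    ∀ y ∈ L, b * y * b⁻¹ = y := by
  have hbinv : b⁻¹ = b := inv_eq_of_mul_eq_one_right hbb
  -- b centralizes N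
  have hbN : ∀ n ∈ N, b * n * b⁻¹ = n := fun n hn =>
    hb n (hNL hn) (fun n' hn' => hNab n hn n' hn')
  -- inverted elements are trivial
  have hI : ∀ y ∈ L, b * y * b⁻¹ = y⁻¹ → y = 1 := by
    intro y hy hinv
    have hyo := odd_orderOf_of_mem hodd hy
    have hcen : ∀ n ∈ N, y * n = n * y := by
      intro n hn
      apply comm_of_sq_comm_of_odd hyo
      have h1 := hbN _ (hLN y hy n hn)
      have h2 : b * (y * n * y⁻¹) * b⁻¹ = (b * y * b⁻¹) * (b * n * b⁻¹) * (b * y * b⁻¹)⁻¹ := by group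
      rw [h2, hinv, hbN n hn, inv_inv] at h1
      -- y⁻¹ n y = y n y⁻¹
      calc y * y * n = y * (y * n * y⁻¹) * y := by group
        _ = y * (y⁻¹ * n * y) * y := by rw [h1]
        _ = n * (y * y) := by group
    have := hb y hy hcen
    rw [hinv] at this
    exact eq_one_of_inv_eq_self_of_odd hyo this
  intro y hy
  have hu : y⁻¹ * (b * y * b⁻¹) ∈ L := L.mul_mem (L.inv_mem hy) (hbL y hy)
  have hinv : b * (y⁻¹ * (b * y * b⁻¹)) * b⁻¹ = (y⁻¹ * (b * y * b⁻¹))⁻¹ := by
    have e : b * (y⁻¹ * (b * y * b⁻¹)) * b⁻¹ = (b * y * b⁻¹)⁻¹ * ((b * b) * y * (b * b)⁻¹) := by group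
    rw [e, hbb]; group
  have := hI _ hu hinv
  have e2 : b * y * b⁻¹ = y * (y⁻¹ * (b * y * b⁻¹)) := by group
  rw [e2, this, mul_one]

/-- An involution `b` centralizing a central subgroup `N` of `L` (odd order) and acting trivially on
`L / N` centralizes `L`. -/
theorem centralizes_of_trivial_mod {L N : Subgroup H} (hodd : Odd (Nat.card L)) (hNL : N ≤ L)
    {b : H} (hbb : b * b = 1)
    (hbN : ∀ n ∈ N, b * n * b⁻¹ = n) (hb : ∀ y ∈ L, y⁻¹ * (b * y * b⁻¹) ∈ N) :
    ∀ y ∈ L, b * y * b⁻¹ = y := by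
  intro y hy
  obtain ⟨m, hm⟩ : ∃ m, m = y⁻¹ * (b * y * b⁻¹) := ⟨_, rfl⟩
  have hmN : m ∈ N := hm ▸ hb y hy
  have e1 : b * y * b⁻¹ = y * m := by rw [hm]; group
  -- apply b again
  have e2 : y = y * m * m := by
    have h1 : b * (b * y * b⁻¹) * b⁻¹ = y := by
      have : b * (b * y * b⁻¹) * b⁻¹ = (b * b) * y * (b * b)⁻¹ := by group
      rw [this, hbb]; group
    have h2 : b * (y * m) * b⁻¹ = (b * y * b⁻¹) * (b * m * b⁻¹) := by group
    rw [e1, h2, e1, hbN m hmN] at h1
    exact h1.symm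
  have hmm : m * m = 1 := by
    have : y * (m * m) = y * 1 := by rw [mul_one, ← mul_assoc]; exact e2.symm
    exact mul_left_cancel this
  have hmo := odd_orderOf_of_mem hodd (hNL hmN)
  have hm1 : m = 1 := eq_one_of_inv_eq_self_of_odd hmo (inv_eq_of_mul_eq_one_right hmm)
  rw [e1, hm1, mul_one]

end Basic

section ConcreteLift

open scoped IsMulCommutative

variable {H : Type*} [Group H] [Finite H]

/-- Concrete eigenvector lifting: `N` central in `L` (odd order), `At` an elementary abelian 2-group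
normalizing `L` and `N`, `y ∈ L ∖ N` an eigenvector modulo `N`. -/
theorem exists_eigen_lift_subgroup {L N At : Subgroup H} (hodd : Odd (Nat.card L)) (hNL : N ≤ L)
    (hNZ : ∀ n ∈ N, ∀ y ∈ L, n * y = y * n)
    (hsq : ∀ a ∈ At, a * a = 1)
    (hAtN : ∀ a ∈ At, ∀ n ∈ N, a * n * a⁻¹ ∈ N)
    {y : H} (hyL : y ∈ L) (hyN : y ∉ N)
    (hy : ∀ a ∈ At, y⁻¹ * (a * y * a⁻¹) ∈ N ∨ y * (a * y * a⁻¹) ∈ N) :
    ∃ x ∈ L, (y ^ (Nat.card At))⁻¹ * x ∈ N ∧
      ∀ a ∈ At, (y⁻¹ * (a * y * a⁻¹) ∈ N → a * x * a⁻¹ = x) ∧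
        (y * (a * y * a⁻¹) ∈ N → a * x * a⁻¹ = x⁻¹) := by
  classical
  -- the abelian group R = ⟨y, N⟩
  have hgen : ∀ u ∈ ({y} ∪ (N : Set H)), ∀ v ∈ ({y} ∪ (N : Set H)), u * v = v * u := by
    rintro u (hu | hu) v (hv | hv)
    · rw [Set.mem_singleton_iff] at hu hv; rw [hu, hv]
    · rw [Set.mem_singleton_iff] at hu; rw [hu]; exact (hNZ v hv y hyL).symm
    · rw [Set.mem_singleton_iff] at hv; rw [hv]; exact hNZ u hu y hyL
    · exact hNZ u hu v (hNL hv)
  have hRcomm : IsMulCommutative (Subgroup.closure ({y} ∪ (N : Set H))) :=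
    Subgroup.isMulCommutative_closure hgen
  obtain ⟨R, hR⟩ : ∃ R : Subgroup H, R = Subgroup.closure ({y} ∪ (N : Set H)) := ⟨_, rfl⟩
  rw [← hR] at hRcomm
  have hyR : y ∈ R := hR ▸ Subgroup.subset_closure (Or.inl rfl)
  have hNR : N ≤ R := fun n hn => hR ▸ Subgroup.subset_closure (Or.inr hn)
  have hRL : R ≤ L := by
    rw [hR, Subgroup.closure_le]
    rintro u (hu | hu)
    · rw [Set.mem_singleton_iff] at hu; rw [hu]; exact hyL
    · exact hNL hu
  -- At normalizes R
  have hAtR : ∀ a ∈ At, ∀ r ∈ R, a * r * a⁻¹ ∈ R := by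
    intro a ha r hr
    rw [hR] at hr
    induction hr using Subgroup.closure_induction with
    | mem u hu =>
      rcases hu with hu | hu
      · rw [Set.mem_singleton_iff] at hu
        rw [hu]
        rcases hy a ha with h | h
        · have e : a * y * a⁻¹ = y * (y⁻¹ * (a * y * a⁻¹)) := by group
          rw [e]; exact R.mul_mem hyR (hNR h)
        · have e : a * y * a⁻¹ = y⁻¹ * (y * (a * y * a⁻¹)) := by group
          rw [e]; exact R.mul_mem (R.inv_mem hyR) (hNR h)
      · exact hNR (hAtN a ha u hu)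
    | one => rw [mul_one, mul_inv_cancel]; exact R.one_mem
    | mul u v _ _ hu hv =>
      have e : a * (u * v) * a⁻¹ = (a * u * a⁻¹) * (a * v * a⁻¹) := by group
      rw [e]; exact R.mul_mem hu hv
    | inv u _ hu =>
      have e : a * u⁻¹ * a⁻¹ = (a * u * a⁻¹)⁻¹ := by group
      rw [e]; exact R.inv_mem hu
  have hFT : Fintype At := Fintype.ofFinite At
  -- the action
  let c : At → R →* R := fun a => MonoidHom.mk' (fun r => ⟨a * r * (a : H)⁻¹, hAtR a a.2 r r.2⟩)
    (fun r r' => by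
      apply Subtype.ext
      show (a : H) * (r * r') * (a : H)⁻¹ = ((a : H) * r * (a : H)⁻¹) * ((a : H) * r' * (a : H)⁻¹)
      group)
  have hcval : ∀ (a : At) (r : R), ((c a r : R) : H) = a * r * (a : H)⁻¹ := fun a r => rfl
  have hoddR : Odd (Nat.card R) := Odd.of_dvd_nat hodd (Subgroup.card_dvd_of_le hRL)
  have hT : ∀ t : At, t * t = 1 := fun t => Subtype.ext (hsq t t.2)
  have hc : ∀ (s t : At) (r : R), c (s * t) r = c s (c t r) := by
    intro s t r
    apply Subtype.ext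
    rw [hcval, hcval, hcval]
    push_cast
    group
  have hNinv : ∀ (t : At), ∀ n ∈ N.subgroupOf R, c t n ∈ N.subgroupOf R := by
    intro t n hn
    rw [Subgroup.mem_subgroupOf] at hn ⊢
    rw [hcval]
    exact hAtN t t.2 n hn
  have hyN' : (⟨y, hyR⟩ : R) ∉ N.subgroupOf R := by
    rw [Subgroup.mem_subgroupOf]; exact hyN
  have hy' : ∀ t : At, (⟨y, hyR⟩ : R)⁻¹ * c t ⟨y, hyR⟩ ∈ N.subgroupOf R ∨
      (⟨y, hyR⟩ : R) * c t ⟨y, hyR⟩ ∈ N.subgroupOf R := by
    intro t
    rcases hy t t.2 with h | h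
    · left; rw [Subgroup.mem_subgroupOf]; exact h
    · right; rw [Subgroup.mem_subgroupOf]; exact h
  obtain ⟨x, hx1, hx2⟩ := exists_eigen_lift hoddR hT c hc (N.subgroupOf R) hNinv ⟨y, hyR⟩ hy' hyN'
  refine ⟨(x : H), hRL x.2, ?_, ?_⟩
  · rw [Subgroup.mem_subgroupOf] at hx1
    rw [Nat.card_eq_fintype_card]
    simpa using hx1
  · intro a ha
    have := hx2 ⟨a, ha⟩
    constructor
    · intro h
      have h1 := this.1 (by rw [Subgroup.mem_subgroupOf]; exact h)
      have := congrArg Subtype.val h1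
      rw [hcval] at this
      exact this
    · intro h
      have h1 := this.2 (by rw [Subgroup.mem_subgroupOf]; exact h)
      have := congrArg Subtype.val h1
      rw [hcval] at this
      simpa using this

end ConcreteLift

section MinInv

variable {H : Type*} [Group H] [Finite H]

/-- A minimal nontrivial `T`-invariant subgroup of `L`. -/
theorem exists_min_conjInv (T : Set H) (L : Subgroup H) (hL : L ≠ ⊥) (hTL : ConjInv T L) :
    ∃ N : Subgroup H, N ≤ L ∧ N ≠ ⊥ ∧ ConjInv T N ∧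
      ∀ N' : Subgroup H, N' ≤ N → N' ≠ ⊥ → ConjInv T N' → N' = N := by
  obtain ⟨N, hN, hmin⟩ := WellFounded.has_min (wellFounded_lt (α := Subgroup H))
    {N | N ≤ L ∧ N ≠ ⊥ ∧ ConjInv T N} ⟨L, le_rfl, hL, hTL⟩
  refine ⟨N, hN.1, hN.2.1, hN.2.2, ?_⟩
  intro N' hN'N hN'1 hN'T
  by_contra hne
  exact hmin N' ⟨hN'N.trans hN.1, hN'1, hN'T⟩ (lt_of_le_of_ne hN'N hne)

theorem conjInv_commutator (T : Set H) (N : Subgroup H) (hN : ConjInv T N) : ConjInv T ⁅N, N⁆ := by
  intro g hg n hn
  have h1 : ⁅N, N⁆.map (MulAut.conj g).toMonoidHom ≤ ⁅N, N⁆ := by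
    rw [Subgroup.map_commutator]
    have h2 : N.map (MulAut.conj g).toMonoidHom ≤ N := by
      rintro _ ⟨m, hm, rfl⟩
      exact hN g hg m hm
    exact Subgroup.commutator_mono h2 h2
  exact h1 ⟨n, hn, rfl⟩

/-- A minimal invariant subgroup of a solvable group is abelian. -/
theorem abelian_of_min_conjInv (T : Set H) (N : Subgroup H) (hsolv : Group.IsSolvable N)
    (hN1 : N ≠ ⊥) (hNT : ConjInv T N)
    (hmin : ∀ N' : Subgroup H, N' ≤ N → N' ≠ ⊥ → ConjInv T N' → N' = N) :
    ∀ n ∈ N, ∀ n' ∈ N, n * n' = n' * n := by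
  have hlt : ⁅N, N⁆ < N := by
    have hnt : Nontrivial N := (Subgroup.nontrivial_iff_ne_bot N).2 hN1
    rw [← N.range_subtype, MonoidHom.range_eq_map, ← Subgroup.map_commutator,
      Subgroup.map_subtype_lt_map_subtype]
    exact Group.IsSolvable.commutator_lt_top_of_nontrivial N
  have hbot : ⁅N, N⁆ = ⊥ := by
    by_contra hne
    have := hmin ⁅N, N⁆ hlt.le hne (conjInv_commutator T N hNT)
    exact absurd this hlt.ne
  rw [Subgroup.commutator_eq_bot_iff_le_centralizer] at hbot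
  intro n hn n' hn'
  exact (Subgroup.mem_centralizer_iff.1 (hbot hn) n' hn').symm

end MinInv

end Cfsg.Agent.Helper55
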