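import Mathlib
import Cfsg.Agent.Helper55.ThompsonDihedral

/-!
# Thompson's dihedral lemma, the induction (helper55)
-/

set_option autoImplicit false
set_option linter.unusedSectionVars false

namespace Cfsg.Agent.Helper55

universe u

/-- Data: `At` an elementary abelian 2-group normalizing the solvable odd-order group `L`, `B ≤ At`
acting faithfully on `L`. -/
structure TData {H : Type u} [Group H] (L At B : Subgroup H) : Prop where
  odd : Odd (Nat.card L)
  solv : Group.IsSolvable L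
  sq : ∀ a ∈ At, a * a = 1
  comm : ∀ a ∈ At, ∀ b ∈ At, a * b = b * a
  norm : ∀ a ∈ At, ∀ x ∈ L, a * x * a⁻¹ ∈ L
  le : B ≤ At
  faith : ∀ b ∈ B, (∀ x ∈ L, b * x * b⁻¹ = x) → b = 1

/-- Conclusion: independent "dihedral pairs" `(b i, x i)` with the `x i` eigenvectors for `At`. -/
def TConc {H : Type u} [Group H] (d : ℕ) (L At B : Subgroup H) : Prop :=
  ∃ (b x : Fin d → H), (∀ i, b i ∈ B) ∧ (∀ i, x i ∈ L) ∧ (∀ i, x i ≠ 1) ∧
    (∀ i, ∀ a ∈ At, a * x i * a⁻¹ = x i ∨ a * x i * a⁻¹ = (x i)⁻¹) ∧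
    (∀ i, b i * x i * (b i)⁻¹ = (x i)⁻¹) ∧ (∀ i j, i ≠ j → b j * x i * (b j)⁻¹ = x i) ∧
    (∀ i j, x i * x j = x j * x i) ∧ Subgroup.closure (Set.range b) = B

section Transport

variable {G₁ H : Type u} [Group G₁] [Group H]

theorem TData.of_map (f : G₁ →* H) (hf : Function.Injective f) {L At B : Subgroup G₁}
    (h : TData (L.map f) (At.map f) (B.map f)) : TData L At B where
  odd := by
    have := h.odd
    rwa [Subgroup.card_map_of_injective hf] at this
  solv := by
    have := h.solv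
    exact Group.isSolvable_of_isSolvable_injective (f := (f.subgroupMap L))
      (by
        intro u v huv
        apply Subtype.ext
        apply hf
        exact congrArg Subtype.val huv)
  sq := by
    intro a ha
    apply hf
    rw [map_mul, map_one]
    exact h.sq (f a) ⟨a, ha, rfl⟩
  comm := by
    intro a ha b hb
    apply hf
    rw [map_mul, map_mul]
    exact h.comm (f a) ⟨a, ha, rfl⟩ (f b) ⟨b, hb, rfl⟩
  norm := by
    intro a ha x hx
    have := h.norm (f a) ⟨a, ha, rfl⟩ (f x) ⟨x, hx, rfl⟩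
    obtain ⟨y, hy, hyx⟩ := this
    have : y = a * x * a⁻¹ := by
      apply hf; rw [hyx, map_mul, map_mul, map_inv]
    rw [← this]; exact hy
  le := by
    intro b hb
    have : f b ∈ At.map f := h.le ⟨b, hb, rfl⟩
    obtain ⟨a, ha, hab⟩ := this
    rw [← hf hab]; exact ha
  faith := by
    intro b hb hcen
    apply hf
    rw [map_one]
    apply h.faith (f b) ⟨b, hb, rfl⟩
    rintro _ ⟨x, hx, rfl⟩
    rw [← map_inv, ← map_mul, ← map_mul, hcen x hx]

theorem TConc.map (f : G₁ →* H) (hf : Function.Injective f) {d : ℕ} {L At B : Subgroup G₁}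
    (h : TConc d L At B) : TConc d (L.map f) (At.map f) (B.map f) := by
  obtain ⟨b, x, hb, hx, hx1, heig, hinv, hcen, hcomm, hgen⟩ := h
  refine ⟨fun i => f (b i), fun i => f (x i), fun i => ⟨b i, hb i, rfl⟩, fun i => ⟨x i, hx i, rfl⟩,
    ?_, ?_, ?_, ?_, ?_, ?_⟩
  · intro i h
    apply hx1 i
    apply hf
    rw [map_one]; exact h
  · rintro i _ ⟨a, ha, rfl⟩
    rcases heig i a ha with h | h
    · left; rw [← map_inv, ← map_mul, ← map_mul, h]
    · right; rw [← map_inv, ← map_mul, ← map_mul, h, map_inv]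
  · intro i
    rw [← map_inv, ← map_mul, ← map_mul, hinv i, map_inv]
  · intro i j hij
    rw [← map_inv, ← map_mul, ← map_mul, hcen i j hij]
  · intro i j
    rw [← map_mul, ← map_mul, hcomm i j]
  · rw [← hgen, MonoidHom.map_closure]
    congr 1
    ext y
    simp only [Set.mem_range, Set.mem_image]
    constructor
    · rintro ⟨i, rfl⟩
      exact ⟨b i, ⟨i, rfl⟩, rfl⟩
    · rintro ⟨_, ⟨i, rfl⟩, rfl⟩
      exact ⟨i, rfl⟩

end Transport

section QuotientStep

variable {G₁ : Type u} [Group G₁] [Finite G₁]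

theorem card_pow_two_of_sq {At : Subgroup G₁} (hsq : ∀ a ∈ At, a * a = 1) :
    ∃ j : ℕ, Nat.card At = 2 ^ j := by
  have hp2 : Fact (Nat.Prime 2) := ⟨Nat.prime_two⟩
  have hp : IsPGroup 2 At := by
    intro a
    refine ⟨1, ?_⟩
    rw [pow_one, pow_two]
    exact Subtype.ext (hsq a a.2)
  exact hp.exists_card_eq

theorem mem_of_pow_mem_of_coprime {N : Subgroup G₁} {y : G₁} {k : ℕ}
    (hk : Nat.Coprime k (orderOf y)) (h : y ^ k ∈ N) : y ∈ N := by
  obtain ⟨m, hm⟩ := exists_pow_eq_self_of_coprime hk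
  rw [← hm]; exact N.pow_mem h m

/-- The quotient step of the induction: `N` a nontrivial normal subgroup, central in `L` and centralized
by `B`. -/
theorem quotient_step {d : ℕ} {L At B N : Subgroup G₁} [hNn : N.Normal]
    (hD : TData L At B) (hcardB : Nat.card B = 2 ^ d)
    (hNL : N ≤ L) (hN1 : N ≠ ⊥) (hNZ : ∀ n ∈ N, ∀ y ∈ L, n * y = y * n)
    (hBN : ∀ b ∈ B, ∀ n ∈ N, b * n * b⁻¹ = n)
    (IH : ∀ (Q : Type u) [Group Q] [Finite Q] (L' At' B' : Subgroup Q), TData L' At' B' →
       Nat.card L' < Nat.card L → Nat.card B' = 2 ^ d → TConc d L' At' B') :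
    TConc d L At B := by
  obtain ⟨π, hπdef⟩ : ∃ π : G₁ →* G₁ ⧸ N, π = QuotientGroup.mk' N := ⟨_, rfl⟩
  have hπ : ∀ u v : G₁, π u = π v ↔ u⁻¹ * v ∈ N := by
    intro u v; rw [hπdef]; exact QuotientGroup.eq
  have hπ1 : ∀ u : G₁, π u = 1 ↔ u ∈ N := by
    intro u; rw [hπdef]; exact QuotientGroup.eq_one_iff u
  have hoddel : ∀ y ∈ L, Odd (orderOf y) := fun y hy => odd_orderOf_of_mem hD.odd hy
  -- the data in the quotient
  have hD' : TData (L.map π) (At.map π) (B.map π) := by
    refine ⟨Odd.of_dvd_nat hD.odd (Subgroup.card_map_dvd _ π), ?_, ?_, ?_, ?_, Subgroup.map_mono hD.le, ?_⟩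
    · have := hD.solv
      exact Group.isSolvable_of_surjective (π.subgroupMap_surjective L)
    · rintro _ ⟨a, ha, rfl⟩
      rw [← map_mul, hD.sq a ha, map_one]
    · rintro _ ⟨a, ha, rfl⟩ _ ⟨b, hb, rfl⟩
      rw [← map_mul, ← map_mul, hD.comm a ha b hb]
    · rintro _ ⟨a, ha, rfl⟩ _ ⟨x, hx, rfl⟩
      exact ⟨a * x * a⁻¹, hD.norm a ha x hx, by rw [map_mul, map_mul, map_inv]⟩
    · rintro _ ⟨b, hb, rfl⟩ hcen
      have hb1 : b = 1 := by
        apply hD.faith b hb
        apply centralizes_of_trivial_mod hD.odd hNL (hD.sq b (hD.le hb)) (hBN b hb)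
        intro y hy
        have := hcen (π y) ⟨y, hy, rfl⟩
        rw [← map_inv, ← map_mul, ← map_mul] at this
        exact (hπ _ _).1 this.symm
      rw [hb1, map_one]
  have hcardL : Nat.card (L.map π) < Nat.card L := by
    by_contra hge
    push Not at hge
    have hbij := (π.subgroupMap_surjective L).bijective_of_nat_card_le hge
    obtain ⟨n, hn, hn1⟩ : ∃ n ∈ N, n ≠ 1 := by
      by_contra hcon
      push Not at hcon
      exact hN1 ((Subgroup.eq_bot_iff_forall N).2 hcon)
    apply hn1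
    have : (⟨n, hNL hn⟩ : L) = 1 := by
      apply hbij.1
      apply Subtype.ext
      show π n = π 1
      rw [map_one, hπ1]; exact hn
    exact congrArg Subtype.val this
  have hcardB' : Nat.card (B.map π) = 2 ^ d := by
    rw [← hcardB]
    symm
    apply Nat.card_congr
    refine Equiv.ofBijective (π.subgroupMap B) ⟨?_, π.subgroupMap_surjective B⟩
    rw [injective_iff_map_eq_one]
    rintro ⟨b, hb⟩ hb1
    have h1 : π b = 1 := congrArg Subtype.val hb1
    rw [hπ1] at h1
    have hbo := hoddel b (hNL h1)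
    have := eq_one_of_inv_eq_self_of_odd hbo (inv_eq_of_mul_eq_one_right (hD.sq b (hD.le hb)))
    exact Subtype.ext this
  obtain ⟨b', x', hb', hx', hx'1, heig', hinv', hcen', hcomm', hgen'⟩ :=
    IH _ _ _ _ hD' hcardL hcardB'
  choose b hbB hbπ using hb'
  choose y hyL hyπ using hx'
  have hyN : ∀ i, y i ∉ N := by
    intro i h
    apply hx'1 i
    rw [← hyπ i, hπ1]; exact h
  have hAtN : ∀ a ∈ At, ∀ n ∈ N, a * n * a⁻¹ ∈ N := fun a _ n hn => hNn.conj_mem n hn a
  have hyeig : ∀ i, ∀ a ∈ At, (y i)⁻¹ * (a * y i * a⁻¹) ∈ N ∨ y i * (a * y i * a⁻¹) ∈ N := by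
    intro i a ha
    rcases heig' i (π a) ⟨a, ha, rfl⟩ with h | h
    · left
      rw [← hyπ i, ← map_inv, ← map_mul, ← map_mul] at h
      exact (hπ _ _).1 h.symm
    · right
      rw [← hyπ i, ← map_inv, ← map_mul, ← map_mul, ← map_inv] at h
      have := (hπ _ _).1 h.symm
      rwa [inv_inv] at this
  have hlift := fun i => exists_eigen_lift_subgroup hD.odd hNL hNZ hD.sq hAtN (hyL i) (hyN i) (hyeig i)
  choose x hxL hxy hxeig using hlift
  obtain ⟨j, hj⟩ := card_pow_two_of_sq hD.sq
  have hxN : ∀ i, x i ∉ N := by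
    intro i h
    apply hyN i
    have h1 : (y i ^ Nat.card At)⁻¹ ∈ N := by
      have := N.mul_mem (hxy i) (N.inv_mem h)
      rwa [mul_assoc, mul_inv_cancel, mul_one] at this
    have h2 : y i ^ Nat.card At ∈ N := by
      have := N.inv_mem h1; rwa [inv_inv] at this
    apply mem_of_pow_mem_of_coprime _ h2
    rw [hj]
    exact Nat.Coprime.pow_left _ (Nat.coprime_two_left.2 (hoddel _ (hyL i)))
  have hπx : ∀ i, π (x i) = (x' i) ^ Nat.card At := by
    intro i
    rw [← hyπ i, ← map_pow]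
    exact ((hπ _ _).2 (hxy i)).symm
  have hbinv : ∀ i, b i * x i * (b i)⁻¹ = (x i)⁻¹ := by
    intro i
    apply (hxeig i (b i) (hD.le (hbB i))).2
    have h := hinv' i
    rw [← hyπ i, ← hbπ i, ← map_inv, ← map_mul, ← map_mul, ← map_inv] at h
    have := (hπ _ _).1 h.symm
    rwa [inv_inv] at this
  have hbcen : ∀ i j, i ≠ j → b j * x i * (b j)⁻¹ = x i := by
    intro i j hij
    apply (hxeig i (b j) (hD.le (hbB j))).1
    have h := hcen' i j hij
    rw [← hyπ i, ← hbπ j, ← map_inv, ← map_mul, ← map_mul] at h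
    exact (hπ _ _).1 h.symm
  refine ⟨b, x, hbB, hxL, ?_, ?_, hbinv, hbcen, ?_, ?_⟩
  · intro i h
    exact hxN i (h ▸ N.one_mem)
  · intro i a ha
    rcases hyeig i a ha with h | h
    · exact Or.inl ((hxeig i a ha).1 h)
    · exact Or.inr ((hxeig i a ha).2 h)
  · intro i k
    by_cases hik : i = k
    · rw [hik]
    · obtain ⟨c, hc⟩ : ∃ c, c = x i * x k * (x i)⁻¹ * (x k)⁻¹ := ⟨_, rfl⟩
      have hcN : c ∈ N := by
        rw [← hπ1, hc, map_mul, map_mul, map_mul, map_inv, map_inv, hπx, hπx]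
        have hcm : Commute (x' i ^ Nat.card At) (x' k ^ Nat.card At) :=
          Commute.pow_pow (hcomm' i k) _ _
        rw [hcm.eq, mul_assoc, mul_assoc, mul_inv_cancel_left, mul_inv_cancel]
      -- conjugate by b i
      have h1 : b i * c * (b i)⁻¹ = c := hBN (b i) (hbB i) c hcN
      have h2 : b i * c * (b i)⁻¹ = (x i)⁻¹ * x k * x i * (x k)⁻¹ := by
        have e : b i * c * (b i)⁻¹ = (b i * x i * (b i)⁻¹) * (b i * x k * (b i)⁻¹) *
            (b i * x i * (b i)⁻¹)⁻¹ * (b i * x k * (b i)⁻¹)⁻¹ := by rw [hc]; group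
        rw [e, hbinv i, hbcen k i (Ne.symm hik), inv_inv]
      have hcxi : c * x i = x i * c := hNZ c hcN (x i) (hxL i)
      have hcxk : c * x k = x k * c := hNZ c hcN (x k) (hxL k)
      have e1 : x i * x k = c * x k * x i := by rw [hc]; group
      have e2 : (x i)⁻¹ * x k = c * x k * (x i)⁻¹ := by
        have : c = (x i)⁻¹ * x k * x i * (x k)⁻¹ := h1.symm.trans h2
        nth_rewrite 1 [this]; group
      have hcc : c * c = 1 := by
        have e3 : x k = c * c * x k := by
          calc x k = x i * ((x i)⁻¹ * x k) := by group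
            _ = x i * (c * x k * (x i)⁻¹) := by rw [e2]
            _ = c * (x i * x k) * (x i)⁻¹ := by
                rw [← mul_assoc, ← mul_assoc, ← hcxi]; group
            _ = c * (c * x k * x i) * (x i)⁻¹ := by rw [e1]
            _ = c * c * x k := by group
        have : c * c * x k = 1 * x k := by rw [one_mul]; exact e3.symm
        exact mul_right_cancel this
      have hc1 : c = 1 :=
        eq_one_of_inv_eq_self_of_odd (hoddel c (hNL hcN)) (inv_eq_of_mul_eq_one_right hcc)
      rw [e1, hc1, one_mul]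
  · have hle : Subgroup.closure (Set.range b) ≤ B := by
      rw [Subgroup.closure_le]
      rintro _ ⟨i, rfl⟩
      exact hbB i
    apply Subgroup.eq_of_le_of_card_ge hle
    have hmap : (Subgroup.closure (Set.range b)).map π = B.map π := by
      rw [MonoidHom.map_closure, ← hgen']
      congr 1
      ext q
      simp only [Set.mem_range, Set.mem_image]
      constructor
      · rintro ⟨_, ⟨i, rfl⟩, rfl⟩
        exact ⟨i, (hbπ i).symm⟩
      · rintro ⟨i, rfl⟩
        exact ⟨b i, ⟨i, rfl⟩, hbπ i⟩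
    have h1 : Nat.card ((Subgroup.closure (Set.range b)).map π) ∣
        Nat.card (Subgroup.closure (Set.range b)) := Subgroup.card_map_dvd _ π
    rw [hmap, hcardB'] at h1
    rw [hcardB]
    exact Nat.le_of_dvd Nat.card_pos h1

end QuotientStep

end Cfsg.Agent.Helper55
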