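import Mathlib
import Cfsg.Agent.Helper55.ThompsonDihedral2

/-!
# Thompson's dihedral lemma, the main induction (helper55)
-/

set_option autoImplicit false
set_option linter.unusedSectionVars false

namespace Cfsg.Agent.Helper55

universe u

section Steps

variable {H : Type u} [Group H] [Finite H]

theorem conj_eq_of_mem_centralizer {N : Subgroup H} {g n : H}
    (hg : g ∈ Subgroup.centralizer (N : Set H)) (hn : n ∈ N) : g * n * g⁻¹ = n := by
  have := Subgroup.mem_centralizer_iff.1 hg n hn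
  rw [← this, mul_assoc, mul_inv_cancel, mul_one]

/-- The data restricted to `C_L(N)` for an abelian normal invariant subgroup `N` of `L`. -/
theorem tdata_centralizer {L At B N : Subgroup H} (hD : TData L At B) (hNL : N ≤ L)
    (hNab : ∀ n ∈ N, ∀ n' ∈ N, n * n' = n' * n)
    (hLN : ∀ y ∈ L, ∀ n ∈ N, y * n * y⁻¹ ∈ N) (hAtN : ∀ a ∈ At, ∀ n ∈ N, a * n * a⁻¹ ∈ N) :
    TData (L ⊓ Subgroup.centralizer (N : Set H)) At B where
  odd := Odd.of_dvd_nat hD.odd (Subgroup.card_dvd_of_le inf_le_left)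
  solv := by
    have := hD.solv
    exact Group.isSolvable_of_isSolvable_injective
      (Subgroup.inclusion_injective (inf_le_left : L ⊓ Subgroup.centralizer (N : Set H) ≤ L))
  sq := hD.sq
  comm := hD.comm
  norm := by
    intro a ha x hx
    rw [Subgroup.mem_inf] at hx ⊢
    obtain ⟨hxL, hxC⟩ := hx
    refine ⟨hD.norm a ha x hxL, ?_⟩
    rw [Subgroup.mem_centralizer_iff]
    intro n hn
    have hainv : a⁻¹ = a := inv_eq_of_mul_eq_one_right (hD.sq a ha)
    have h1 : a⁻¹ * n * a ∈ N := by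
      have := hAtN a ha n hn
      rw [hainv]; nth_rewrite 2 [← hainv]; exact this
    have h2 := Subgroup.mem_centralizer_iff.1 hxC _ h1
    calc n * (a * x * a⁻¹) = a * ((a⁻¹ * n * a) * x) * a⁻¹ := by group
      _ = a * (x * (a⁻¹ * n * a)) * a⁻¹ := by rw [h2]
      _ = a * x * a⁻¹ * n := by group
  le := hD.le
  faith := by
    intro b hb hcen
    apply hD.faith b hb
    apply centralizes_of_centralizes_centralizer hD.odd hNL hNab hLN (hD.sq b (hD.le hb))
      (hD.norm b (hD.le hb))
    intro y hy hyc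
    apply hcen y
    rw [Subgroup.mem_inf]
    refine ⟨hy, ?_⟩
    rw [Subgroup.mem_centralizer_iff]
    intro n hn
    exact (hyc n hn).symm

/-- Each element of `At` centralizes or inverts a minimal invariant subgroup `N` which is central in `L`. -/
theorem cent_or_inv {L At N : Subgroup H} (hsq : ∀ a ∈ At, a * a = 1)
    (hcomm : ∀ a ∈ At, ∀ b ∈ At, a * b = b * a)
    (hNZ : ∀ n ∈ N, ∀ y ∈ L, n * y = y * n) (hNL : N ≤ L)
    (hNT : ConjInv ((L : Set H) ∪ At) N)
    (hmin : ∀ N' : Subgroup H, N' ≤ N → N' ≠ ⊥ → ConjInv ((L : Set H) ∪ At) N' → N' = N)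
    (a : H) (ha : a ∈ At) :
    (∀ n ∈ N, a * n * a⁻¹ = n) ∨ (∀ n ∈ N, a * n * a⁻¹ = n⁻¹) := by
  have hainv : a⁻¹ = a := inv_eq_of_mul_eq_one_right (hsq a ha)
  have hinvT : ConjInv ((L : Set H) ∪ At) (N ⊓ Subgroup.centralizer ({a} : Set H)) := by
    rintro g (hg | hg) n hnn
    · rw [Subgroup.mem_inf] at hnn
      obtain ⟨hn, hna⟩ := hnn
      have : g * n * g⁻¹ = n := by
        rw [← hNZ n hn g hg, mul_assoc, mul_inv_cancel, mul_one]
      rw [this]; exact Subgroup.mem_inf.2 ⟨hn, hna⟩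
    · rw [Subgroup.mem_inf] at hnn ⊢
      obtain ⟨hn, hna⟩ := hnn
      refine ⟨hNT g (Or.inr hg) n hn, ?_⟩
      rw [Subgroup.mem_centralizer_singleton_iff] at hna ⊢
      have hga : g * a = a * g := hcomm g hg a ha
      have hga' : a * g⁻¹ = g⁻¹ * a := by
        have : g⁻¹ * (g * a) * g⁻¹ = g⁻¹ * (a * g) * g⁻¹ := by rw [hga]
        simpa [mul_assoc] using this
      calc g * n * g⁻¹ * a = g * n * (g⁻¹ * a) := by group
        _ = g * n * (a * g⁻¹) := by rw [hga']
        _ = g * (n * a) * g⁻¹ := by group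
        _ = g * (a * n) * g⁻¹ := by rw [hna]
        _ = (g * a) * n * g⁻¹ := by group
        _ = (a * g) * n * g⁻¹ := by rw [hga]
        _ = a * (g * n * g⁻¹) := by group
  by_cases hbot : N ⊓ Subgroup.centralizer ({a} : Set H) = ⊥
  · right
    intro n hn
    have hab : ∀ n' ∈ N, n * n' = n' * n := fun n' hn' => hNZ n hn n' (hNL hn')
    have hm : n * (a * n * a⁻¹) ∈ N ⊓ Subgroup.centralizer ({a} : Set H) := by
      rw [Subgroup.mem_inf]
      refine ⟨N.mul_mem hn (hNT a (Or.inr ha) n hn), ?_⟩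
      rw [Subgroup.mem_centralizer_singleton_iff]
      have h1 := hab _ (hNT a (Or.inr ha) n hn)
      calc n * (a * n * a⁻¹) * a = n * a * n := by group
        _ = 1 * n * a⁻¹ * n := by rw [one_mul, hainv]
        _ = (a * a) * n * a⁻¹ * n := by rw [hsq a ha]
        _ = a * ((a * n * a⁻¹) * n) := by group
        _ = a * (n * (a * n * a⁻¹)) := by rw [h1]
    rw [hbot, Subgroup.mem_bot] at hm
    exact (eq_inv_of_mul_eq_one_right hm)
  · left
    have := hmin _ inf_le_left hbot hinvT
    intro n hn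
    have hn' : n ∈ N ⊓ Subgroup.centralizer ({a} : Set H) := by rw [this]; exact hn
    rw [Subgroup.mem_inf] at hn'
    have := Subgroup.mem_centralizer_singleton_iff.1 hn'.2
    rw [← this, mul_assoc, mul_inv_cancel, mul_one]

/-- Case I of the induction: some element of `B` inverts the central minimal subgroup `N`. -/
theorem step_one {d : ℕ} {L At B N : Subgroup H} (hD : TData L At B)
    (hcardB : Nat.card B = 2 ^ (d + 1))
    (hNL : N ≤ L) (hN1 : N ≠ ⊥) (hNZ : ∀ n ∈ N, ∀ y ∈ L, n * y = y * n)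
    (hci : ∀ a ∈ At, (∀ n ∈ N, a * n * a⁻¹ = n) ∨ (∀ n ∈ N, a * n * a⁻¹ = n⁻¹))
    (b₀ : H) (hb₀ : b₀ ∈ B) (hb₀N : ¬ ∀ n ∈ N, b₀ * n * b₀⁻¹ = n)
    (IH : ∀ B₀ : Subgroup H, TData L At B₀ → Nat.card B₀ = 2 ^ d → TConc d L At B₀) :
    TConc (d + 1) L At B := by
  have hoddel : ∀ y ∈ L, Odd (orderOf y) := fun y hy => odd_orderOf_of_mem hD.odd hy
  have hb₀inv : ∀ n ∈ N, b₀ * n * b₀⁻¹ = n⁻¹ := (hci b₀ (hD.le hb₀)).resolve_left hb₀N
  -- a nontrivial element of N
  obtain ⟨x₀, hx₀N, hx₀1⟩ : ∃ n ∈ N, n ≠ 1 := by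
    by_contra hcon
    push Not at hcon
    exact hN1 ((Subgroup.eq_bot_iff_forall N).2 hcon)
  obtain ⟨B₀, hB₀⟩ : ∃ B₀ : Subgroup H, B₀ = B ⊓ Subgroup.centralizer (N : Set H) := ⟨_, rfl⟩
  have hB₀B : B₀ ≤ B := hB₀ ▸ inf_le_left
  have hB₀cen : ∀ b ∈ B₀, ∀ n ∈ N, b * n * b⁻¹ = n := by
    intro b hb n hn
    rw [hB₀, Subgroup.mem_inf] at hb
    exact conj_eq_of_mem_centralizer hb.2 hn
  have hmemB₀ : ∀ b ∈ B, (∀ n ∈ N, b * n * b⁻¹ = n) → b ∈ B₀ := by
    intro b hb h
    rw [hB₀, Subgroup.mem_inf]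
    refine ⟨hb, ?_⟩
    rw [Subgroup.mem_centralizer_iff]
    intro n hn
    have := h n hn
    exact (mul_inv_eq_iff_eq_mul.1 this).symm
  have hb₀B₀ : b₀ ∉ B₀ := fun h => hb₀N (hB₀cen b₀ h)
  -- elements of B outside B₀ invert N
  have hout : ∀ b ∈ B, b ∉ B₀ → ∀ n ∈ N, b * n * b⁻¹ = n⁻¹ := by
    intro b hb hbB₀
    rcases hci b (hD.le hb) with h | h
    · exact absurd (hmemB₀ b hb h) hbB₀
    · exact h
  -- index two
  have hidx : (B₀.subgroupOf B).index = 2 := by
    rw [Subgroup.index_eq_two_iff]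
    refine ⟨⟨b₀, hb₀⟩, ?_⟩
    rintro ⟨b, hb⟩
    by_cases hbB₀ : b ∈ B₀
    · right
      refine ⟨Subgroup.mem_subgroupOf.2 hbB₀, ?_⟩
      intro h
      rw [Subgroup.mem_subgroupOf] at h
      have : b₀ ∈ B₀ := by
        have := B₀.mul_mem (B₀.inv_mem hbB₀) h
        simpa using this
      exact hb₀B₀ this
    · left
      refine ⟨?_, fun h => hbB₀ (Subgroup.mem_subgroupOf.1 h)⟩
      rw [Subgroup.mem_subgroupOf]
      apply hmemB₀ _ (B.mul_mem hb hb₀)
      intro n hn
      have e : (b * b₀) * n * (b * b₀)⁻¹ = b * (b₀ * n * b₀⁻¹) * b⁻¹ := by group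
      show (b * b₀) * n * (b * b₀)⁻¹ = n
      rw [e, hb₀inv n hn, hout b hb hbB₀ _ (N.inv_mem hn), inv_inv]
  have hcardB₀ : Nat.card B₀ = 2 ^ d := by
    have h1 := (B₀.subgroupOf B).card_mul_index
    rw [hidx, hcardB] at h1
    have h2 : Nat.card (B₀.subgroupOf B) = Nat.card B₀ :=
      Nat.card_congr (Subgroup.subgroupOfEquivOfLe hB₀B).toEquiv
    rw [h2, pow_succ] at h1
    exact Nat.eq_of_mul_eq_mul_right (by norm_num) h1
  have hD₀ : TData L At B₀ :=
    ⟨hD.odd, hD.solv, hD.sq, hD.comm, hD.norm, hB₀B.trans hD.le, fun b hb => hD.faith b (hB₀B hb)⟩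
  obtain ⟨b', x', hb', hx', hx'1, heig', hinv', hcen', hcomm', hgen'⟩ := IH B₀ hD₀ hcardB₀
  -- adjust b₀ to centralize all the x' i
  have hadj : ∀ k : ℕ, k ≤ d → ∃ c ∈ B, (∀ n ∈ N, c * n * c⁻¹ = n⁻¹) ∧
      ∀ i : Fin d, i.val < k → c * x' i * c⁻¹ = x' i := by
    intro k
    induction k with
    | zero => intro _; exact ⟨b₀, hb₀, hb₀inv, fun i hi => absurd hi (Nat.not_lt_zero _)⟩
    | succ k ih =>
      intro hk
      obtain ⟨c, hcB, hcN, hcx⟩ := ih (Nat.le_of_succ_le hk)
      obtain ⟨i₀, hi₀⟩ : ∃ i₀ : Fin d, i₀.val = k := ⟨⟨k, hk⟩, rfl⟩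
      rcases heig' i₀ c (hD.le hcB) with h | h
      · refine ⟨c, hcB, hcN, ?_⟩
        intro i hi
        rcases Nat.lt_succ_iff_lt_or_eq.1 hi with h' | h'
        · exact hcx i h'
        · have : i = i₀ := Fin.ext (h'.trans hi₀.symm)
          rw [this]; exact h
      · refine ⟨c * b' i₀, B.mul_mem hcB (hB₀B (hb' i₀)), ?_, ?_⟩
        · intro n hn
          have e : (c * b' i₀) * n * (c * b' i₀)⁻¹ = c * (b' i₀ * n * (b' i₀)⁻¹) * c⁻¹ := by group
          rw [e, hB₀cen _ (hb' i₀) n hn, hcN n hn]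
        · intro i hi
          have e : (c * b' i₀) * x' i * (c * b' i₀)⁻¹ = c * (b' i₀ * x' i * (b' i₀)⁻¹) * c⁻¹ := by
            group
          rcases Nat.lt_succ_iff_lt_or_eq.1 hi with h' | h'
          · have hne : i ≠ i₀ := by
              intro hii; rw [hii, hi₀] at h'; exact Nat.lt_irrefl _ h'
            rw [e, hcen' i i₀ hne, hcx i h']
          · have : i = i₀ := Fin.ext (h'.trans hi₀.symm)
            rw [this] at e ⊢
            have e2 : c * (x' i₀)⁻¹ * c⁻¹ = (c * x' i₀ * c⁻¹)⁻¹ := by group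
            rw [e, hinv' i₀, e2, h, inv_inv]
  obtain ⟨c, hcB, hcN, hcx⟩ := hadj d le_rfl
  have hcx' : ∀ i : Fin d, c * x' i * c⁻¹ = x' i := fun i => hcx i i.2
  have hcB₀ : c ∉ B₀ := by
    intro h
    have h1 := hB₀cen c h x₀ hx₀N
    rw [hcN x₀ hx₀N] at h1
    exact hx₀1 (eq_one_of_inv_eq_self_of_odd (hoddel x₀ (hNL hx₀N)) h1)
  refine ⟨Fin.cons c b', Fin.cons x₀ x', ?_, ?_, ?_, ?_, ?_, ?_, ?_, ?_⟩
  · intro i
    refine Fin.cases ?_ (fun i => ?_) i
    · rw [Fin.cons_zero]; exact hcB
    · rw [Fin.cons_succ]; exact hB₀B (hb' i)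
  · intro i
    refine Fin.cases ?_ (fun i => ?_) i
    · rw [Fin.cons_zero]; exact hNL hx₀N
    · rw [Fin.cons_succ]; exact hx' i
  · intro i
    refine Fin.cases ?_ (fun i => ?_) i
    · rw [Fin.cons_zero]; exact hx₀1
    · rw [Fin.cons_succ]; exact hx'1 i
  · intro i
    refine Fin.cases ?_ (fun i => ?_) i
    · rw [Fin.cons_zero]
      intro a ha
      rcases hci a ha with h | h
      · exact Or.inl (h x₀ hx₀N)
      · exact Or.inr (h x₀ hx₀N)
    · rw [Fin.cons_succ]; exact heig' i
  · intro i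
    refine Fin.cases ?_ (fun i => ?_) i
    · rw [Fin.cons_zero, Fin.cons_zero]; exact hcN x₀ hx₀N
    · rw [Fin.cons_succ, Fin.cons_succ]; exact hinv' i
  · intro i j
    refine Fin.cases ?_ (fun i => ?_) i <;> refine Fin.cases ?_ (fun j => ?_) j
    · intro h; exact absurd rfl h
    · intro _
      rw [Fin.cons_zero, Fin.cons_succ]
      exact hB₀cen _ (hb' j) x₀ hx₀N
    · intro _
      rw [Fin.cons_zero, Fin.cons_succ]
      exact hcx' i
    · intro h
      rw [Fin.cons_succ, Fin.cons_succ]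
      exact hcen' i j (fun hij => h (by rw [hij]))
  · intro i j
    refine Fin.cases ?_ (fun i => ?_) i <;> refine Fin.cases ?_ (fun j => ?_) j
    · rfl
    · rw [Fin.cons_zero, Fin.cons_succ]
      exact hNZ x₀ hx₀N _ (hx' j)
    · rw [Fin.cons_zero, Fin.cons_succ]
      exact (hNZ x₀ hx₀N _ (hx' i)).symm
    · rw [Fin.cons_succ, Fin.cons_succ]
      exact hcomm' i j
  · rw [Fin.range_cons]
    have hle : Subgroup.closure (insert c (Set.range b')) ≤ B := by
      rw [Subgroup.closure_le]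
      rintro _ (rfl | ⟨i, rfl⟩)
      · exact hcB
      · exact hB₀B (hb' i)
    have hB₀K : B₀ ≤ Subgroup.closure (insert c (Set.range b')) := by
      rw [← hgen']
      exact Subgroup.closure_mono (Set.subset_insert _ _)
    have hcK : c ∈ Subgroup.closure (insert c (Set.range b')) :=
      Subgroup.subset_closure (Set.mem_insert _ _)
    apply Subgroup.eq_of_le_of_card_ge hle
    obtain ⟨m, hm⟩ := Subgroup.card_dvd_of_le hB₀K
    have hm1 : m ≠ 1 := by
      intro h1
      rw [h1, mul_one] at hm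
      have : B₀ = Subgroup.closure (insert c (Set.range b')) :=
        Subgroup.eq_of_le_of_card_ge hB₀K (le_of_eq hm)
      exact hcB₀ (this ▸ hcK)
    have hm0 : m ≠ 0 := by
      intro h0
      rw [h0, mul_zero] at hm
      exact absurd hm Nat.card_pos.ne'
    rw [hm, hcardB, hcardB₀, pow_succ]
    exact Nat.mul_le_mul_left _ (by omega)

/-- **Thompson's dihedral lemma**, core form. -/
theorem thompson_dihedral_core : ∀ (d n : ℕ) (H : Type u) [Group H] [Finite H] (L At B : Subgroup H),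
    TData L At B → Nat.card L = n → Nat.card B = 2 ^ d → TConc d L At B := by
  intro d
  induction d with
  | zero =>
    intro n H _ _ L At B _ _ hB
    rw [pow_zero, Subgroup.card_eq_one] at hB
    refine ⟨fun i => i.elim0, fun i => i.elim0, fun i => i.elim0, fun i => i.elim0,
      fun i => i.elim0, fun i => i.elim0, fun i => i.elim0, fun i => i.elim0, fun i => i.elim0, ?_⟩
    rw [hB, Subgroup.closure_eq_bot_iff]
    rintro _ ⟨i, _⟩
    exact i.elim0
  | succ d ihd =>
    intro n
    induction n using Nat.strong_induction_on with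
    | _ n ihn =>
    intro H _ _ L At B hD hn hB
    -- L is nontrivial
    have hL1 : L ≠ ⊥ := by
      intro hL
      have hB1 : B = ⊥ := by
        rw [Subgroup.eq_bot_iff_forall]
        intro b hb
        apply hD.faith b hb
        intro x hx
        rw [hL, Subgroup.mem_bot] at hx
        rw [hx]; group
      rw [hB1, Subgroup.card_bot] at hB
      have : 2 ^ (d + 1) ≥ 2 := by
        calc 2 ^ (d + 1) = 2 * 2 ^ d := by ring
          _ ≥ 2 * 1 := Nat.mul_le_mul_left 2 (Nat.one_le_two_pow)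
      omega
    have hTL : ConjInv ((L : Set H) ∪ At) L := by
      rintro g (hg | hg) x hx
      · exact L.mul_mem (L.mul_mem hg hx) (L.inv_mem hg)
      · exact hD.norm g hg x hx
    obtain ⟨N, hNL, hN1, hNT, hmin⟩ := exists_min_conjInv _ L hL1 hTL
    have hsolvN : Group.IsSolvable N := by
      have := hD.solv
      exact Group.isSolvable_of_isSolvable_injective (Subgroup.inclusion_injective hNL)
    have hNab := abelian_of_min_conjInv _ N hsolvN hN1 hNT hmin
    have hLN : ∀ y ∈ L, ∀ n ∈ N, y * n * y⁻¹ ∈ N := fun y hy n hn => hNT y (Or.inl hy) n hn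
    have hAtN : ∀ a ∈ At, ∀ n ∈ N, a * n * a⁻¹ ∈ N := fun a ha n hn => hNT a (Or.inr ha) n hn
    by_cases hC : L ≤ Subgroup.centralizer (N : Set H)
    · -- N is central in L
      have hNZ : ∀ n ∈ N, ∀ y ∈ L, n * y = y * n := fun n hn y hy =>
        Subgroup.mem_centralizer_iff.1 (hC hy) n hn
      have hci := cent_or_inv hD.sq hD.comm hNZ hNL hNT hmin
      by_cases hBN : ∀ b ∈ B, ∀ n ∈ N, b * n * b⁻¹ = n
      · -- quotient step inside the normalizer of N
        obtain ⟨M, hM⟩ : ∃ M : Subgroup H, M = Subgroup.normalizer (N : Set H) := ⟨_, rfl⟩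
        have hLM : L ≤ M := by
          intro y hy
          rw [hM]
          exact Subgroup.mem_normalizer_fintype (fun n hn => hLN y hy n hn)
        have hAtM : At ≤ M := by
          intro a ha
          rw [hM]
          exact Subgroup.mem_normalizer_fintype (fun n hn => hAtN a ha n hn)
        have hNM : N ≤ M := hNL.trans hLM
        have hBM : B ≤ M := hD.le.trans hAtM
        have hNn : (N.subgroupOf M).Normal := by
          rw [hM]; exact Subgroup.normal_in_normalizer
        have e1 : (L.subgroupOf M).map M.subtype = L := Subgroup.map_subgroupOf_eq_of_le hLM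
        have e2 : (At.subgroupOf M).map M.subtype = At := Subgroup.map_subgroupOf_eq_of_le hAtM
        have e3 : (B.subgroupOf M).map M.subtype = B := Subgroup.map_subgroupOf_eq_of_le hBM
        have hD₁ : TData (L.subgroupOf M) (At.subgroupOf M) (B.subgroupOf M) := by
          apply TData.of_map M.subtype M.subtype_injective
          rw [e1, e2, e3]; exact hD
        have hcL : Nat.card (L.subgroupOf M) = Nat.card L := by
          rw [← Subgroup.card_map_of_injective M.subtype_injective, e1]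
        have hcB : Nat.card (B.subgroupOf M) = 2 ^ (d + 1) := by
          rw [← Subgroup.card_map_of_injective M.subtype_injective, e3, hB]
        have key : TConc (d + 1) (L.subgroupOf M) (At.subgroupOf M) (B.subgroupOf M) := by
          apply quotient_step (N := N.subgroupOf M) hD₁ hcB
          · intro n hn
            rw [Subgroup.mem_subgroupOf] at hn ⊢
            exact hNL hn
          · intro h
            apply hN1
            rw [Subgroup.eq_bot_iff_forall] at h ⊢
            intro n hn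
            have := h ⟨n, hNM hn⟩ (Subgroup.mem_subgroupOf.2 hn)
            exact congrArg Subtype.val this
          · intro n hn y hy
            rw [Subgroup.mem_subgroupOf] at hn hy
            exact Subtype.ext (hNZ n hn y hy)
          · intro b hb n hn
            rw [Subgroup.mem_subgroupOf] at hb hn
            exact Subtype.ext (hBN b hb n hn)
          · intro Q _ _ L' At' B' hD' hlt hB'
            rw [hcL, hn] at hlt
            exact ihn (Nat.card L') hlt Q L' At' B' hD' rfl hB'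
        have := key.map M.subtype M.subtype_injective
        rwa [e1, e2, e3] at this
      · -- some element of B inverts N
        push Not at hBN
        obtain ⟨b₀, hb₀, hb₀N⟩ := hBN
        have hb₀N' : ¬ ∀ n ∈ N, b₀ * n * b₀⁻¹ = n := by
          push Not; exact hb₀N
        exact step_one hD hB hNL hN1 hNZ hci b₀ hb₀ hb₀N'
          (fun B₀ hD₀ hB₀ => ihd n H L At B₀ hD₀ hn hB₀)
    · -- pass to C_L(N)
      have hDC := tdata_centralizer hD hNL hNab hLN hAtN
      have hlt : Nat.card (L ⊓ Subgroup.centralizer (N : Set H) : Subgroup H) < n := by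
        rw [← hn]
        by_contra hge
        push Not at hge
        have := Subgroup.eq_of_le_of_card_ge (inf_le_left : L ⊓ Subgroup.centralizer (N : Set H) ≤ L) hge
        apply hC
        rw [← this]; exact inf_le_right
      obtain ⟨b, x, hb, hx, hrest⟩ := ihn _ hlt H _ At B hDC rfl hB
      exact ⟨b, x, hb, fun i => (Subgroup.mem_inf.1 (hx i)).1, hrest⟩

end Steps

end Cfsg.Agent.Helper55
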