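import Cfsg.Agent.Helper51.TorD.Defs
import Cfsg.Agent.Helper36.FieldFix
import Cfsg.Agent.Helper24.TorDFrobFix

/-!
# S2372/S2375, sub-farm #13792 of helper51 (TorD), piece (DESC)

Frobenius-fixed elements of `G(K)` come from `G(F)`: helper36's `FieldFix.descent` with `σ` the Frobenius `x ↦ x ^ #F`,
whose fixed field is the image of `F` (helper24's `pow_card_eq_iff_mem_range`).
-/

set_option autoImplicit false
set_option maxRecDepth 100000

namespace Cfsg.Agent.Helper55.TorD

open Cfsg Cfsg.Lie Cfsg.Agent.Helper18 Cfsg.Agent.Helper80.Tor Cfsg.Agent.Helper51.TorD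
  Cfsg.Agent.Helper36.FieldFix Cfsg.Agent.Helper36.BaseChange

variable {K : Type*} [Field K] (D : ChevalleyDatum)

/-- (DESC) Frobenius-fixed elements of `G(K)` come from `G(F)` -/
theorem descent_frob {F : Type*} [Field F] [Fintype F] [Fintype K] [Algebra F K]
    (hD : D ∈ [chevG2, chevB2, chevD4, chevF4, chevE6, chevE7, chevE8])
    (B : List (List ℤ)) (hB : Cfsg.Agent.Helper36.Unimod.invOK D B = true)
    (hs : ∀ j < D.rank, D.simple j < D.nroots)
    (g : GL D.Idx K) (hg : g ∈ D.group K) (hfix : sigmaGL D.Idx F K g = g) :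
    ∃ g₀ ∈ D.group F, iotaGL D.Idx F K g₀ = g := by
  have hfix' : ∀ x : K, frobE F K x = x ↔ x ∈ Set.range (algebraMap F K) :=
    fun x => Cfsg.Agent.Helper24.TorD.pow_card_eq_iff_mem_range x
  have h := Cfsg.Agent.Helper36.FieldFix.descent D hD (algebraMap F K) (frobE F K) hfix' B hB hs g hg hfix
  obtain ⟨g₀, hg₀, e⟩ := h
  exact ⟨g₀, hg₀, e⟩

end Cfsg.Agent.Helper55.TorD
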