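import Mathlib
import Cfsg.Agent.Helper9.DihedralAut

/-!
Groups with a normal Sylow `2`-subgroup and cyclic quotient ("2-by-cyclic" groups): basic lemmas.
-/

set_option autoImplicit false

namespace Cfsg.Agent.Helper55.TwoByCyclic

/-- In a `2`-group every Sylow `2`-subgroup is everything. -/
theorem sylow_eq_top_of_isPGroup {X : Type*} [Group X] (hX : IsPGroup 2 X) (S : Sylow 2 X) :
    (S : Subgroup X) = ⊤ :=
  (S.is_maximal' (hX.to_subgroup ⊤) le_top).symm

/-- A `2`-group satisfies the "2-by-cyclic" hypotheses. -/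
theorem hyps_of_isPGroup {X : Type*} [Group X] (hX : IsPGroup 2 X) :
    (∀ S : Sylow 2 X, (S : Subgroup X).Normal) ∧
    (∀ (S : Sylow 2 X) [(S : Subgroup X).Normal], IsCyclic (X ⧸ (S : Subgroup X))) := by
  constructor
  · intro S
    rw [sylow_eq_top_of_isPGroup hX S]
    infer_instance
  · intro S _
    have htop := sylow_eq_top_of_isPGroup hX S
    have : Subsingleton (X ⧸ (S : Subgroup X)) := by
      constructor
      intro a b
      induction a using QuotientGroup.induction_on with
      | H a =>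
        induction b using QuotientGroup.induction_on with
        | H b =>
          rw [QuotientGroup.eq, htop]
          exact Subgroup.mem_top _
    exact isCyclic_of_subsingleton

/-- In a finite group with a normal Sylow `2`-subgroup `S` and cyclic quotient, there is an element
`y` of odd order `|X : S|` such that `X = S⟨y⟩`. -/
theorem exists_odd_generator {X : Type*} [Group X] [Finite X] (S : Sylow 2 X)
    [hn : (S : Subgroup X).Normal] (hc : IsCyclic (X ⧸ (S : Subgroup X))) :
    ∃ y : X, Odd (orderOf y) ∧ orderOf y = (S : Subgroup X).index ∧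
      ∀ g : X, ∃ s ∈ (S : Subgroup X), ∃ j : ℕ, g = s * y ^ j := by
  have : Fact (Nat.Prime 2) := ⟨Nat.prime_two⟩
  set m := (S : Subgroup X).index with hm
  set N := Nat.card (S : Subgroup X) with hN
  have hmodd : Odd m := by
    rw [← Nat.not_even_iff_odd]
    intro he
    exact S.not_dvd_index he.two_dvd
  have hNm : N * m = Nat.card X := (S : Subgroup X).card_mul_index
  obtain ⟨a, ha⟩ := IsPGroup.iff_card.mp S.isPGroup'
  have hcop : Nat.Coprime N m := by
    rw [hN, ha]
    exact Nat.Coprime.pow_left a (Nat.coprime_two_left.mpr hmodd)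
  obtain ⟨g₀, hg₀⟩ := hc.exists_generator
  obtain ⟨h, rfl⟩ := QuotientGroup.mk_surjective g₀
  have hqcard : Nat.card (X ⧸ (S : Subgroup X)) = m := by
    rw [hm, Subgroup.index_eq_card]
  have hord₀ : orderOf (h : X ⧸ (S : Subgroup X)) = m := by
    rw [orderOf_eq_card_of_forall_mem_zpowers hg₀, hqcard]
  obtain ⟨u, hu⟩ := exists_pow_eq_self_of_coprime (x := (h : X ⧸ (S : Subgroup X))) (n := N)
    (by rw [hord₀]; exact hcop)
  set y : X := (h ^ N) ^ u with hy
  have hmk : ((y : X) : X ⧸ (S : Subgroup X)) = (h : X ⧸ (S : Subgroup X)) := by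
    rw [hy, QuotientGroup.mk_pow, QuotientGroup.mk_pow]; exact hu
  have hym : y ^ m = 1 := by
    rw [hy, ← pow_mul, ← pow_mul]
    have : N * (u * m) = Nat.card X * u := by rw [← hNm]; ring
    rw [this, pow_mul, pow_card_eq_one', one_pow]
  have hdvd1 : orderOf y ∣ m := orderOf_dvd_of_pow_eq_one hym
  have hdvd2 : m ∣ orderOf y := by
    rw [← hord₀, ← hmk]
    exact orderOf_dvd_of_pow_eq_one (by rw [← QuotientGroup.mk_pow, pow_orderOf_eq_one]; rfl)
  have hyo : orderOf y = m := Nat.dvd_antisymm hdvd1 hdvd2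
  refine ⟨y, hyo ▸ hmodd, hyo, ?_⟩
  intro g
  obtain ⟨k, hk⟩ := hg₀ (g : X ⧸ (S : Subgroup X))
  -- reduce to a natural exponent
  have hk' : ((y : X) : X ⧸ (S : Subgroup X)) ^ (k % (m : ℤ)).toNat = (g : X ⧸ (S : Subgroup X)) := by
    rw [hmk, ← hk]
    have hmpos : (0 : ℤ) < m := by
      have : 0 < m := Nat.pos_of_ne_zero (Subgroup.index_ne_zero_of_finite)
      exact_mod_cast this
    have h1 : ((k % (m : ℤ)).toNat : ℤ) = k % m := Int.toNat_of_nonneg (Int.emod_nonneg _ hmpos.ne')
    rw [← zpow_natCast, h1, ← hord₀, zpow_mod_orderOf]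
  set j := (k % (m : ℤ)).toNat with hj
  refine ⟨g * (y ^ j)⁻¹, ?_, j, by group⟩
  have : ((g * (y ^ j)⁻¹ : X) : X ⧸ (S : Subgroup X)) = 1 := by
    rw [QuotientGroup.mk_mul, QuotientGroup.mk_inv, QuotientGroup.mk_pow, hk', mul_inv_cancel]
  exact (QuotientGroup.eq_one_iff _).mp this

/-- A finite group with a cyclic normal Sylow `2`-subgroup and cyclic quotient is cyclic. -/
theorem isCyclic_of_cyclic_sylow {X : Type*} [Group X] [Finite X] (S : Sylow 2 X)
    [hn : (S : Subgroup X).Normal] (hc : IsCyclic (X ⧸ (S : Subgroup X)))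
    (hS : IsCyclic (S : Subgroup X)) : IsCyclic X := by
  obtain ⟨y, hyodd, hyo, hgen⟩ := exists_odd_generator S hc
  obtain ⟨s, hs⟩ := hS.exists_generator
  have hso : orderOf (s : X) = Nat.card (S : Subgroup X) := by
    rw [Subgroup.orderOf_coe, orderOf_eq_card_of_forall_mem_zpowers hs]
  have hyN : y ∈ Subgroup.normalizer ((S : Subgroup X) : Set X) := by
    rw [Subgroup.normalizer_eq_top]; exact Subgroup.mem_top _
  have hyC := Cfsg.Agent.Helper9.mem_centralizer_of_isCyclic_two_group (S : Subgroup X) hS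
    S.isPGroup' y hyN hyodd
  have hcomm : Commute (s : X) y := by
    rw [Subgroup.mem_centralizer_iff] at hyC
    exact hyC s s.2
  obtain ⟨a, ha⟩ := IsPGroup.iff_card.mp S.isPGroup'
  have hcop : Nat.Coprime (orderOf (s : X)) (orderOf y) := by
    rw [hso, ha]
    exact Nat.Coprime.pow_left a (Nat.coprime_two_left.mpr hyodd)
  have hord : orderOf ((s : X) * y) = Nat.card X := by
    rw [hcomm.orderOf_mul_eq_mul_orderOf_of_coprime hcop, hso, hyo]
    exact (S : Subgroup X).card_mul_index
  exact isCyclic_of_orderOf_eq_card _ hord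

end Cfsg.Agent.Helper55.TwoByCyclic
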