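import Mathlib
import Cfsg.Agent.Helper9.DihedralAut
import Cfsg.Agent.Helper45.Dihedral
import Cfsg.Agent.Helper55.DihType
import Cfsg.Agent.Helper55.DihSylow
import Cfsg.Agent.Helper55.TwoByCyclic
import Cfsg.Agent.S0228

/-!
"2-by-cyclic" groups whose Sylow `2`-subgroup is of dihedral type and whose four-groups are
self-centralizing: they are cyclic, dihedral or `A₄`.
-/

set_option autoImplicit false

namespace Cfsg.Agent.Helper55.TwoByCyclic

open Cfsg.Agent.Helper55

/-- An integer power of an element of square one is `1` or the element. -/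
theorem zpow_of_sq_eq_one {X : Type*} [Group X] {z : X} (hz : z * z = 1) (j : ℤ) :
    z ^ j = 1 ∨ z ^ j = z := by
  rcases Int.even_or_odd' j with ⟨l, rfl | rfl⟩
  · left
    rw [zpow_mul, zpow_two, hz, one_zpow]
  · right
    rw [zpow_add, zpow_mul, zpow_two, hz, one_zpow, one_mul, zpow_one]

/-- If a power `y ^ j` with `j` coprime to the order of `y` commutes with `t`, so does `y`. -/
theorem commute_of_pow_commute {X : Type*} [Group X] {y t : X} {j : ℕ}
    (hj : Nat.Coprime j (orderOf y)) (h : y ^ j * t = t * y ^ j) : y * t = t * y := by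
  obtain ⟨u, hu⟩ := exists_pow_eq_self_of_coprime hj
  have hc : Commute (y ^ j) t := h
  have := hc.pow_left u
  rw [hu] at this
  exact this

theorem concl_of_dihType {X : Type*} [Group X] [Finite X] (S : Sylow 2 X)
    [hn : (S : Subgroup X).Normal]
    (hc : IsCyclic (X ⧸ (S : Subgroup X))) (hD : DihType (S : Subgroup X))
    {n : ℕ} (ψ : (S : Subgroup X) →* DihedralGroup n) (hψ : Function.Injective ψ)
    (hK : ∀ K : Subgroup X, Nat.card K = 4 → (∀ k ∈ K, k ^ 2 = 1) →
      ∀ y ∈ Subgroup.centralizer (K : Set X), Odd (orderOf y) → y = 1) :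
    IsCyclic X ∨ (∃ k : ℕ, Nonempty (X ≃* DihedralGroup (2 ^ k))) ∨
      Nonempty (X ≃* alternatingGroup (Fin 4)) := by
  classical
  have : Fact (Nat.Prime 2) := ⟨Nat.prime_two⟩
  by_cases hScyc : IsCyclic (S : Subgroup X)
  · left; exact isCyclic_of_cyclic_sylow S hc hScyc
  obtain ⟨A, hAS, hAc, hinv, hmul⟩ := hD
  have hex : ∃ x ∈ (S : Subgroup X), x ∉ A := by
    by_contra hcon
    push Not at hcon
    have hSA : (S : Subgroup X) = A := le_antisymm hcon hAS
    exact hScyc (hSA ▸ hAc)
  obtain ⟨x, hxS, hxA⟩ := hex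
  obtain ⟨hx2, hxinv⟩ := hinv x hxS hxA
  obtain ⟨a, ha⟩ := hAc.exists_generator
  have hA2 : IsPGroup 2 A := S.isPGroup'.to_le hAS
  obtain ⟨k, hk⟩ := IsPGroup.iff_card.mp hA2
  have hao : orderOf (a : X) = 2 ^ k := by
    rw [Subgroup.orderOf_coe, orderOf_eq_card_of_forall_mem_zpowers ha, hk]
  have hAmem : ∀ s ∈ A, ∃ i : ℤ, (a : X) ^ i = s := by
    intro s hs
    obtain ⟨i, hi⟩ := ha ⟨s, hs⟩
    refine ⟨i, ?_⟩
    have := congrArg Subtype.val hi
    simpa using this
  have hx1 : x ≠ 1 := fun h => hxA (h ▸ A.one_mem)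
  -- k ≥ 1
  have hk1 : 1 ≤ k := by
    by_contra hk0
    have hk0' : k = 0 := by omega
    apply hScyc
    refine ⟨⟨⟨x, hxS⟩, ?_⟩⟩
    rintro ⟨s, hs⟩
    have hA1 : ∀ s ∈ A, s = 1 := by
      intro s hs
      obtain ⟨i, rfl⟩ := hAmem s hs
      have : (a : X) = 1 := by
        rw [← orderOf_eq_one_iff, hao, hk0', pow_zero]
      rw [this, one_zpow]
    by_cases hsA : s ∈ A
    · refine ⟨0, ?_⟩
      apply Subtype.ext
      simp [hA1 s hsA]
    · refine ⟨1, ?_⟩
      have h1 := hA1 _ (hmul x hxS s hs hxA hsA)
      have hsx : s = x := by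
        rw [eq_inv_of_mul_eq_one_right h1, inv_eq_of_mul_eq_one_right hx2]
      subst hsx
      simp
  -- the involution z of A
  set z : X := (a : X) ^ (2 ^ (k - 1)) with hz
  have hzA : z ∈ A := A.pow_mem a.2 _
  have hzS : z ∈ (S : Subgroup X) := hAS hzA
  have hzo : orderOf z = 2 := by
    rw [hz, orderOf_pow_of_dvd (by positivity) (by rw [hao]; exact pow_dvd_pow 2 (Nat.sub_le k 1)),
      hao]
    have : 2 ^ k = 2 ^ (k - 1) * 2 := by rw [← pow_succ]; congr 1; omega
    rw [this, Nat.mul_div_cancel_left _ (by positivity)]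
  have hz2 : z * z = 1 := by rw [← pow_two, ← hzo, pow_orderOf_eq_one]
  have hz1 : z ≠ 1 := by
    intro h; rw [h, orderOf_one] at hzo; omega
  have hzinv : z⁻¹ = z := inv_eq_of_mul_eq_one_right hz2
  have hzx : z * x = x * z := by
    have := hxinv z hzA
    rw [hzinv] at this
    calc z * x = (x * z * x⁻¹) * x := by rw [this]
      _ = x * z := by group
  have hzx_ne : z ≠ x := fun h => hxA (h ▸ hzA)
  -- z is central in S
  have hzcent : ∀ s ∈ (S : Subgroup X), s * z = z * s := by
    intro s hs
    by_cases hsA : s ∈ A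
    · obtain ⟨i, rfl⟩ := hAmem s hsA
      rw [hz]
      exact ((Commute.refl (a : X)).zpow_left i).pow_right _
    · have := (hinv s hs hsA).2 z hzA
      rw [hzinv] at this
      calc s * z = (s * z * s⁻¹) * s := by group
        _ = z * s := by rw [this]
  -- the four-group
  set K := kSub z x hz2 hx2 hzx with hKdef
  have hKcard : Nat.card K = 4 := card_kSub z x hz2 hx2 hzx hz1 hx1 hzx_ne
  have hKexp : ∀ t ∈ K, t ^ 2 = 1 := by
    intro t ht
    rw [hKdef, mem_kSub] at ht
    rcases ht with rfl | rfl | rfl | rfl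
    · simp
    · rw [pow_two]; exact hz2
    · rw [pow_two]; exact hx2
    · rw [pow_two]
      calc z * x * (z * x) = z * (x * z) * x := by group
        _ = z * (z * x) * x := by rw [hzx]
        _ = (z * z) * (x * x) := by group
        _ = 1 := by rw [hz2, hx2, one_mul]
  have hKS : K ≤ (S : Subgroup X) := kSub_le z x hz2 hx2 hzx _ hzS hxS
  obtain ⟨y, hyodd, hyo, hgen⟩ := exists_odd_generator S hc
  have hyN : y ∈ Subgroup.normalizer ((S : Subgroup X) : Set X) := by
    rw [Subgroup.normalizer_eq_top]; exact Subgroup.mem_top _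
  by_cases hfix : ∃ t ∈ (S : Subgroup X), orderOf t = 2 ∧ y * t = t * y
  · -- y centralizes S, hence is trivial, X = S is dihedral
    obtain ⟨t, htS, ht2, hyt⟩ := hfix
    have hyC := Cfsg.Agent.Helper9.mem_centralizer_of_embeds_dihedral (S : Subgroup X) S.isPGroup'
      ψ hψ y hyN hyodd t htS ht2 hyt
    have hyK : y ∈ Subgroup.centralizer (K : Set X) :=
      Subgroup.centralizer_le (by exact_mod_cast hKS) hyC
    have hy1 := hK K hKcard hKexp y hyK hyodd
    have hidx : (S : Subgroup X).index = 1 := by rw [← hyo, hy1, orderOf_one]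
    have hStop := Subgroup.index_eq_one.mp hidx
    right; left
    refine ⟨k, ?_⟩
    have hxa' : x ∉ Subgroup.zpowers (a : X) := by
      intro h
      obtain ⟨i, hi⟩ := Subgroup.mem_zpowers_iff.mp h
      apply hxA
      rw [← hi]
      exact A.zpow_mem a.2 i
    refine Cfsg.Agent.Helper45.nonempty_mulEquiv_dihedral (2 ^ k) (a : X) x hao hx2
      (hxinv a a.2) hxa' ?_
    intro g
    have hgS : g ∈ (S : Subgroup X) := by rw [hStop]; exact Subgroup.mem_top _
    by_cases hgA : g ∈ A
    · left
      obtain ⟨i, hi⟩ := hAmem g hgA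
      exact Subgroup.mem_zpowers_iff.mpr ⟨i, hi⟩
    · right
      obtain ⟨i, hi⟩ := hAmem _ (hmul x hxS g hgS hxA hgA)
      exact Subgroup.mem_zpowers_iff.mpr ⟨i, hi⟩
  · -- no involution of S is fixed by y: A₄
    push Not at hfix
    right; right
    have hk_eq : k = 1 := by
      by_contra hk2
      have hk2' : 2 ≤ k := by omega
      apply hfix z hzS hzo
      -- z' = y z y⁻¹ is a central involution of S
      set z' := y * z * y⁻¹ with hz'
      have hz'S : z' ∈ (S : Subgroup X) := hn.conj_mem z hzS y
      have hz'2 : z' * z' = 1 := by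
        rw [hz']
        calc y * z * y⁻¹ * (y * z * y⁻¹) = y * (z * z) * y⁻¹ := by group
          _ = 1 := by rw [hz2]; group
      have hz'1 : z' ≠ 1 := by
        intro h
        apply hz1
        have : z = y⁻¹ * z' * y := by rw [hz']; group
        rw [this, h]; group
      have hz'cent : ∀ s ∈ (S : Subgroup X), s * z' = z' * s := by
        intro s hs
        have hs' : y⁻¹ * s * y ∈ (S : Subgroup X) := by
          have := hn.conj_mem s hs y⁻¹
          simpa using this
        have := hzcent _ hs'
        rw [hz']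
        calc s * (y * z * y⁻¹) = y * ((y⁻¹ * s * y) * z) * y⁻¹ := by group
          _ = y * (z * (y⁻¹ * s * y)) * y⁻¹ := by rw [this]
          _ = y * z * y⁻¹ * s := by group
      have hz'A : z' ∈ A := by
        by_contra hnA
        have h1 := (hinv z' hz'S hnA).2 a a.2
        have h2 := hz'cent a (hAS a.2)
        have h3 : (a : X) = (a : X)⁻¹ := by
          calc (a : X) = z' * a * z'⁻¹ := by rw [← h2]; group
            _ = (a : X)⁻¹ := h1
        have h4 : (a : X) ^ 2 = 1 := by
          rw [pow_two]
          nth_rewrite 1 [h3]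
          group
        have h5 := orderOf_dvd_of_pow_eq_one h4
        rw [hao] at h5
        have h6 : 2 ^ 2 ∣ 2 ^ k := pow_dvd_pow 2 hk2'
        have h7 : 2 ^ 2 ∣ 2 := h6.trans h5
        norm_num at h7
      -- z' = z
      obtain ⟨i, hi⟩ := hAmem z' hz'A
      have h8 : (a : X) ^ (2 * i) = 1 := by
        rw [mul_comm, zpow_mul, hi, zpow_two, hz'2]
      have h9 : ((2 ^ k : ℕ) : ℤ) ∣ 2 * i := by
        rw [← hao]; exact orderOf_dvd_iff_zpow_eq_one.mpr h8
      have h10 : ((2 ^ (k - 1) : ℕ) : ℤ) ∣ i := by
        have hkk : (2 ^ k : ℕ) = 2 * 2 ^ (k - 1) := by rw [← pow_succ']; congr 1; omega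
        rw [hkk] at h9
        push_cast at h9 ⊢
        exact (mul_dvd_mul_iff_left (by norm_num : (2 : ℤ) ≠ 0)).mp h9
      obtain ⟨j, hj⟩ := h10
      have h11 : z' = z ^ j := by
        rw [← hi, hj, zpow_mul, hz, zpow_natCast]
      have hzz' : z' = z := by
        rcases zpow_of_sq_eq_one hz2 j with h | h
        · exact absurd (h11.trans h) hz'1
        · exact h11.trans h
      calc y * z = (y * z * y⁻¹) * y := by group
        _ = z * y := by rw [← hz', hzz']
    -- now A = {1, z}, S = {1, z, x, z x}
    have hza : z = (a : X) := by rw [hz, hk_eq]; simp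
    have hA_mem : ∀ s ∈ A, s = 1 ∨ s = z := by
      intro s hs
      obtain ⟨i, rfl⟩ := hAmem s hs
      rw [← hza]
      exact zpow_of_sq_eq_one hz2 i
    have hxinv' : x⁻¹ = x := inv_eq_of_mul_eq_one_right hx2
    have hS_mem : ∀ s ∈ (S : Subgroup X), s = 1 ∨ s = z ∨ s = x ∨ s = z * x := by
      intro s hs
      by_cases hsA : s ∈ A
      · rcases hA_mem s hsA with h | h
        · exact Or.inl h
        · exact Or.inr (Or.inl h)
      · rcases hA_mem _ (hmul x hxS s hs hxA hsA) with h | h
        · right; right; left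
          rw [eq_inv_of_mul_eq_one_right h, hxinv']
        · right; right; right
          have : s = x⁻¹ * z := by rw [← h]; group
          rw [this, hxinv', hzx]
    have hSK : (S : Subgroup X) = K := by
      apply le_antisymm _ hKS
      intro s hs
      rw [hKdef, mem_kSub]
      exact hS_mem s hs
    have hScard : Nat.card (S : Subgroup X) = 4 := by rw [hSK]; exact hKcard
    -- the conjugation action of y
    have hcS : ∀ s ∈ (S : Subgroup X), y * s * y⁻¹ ∈ (S : Subgroup X) := fun s hs => hn.conj_mem s hs y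
    have hne_fix : ∀ s ∈ (S : Subgroup X), s ≠ 1 → y * s * y⁻¹ ≠ s := by
      intro s hs hs1 h
      have hso : orderOf s = 2 := by
        have h2 : s ^ 2 = 1 := hKexp s (hSK ▸ hs)
        exact orderOf_eq_prime h2 hs1
      apply hfix s hs hso
      calc y * s = (y * s * y⁻¹) * y := by group
        _ = s * y := by rw [h]
    have hc_ne_one : ∀ s : X, s ≠ 1 → y * s * y⁻¹ ≠ 1 := by
      intro s hs h
      apply hs
      have : s = y⁻¹ * (y * s * y⁻¹) * y := by group
      rw [this, h]; group
    have hzx1 : z * x ≠ 1 := by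
      intro h
      apply hzx_ne
      rw [eq_inv_of_mul_eq_one_left h, hxinv']
    have hcmul : y * (z * x) * y⁻¹ = (y * z * y⁻¹) * (y * x * y⁻¹) := by
      simp only [mul_assoc, inv_mul_cancel_left]
    have h2cop : Nat.Coprime 2 (orderOf y) := Nat.coprime_two_left.mpr hyodd
    -- y^3 centralizes z and x
    have hy3 : y ^ 3 * z = z * y ^ 3 ∧ y ^ 3 * x = x * y ^ 3 := by
      have hcz := hS_mem _ (hcS z hzS)
      have hcx := hS_mem _ (hcS x hxS)
      have key : ∀ t : X, y * (y * (y * t * y⁻¹) * y⁻¹) * y⁻¹ = t → y ^ 3 * t = t * y ^ 3 := by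
        intro t ht
        have : y ^ 3 * t * (y ^ 3)⁻¹ = t := by
          have e3 : y ^ 3 = y * y * y := by rw [pow_succ, pow_two]
          have e : y ^ 3 * t * (y ^ 3)⁻¹ = y * (y * (y * t * y⁻¹) * y⁻¹) * y⁻¹ := by
            simp only [e3, mul_inv_rev, mul_assoc]
          rw [e, ht]
        calc y ^ 3 * t = (y ^ 3 * t * (y ^ 3)⁻¹) * y ^ 3 := by group
          _ = t * y ^ 3 := by rw [this]
      rcases hcz with h | h | h | h
      · exact absurd h (hc_ne_one z hz1)
      · exact absurd h (hne_fix z hzS hz1)
      · -- c z = x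
        rcases hcx with h' | h' | h' | h'
        · exact absurd h' (hc_ne_one x hx1)
        · -- c x = z : y^2 fixes z
          exfalso
          apply hfix z hzS hzo
          apply commute_of_pow_commute h2cop
          have : y ^ 2 * z * (y ^ 2)⁻¹ = z := by
            calc y ^ 2 * z * (y ^ 2)⁻¹ = y * (y * z * y⁻¹) * y⁻¹ := by
                  simp only [pow_two, mul_inv_rev, mul_assoc]
              _ = z := by rw [h, h']
          calc y ^ 2 * z = (y ^ 2 * z * (y ^ 2)⁻¹) * y ^ 2 := by group
            _ = z * y ^ 2 := by rw [this]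
        · exact absurd h' (hne_fix x hxS hx1)
        · -- c x = z x, c (z x) = z
          have hczx : y * (z * x) * y⁻¹ = z := by
            rw [hcmul, h, h']
            calc x * (z * x) = (x * z) * x := by group
              _ = (z * x) * x := by rw [hzx]
              _ = z * (x * x) := by group
              _ = z := by rw [hx2, mul_one]
          constructor
          · apply key; rw [h, h', hczx]
          · apply key; rw [h', hczx, h]
      · -- c z = z x
        rcases hcx with h' | h' | h' | h'
        · exact absurd h' (hc_ne_one x hx1)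
        · -- c x = z, c (z x) = x
          have hczx : y * (z * x) * y⁻¹ = x := by
            rw [hcmul, h, h']
            calc z * x * z = z * (x * z) := by group
              _ = z * (z * x) := by rw [hzx]
              _ = (z * z) * x := by group
              _ = x := by rw [hz2, one_mul]
          constructor
          · apply key; rw [h, hczx, h']
          · apply key; rw [h', h, hczx]
        · exact absurd h' (hne_fix x hxS hx1)
        · -- c x = z x = c z : impossible
          exfalso
          apply hzx_ne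
          have : y * z * y⁻¹ = y * x * y⁻¹ := h.trans h'.symm
          have h3 : z = y⁻¹ * (y * z * y⁻¹) * y := by group
          rw [h3, this]; group
    have hy3K : y ^ 3 ∈ Subgroup.centralizer (K : Set X) := by
      rw [Subgroup.mem_centralizer_iff]
      intro t ht
      have ht' : t ∈ K := ht
      rw [hKdef, mem_kSub] at ht'
      rcases ht' with rfl | rfl | rfl | rfl
      · simp
      · exact hy3.1.symm
      · exact hy3.2.symm
      · rw [mul_assoc, ← hy3.2, ← mul_assoc, ← hy3.1, mul_assoc]
    have hy3odd : Odd (orderOf (y ^ 3)) := by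
      have : orderOf (y ^ 3) ∣ orderOf y := orderOf_pow_dvd 3
      exact Odd.of_dvd_nat hyodd this
    have hy31 : y ^ 3 = 1 := hK K hKcard hKexp _ hy3K hy3odd
    have hy1 : y ≠ 1 := by
      intro h
      apply hfix z hzS hzo
      rw [h]; simp
    have hyo3 : orderOf y = 3 := by
      have : Fact (Nat.Prime 3) := ⟨by norm_num⟩
      exact orderOf_eq_prime hy31 hy1
    have hXcard : Nat.card X = 12 := by
      rw [← (S : Subgroup X).card_mul_index, hScard, ← hyo, hyo3]
    apply Cfsg.Agent.S0228.result hXcard
    intro t hto htc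
    -- t lies in S
    have htS : t ∈ (S : Subgroup X) := by
      have hp : IsPGroup 2 (Subgroup.zpowers t) := by
        apply IsPGroup.of_card (n := 1)
        rw [Nat.card_zpowers, hto, pow_one]
      obtain ⟨Q, hQ⟩ := hp.exists_le_sylow
      obtain ⟨g, rfl⟩ := MulAction.exists_smul_eq X S Q
      have : (S : Subgroup X).Normal := hn
      rw [Sylow.smul_eq_of_normal] at hQ
      exact hQ (Subgroup.mem_zpowers t)
    apply hfix t htS hto
    rw [Subgroup.mem_center_iff] at htc
    exact htc y

end Cfsg.Agent.Helper55.TwoByCyclic
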