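import Mathlib

/-!
# S6001 (helper44), piece (G1b): the norm `μ ↦ μ * μ ^ p` of the field with `p ^ 2` elements is
onto the fixed field
-/

set_option autoImplicit false

namespace Cfsg.Agent.Helper55.U4

open Matrix Polynomial

variable {F : Type*} [Field F]

/-- (G1b) the norm `μ ↦ μ * bar μ` is onto the fixed field -/
theorem norm_surj [Fintype F] {p : ℕ} [Fact p.Prime] [CharP F p] (hF : Fintype.card F = p ^ 2)
    (bar : F →+* F) (hbar : ∀ x, bar x = x ^ p) (c : F) (hc : bar c = c) :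
    ∃ μ : F, μ * bar μ = c := by
  classical
  have hp1 : 1 < p := (Fact.out : p.Prime).one_lt
  by_cases hc0 : c = 0
  · exact ⟨0, by rw [hc0, zero_mul]⟩
  · obtain ⟨g, hg⟩ := IsCyclic.exists_monoid_generator (α := Fˣ)
    have hord : orderOf g = p ^ 2 - 1 := by
      rw [orderOf_eq_card_of_forall_mem_powers hg, Nat.card_eq_fintype_card, Fintype.card_units, hF]
    obtain ⟨k, hk⟩ := hg (Units.mk0 c hc0)
    simp only at hk
    -- `c ^ (p - 1) = 1`
    have hcp : c ^ p = c := by rw [← hbar]; exact hc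
    have hc1 : c ^ (p - 1) = 1 := by
      have h1 : c ^ (p - 1) * c = 1 * c := by
        rw [← pow_succ, Nat.sub_add_cancel hp1.le, hcp, one_mul]
      exact mul_right_cancel₀ hc0 h1
    have hgk : g ^ (k * (p - 1)) = 1 := by
      rw [pow_mul, hk]
      apply Units.ext
      rw [Units.val_pow_eq_pow_val, Units.val_mk0, hc1, Units.val_one]
    have hdvd : (p ^ 2 - 1) ∣ k * (p - 1) := by
      rw [← hord]; exact orderOf_dvd_of_pow_eq_one hgk
    have hfac : p ^ 2 - 1 = (p + 1) * (p - 1) := by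
      obtain ⟨m, rfl⟩ : ∃ m, p = m + 1 := ⟨p - 1, by omega⟩
      simp only [Nat.add_sub_cancel]
      have : (m + 1) ^ 2 = (m + 1 + 1) * m + 1 := by ring
      rw [this, Nat.add_sub_cancel]
    rw [hfac] at hdvd
    have hdvd' : (p + 1) ∣ k := Nat.dvd_of_mul_dvd_mul_right (by omega) hdvd
    obtain ⟨m, hm⟩ := hdvd'
    refine ⟨((g ^ m : Fˣ) : F), ?_⟩
    rw [hbar, ← pow_succ', ← Units.val_pow_eq_pow_val, ← pow_mul, mul_comm m, ← hm, hk,
      Units.val_mk0]

end Cfsg.Agent.Helper55.U4
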