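import Mathlib

/-!
# S6001 (helper44), piece (G1c): fourth roots of unity are squares in the field with `p ^ 2`
elements, `p` odd
-/

set_option autoImplicit false

namespace Cfsg.Agent.Helper55.U4

open Matrix Polynomial

variable {F : Type*} [Field F]

/-- (G1c) fourth roots of unity are squares (`8 ∣ p^2 - 1`) -/
theorem exists_sqrt_of_pow_four [Fintype F] {p : ℕ} [Fact p.Prime] [CharP F p]
    (hF : Fintype.card F = p ^ 2) (hp2 : p ≠ 2) (z : F) (hz : z ^ 4 = 1) : ∃ μ : F, μ ^ 2 = z := by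
  have hpp : p.Prime := Fact.out
  have hz0 : z ≠ 0 := by
    intro h
    rw [h] at hz
    norm_num at hz
  have hchar : ringChar F ≠ 2 := by
    rw [ringChar.eq F p]; exact hp2
  obtain ⟨k, hk⟩ : ∃ k, p = 2 * k + 1 := by
    rcases hpp.eq_two_or_odd' with h | h
    · exact absurd h hp2
    · obtain ⟨k, hk⟩ := h
      exact ⟨k, hk⟩
  obtain ⟨m, hm⟩ : ∃ m, k * (k + 1) = 2 * m := by
    obtain ⟨m, hm⟩ := Nat.even_mul_succ_self k
    exact ⟨m, by omega⟩
  have hcard : Fintype.card F / 2 = 4 * m := by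
    rw [hF, hk]
    have : (2 * k + 1) ^ 2 = 4 * (k * (k + 1)) + 1 := by ring
    rw [this, hm]
    omega
  have hsq : IsSquare z := by
    rw [FiniteField.isSquare_iff hchar hz0, hcard, pow_mul, hz, one_pow]
  obtain ⟨r, hr⟩ := hsq
  exact ⟨r, by rw [pow_two, hr]⟩

end Cfsg.Agent.Helper55.U4
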