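import Mathlib
import Cfsg.Agent.Helper97.P4K2

/-!
# S6001 (helper44), piece (K2d): an involution of trace `0` in `GL_4` has determinant `1`
-/

set_option autoImplicit false

namespace Cfsg.Agent.Helper55.U4

open Matrix Polynomial

variable {F : Type*} [Field F]

/-- (K2d) an involution of trace `0` has determinant `1` -/
theorem invol_det_of_trace_zero (h2 : (2 : F) ≠ 0) (y : Matrix (Fin 4) (Fin 4) F)
    (hy : y * y = 1) (htr : Matrix.trace y = 0) : y.det = 1 := by
  obtain ⟨a, ha, hch, -, -⟩ := Cfsg.Agent.Helper97.P4.invol_charpoly h2 y hy
  have htr' := Cfsg.Agent.Helper97.P4.invol_trace_eq y a ha hch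
  rw [htr] at htr'
  have haF : (a : F) = 2 := by
    have h : (2 : F) * ((a : F) - 2) = 0 := by linear_combination -htr'
    rcases mul_eq_zero.mp h with h | h
    · exact absurd h h2
    · exact sub_eq_zero.mp h
  have ha2 : a = 2 := by
    interval_cases a
    · exfalso
      apply h2
      push_cast at haF
      exact haF.symm
    · exfalso
      apply one_ne_zero (α := F)
      push_cast at haF
      linear_combination -haF
    · rfl
    · exfalso
      apply one_ne_zero (α := F)
      push_cast at haF
      linear_combination haF
    · exfalso
      apply h2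
      push_cast at haF
      linear_combination haF
  subst ha2
  rw [Matrix.det_eq_sign_charpoly_coeff, hch, Polynomial.coeff_zero_eq_eval_zero]
  simp only [Fintype.card_fin, eval_mul, eval_pow, eval_sub, eval_X, eval_C]
  norm_num

end Cfsg.Agent.Helper55.U4
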