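import Mathlib
import Cfsg.Agent.Helper99.UNdDefs

/-!
# S5954 (helper99 WANTED #7815), piece (N2)
-/

set_option autoImplicit false

namespace Cfsg.Agent.Helper55.UNdN2

open Cfsg.Agent.Helper99.UNd

/-- arithmetic core, `j` even: `i ∣ j` gives `cOf i ∣ j`. -/
theorem cOf_dvd_of_even {i j : ℕ} (hj : Even j) (hij : i ∣ j) : cOf i ∣ j := by
  unfold cOf
  split_ifs with h0 h2
  · exact hij
  · have h2i : 2 ∣ i := by omega
    exact dvd_trans (Nat.div_dvd_of_dvd h2i) hij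
  · have hodd : Nat.Coprime 2 i := by
      rw [Nat.coprime_two_left]
      rw [Nat.odd_iff]
      omega
    exact Nat.Coprime.mul_dvd_of_dvd_of_dvd hodd hj.two_dvd hij

/-- arithmetic core, `j` odd: `i ∣ 2 j`, `¬ i ∣ j` give `cOf i ∣ j`. -/
theorem cOf_dvd_of_odd {i j : ℕ} (hj : Odd j) (hij : i ∣ 2 * j) (hnij : ¬ i ∣ j) : cOf i ∣ j := by
  unfold cOf
  split_ifs with h0 h2
  · exfalso
    have h4 : 4 ∣ i := Nat.dvd_of_mod_eq_zero h0
    have h42 : 4 ∣ 2 * j := dvd_trans h4 hij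
    have : j % 2 = 1 := Nat.odd_iff.mp hj
    omega
  · have h2i : 2 ∣ i := by omega
    obtain ⟨m, hm⟩ := h2i
    rw [hm, Nat.mul_div_cancel_left m (by norm_num : 0 < 2)]
    rw [hm] at hij
    exact (Nat.mul_dvd_mul_iff_left (by norm_num : 0 < 2)).mp hij
  · exfalso
    have hodd : Nat.Coprime i 2 := by
      rw [Nat.coprime_two_right]
      rw [Nat.odd_iff]
      omega
    exact hnij (hodd.dvd_of_dvd_mul_left hij)

/-- (N2) -/
theorem cOf_dvd_of_dvd {q r : ℕ} (hr : r.Prime) (hr2 : r ≠ 2) (hrq : ¬ r ∣ q) (j : ℕ)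
    (h : (r : ℤ) ∣ (q : ℤ) ^ j - (-1) ^ j) : cOf (orderOf (q : ZMod r)) ∣ j := by
  have : Fact r.Prime := ⟨hr⟩
  have hne : (-1 : ZMod r) ≠ 1 := by
    intro h
    have h2 : (2 : ZMod r) = 0 := by
      have : (1 : ZMod r) + 1 = 0 := by
        nth_rewrite 1 [← h]
        ring
      rw [← this]; norm_num
    have h2' : ((2 : ℕ) : ZMod r) = 0 := by exact_mod_cast h2
    rw [ZMod.natCast_eq_zero_iff] at h2'
    exact hr2 ((Nat.prime_dvd_prime_iff_eq hr Nat.prime_two).mp h2')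
  have h1 : (((q : ℤ) ^ j - (-1) ^ j : ℤ) : ZMod r) = 0 :=
    (ZMod.intCast_zmod_eq_zero_iff_dvd _ r).mpr h
  have hq : (q : ZMod r) ^ j = (-1) ^ j := by
    push_cast at h1
    exact sub_eq_zero.mp h1
  rcases Nat.even_or_odd j with hj | hj
  · rw [hj.neg_one_pow] at hq
    exact cOf_dvd_of_even hj (orderOf_dvd_of_pow_eq_one hq)
  · rw [hj.neg_one_pow] at hq
    refine cOf_dvd_of_odd hj ?_ ?_
    · apply orderOf_dvd_of_pow_eq_one
      rw [mul_comm, pow_mul, hq]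
      ring
    · intro hd
      have := orderOf_dvd_iff_pow_eq_one.mp hd
      rw [hq] at this
      exact hne this

end Cfsg.Agent.Helper55.UNdN2
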