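import Mathlib

/-!
# S5954 (helper99 WANTED #7815), piece (V1)
-/

set_option autoImplicit false

namespace Cfsg.Agent.Helper55.UNdV1

variable {F : Type*} [Field F]

/-- (V1) -/
theorem not_pow_of_not_unitary_pow [Fintype F] {q : ℕ} (hF : Fintype.card F = q ^ 2) (r : ℕ)
    (hr : r.Prime) (hr2 : r ≠ 2) (hrq : r ∣ q + 1) (z : F) (hz : z ^ (q + 1) = 1)
    (hno : ¬ ∃ lam : F, lam ^ (q + 1) = 1 ∧ lam ^ r = z) : ∀ b : F, b ^ r ≠ z := by
  intro b hb
  apply hno
  refine ⟨b, ?_, hb⟩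
  have hz0 : z ≠ 0 := by
    intro h0
    rw [h0, zero_pow (by omega)] at hz
    exact zero_ne_one hz
  have hb0 : b ≠ 0 := by
    intro h0
    rw [h0, zero_pow hr.ne_zero] at hb
    exact hz0 hb.symm
  have hq2 : 2 ≤ q := by
    have hc : 1 < Fintype.card F := Fintype.one_lt_card
    rw [hF] at hc
    by_contra hlt
    have : q ≤ 1 := by omega
    have : q ^ 2 ≤ 1 := by
      calc q ^ 2 ≤ 1 ^ 2 := Nat.pow_le_pow_left this 2
        _ = 1 := one_pow 2
    omega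
  set c := b ^ (q + 1) with hc
  have hcr : c ^ r = 1 := by
    rw [hc, ← pow_mul, mul_comm, pow_mul, hb, hz]
  have hcq : c ^ (q - 1) = 1 := by
    rw [hc, ← pow_mul]
    have : (q + 1) * (q - 1) = q ^ 2 - 1 := by
      obtain ⟨k, rfl⟩ : ∃ k, q = k + 1 := ⟨q - 1, by omega⟩
      simp only [Nat.add_sub_cancel]
      have : (k + 1) ^ 2 = (k + 1 + 1) * k + 1 := by ring
      rw [this, Nat.add_sub_cancel]
    rw [this, ← hF]
    exact FiniteField.pow_card_sub_one_eq_one b hb0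
  have hcop : Nat.Coprime r (q - 1) := by
    rw [Nat.Prime.coprime_iff_not_dvd hr]
    intro hd
    have h2 : r ∣ (q + 1) - (q - 1) := Nat.dvd_sub hrq hd
    have : (q + 1) - (q - 1) = 2 := by omega
    rw [this] at h2
    exact hr2 ((Nat.prime_dvd_prime_iff_eq hr Nat.prime_two).mp h2)
  have h1 : orderOf c ∣ Nat.gcd r (q - 1) :=
    Nat.dvd_gcd (orderOf_dvd_of_pow_eq_one hcr) (orderOf_dvd_of_pow_eq_one hcq)
  rw [hcop.gcd_eq_one, Nat.dvd_one, orderOf_eq_one_iff] at h1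
  exact h1

end Cfsg.Agent.Helper55.UNdV1
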