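import Mathlib

/-!
# S5954 (helper99 WANTED #7815), pieces (W1), (W2)
-/

set_option autoImplicit false

namespace Cfsg.Agent.Helper55.UNdW

variable {F : Type*} [Field F]

/-- (W1) roots in the norm-one group, coprime case -/
theorem exists_root_coprime {q r : ℕ} (hcop : Nat.Coprime r (q + 1)) (z : F)
    (hz : z ^ (q + 1) = 1) : ∃ lam : F, lam ^ (q + 1) = 1 ∧ lam ^ r = z := by
  rcases Nat.eq_zero_or_pos q with hq | hq
  · subst hq
    refine ⟨1, one_pow _, ?_⟩
    rw [one_pow]
    simpa using hz.symm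
  · obtain ⟨s, -, hs⟩ := Nat.exists_mul_mod_eq_one_of_coprime hcop (by omega : 1 < q + 1)
    refine ⟨z ^ s, ?_, ?_⟩
    · rw [← pow_mul, mul_comm, pow_mul, hz, one_pow]
    · rw [← pow_mul, mul_comm, pow_eq_pow_mod (r * s) hz, hs, pow_one]

/-- (W2) `r ∣ q + 1` iff the order of `q` modulo `r` is two -/
theorem dvd_succ_iff_orderOf {q r : ℕ} (hr : r.Prime) (hr2 : r ≠ 2) :
    r ∣ q + 1 ↔ orderOf (q : ZMod r) = 2 := by
  have : Fact r.Prime := ⟨hr⟩
  have hne : (-1 : ZMod r) ≠ 1 := by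
    intro h
    have h2 : (2 : ZMod r) = 0 := by
      have : (1 : ZMod r) + 1 = 0 := by
        nth_rewrite 1 [← h]
        ring
      rw [← this]; norm_num
    have h2' : ((2 : ℕ) : ZMod r) = 0 := by exact_mod_cast h2
    rw [ZMod.natCast_eq_zero_iff] at h2'
    exact hr2 ((Nat.prime_dvd_prime_iff_eq hr Nat.prime_two).mp h2')
  constructor
  · intro h
    have h1 : ((q + 1 : ℕ) : ZMod r) = 0 := (ZMod.natCast_eq_zero_iff _ _).mpr h
    have hq : (q : ZMod r) = -1 := by
      push_cast at h1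
      exact eq_neg_of_add_eq_zero_left h1
    rw [hq]
    have h2 : (-1 : ZMod r) ^ 2 = 1 := by ring
    have hd : orderOf (-1 : ZMod r) ∣ 2 := orderOf_dvd_of_pow_eq_one h2
    rcases (Nat.dvd_prime Nat.prime_two).mp hd with h1' | h2'
    · exact absurd (orderOf_eq_one_iff.mp h1') hne
    · exact h2'
  · intro h
    have h2 : (q : ZMod r) ^ 2 = 1 := by rw [← h]; exact pow_orderOf_eq_one _
    have hq1 : (q : ZMod r) ≠ 1 := by
      intro h1
      rw [h1, orderOf_one] at h
      omega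
    have h3 : ((q : ZMod r) - 1) * ((q : ZMod r) + 1) = 0 := by
      have : ((q : ZMod r) - 1) * ((q : ZMod r) + 1) = (q : ZMod r) ^ 2 - 1 := by ring
      rw [this, h2, sub_self]
    rcases mul_eq_zero.mp h3 with h4 | h4
    · exact absurd (sub_eq_zero.mp h4) hq1
    · have : ((q + 1 : ℕ) : ZMod r) = 0 := by push_cast; exact h4
      exact (ZMod.natCast_eq_zero_iff _ _).mp this

end Cfsg.Agent.Helper55.UNdW
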