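import Mathlib
import Cfsg.Agent.Helper61.W2pDefs
import Cfsg.Agent.Helper78.IrrBasic
import Cfsg.Agent.Helper79.CharBasic
import Cfsg.Agent.Helper80.CharBasic
import Cfsg.Agent.Helper82.GaloisConj

/-!
# Piece (B5b) of S0720 (helper61, board #7019): in the rank four configuration the two characters
of degree `(p-1)/2` are different and swapped by a power map.
-/

set_option autoImplicit false

namespace Cfsg.Agent.Helper55.W2p

open Cfsg Cfsg.Agent.Helper61.W2p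
open scoped ComplexConjugate

/-- `-1/2` is not an algebraic integer -/
theorem not_isIntegral_of_two_mul_eq (z : ℂ) (hz : 2 * z = -1) : ¬ IsIntegral ℤ z := by
  intro h
  have hz' : z = algebraMap ℚ ℂ (-1 / 2 : ℚ) := by
    rw [eq_ratCast]
    push_cast
    linear_combination hz / 2
  rw [hz'] at h
  have h1 : IsIntegral ℤ (-1 / 2 : ℚ) :=
    (isIntegral_algebraMap_iff (algebraMap ℚ ℂ).injective).1 h
  obtain ⟨n, hn⟩ := IsIntegrallyClosed.isIntegral_iff.1 h1
  have h2 : (2 * n : ℚ) = -1 := by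
    have : ((n : ℤ) : ℚ) = -1 / 2 := by rw [← hn]; rfl
    rw [this]; norm_num
  have h3 : (2 * n : ℤ) = -1 := by exact_mod_cast h2
  omega

/-- geometric sums of `p`-th roots of unity -/
theorem geom_sum_root (p : ℕ) (μ : ℂ) (hμ : μ ^ p = 1) :
    ∑ k ∈ Finset.range p, μ ^ k = if μ = 1 then (p : ℂ) else 0 := by
  split_ifs with h
  · rw [h]; simp
  · have h1 := geom_sum_mul μ p
    rw [hμ, sub_self] at h1
    rcases mul_eq_zero.mp h1 with h2 | h2
    · exact h2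
    · exact absurd (sub_eq_zero.mp h2) h

variable {G : Type*} [Group G] [Fintype G]

/-- the sum of a character over a cyclic subgroup of order `p` is `p` times a natural number -/
theorem exists_sum_pow_eq {χ : G → ℂ} (hχ : IsIrrCharacter G χ) (x : G) (p : ℕ)
    (hx : orderOf x = p) : ∃ m : ℕ, ∑ k ∈ Finset.range p, χ (x ^ k) = (p : ℂ) * m := by
  classical
  obtain ⟨n, ρ, -, rfl⟩ := hχ
  obtain ⟨b, μ, -, h2, -, h4⟩ :=
    Helper80.exists_eigen_data_rep ρ x (isOfFinOrder_of_finite x)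
  rw [hx] at h2
  refine ⟨(Finset.univ.filter (fun i => μ i = 1)).card, ?_⟩
  simp only [h4]
  rw [Finset.sum_comm]
  simp only [fun i => geom_sum_root p (μ i) (h2 i)]
  rw [← Finset.sum_filter, Finset.sum_const, nsmul_eq_mul, mul_comm]

/-- the permutation character is invariant under coprime power maps -/
theorem pc_pow' {Ω : Type*} [MulAction G Ω] (κ : ℕ) (hκ : κ.Coprime (Nat.card G)) (g : G) :
    pc G Ω (g ^ κ) = pc G Ω g := by
  have hκ' : κ.Coprime (orderOf g) := Nat.Coprime.coprime_dvd_right (orderOf_dvd_natCard g) hκ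
  obtain ⟨m, hm⟩ := exists_pow_eq_self_of_coprime hκ'
  have hset : MulAction.fixedBy Ω (g ^ κ) = MulAction.fixedBy Ω g := by
    apply Set.Subset.antisymm
    · have := MulAction.fixedBy_subset_fixedBy_zpow (α := Ω) (g ^ κ) (m : ℤ)
      rw [zpow_natCast, hm] at this
      exact this
    · have := MulAction.fixedBy_subset_fixedBy_zpow (α := Ω) g (κ : ℤ)
      rw [zpow_natCast] at this
      exact this
  show ((Nat.card (MulAction.fixedBy Ω (g ^ κ)) : ℕ) : ℂ) = _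
  rw [hset]

/-- two sums of two irreducible characters that agree have the same summands -/
theorem perm_of_add_eq {φ₁ φ₂ ψ₁ ψ₂ : G → ℂ} (hφ₁ : IsIrrCharacter G φ₁)
    (hφ₂ : IsIrrCharacter G φ₂) (hψ₁ : IsIrrCharacter G ψ₁) (hψ₂ : IsIrrCharacter G ψ₂)
    (h : ∀ g, φ₁ g + φ₂ g = ψ₁ g + ψ₂ g) :
    (φ₁ = ψ₁ ∧ φ₂ = ψ₂) ∨ (φ₁ = ψ₂ ∧ φ₂ = ψ₁) := by
  classical
  by_cases h1 : φ₁ = ψ₁
  · left
    refine ⟨h1, funext fun g => ?_⟩
    have := h g
    rw [h1] at this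
    exact add_left_cancel this
  by_cases h2 : φ₁ = ψ₂
  · right
    refine ⟨h2, funext fun g => ?_⟩
    have := h g
    rw [h2, add_comm (ψ₁ g)] at this
    exact add_left_cancel this
  exfalso
  have hfun : φ₁ + φ₂ = ψ₁ + ψ₂ := funext h
  have e := congrArg (fun F => classInner F φ₁) hfun
  simp only [Helper74.classInner_add_left] at e
  have a1 : classInner φ₁ φ₁ = 1 := Helper74.irr_inner_self (⟨φ₁, hφ₁⟩ : IrrCharacter G)
  have b1 : classInner ψ₁ φ₁ = 0 :=
    Helper74.irr_inner_ne (χ := (⟨ψ₁, hψ₁⟩ : IrrCharacter G)) (ψ := (⟨φ₁, hφ₁⟩ : IrrCharacter G))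
      (fun hh => h1 (congrArg Subtype.val hh).symm)
  have b2 : classInner ψ₂ φ₁ = 0 :=
    Helper74.irr_inner_ne (χ := (⟨ψ₂, hψ₂⟩ : IrrCharacter G)) (ψ := (⟨φ₁, hφ₁⟩ : IrrCharacter G))
      (fun hh => h2 (congrArg Subtype.val hh).symm)
  rw [a1, b1, b2, add_zero] at e
  by_cases h3 : φ₂ = φ₁
  · rw [h3, a1] at e
    norm_num at e
  · have a2 : classInner φ₂ φ₁ = 0 :=
      Helper74.irr_inner_ne (χ := (⟨φ₂, hφ₂⟩ : IrrCharacter G)) (ψ := (⟨φ₁, hφ₁⟩ : IrrCharacter G))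
        (fun hh => h3 (congrArg Subtype.val hh))
    rw [a2] at e
    norm_num at e

variable {Ω : Type*} [Fintype Ω] [MulAction G Ω] {p : ℕ}

/-- (B5b) in the second case the two characters are different and swapped by a power map -/
theorem exists_swap (S : Setup G Ω p) (x : G) (hx : orderOf x = p) (θ χ₁ χ₂ : G → ℂ)
    (hθ : IsIrrCharacter G θ) (h₁ : IsIrrCharacter G χ₁) (h₂ : IsIrrCharacter G χ₂)
    (hπ : pc G Ω = fun g => 1 + θ g + χ₁ g + χ₂ g) (hd : θ 1 = p)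
    (h11 : χ₁ ≠ fun _ => 1) (h21 : χ₂ ≠ fun _ => 1)
    (d₁ : 2 * χ₁ 1 + 1 = p) (d₂ : 2 * χ₂ 1 + 1 = p)
    (vθ : ∀ k : ℕ, ¬ p ∣ k → θ (x ^ k) = 0)
    (hinv : ∀ κ : ℕ, κ.Coprime (Nat.card G) → ∀ g : G, θ (g ^ κ) = θ g) :
    χ₁ ≠ χ₂ ∧ ∃ κ : ℕ, κ.Coprime (Nat.card G) ∧ (∀ g : G, χ₁ (g ^ κ) = χ₂ g) ∧
      (∀ g : G, χ₂ (g ^ κ) = χ₁ g) := by
  classical
  have hp := S.hp
  have h0p : 0 ∈ Finset.range p := Finset.mem_range.mpr hp.pos
  -- (a) values on `⟨x⟩ - 1`
  have hsing : ∀ k : ℕ, ¬ p ∣ k → χ₁ (x ^ k) + χ₂ (x ^ k) = -1 := by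
    intro k hk
    have hord : orderOf (x ^ k) = p := by
      rw [Nat.Coprime.orderOf_pow, hx]
      rw [hx]
      exact (Nat.Prime.coprime_iff_not_dvd hp).mpr hk
    have hpc : pc G Ω (x ^ k) = 0 := by
      have hempty : MulAction.fixedBy Ω (x ^ k) = ∅ := by
        ext a
        simp only [MulAction.mem_fixedBy, Set.mem_empty_iff_false, iff_false]
        exact S.hfix (x ^ k) (by rw [hord]) a
      show ((Nat.card (MulAction.fixedBy Ω (x ^ k)) : ℕ) : ℂ) = 0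
      rw [hempty]
      simp
    have h := congrFun hπ (x ^ k)
    rw [hpc, vθ k hk] at h
    linear_combination -h
  -- (b) the sums over `⟨x⟩`
  obtain ⟨m₁, hm₁⟩ := exists_sum_pow_eq h₁ x p hx
  obtain ⟨m₂, hm₂⟩ := exists_sum_pow_eq h₂ x p hx
  have hsumboth : ∑ k ∈ Finset.range p, (χ₁ (x ^ k) + χ₂ (x ^ k)) = 0 := by
    rw [← Finset.add_sum_erase (Finset.range p) _ h0p]
    have hc : ∀ k ∈ (Finset.range p).erase 0, χ₁ (x ^ k) + χ₂ (x ^ k) = -1 := by
      intro k hk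
      obtain ⟨hk0, hkp⟩ := Finset.mem_erase.mp hk
      exact hsing k (Nat.not_dvd_of_pos_of_lt (Nat.pos_of_ne_zero hk0) (Finset.mem_range.mp hkp))
    rw [Finset.sum_congr rfl hc, Finset.sum_const, Finset.card_erase_of_mem h0p,
      Finset.card_range, pow_zero, nsmul_eq_mul, Nat.cast_sub hp.one_le, Nat.cast_one]
    linear_combination (d₁ + d₂) / 2
  have hm0 : m₁ = 0 := by
    rw [Finset.sum_add_distrib, hm₁, hm₂] at hsumboth
    have h3 : ((p * (m₁ + m₂) : ℕ) : ℂ) = 0 := by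
      push_cast
      linear_combination hsumboth
    have h4 : p * (m₁ + m₂) = 0 := by exact_mod_cast h3
    rcases Nat.mul_eq_zero.mp h4 with h | h
    · exact absurd h hp.ne_zero
    · omega
  have hs₁ : ∑ k ∈ Finset.range p, χ₁ (x ^ k) = 0 := by
    rw [hm₁, hm0]
    simp
  -- (c)
  have hne : χ₁ ≠ χ₂ := by
    intro h
    have h1 := hsing 1 (fun hdv => hp.one_lt.ne' (Nat.dvd_one.mp hdv))
    rw [pow_one, ← h] at h1
    exact not_isIntegral_of_two_mul_eq (χ₁ x) (by linear_combination h1)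
      (Helper78.isIntegral_irrChar_apply h₁ x)
  -- (d), (e) power maps permute the two characters
  have hdich : ∀ κ : ℕ, κ.Coprime (Nat.card G) →
      ((∀ g, χ₁ (g ^ κ) = χ₁ g) ∧ (∀ g, χ₂ (g ^ κ) = χ₂ g)) ∨
        ((∀ g, χ₁ (g ^ κ) = χ₂ g) ∧ (∀ g, χ₂ (g ^ κ) = χ₁ g)) := by
    intro κ hκ
    have hadd : ∀ g, χ₁ (g ^ κ) + χ₂ (g ^ κ) = χ₁ g + χ₂ g := by
      intro g
      have e1 := congrFun hπ (g ^ κ)
      have e2 := congrFun hπ g
      rw [pc_pow' κ hκ g] at e1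
      rw [hinv κ hκ g] at e1
      linear_combination e2 - e1
    rcases perm_of_add_eq (Helper82.galoisConj_isIrrCharacter h₁ κ hκ)
      (Helper82.galoisConj_isIrrCharacter h₂ κ hκ) h₁ h₂ hadd with ⟨a, b⟩ | ⟨a, b⟩
    · left
      exact ⟨fun g => congrFun a g, fun g => congrFun b g⟩
    · right
      exact ⟨fun g => congrFun a g, fun g => congrFun b g⟩
  refine ⟨hne, ?_⟩
  by_contra hno
  have hfix : ∀ κ : ℕ, κ.Coprime (Nat.card G) → ∀ g, χ₁ (g ^ κ) = χ₁ g := by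
    intro κ hκ
    rcases hdich κ hκ with h | h
    · exact h.1
    · exact absurd ⟨κ, hκ, h.1, h.2⟩ hno
  -- the Chinese remainder theorem
  have hpG : p ∣ Nat.card G := hx ▸ orderOf_dvd_natCard x
  obtain ⟨m, hm⟩ := hpG
  have hcop : p.Coprime m := by
    rw [Nat.Prime.coprime_iff_not_dvd hp]
    intro hdv
    apply S.hsq
    rw [hm, pow_two]
    exact Nat.mul_dvd_mul_left p hdv
  have hconst : ∀ j : ℕ, 0 < j → j < p → χ₁ (x ^ j) = χ₁ x := by
    intro j hj0 hjp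
    obtain ⟨κ, hκ1, hκ2⟩ := Nat.chineseRemainder hcop j 1
    have hκp : κ.Coprime p := by
      have h5 : Nat.gcd κ p = Nat.gcd j p := Nat.ModEq.gcd_eq hκ1
      unfold Nat.Coprime
      rw [h5]
      exact ((Nat.Prime.coprime_iff_not_dvd hp).mpr (Nat.not_dvd_of_pos_of_lt hj0 hjp)).symm
    have hκm : κ.Coprime m := by
      have h5 : Nat.gcd κ m = Nat.gcd 1 m := Nat.ModEq.gcd_eq hκ2
      unfold Nat.Coprime
      rw [h5]
      simp
    have hκG : κ.Coprime (Nat.card G) := by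
      rw [hm]
      exact Nat.Coprime.mul_right hκp hκm
    have hpow : x ^ κ = x ^ j := by
      rw [pow_eq_pow_iff_modEq, hx]
      exact hκ1
    rw [← hpow]
    exact hfix κ hκG x
  rw [← Finset.add_sum_erase (Finset.range p) _ h0p] at hs₁
  have hc : ∀ k ∈ (Finset.range p).erase 0, χ₁ (x ^ k) = χ₁ x := by
    intro k hk
    obtain ⟨hk0, hkp⟩ := Finset.mem_erase.mp hk
    exact hconst k (Nat.pos_of_ne_zero hk0) (Finset.mem_range.mp hkp)
  rw [Finset.sum_congr rfl hc, Finset.sum_const, Finset.card_erase_of_mem h0p,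
    Finset.card_range, pow_zero, nsmul_eq_mul, Nat.cast_sub hp.one_le, Nat.cast_one] at hs₁
  have hp1 : (p : ℂ) - 1 ≠ 0 := by
    intro h
    have h5 : (p : ℂ) = 1 := by linear_combination h
    have h6 : p = 1 := by exact_mod_cast h5
    exact hp.one_lt.ne' h6
  have h7 : ((p : ℂ) - 1) * (2 * χ₁ x + 1) = 0 := by linear_combination 2 * hs₁ - d₁
  have h8 : 2 * χ₁ x + 1 = 0 := (mul_eq_zero.mp h7).resolve_left hp1
  exact not_isIntegral_of_two_mul_eq (χ₁ x) (by linear_combination h8)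
    (Helper78.isIntegral_irrChar_apply h₁ x)

end Cfsg.Agent.Helper55.W2p
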